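import Cfsg.Agent.Lib.Leech.ConfigHS

/-!
The configuration of 100 for an arbitrary pair of norm-48 vectors with dot product `-32`.
-/

set_option autoImplicit false

namespace Cfsg.Agent.Lib.Leech

open Cfsg
open Cfsg.Agent.Lib

/-- The set of 100 vectors. -/
def hsSet (v w : leechLattice) : Set leechLattice := pairConfig v w 24 (-24)

theorem exists_hs_frame (v w : leechLattice) (hv : sqNorm (v : GolayPt → ℤ) = 48)
    (hw' : sqNorm (w : GolayPt → ℤ) = 48)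
    (hvw : dotInt (v : GolayPt → ℤ) (w : GolayPt → ℤ) = -32) :
    ∃ g : Co0, g • hsBaseV = v ∧ g • hsBaseW = w := by
  have key : ∀ a b : leechLattice, sqNorm (a : GolayPt → ℤ) = 48 → sqNorm (b : GolayPt → ℤ) = 48 →
      dotInt (a : GolayPt → ℤ) (b : GolayPt → ℤ) = -32 → (-(a + b), a) ∈ pairSet 48 (-4) := by
    intro a b ha hb hab
    refine ⟨?_, ha, ?_⟩
    · simp only [AddSubgroup.coe_neg, AddSubgroup.coe_add, sqNorm_neg, dotInt_add_self, ha, hb, hab]
      norm_num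
    · simp only [AddSubgroup.coe_neg, AddSubgroup.coe_add, dotInt_neg_left', dotInt_add_left',
        dotInt_self, dotInt_comm (b : GolayPt → ℤ), ha, hab]
      norm_num
  obtain ⟨g, hg, hgv⟩ := exists_smul_two (fun hx hy => connU_line48 hx hy)
    (key hsBaseV hsBaseW hsVec_check.2.2.1 hsVec_check.2.2.2.1 hsVec_check.2.2.2.2)
    (key v w hv hw' hvw)
  refine ⟨g, hgv, ?_⟩
  rw [smul_neg', neg_inj, smul_add', hgv] at hg
  exact add_left_cancel hg

theorem hs_conj_fix (v w : leechLattice) {g h : Co0} (hg1 : g • hsBaseV = v)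
    (hg2 : g • hsBaseW = w) (hh : h ∈ pairStab hsBaseV hsBaseW) :
    (g * h * g⁻¹) • v = v ∧ (g * h * g⁻¹) • w = w := by
  constructor
  · rw [mul_smul, mul_smul, show g⁻¹ • v = hsBaseV from inv_smul_eq_iff.2 hg1.symm, hh.1, hg1]
  · rw [mul_smul, mul_smul, show g⁻¹ • w = hsBaseW from inv_smul_eq_iff.2 hg2.symm, hh.2, hg2]

theorem hsSet_frame {v w x : leechLattice} (hv : sqNorm (v : GolayPt → ℤ) = 48)
    (hw' : sqNorm (w : GolayPt → ℤ) = 48)
    (hvw : dotInt (v : GolayPt → ℤ) (w : GolayPt → ℤ) = -32) (hx : x ∈ hsSet v w) :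
    ∃ f : Co0, f • hsBaseV = v ∧ f • hsBaseW = w ∧ f • hsRoot = x := by
  obtain ⟨g, hg1, hg2⟩ := exists_hs_frame v w hv hw' hvw
  rw [hsSet, ← hg1, ← hg2, pairConfig_smul] at hx
  obtain ⟨y, hy, rfl⟩ := hx
  obtain ⟨k, hk⟩ := hs_transitive hy
  exact ⟨g * k.1, by rw [mul_smul, show k.1 • hsBaseV = hsBaseV from k.2.1, hg1],
    by rw [mul_smul, show k.1 • hsBaseW = hsBaseW from k.2.2, hg2],
    by rw [mul_smul]; exact congrArg (fun z => g • z) hk⟩

theorem hsSet_ncard (v w : leechLattice) (hv : sqNorm (v : GolayPt → ℤ) = 48)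
    (hw' : sqNorm (w : GolayPt → ℤ) = 48)
    (hvw : dotInt (v : GolayPt → ℤ) (w : GolayPt → ℤ) = -32) : (hsSet v w).ncard = 100 := by
  obtain ⟨g, hg1, hg2⟩ := exists_hs_frame v w hv hw' hvw
  rw [hsSet, ← hg1, ← hg2, pairConfig_smul,
    Set.ncard_image_of_injective _ (MulAction.injective g), hs_ncard]

theorem hsSet_smul_eq {v w : leechLattice} (hv : sqNorm (v : GolayPt → ℤ) = 48)
    (hw' : sqNorm (w : GolayPt → ℤ) = 48)
    (hvw : dotInt (v : GolayPt → ℤ) (w : GolayPt → ℤ) = -32)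
    {x x' : leechLattice} (hx : x ∈ hsSet v w) (hx' : x' ∈ hsSet v w) :
    ∃ g : Co0, g • v = v ∧ g • w = w ∧ g • x = x' := by
  obtain ⟨f, hf1, hf2, hf3⟩ := hsSet_frame hv hw' hvw hx
  obtain ⟨f', hf1', hf2', hf3'⟩ := hsSet_frame hv hw' hvw hx'
  refine ⟨f' * f⁻¹, ?_, ?_, ?_⟩
  · rw [mul_smul, show f⁻¹ • v = hsBaseV from inv_smul_eq_iff.2 hf1.symm, hf1']
  · rw [mul_smul, show f⁻¹ • w = hsBaseW from inv_smul_eq_iff.2 hf2.symm, hf2']
  · rw [mul_smul, show f⁻¹ • x = hsRoot from inv_smul_eq_iff.2 hf3.symm, hf3']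

theorem hsSet_rank3 {v w x : leechLattice} (hv : sqNorm (v : GolayPt → ℤ) = 48)
    (hw' : sqNorm (w : GolayPt → ℤ) = 48)
    (hvw : dotInt (v : GolayPt → ℤ) (w : GolayPt → ℤ) = -32) (hx : x ∈ hsSet v w) :
    {y : leechLattice | y ∈ hsSet v w ∧ dotInt (x : GolayPt → ℤ) (y : GolayPt → ℤ) = 8}.ncard
      = 22 ∧
    {y : leechLattice | y ∈ hsSet v w ∧ y ≠ x ∧
      dotInt (x : GolayPt → ℤ) (y : GolayPt → ℤ) ≠ 8}.ncard = 77 ∧
    ∀ y ∈ hsSet v w, ∀ y' ∈ hsSet v w, y ≠ x → y' ≠ x →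
      (dotInt (x : GolayPt → ℤ) (y : GolayPt → ℤ) = 8 ↔
        dotInt (x : GolayPt → ℤ) (y' : GolayPt → ℤ) = 8) →
      ∃ g : Co0, g • v = v ∧ g • w = w ∧ g • x = x ∧ g • y = y' := by
  obtain ⟨f, hf1, hf2, hf3⟩ := hsSet_frame hv hw' hvw hx
  have hset : hsSet v w = pairConfig (f • hsBaseV) (f • hsBaseW) 24 (-24) := by
    rw [hsSet, hf1, hf2]
  refine ⟨?_, ?_, ?_⟩
  · rw [hset, ← hf3]
    exact (ncard_part_smul f hsBaseV hsBaseW hsRoot 24 (-24) (fun d _ => d = 8)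
      fun _ _ => Iff.rfl).trans hs_subdegrees.1
  · rw [hset, ← hf3]
    have hinj : ∀ y, f • y ≠ f • hsRoot ↔ y ≠ hsRoot := fun y => (MulAction.injective f).ne_iff
    refine Eq.trans ?_ hs_subdegrees.2
    rw [← Set.ncard_image_of_injective {y : leechLattice |
      y ∈ pairConfig hsBaseV hsBaseW 24 (-24) ∧ (y ≠ hsRoot ∧
        dotInt (hsRoot : GolayPt → ℤ) (y : GolayPt → ℤ) ≠ 8)} (MulAction.injective f)]
    congr 1
    ext y
    constructor
    · rintro ⟨h1, h2, h3⟩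
      rw [pairConfig_smul] at h1
      obtain ⟨z, hz, rfl⟩ := h1
      rw [dotInt_smul] at h3
      exact ⟨z, ⟨hz, (hinj z).1 h2, h3⟩, rfl⟩
    · rintro ⟨z, ⟨h1, h2, h3⟩, rfl⟩
      exact ⟨by rw [pairConfig_smul]; exact ⟨z, h1, rfl⟩, (hinj z).2 h2,
        fun e => h3 ((dotInt_smul f hsRoot z).symm.trans e)⟩
  · intro y hy y' hy' hne hne' he
    rw [hset, pairConfig_smul] at hy hy'
    obtain ⟨z, hz, rfl⟩ := hy
    obtain ⟨z', hz', rfl⟩ := hy'
    rw [← hf3, dotInt_smul, dotInt_smul] at he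
    have three : ∀ {z : leechLattice}, z ∈ pairConfig hsBaseV hsBaseW 24 (-24) → z ≠ hsRoot →
        dotInt (hsRoot : GolayPt → ℤ) (z : GolayPt → ℤ) = 8 ∨
          dotInt (hsRoot : GolayPt → ℤ) (z : GolayPt → ℤ) = 16 := by
      intro z hz hz0
      rw [hs_decomp.codes_eq] at hz
      obtain ⟨c, hc, rfl⟩ := hz
      have hcase : hsCodes.all (fun c => decide (c = ConfigData.hsRoot0 ∨
          dotInt (ofList ConfigData.hsRoot0) (ofList c) = 8 ∨
          dotInt (ofList ConfigData.hsRoot0) (ofList c) = 16)) = true := by decide +kernel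
      rcases of_decide_eq_true (List.all_eq_true.1 hcase c hc) with e | e
      · exact absurd (by rw [e]; rfl) hz0
      · rwa [← hs_dot hc] at e
    have hd : dotInt (hsRoot : GolayPt → ℤ) (z : GolayPt → ℤ)
        = dotInt (hsRoot : GolayPt → ℤ) (z' : GolayPt → ℤ) := by
      have h1 := three hz fun e => hne (by rw [e]; exact hf3)
      have h2 := three hz' fun e => hne' (by rw [e]; exact hf3)
      omega
    obtain ⟨k, hk0, hk⟩ := hs_suborbit hz hz' hd
    obtain ⟨e1, e2⟩ := hs_conj_fix v w hf1 hf2 k.2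
    refine ⟨f * k.1 * f⁻¹, e1, e2, ?_, ?_⟩
    · rw [← hf3, mul_smul, mul_smul, inv_smul_smul]
      exact congrArg (fun w => f • w) hk0
    · rw [mul_smul, mul_smul, inv_smul_smul]
      exact congrArg (fun w => f • w) hk

end Cfsg.Agent.Lib.Leech
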