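import Cfsg.Agent.Lib.Leech.Count
import Cfsg.Agent.Lib.Leech.Shapes
import Cfsg.Agent.Lib.Leech.Xi

/-!
The four shapes of lattice vectors of squared length 48 and their numbers.
-/

set_option autoImplicit false

namespace Cfsg.Agent.Lib.Leech

open Cfsg

/-- The shell of squared length 48. -/
def shell48 : Set (GolayPt → ℤ) := {x | x ∈ leechLattice ∧ sqNorm x = 48}

/-- Vectors of the shell, all coordinates even, whose halves have a parity word of weight `w`. -/
def evenType (w : ℕ) : Set (GolayPt → ℤ) :=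
  {x | x ∈ shell48 ∧ (∀ i, x i % 2 = 0) ∧ (support₂ (hw x)).card = w}

/-- The four families. -/
def fam2 : Set (GolayPt → ℤ) := {x | x ∈ shell48 ∧ ∀ i, x i = 0 ∨ x i = 2 ∨ x i = -2}
def fam3 : Set (GolayPt → ℤ) := {x | x ∈ shell48 ∧
  ∃ i j k, i ≠ j ∧ j ≠ k ∧ i ≠ k ∧ |x i| = 3 ∧ |x j| = 3 ∧ |x k| = 3}
def fam4 : Set (GolayPt → ℤ) := {x | x ∈ shell48 ∧ ∃ i, |x i| = 4}
def fam5 : Set (GolayPt → ℤ) := {x | x ∈ shell48 ∧ ∃ i, |x i| = 5}

theorem hw_of_abs {x : GolayPt → ℤ} {c : GolayPt → ZMod 2}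
    (h : ∀ k, (c k = 1 → |x k| = 2) ∧ (c k = 0 → |x k| = 0 ∨ |x k| = 4)) : hw x = c := by
  funext k
  obtain ⟨h1, h0⟩ := h k
  rcases zmod2_cases (c k) with e | e
  · rw [e]
    refine intCast_zmod2_eq_zero.2 ?_
    show x k / 2 % 2 = 0
    rcases h0 e with q | q <;> rcases abs_choice (x k) with q' | q' <;> omega
  · rw [e]
    refine intCast_zmod2_eq_one.2 ?_
    show x k / 2 % 2 = 1
    have := h1 e
    rcases abs_choice (x k) with q' | q' <;> omega

/-- Which family each shape lands in. -/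
theorem shell48_cases {x : GolayPt → ℤ} (hx : x ∈ shell48) :
    (x ∈ fam2 ∧ x ∈ evenType 12 ∧ x ∉ fam3 ∧ x ∉ fam4 ∧ x ∉ fam5) ∨
    (x ∈ fam4 ∧ x ∈ evenType 8 ∧ x ∉ fam2 ∧ x ∉ fam3 ∧ x ∉ fam5) ∨
    (x ∈ fam3 ∧ (∀ i, x i % 2 = 1) ∧ x ∉ fam2 ∧ x ∉ fam4 ∧ x ∉ fam5) ∨
    (x ∈ fam5 ∧ (∀ i, x i % 2 = 1) ∧ x ∉ fam2 ∧ x ∉ fam3 ∧ x ∉ fam4) := by
  rcases shape48 hx.1 hx.2 with ⟨c, hc, h12, hk⟩ | ⟨c, hc, p, hp, h8, hk⟩ | ⟨s, hs, hk⟩ | ⟨j, hk⟩
  · have habs : ∀ k, |x k| = 2 ∨ |x k| = 0 := fun k => by rw [hk]; split <;> simp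
    have hw_eq : hw x = c := hw_of_abs fun k =>
      ⟨fun e => by rw [hk, if_pos e], fun e => Or.inl (by rw [hk, if_neg (by rw [e]; decide)])⟩
    refine Or.inl ⟨⟨hx, fun k => ?_⟩, ⟨hx, fun k => ?_, by rw [hw_eq, h12]⟩, ?_, ?_, ?_⟩
    · rcases habs k with e | e <;> rcases abs_choice (x k) with q | q <;> omega
    · rcases habs k with e | e <;> rcases abs_choice (x k) with q | q <;> omega
    · rintro ⟨-, i, -, -, -, -, -, e, -⟩; rcases habs i with q | q <;> omega
    · rintro ⟨-, i, e⟩; rcases habs i with q | q <;> omega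
    · rintro ⟨-, i, e⟩; rcases habs i with q | q <;> omega
  · have habs : ∀ k, |x k| = 2 ∨ |x k| = 0 ∨ |x k| = 4 := fun k => by rw [hk]; split_ifs <;> simp
    have h4 : |x p| = 4 := by rw [hk, if_neg (by rw [hp]; decide), if_pos rfl]
    have hw_eq : hw x = c := hw_of_abs fun k =>
      ⟨fun e => by rw [hk, if_pos e],
       fun e => by rw [hk, if_neg (by rw [e]; decide)]; split <;> simp⟩
    refine Or.inr (Or.inl ⟨⟨hx, p, h4⟩, ⟨hx, fun k => ?_, by rw [hw_eq, h8]⟩, ?_, ?_, ?_⟩)
    · rcases habs k with e | e | e <;> rcases abs_choice (x k) with q | q <;> omega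
    · rintro ⟨-, h⟩; rcases h p with q | q | q <;> rw [q] at h4 <;> norm_num at h4
    · rintro ⟨-, i, -, -, -, -, -, e, -⟩; rcases habs i with q | q | q <;> omega
    · rintro ⟨-, i, e⟩; rcases habs i with q | q | q <;> omega
  · have habs : ∀ k, |x k| = 3 ∨ |x k| = 1 := fun k => by rw [hk]; split <;> simp
    obtain ⟨i, j, k, hij, hik, hjk, rfl⟩ := Finset.card_eq_three.1 hs
    refine Or.inr (Or.inr (Or.inl ⟨⟨hx, i, j, k, hij, hjk, hik, ?_, ?_, ?_⟩, fun m => ?_, ?_, ?_, ?_⟩))
    · rw [hk, if_pos (by simp)]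
    · rw [hk, if_pos (by simp)]
    · rw [hk, if_pos (by simp)]
    · rcases habs m with e | e <;> rcases abs_choice (x m) with q | q <;> omega
    · rintro ⟨-, h⟩
      rcases h i with q | q | q <;> rcases habs i with e | e <;> rw [q] at e <;> norm_num at e
    · rintro ⟨-, m, e⟩; rcases habs m with q | q <;> omega
    · rintro ⟨-, m, e⟩; rcases habs m with q | q <;> omega
  · have habs : ∀ k, |x k| = 5 ∨ |x k| = 1 := fun k => by rw [hk]; split <;> simp
    refine Or.inr (Or.inr (Or.inr ⟨⟨hx, j, by rw [hk, if_pos rfl]⟩, fun m => ?_, ?_, ?_, ?_⟩))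
    · rcases habs m with e | e <;> rcases abs_choice (x m) with q | q <;> omega
    · rintro ⟨-, h⟩
      rcases h j with q | q | q <;> rcases habs j with e | e <;> rw [q] at e <;> norm_num at e
    · rintro ⟨-, m, -, -, -, -, -, e, -⟩; rcases habs m with q | q <;> omega
    · rintro ⟨-, m, e⟩; rcases habs m with q | q <;> omega

theorem ncard_evenType (w : ℕ) : (evenType w).ncard =
    (if w = 0 then evenCount 12 0 else 0) + 759 * (if w = 8 then evenCount 12 8 else 0)
      + 2576 * (if w = 12 then evenCount 12 12 else 0) + 759 * (if w = 16 then evenCount 12 16 else 0)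
      + (if w = 24 then evenCount 12 24 else 0) := by
  classical
  let CF := Finset.univ.filter fun c : GolayPt → ZMod 2 => c ∈ golayCode
  let E : Set (GolayPt → ℤ) := {y | (fun i => (y i : ZMod 2)) ∈ golayCode ∧
    (∑ i, y i) % 4 = 0 ∧ ∑ i, y i ^ 2 = (12 : ℤ) ∧ (support₂ fun i => (y i : ZMod 2)).card = w}
  have hEfin : E.Finite := (Set.Finite.pi' fun _ => (Finset.Icc (-4 : ℤ) 4).finite_toSet).subset
    fun y hy i => Finset.mem_Icc.2 (abs_le_four (n := 12) (by norm_num) hy.2.2.1 i)
  have hhw : ∀ y : GolayPt → ℤ, hw (fun i => 2 * y i) = fun i => (y i : ZMod 2) := fun y =>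
    funext fun i => by simp [hw]
  have himg : evenType w = (fun y : GolayPt → ℤ => fun i => 2 * y i) '' E := by
    ext x
    constructor
    · rintro ⟨⟨hx, hn⟩, he, hc⟩
      rcases mem_leech_iff.1 hx with ⟨-, s, c⟩ | ⟨p, -, -⟩
      swap; · have := he none; have := p none; omega
      refine ⟨fun i => x i / 2, ⟨c, ?_, ?_, hc⟩,
        funext fun i => by show 2 * (x i / 2) = x i; have := he i; omega⟩
      · have : ∑ i, x i = 2 * ∑ i, x i / 2 := by
          rw [Finset.mul_sum]; exact Finset.sum_congr rfl fun i _ => by have := he i; omega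
        show (∑ i, x i / 2) % 4 = 0
        omega
      · have : sqNorm x = 4 * ∑ i, (x i / 2) ^ 2 := by
          rw [sqNorm, Finset.mul_sum]
          exact Finset.sum_congr rfl fun i _ => by
            conv_lhs => rw [show x i = 2 * (x i / 2) by have := he i; omega]
            ring
        show ∑ i, (x i / 2) ^ 2 = (12 : ℤ)
        omega
    · rintro ⟨y, ⟨hc, hs, hy, hcard⟩, rfl⟩
      refine ⟨⟨two_mul_mem_leech hs hc, ?_⟩, fun i => by simp, by rw [hhw]; exact hcard⟩
      simp only [sqNorm, mul_pow, ← Finset.mul_sum, hy]; norm_num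
  have hF : ∀ c ∈ CF, (if (support₂ c).card = w then evenCount 12 (support₂ c).card else 0) =
      (hEfin.toFinset.filter fun y => (fun i => (y i : ZMod 2)) = c).card := by
    intro c hc
    have hcc := (Finset.mem_filter.1 hc).2
    split_ifs with hw'
    · rw [← ncard_halfSet hcc (by norm_num) (by norm_num), ← Set.ncard_coe_finset]
      congr 1
      ext y
      simp only [Finset.coe_filter, Set.Finite.mem_toFinset, halfSet, parSet, Set.mem_ofPred_eq, E,
        funext_iff, Nat.cast_ofNat]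
      constructor
      · rintro ⟨⟨h, h'⟩, h''⟩
        have e : (fun i => (y i : ZMod 2)) = c := funext h
        exact ⟨⟨by rw [e]; exact hcc, h'', h', by rw [e]; exact hw'⟩, h⟩
      · rintro ⟨⟨-, h'', h', -⟩, h⟩; exact ⟨⟨h, h'⟩, h''⟩
    · refine (Finset.card_eq_zero.2 (Finset.filter_eq_empty_iff.2 fun y hy e => hw' ?_)).symm
      rw [Set.Finite.mem_toFinset] at hy
      rw [← e]; exact hy.2.2.2
  rw [himg, Set.ncard_image_of_injective _
      fun y y' h => funext fun i => by have := congrFun h i; simpa using this,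
    Set.ncard_eq_toFinset_card _ hEfin,
    Finset.card_eq_sum_card_fiberwise (t := CF) fun y hy => by
      simpa [CF] using (hEfin.mem_toFinset.1 hy).1,
    ← Finset.sum_congr rfl hF]
  refine (code_sum fun k => if k = w then evenCount 12 k else 0).trans ?_
  simp only [eq_comm (a := w)]

/-- `5` at one point, `1` elsewhere. -/
def vec51 (j : GolayPt) : GolayPt → ℤ := fun i => if i = j then 5 else 1

theorem vec51_chk : ∀ j, leechChk (vec51 j) = true ∧ sqNorm (vec51 j) = 48 := by decide +kernel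

theorem ncard_fam5 : fam5.ncard = 98304 := by
  classical
  have himg : fam5 = (fun p : (GolayPt → ZMod 2) × GolayPt => flipSign (support₂ p.1) (vec51 p.2)) ''
      ((golayCode : Set (GolayPt → ZMod 2)) ×ˢ Set.univ) := by
    ext x
    constructor
    · intro hx
      rcases shell48_cases hx.1 with ⟨-, -, -, -, h⟩ | ⟨-, -, -, -, h⟩ | ⟨-, -, -, -, h⟩ | ⟨-, h1, -⟩
      · exact absurd hx h
      · exact absurd hx h
      · exact absurd hx h
      obtain ⟨⟨hxm, hn⟩, i, hi⟩ := hx
      have hc : hw x ∈ golayCode := by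
        rcases mem_leech_iff.1 hxm with ⟨p, -, -⟩ | ⟨-, -, c⟩
        · have := p none; have := h1 none; omega
        · exact c
      refine ⟨(hw x, i), ⟨hc, trivial⟩, ?_⟩
      have hall : ∀ k, |x k| = if k = i then 5 else 1 := by
        rcases shape48 hxm hn with ⟨c, -, -, hk⟩ | ⟨c, -, p, -, -, hk⟩ | ⟨s, -, hk⟩ | ⟨j, hk⟩
        · have := hk i; rw [hi] at this; split at this <;> omega
        · have := hk i; rw [hi] at this; split_ifs at this <;> omega
        · have := hk i; rw [hi] at this; split at this <;> omega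
        · have hij : i = j := by
            by_contra hne; have := hk i; rw [hi, if_neg hne] at this; omega
          subst hij; exact hk
      funext k
      have hk := hall k
      simp only [flipSign, support₂, Finset.mem_filter, Finset.mem_univ, true_and, hw,
        intCast_zmod2_ne_zero, vec51]
      split at hk <;> rename_i hki <;> first | rw [if_pos hki] | rw [if_neg hki]
      all_goals rcases abs_choice (x k) with q | q <;> split <;> omega
    · rintro ⟨⟨c, j⟩, ⟨hc, -⟩, rfl⟩
      refine ⟨⟨flip_mem_leech hc (leechChk_sound (vec51_chk j).1), ?_⟩, j, ?_⟩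
      · exact Eq.trans (Finset.sum_congr rfl fun i _ => by simp only [flipSign]; split <;> ring)
          (vec51_chk j).2
      · simp only [flipSign, vec51]; split <;> simp
  have hinj : Set.InjOn (fun p : (GolayPt → ZMod 2) × GolayPt => flipSign (support₂ p.1) (vec51 p.2))
      ((golayCode : Set (GolayPt → ZMod 2)) ×ˢ Set.univ) := by
    rintro ⟨c, j⟩ - ⟨c', j'⟩ - h
    have key : ∀ i, (i ∈ support₂ c ↔ i ∈ support₂ c') ∧ (i = j → i = j') := fun i => by
      have h' := congrFun h i
      simp only [flipSign, vec51] at h'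
      by_cases p : i ∈ support₂ c <;> by_cases q : i ∈ support₂ c'
      · rw [if_pos p, if_pos q] at h'
        refine ⟨iff_of_true p q, fun e => by_contra fun u' => ?_⟩
        rw [if_pos e, if_neg u'] at h'; omega
      · exfalso; rw [if_pos p, if_neg q] at h'; split_ifs at h' <;> omega
      · exfalso; rw [if_neg p, if_pos q] at h'; split_ifs at h' <;> omega
      · rw [if_neg p, if_neg q] at h'
        refine ⟨iff_of_false p q, fun e => by_contra fun u' => ?_⟩
        rw [if_pos e, if_neg u'] at h'; omega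
    exact Prod.ext (support₂_injective (Finset.ext fun i => (key i).1)) ((key j).2 rfl)
  rw [himg, hinj.ncard_image, Set.ncard_prod, Set.ncard_univ, ← Nat.card_coe_set_eq]
  rw [show Nat.card ↥(golayCode : Set (GolayPt → ZMod 2)) = 4096 from Cfsg.Agent.Lib.Golay.card_golayCode,
    Nat.card_eq_fintype_card]
  rfl

theorem census48 : fam2.ncard = 5275648 ∧ fam3.ncard = 8290304 ∧ fam4.ncard = 3108864 ∧
    fam5.ncard = 98304 := by
  have e12 : evenCount 12 12 = 2048 := by decide +kernel
  have e8 : evenCount 12 8 = 4096 := by decide +kernel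
  have h2 : fam2.ncard = 5275648 := by
    have : fam2 = evenType 12 := by
      ext x
      constructor
      · intro h; rcases shell48_cases h.1 with ⟨-, a, -⟩ | ⟨-, -, a, -⟩ | ⟨-, -, a, -⟩ | ⟨-, -, a, -⟩
        exacts [a, absurd h a, absurd h a, absurd h a]
      · intro h; rcases shell48_cases h.1 with ⟨a, -⟩ | ⟨-, a, -⟩ | ⟨-, a, -⟩ | ⟨-, a, -⟩
        · exact a
        · have := a.2.2; have := h.2.2; omega
        · have := a none; have := h.2.1 none; omega
        · have := a none; have := h.2.1 none; omega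
    rw [this, ncard_evenType, e12]; norm_num
  have h4 : fam4.ncard = 3108864 := by
    have : fam4 = evenType 8 := by
      ext x
      constructor
      · intro h; rcases shell48_cases h.1 with ⟨-, -, -, a, -⟩ | ⟨-, a, -⟩ | ⟨-, -, -, a, -⟩ | ⟨-, -, -, -, a⟩
        exacts [absurd h a, a, absurd h a, absurd h a]
      · intro h; rcases shell48_cases h.1 with ⟨-, a, -⟩ | ⟨a, -⟩ | ⟨-, a, -⟩ | ⟨-, a, -⟩
        · have := a.2.2; have := h.2.2; omega
        · exact a
        · have := a none; have := h.2.1 none; omega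
        · have := a none; have := h.2.1 none; omega
    rw [this, ncard_evenType, e8]; norm_num
  refine ⟨h2, ?_, h4, ncard_fam5⟩
  have hfin : shell48.Finite := Set.finite_of_ncard_ne_zero (by
    show ({x : GolayPt → ℤ | x ∈ leechLattice ∧ sqNorm x = 48}).ncard ≠ 0
    rw [ncard_norm48]; norm_num)
  have hsub : ∀ {P : Set (GolayPt → ℤ)}, (∀ x ∈ P, x ∈ shell48) → P.Finite := fun h => hfin.subset h
  have f2 : fam2.Finite := hsub fun x h => h.1
  have f3 : fam3.Finite := hsub fun x h => h.1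
  have f4 : fam4.Finite := hsub fun x h => h.1
  have f5 : fam5.Finite := hsub fun x h => h.1
  have hu : shell48 = ((fam2 ∪ fam4) ∪ fam5) ∪ fam3 := by
    ext x
    constructor
    · intro h; rcases shell48_cases h with ⟨a, -⟩ | ⟨a, -⟩ | ⟨a, -⟩ | ⟨a, -⟩
      exacts [Or.inl (Or.inl (Or.inl a)), Or.inl (Or.inl (Or.inr a)), Or.inr a, Or.inl (Or.inr a)]
    · rintro (((h | h) | h) | h) <;> exact h.1
  have d1 : Disjoint fam2 fam4 := Set.disjoint_left.2 fun x a b => by
    rcases shell48_cases a.1 with ⟨-, -, -, q, -⟩ | ⟨-, -, q, -⟩ | ⟨-, -, q, -⟩ | ⟨-, -, q, -⟩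
    exacts [q b, q a, q a, q a]
  have d2 : Disjoint (fam2 ∪ fam4) fam5 := Set.disjoint_left.2 fun x a b => by
    rcases shell48_cases b.1 with ⟨-, -, -, -, q⟩ | ⟨-, -, -, -, q⟩ | ⟨-, -, -, -, q⟩ | ⟨-, -, q, -, q'⟩
    exacts [q b, q b, q b, a.elim q q']
  have d3 : Disjoint ((fam2 ∪ fam4) ∪ fam5) fam3 := Set.disjoint_left.2 fun x a b => by
    rcases shell48_cases b.1 with ⟨-, -, q, -⟩ | ⟨-, -, -, q, -⟩ | ⟨-, -, q, q', q''⟩ | ⟨-, -, -, q, -⟩
    exacts [q b, q b, a.elim (fun a => a.elim q q') q'', q b]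
  have htot : shell48.ncard = 16773120 := ncard_norm48
  rw [hu, Set.ncard_union_eq d3 ((f2.union f4).union f5) f3, Set.ncard_union_eq d2 (f2.union f4) f5,
    Set.ncard_union_eq d1 f2 f4, h2, h4, ncard_fam5] at htot
  omega

end Cfsg.Agent.Lib.Leech
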