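import Cfsg.Agent.Lib.Leech.StabOrbits

/-!
The stabiliser of `(4, 4, 0²²)` is transitive on the norm-32 vectors with dot product `-16` to it.
-/

set_option autoImplicit false

namespace Cfsg.Agent.Lib.Leech

open Cfsg
open Cfsg.Agent.Lib
open scoped Pointwise

/-- Certificate data. -/
def repsNeg16 : List (List Int) :=
  [[0, 4, 0, 0, 0, 0, 0, 0, 0, 0, 0, 0, 0, 0, 0, 0, 0, 0, 0, 0, 0, 0, 0, -4],
   [-4, 4, 0, 0, 0, 0, 0, 0, 0, 0, 0, 0, 0, 0, 0, 0, 0, 0, 0, 0, 0, 0, 0, 0],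
   [-2, 0, 0, 0, 0, 0, 0, 0, 0, 0, 0, 0, 2, 0, 2, 0, 2, 2, 2, 0, 0, 0, 2, -2],
   [-1, 1, -1, 1, 1, 1, 1, 1, 1, 1, 1, 1, 1, -1, -1, -1, -1, -1, 1, 1, -1, 1, 1, -3],
   [-3, 1, -1, 1, 1, 1, 1, 1, 1, 1, 1, 1, -1, -1, 1, -1, 1, 1, -1, 1, -1, 1, -1, -1]]

/-- Certificate data. -/
def treeNeg16 : List (Nat × Nat × List Int) :=
  [(1, 0, [-4, 4, 0, 0, 0, 0, 0, 0, 0, 0, 0, 0, 0, 0, 0, 0, 0, 0, 0, 0, 0, 0, 0, 0]),
   (0, 2, [0, 0, 0, 0, 0, 0, 0, 0, 0, 0, 0, 0, 0, 0, 0, -4, 0, 0, 0, 0, 0, 0, 0, -4]),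
   (2, 3, [-2, 0, -2, 0, 0, 2, 0, -2, 0, 2, 0, 0, -2, 0, 0, 0, 0, 0, 0, 0, 0, 0, -2, -2]),
   (4, 2, [-3, 1, 1, 1, 1, 1, 1, 1, -1, -1, 1, -1, 1, 1, -1, 1, -1, 1, -1, 1, 1, -1, 1, -1])]

/-- Certificate data. -/
def witPointPair : List Nat :=
  [0, 2]

theorem repsNeg16_ok :
    EvenRep (repVec repsNeg16 0) 8388611 0 ∧ EvenRep (repVec repsNeg16 1) 8388611 0 ∧
    EvenRep (repVec repsNeg16 2) 13062145 13062145 ∧
    OddRep (repVec repsNeg16 3) ∧ OddRep (repVec repsNeg16 4) ∧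
    traceCheck 8388611 (goodU 0) witPointPair = true ∧
    (repVec repsNeg16 0 none = -4 ∧ repVec repsNeg16 0 (some 0) = 0 ∧
     repVec repsNeg16 1 none = 0 ∧ repVec repsNeg16 1 (some 0) = -4 ∧
     repVec repsNeg16 2 none = -2 ∧ repVec repsNeg16 2 (some 0) = -2 ∧
     repVec repsNeg16 3 none = -3 ∧ repVec repsNeg16 3 (some 0) = -1 ∧
     repVec repsNeg16 4 none = -1 ∧ repVec repsNeg16 4 (some 0) = -3) ∧
    (∀ k, |repVec repsNeg16 0 k| = pat 8388608 4 2 4 0 k) ∧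
    (∀ k, |repVec repsNeg16 1 k| = pat 1 4 2 4 0 k) ∧
    (∀ k, |repVec repsNeg16 2 k| = pat 13062145 2 0 0 0 k) ∧
    (∀ k, |repVec repsNeg16 3 k| = pat 8388608 3 0 0 1 k) ∧
    (∀ k, |repVec repsNeg16 4 k| = pat 1 3 0 0 1 k) := by
  decide +kernel

theorem class_neg16 (x : GolayPt → ℤ) (hx : onLine 32 (-4) x) : Found repsNeg16 x := by
  obtain ⟨hx, hn, hs⟩ := hx
  obtain ⟨e0, e1, e2, e3, e4, hw0, ⟨a0, b0, a1, b1, a2, b2, a3, b3, a4, b4⟩, p0, p1, p2, p3, p4⟩ :=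
    repsNeg16_ok
  rcases shape32 hx hn with ⟨i, j, hij, hk⟩ | ⟨c, hc, h8, hk⟩ | ⟨j, hk⟩
  · have hv : ∀ p, ((p = i ∨ p = j) ∧ (x p = 4 ∨ x p = -4)) ∨ (¬(p = i ∨ p = j) ∧ x p = 0) := by
      intro p
      by_cases hp : p = i ∨ p = j
      · exact Or.inl ⟨hp, abs_cases (by norm_num) (by rw [hk, if_pos hp])⟩
      · exact Or.inr ⟨hp, abs_eq_zero.1 (by rw [hk, if_neg hp])⟩
    have hmove : ∀ e e' : GolayPt, (e = none ∧ e' = some 0 ∨ e = some 0 ∧ e' = none) →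
        (e = i ∨ e = j) → ¬(e' = i ∨ e' = j) →
        ∃ σ ∈ Spor.M22, ∀ k, (σ.symm k = i ∨ σ.symm k = j) ↔ (k = e ∨ k = Golay.pt ⟨1, by norm_num⟩) := by
      intro e e' hee he he'
      have main : ∀ o : GolayPt, e ≠ o → e' ≠ o →
          ∃ σ ∈ Spor.M22, σ e = e ∧ σ o = Golay.pt ⟨1, by norm_num⟩ := by
        intro o h1 h2
        rcases hee with ⟨rfl, rfl⟩ | ⟨rfl, rfl⟩
        · obtain ⟨σ, hσ, hm⟩ := exists_move_fix_two (p := o) h1.symm h2.symm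
          exact ⟨σ, hσ, fix_inf hσ, hm⟩
        · obtain ⟨σ, hσ, hm⟩ := exists_move_fix_two (p := o) h2.symm h1.symm
          exact ⟨σ, hσ, fix_zero hσ, hm⟩
      push Not at he'
      rcases he with rfl | rfl
      · obtain ⟨σ, hσ, h1, h2⟩ := main j hij he'.2
        refine ⟨σ, hσ, fun k => ?_⟩
        rw [Equiv.symm_apply_eq, Equiv.symm_apply_eq, h1, h2]
      · obtain ⟨σ, hσ, h1, h2⟩ := main i hij.symm he'.1
        refine ⟨σ, hσ, fun k => ?_⟩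
        rw [Equiv.symm_apply_eq, Equiv.symm_apply_eq, h1, h2, or_comm]
    rcases hv none with ⟨hi, v1⟩ | ⟨hi, v1⟩ <;> rcases hv (some 0) with ⟨hj, v2⟩ | ⟨hj, v2⟩
    · exfalso; omega
    · obtain ⟨σ, hσ, hm⟩ := hmove none (some 0) (Or.inl ⟨rfl, rfl⟩) hi hj
      refine found_even (i := 0) (by decide) hσ hx (fun k => ?_) (by rw [a0]; omega)
        (by rw [b0]; omega) hw0 e0
      rw [hk, p0]
      simp only [pat, mem_ptsOf_inf, mem_ptsOf_two, hm k]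
      by_cases h1 : k = none <;> simp [h1]
    · obtain ⟨σ, hσ, hm⟩ := hmove (some 0) none (Or.inr ⟨rfl, rfl⟩) hj hi
      refine found_even (i := 1) (by decide) hσ hx (fun k => ?_) (by rw [a1]; omega)
        (by rw [b1]; omega) hw0 e1
      rw [hk, p1]
      simp only [pat, mem_ptsOf_zero, mem_ptsOf_two, hm k]
      by_cases h1 : k = some 0 <;> simp [h1]
    · exfalso; omega
  · rcases code_at hk (by norm_num) none with ⟨hi, v1⟩ | ⟨hi, v1⟩ <;>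
      rcases code_at hk (by norm_num) (some 0) with ⟨hj, v2⟩ | ⟨hj, v2⟩
    · obtain ⟨σ, hσ, hm⟩ := move_code hc h8 coversTwo_ok.2.2.1 (code_ends hi) (code_ends hj)
      exact found_even (i := 2) (by decide) hσ hx (habs_code hm hk p2) (by rw [a2]; omega) (by rw [b2]; omega) tracesU_ok.2.2.1 e2
    · exfalso; omega
    · exfalso; omega
    · exfalso; omega
  · have hv : ∀ p, (p = j ∧ (x p = 3 ∨ x p = -3)) ∨ (p ≠ j ∧ (x p = 1 ∨ x p = -1)) := by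
      intro p
      by_cases hp : p = j
      · exact Or.inl ⟨hp, abs_cases (by norm_num) (by rw [hk, if_pos hp])⟩
      · exact Or.inr ⟨hp, abs_cases (by norm_num) (by rw [hk, if_neg hp])⟩
    rcases hv none with ⟨hi, v1⟩ | ⟨hi, v1⟩ <;> rcases hv (some 0) with ⟨hj, v2⟩ | ⟨hj, v2⟩
    · exact absurd (hj.trans hi.symm) (by simp)
    · exact found_odd (i := 3) (σ := 1) (by decide) (one_mem _) hx
        (habs_point (fun k => by rw [mem_ptsOf_inf, Equiv.Perm.one_apply, ← hi]) hk p3)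
        (by rw [a3]; omega) (by rw [b3]; omega) e3
    · exact found_odd (i := 4) (σ := 1) (by decide) (one_mem _) hx
        (habs_point (fun k => by rw [mem_ptsOf_zero, Equiv.Perm.one_apply, ← hj]) hk p4)
        (by rw [a4]; omega) (by rw [b4]; omega) e4
    · exfalso; omega

theorem tree_neg16_ok : treeOK repsNeg16 32 (-4) treeNeg16 = true := by decide +kernel

theorem connU_neg16 {x y : GolayPt → ℤ} (hx : onLine 32 (-4) x) (hy : onLine 32 (-4) y) :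
    ConnU x y :=
  conn_all (by norm_num) tree_neg16_ok class_neg16 hx hy

end Cfsg.Agent.Lib.Leech
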