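import Cfsg.Agent.Lib.Leech.Order
import Cfsg.Agent.Lib.Leech.StabNeg16

/-!
Transitivity statements on pairs of lattice vectors, in the shapes the statements ask for.
-/

set_option autoImplicit false

namespace Cfsg.Agent.Lib.Leech

open Cfsg
open Cfsg.Agent.Lib

theorem dotInt_add_left' (x y z : GolayPt → ℤ) :
    dotInt (x + y) z = dotInt x z + dotInt y z := by
  simp [dotInt, add_mul, Finset.sum_add_distrib]

theorem dotInt_sub_left' (x y z : GolayPt → ℤ) :
    dotInt (x - y) z = dotInt x z - dotInt y z := by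
  simp [dotInt, sub_mul, Finset.sum_sub_distrib]

theorem dotInt_neg_left' (x z : GolayPt → ℤ) : dotInt (-x) z = -dotInt x z := by
  simp [dotInt]

theorem dotInt_sub_self' (x y : GolayPt → ℤ) :
    sqNorm (x - y) = sqNorm x - 2 * dotInt x y + sqNorm y := by
  simp only [sqNorm, dotInt, Finset.mul_sum, ← Finset.sum_sub_distrib, ← Finset.sum_add_distrib]
  exact Finset.sum_congr rfl fun i _ => by simp only [Pi.sub_apply]; ring

/-- An element carrying the pair `(v, w)` to `(v', w')`. -/
theorem exists_smul_two {N s : ℤ}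
    (hconn : ∀ {x y : GolayPt → ℤ}, onLine N s x → onLine N s y → ConnU x y)
    {v w v' w' : leechLattice} (h : (v, w) ∈ pairSet N s) (h' : (v', w') ∈ pairSet N s) :
    ∃ g : Co0, g • v = v' ∧ g • w = w' := by
  obtain ⟨g, hg⟩ := exists_smul_pair hconn h h'
  exact ⟨g, congrArg Prod.fst hg, congrArg Prod.snd hg⟩

/-- An element fixing `v` and carrying `w` to `w'`. -/
theorem exists_smul_fix {N s d : ℤ} (hd0 : d = 4 * s)
    (hconn : ∀ {x y : GolayPt → ℤ}, onLine N s x → onLine N s y → ConnU x y)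
    {v w w' : leechLattice} (hv : sqNorm (v : GolayPt → ℤ) = 32) (hw : sqNorm (w : GolayPt → ℤ) = N)
    (hw' : sqNorm (w' : GolayPt → ℤ) = N) (hd : dotInt (v : GolayPt → ℤ) (w : GolayPt → ℤ) = d)
    (hd' : dotInt (v : GolayPt → ℤ) (w' : GolayPt → ℤ) = d) :
    ∃ g : Co0, g • v = v ∧ g • w = w' :=
  exists_smul_two hconn ⟨hv, hw, hd.trans hd0⟩ ⟨hv, hw', hd'.trans hd0⟩

/-- The number of vectors of squared length `4 n` with given dot product to a shortest vector. -/
theorem ncard_dot {n : ℕ} (hn : n ≤ 16) (h4 : 4 ∣ n) (s : ℤ) {v : GolayPt → ℤ}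
    (hv : v ∈ leechLattice) (hv32 : sqNorm v = 32) :
    {w : GolayPt → ℤ | w ∈ leechLattice ∧ sqNorm w = (4 * n : ℕ) ∧ dotInt v w = 4 * s}.ncard
      = lineCount n s := by
  obtain ⟨g, hg⟩ := exists_smul32 baseU ⟨v, hv⟩ sqNorm_repA hv32
  have e : {w : leechLattice | sqNorm (w : GolayPt → ℤ) = (4 * n : ℕ) ∧
      dotInt v w = 4 * s} = (fun w : leechLattice => g • w) ''
        {w : leechLattice | sqNorm (w : GolayPt → ℤ) = (4 * n : ℕ) ∧ w.1 none + w.1 (some 0) = s} := by
    ext w
    constructor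
    · rintro ⟨h1, h2⟩
      refine ⟨g⁻¹ • w, ⟨(sqNorm_smul _ _).trans h1, ?_⟩, smul_inv_smul g w⟩
      have h := dotInt_smul g baseU (g⁻¹ • w)
      rw [hg, smul_inv_smul, h2, show (baseU : GolayPt → ℤ) = repA from rfl, dotInt_repA] at h
      omega
    · rintro ⟨u, ⟨h1, h2⟩, rfl⟩
      refine ⟨(sqNorm_smul g u).trans h1, ?_⟩
      show dotInt ((⟨v, hv⟩ : leechLattice) : GolayPt → ℤ) _ = _
      rw [← hg, dotInt_smul]
      exact (dotInt_repA _).trans (by rw [h2])
  rw [← ncard_subtype (fun w => sqNorm w = (4 * n : ℕ) ∧ dotInt v w = 4 * s), e,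
    Set.ncard_image_of_injective _ (MulAction.injective g),
    ncard_subtype (fun x => sqNorm x = (4 * n : ℕ) ∧ x none + x (some 0) = s)]
  exact ncard_lineSet hn h4 s

/-- Orbit length times the two-point stabiliser is the one-point stabiliser. -/
theorem ncard_stab_orbit (u v : leechLattice) :
    (MulAction.orbit (MulAction.stabilizer Co0 u) v).ncard *
      Nat.card ↥(MulAction.stabilizer Co0 u ⊓ MulAction.stabilizer Co0 v)
      = Nat.card (MulAction.stabilizer Co0 u) := by
  rw [← Nat.card_coe_set_eq,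
    Nat.card_congr (MulAction.orbitEquivQuotientStabilizer (MulAction.stabilizer Co0 u) v),
    ← Subgroup.index_eq_card]
  have e : MulAction.stabilizer (MulAction.stabilizer Co0 u) v
      = (MulAction.stabilizer Co0 v).subgroupOf (MulAction.stabilizer Co0 u) := by
    ext g
    rfl
  rw [e, ← Subgroup.index_mul_card
    ((MulAction.stabilizer Co0 v).subgroupOf (MulAction.stabilizer Co0 u))]
  congr 1
  rw [← Nat.card_congr (Subgroup.subgroupOfEquivOfLe
    (inf_le_left : MulAction.stabilizer Co0 u ⊓ MulAction.stabilizer Co0 v ≤ _)).toEquiv,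
    inf_comm, Subgroup.inf_subgroupOf_right]

end Cfsg.Agent.Lib.Leech
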