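import Cfsg.Agent.Lib.Leech.PairCode
import Cfsg.Agent.Lib.Leech.Pairs

/-!
Common part of the two configurations: minimal vectors with prescribed dot products to a pair.
-/

set_option autoImplicit false

namespace Cfsg.Agent.Lib.Leech

open Cfsg
open Cfsg.Agent.Lib

/-- Minimal vectors with given dot products to `a` and `b`. -/
def pairConfig (a b : leechLattice) (p q : ℤ) : Set leechLattice :=
  {x | sqNorm (x : GolayPt → ℤ) = 32 ∧ dotInt (a : GolayPt → ℤ) (x : GolayPt → ℤ) = p ∧
    dotInt (b : GolayPt → ℤ) (x : GolayPt → ℤ) = q}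

/-- Membership checked on a code. -/
def configOk (fa fb : GolayPt → ℤ) (p q : ℤ) (c : List ℤ) : Bool :=
  codeOk c && decide (sqNorm (ofList c) = 32) && decide (dotInt fa (ofList c) = p) &&
    decide (dotInt fb (ofList c) = q)

theorem configOk_mem {a b : leechLattice} {p q : ℤ} {c : List ℤ}
    (h : configOk a.1 b.1 p q c = true) : denL c ∈ pairConfig a b p q := by
  simp only [configOk, Bool.and_eq_true, decide_eq_true_eq] at h
  obtain ⟨⟨⟨h1, h2⟩, h3⟩, h4⟩ := h
  simp only [pairConfig, Set.mem_ofPred_eq, denL_coe h1]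
  exact ⟨h2, h3, h4⟩

theorem pairConfig_inv {a b : leechLattice} {p q : ℤ} (g : ↥(pairStab a b)) :
    ∀ x ∈ pairConfig a b p q, g • x ∈ pairConfig a b p q := by
  intro x hx
  refine ⟨(sqNorm_smul g.1 x).trans hx.1, ?_, ?_⟩
  · have h := dotInt_smul g.1 a x
    rw [show g.1 • a = a from g.2.1] at h
    exact h.trans hx.2.1
  · have h := dotInt_smul g.1 b x
    rw [show g.1 • b = b from g.2.2] at h
    exact h.trans hx.2.2

/-- Building the decomposition of a configuration from checks. -/
theorem pairDecomp {a b : leechLattice} {p q : ℤ} {gens : List (List Step)} {c0 : List ℤ}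
    {os : List (List ℤ × Orbit.OrbTree (List ℤ))}
    (hfix : (pairCoding a b).gensFix gens c0 = true) (hok : (pairCoding a b).orbsOk gens os = true)
    (hcodes : (os.flatMap Orbit.Coding.orbCodes).all (configOk a.1 b.1 p q) = true)
    (hroots : ∀ o ∈ os, o.1 ∈ os.flatMap Orbit.Coding.orbCodes)
    (hnd : (os.flatMap Orbit.Coding.orbCodes).Nodup)
    (hsub : ∀ x ∈ pairConfig a b p q, ∃ c ∈ os.flatMap Orbit.Coding.orbCodes, denL c = x) :
    (pairCoding a b).Decomp (pairConfig a b p q) gens c0 os := by
  classical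
  have hall : (os.flatMap Orbit.Coding.orbCodes).all codeOk = true :=
    List.all_eq_true.2 fun c hc => by
      have := List.all_eq_true.1 hcodes c hc
      simp only [configOk, Bool.and_eq_true] at this
      exact this.1.1.1
  have hP : pairConfig a b p q =
      (((os.flatMap Orbit.Coding.orbCodes).map denL).toFinset : Set leechLattice) := by
    ext x
    simp only [Finset.mem_coe, List.mem_toFinset, List.mem_map]
    exact ⟨hsub x, by rintro ⟨c, hc, rfl⟩; exact configOk_mem (List.all_eq_true.1 hcodes c hc)⟩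
  exact
    { fix := hfix
      ok := hok
      inv := fun g x hx => pairConfig_inv g x hx
      roots := fun o ho => configOk_mem (List.all_eq_true.1 hcodes _ (hroots o ho))
      nodup := nodup_denL hall hnd
      count := by
        rw [hP, Set.ncard_coe_finset, List.toFinset_card_of_nodup (nodup_denL hall hnd),
          List.length_map]
      fin := hP ▸ Finset.finite_toSet _ }

/-- Moving a configuration by a group element. -/
theorem pairConfig_smul (g : Co0) (a b : leechLattice) (p q : ℤ) :
    pairConfig (g • a) (g • b) p q = (fun x : leechLattice => g • x) '' pairConfig a b p q := by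
  ext x
  constructor
  · rintro ⟨h1, h2, h3⟩
    refine ⟨g⁻¹ • x, ⟨(sqNorm_smul _ _).trans h1, ?_, ?_⟩, smul_inv_smul g x⟩
    · rw [← dotInt_smul g, smul_inv_smul]; exact h2
    · rw [← dotInt_smul g, smul_inv_smul]; exact h3
  · rintro ⟨y, ⟨h1, h2, h3⟩, rfl⟩
    exact ⟨(sqNorm_smul g y).trans h1, (dotInt_smul g a y).trans h2, (dotInt_smul g b y).trans h3⟩

/-- Moving a part of a configuration cut out by a dot product. -/
theorem ncard_part_smul (g : Co0) (a b x : leechLattice) (p q : ℤ) (R : ℤ → leechLattice → Prop)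
    (hR : ∀ d y, R d (g • y) ↔ R d y) :
    {y : leechLattice | y ∈ pairConfig (g • a) (g • b) p q ∧
        R (dotInt ((g • x : leechLattice) : GolayPt → ℤ) (y : GolayPt → ℤ)) y}.ncard
      = {y : leechLattice | y ∈ pairConfig a b p q ∧
          R (dotInt (x : GolayPt → ℤ) (y : GolayPt → ℤ)) y}.ncard := by
  rw [← Set.ncard_image_of_injective {y : leechLattice |
    y ∈ pairConfig a b p q ∧ R (dotInt (x : GolayPt → ℤ) (y : GolayPt → ℤ)) y}
    (MulAction.injective (g : Co0))]
  congr 1
  ext y
  constructor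
  · rintro ⟨h1, h2⟩
    rw [pairConfig_smul] at h1
    obtain ⟨z, hz, rfl⟩ := h1
    rw [dotInt_smul, hR] at h2
    exact ⟨z, ⟨hz, h2⟩, rfl⟩
  · rintro ⟨z, ⟨h1, h2⟩, rfl⟩
    refine ⟨by rw [pairConfig_smul]; exact ⟨z, h1, rfl⟩, ?_⟩
    show R (dotInt _ ((g • z : leechLattice) : GolayPt → ℤ)) (g • z)
    rw [dotInt_smul, hR]; exact h2

end Cfsg.Agent.Lib.Leech
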