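import Mathlib.Init

/-!
Certificate data for the configuration of 2025 vectors.
-/

set_option autoImplicit false
set_option maxRecDepth 20000
set_option maxHeartbeats 4000000

namespace Cfsg.Agent.Lib.Leech.Config2025Data

/-- Generators. -/
def gens : List (List (Option (List Nat × Nat))) :=
  [[some ([0, 6, 4, 17, 8, 1, 5, 10, 13, 14, 7, 15, 21, 16, 9, 3, 19, 12, 20, 2, 22, 11, 18, 23], 0)],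
   [some ([0, 4, 14, 6, 10, 3, 9, 16, 17, 19, 12, 11, 13, 1, 22, 15, 18, 7, 8, 5, 2, 20, 21, 23], 0)],
   [some ([0, 11, 22, 15, 20, 18, 6, 13, 16, 7, 1, 5, 8, 14, 4, 10, 2, 9, 3, 12, 17, 19, 21, 23], 0)]]

/-- Generators. -/
def linkGens : List (List (Option (List Nat × Nat))) :=
  [[some ([0, 6, 4, 17, 8, 1, 5, 10, 13, 14, 7, 15, 21, 16, 9, 3, 19, 12, 20, 2, 22, 11, 18, 23], 0)],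
   [some ([0, 4, 14, 6, 10, 3, 9, 16, 17, 19, 12, 11, 13, 1, 22, 15, 18, 7, 8, 5, 2, 20, 21, 23], 0)],
   [some ([0, 11, 22, 15, 20, 18, 6, 13, 16, 7, 1, 5, 8, 14, 4, 10, 2, 9, 3, 12, 17, 19, 21, 23], 0)],
   [some ([2, 1, 23, 14, 4, 0, 6, 9, 18, 22, 11, 10, 7, 21, 3, 19, 20, 17, 13, 16, 15, 8, 12, 5], 2928), none, some ([9, 13, 11, 17, 1, 3, 18, 22, 16, 7, 4, 12, 19, 0, 2, 8, 5, 14, 10, 20, 15, 6, 23, 21], 957), none, some ([17, 21, 6, 18, 1, 16, 3, 4, 12, 11, 19, 23, 20, 13, 8, 10, 14, 5, 7, 9, 2, 15, 0, 22], 1426)]]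

/-- A root. -/
def root0 : List Int := [-4, 0, 0, 0, 0, 0, 0, 0, 0, 0, 0, 0, 0, 0, 0, 0, 0, 0, 0, 0, 0, 0, 0, 4]

/-- A tree. -/
def tree0 : List (Nat × Nat × List Int) :=
  []

/-- A piece of a tree. -/
def tree1_0 : List (Nat × Nat × List Int) :=
  [(0, 0, [-2, 0, 0, 2, 0, 0, 0, 0, 0, 2, 0, 0, 0, 2, 0, 0, 0, -2, 0, 0, 2, 0, 2, 2]),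
   (0, 0, [-2, 0, 0, -2, 0, 0, 0, 0, 2, 0, 0, 0, 0, 0, 2, 2, 0, 0, 2, 0, 2, 0, 0, 2]),
   (0, 0, [-2, 0, 0, 0, 2, 0, 0, 0, 0, 2, 0, 2, 0, 0, 0, -2, 0, 0, 2, 0, 0, 0, 2, 2]),
   (0, 0, [-2, 0, 2, 0, 0, 0, 0, 0, 0, 0, 0, -2, 0, 0, 2, 0, 0, 0, 0, 0, 2, 2, 2, 2]),
   (0, 0, [-2, 0, 0, 0, 0, 0, 0, 0, 0, 2, 0, 0, 2, 0, 0, 0, 0, 0, 2, 2, 2, -2, 0, 2]),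
   (0, 1, [-2, 0, 0, 0, 0, 0, 2, 0, 0, 2, 2, 0, 0, 0, 0, 0, 2, 0, 0, 0, 0, 2, -2, 2]),
   (0, 0, [-2, 2, 0, 0, 0, 0, 0, 2, 0, 0, 0, 0, 2, 2, 2, 0, 0, 0, 0, 0, -2, 0, 0, 2]),
   (2, 2, [-2, 0, 0, 0, 2, 2, 0, 0, 0, 0, 0, 0, 0, 0, 0, 0, 0, 2, 0, 2, 0, 2, -2, 2]),
   (2, 2, [-2, -2, 2, 0, 2, 0, 0, 0, 0, 0, 0, 0, 0, 2, 0, 0, 2, 0, 0, 0, 0, 0, 2, 2]),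
   (2, 1, [-2, 2, 0, 0, 0, 0, 2, 0, 0, 0, 0, 2, 0, 0, 2, -2, 2, 0, 0, 0, 0, 0, 0, 2]),
   (0, 0, [-2, 2, 0, 0, 0, 2, 0, 0, 0, 2, 0, -2, 0, 2, 0, 0, 0, 0, 0, 0, 0, 2, 0, 2]),
   (0, 0, [-2, 0, 0, 0, 0, 2, 2, 0, 2, 0, 0, 0, 2, 0, 2, 0, 0, 0, 0, 0, 0, -2, 0, 2]),
   (0, 0, [-2, 2, 0, 0, 2, 0, 2, 0, 0, 2, 0, 0, -2, 0, 0, 0, 0, 2, 0, 0, 0, 0, 0, 2]),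
   (1, 1, [-2, 0, 2, 2, 0, 0, 0, 0, 0, 0, 2, 0, 0, 0, 0, 0, 0, 0, 2, 2, 0, 0, -2, 2]),
   (1, 2, [-2, 0, 0, 0, 0, 0, 2, 0, 0, 0, 0, 2, 2, 2, 0, 0, 0, 0, 0, 2, 0, 0, -2, 2]),
   (2, 1, [-2, 0, 0, 0, 0, 0, 2, 0, 0, 0, 0, -2, 2, 2, 0, 0, 0, 0, 0, 2, 0, 0, 2, 2]),
   (1, 2, [-2, -2, 0, 0, 0, 0, 0, 2, 0, 0, 2, 2, 0, 0, 0, 0, 0, 2, 0, 0, 0, 0, 2, 2]),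
   (2, 1, [-2, 0, 2, 2, 0, 0, 0, 2, 0, 0, 0, 2, 0, 2, 0, -2, 0, 0, 0, 0, 0, 0, 0, 2]),
   (0, 0, [-2, 0, 0, 0, 0, 0, 0, 0, 2, 0, 2, -2, 0, 0, 0, 2, 0, 0, 0, 2, 0, 2, 0, 2]),
   (1, 1, [-2, 0, 0, 0, 0, 2, 0, 0, 0, 0, 0, 2, 2, 0, 0, -2, 0, 2, 0, 0, 2, 0, 0, 2]),
   (1, 2, [-2, 2, 0, -2, 0, 0, 0, 2, 0, 2, 0, 0, 0, 0, 0, 0, 2, 0, 2, 0, 0, 0, 0, 2]),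
   (0, 0, [-2, 0, 0, 0, 0, 2, 0, 0, 0, 0, 2, 0, 0, 2, 2, -2, 0, 0, 0, 0, 0, 0, 2, 2]),
   (3, 2, [-2, 2, 0, -2, 0, 0, 2, 0, 2, 0, 2, 0, 0, 2, 0, 0, 0, 0, 0, 0, 0, 0, 0, 2]),
   (2, 2, [-2, 2, 2, -2, 0, 2, 0, 0, 0, 0, 0, 0, 0, 0, 2, 0, 0, 2, 0, 0, 0, 0, 0, 2]),
   (0, 0, [-2, 0, 0, 2, 0, 2, 2, 0, 0, 2, 0, 0, 0, 0, 0, -2, 0, 0, 0, 2, 0, 0, 0, 2]),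
   (0, 0, [-2, 2, 0, 0, 0, 0, 2, 0, 0, 0, 0, -2, 0, 0, 2, 2, 2, 0, 0, 0, 0, 0, 0, 2]),
   (1, 2, [-2, 0, 0, -2, 0, 0, 2, 0, 0, 0, 0, 2, 0, 0, 0, 0, 0, 2, 2, 0, 0, 2, 0, 2]),
   (0, 0, [-2, 2, 0, 2, 0, 0, 0, 0, 0, 0, 0, 0, 2, 0, 0, -2, 0, 0, 0, 0, 0, 2, 2, 2]),
   (1, 1, [-2, 0, 0, 2, 0, -2, 0, 0, 2, 0, 0, 2, 0, 0, 0, 0, 2, 0, 0, 0, 0, 0, 2, 2]),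
   (3, 1, [-2, 0, 2, 0, 0, -2, 0, 0, 2, 0, 0, 0, 0, 2, 0, 0, 0, 0, 0, 2, 2, 0, 0, 2])]

/-- A piece of a tree. -/
def tree1_1 : List (Nat × Nat × List Int) :=
  [(0, 1, [-2, 0, 0, 0, 0, 0, 0, 0, 0, 2, 0, 0, 2, 0, 0, 0, 0, 0, 2, -2, 2, 2, 0, 2]),
   (1, 2, [-2, 0, 0, 0, 2, 0, 0, 2, 0, 0, 0, -2, 2, 0, 0, 0, 2, 0, 0, 0, 0, 2, 0, 2]),
   (0, 2, [-2, -2, 0, 0, 0, 0, 0, 0, 2, 2, 0, 0, 0, 0, 2, 0, 0, 0, 0, 2, 0, 0, 2, 2]),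
   (3, 2, [-2, 0, 0, 0, 0, 0, 0, 0, 0, 0, 2, 2, 0, 2, 0, 0, 2, 0, -2, 0, 2, 0, 0, 2]),
   (0, 1, [-2, 0, 0, 0, 2, 0, 0, 2, 0, 0, 0, 2, 2, 0, 0, 0, -2, 0, 0, 0, 0, 2, 0, 2]),
   (4, 1, [-2, 0, 2, 0, 0, -2, 0, 0, 0, 0, 0, 0, 0, 0, 0, 2, 2, 0, 2, 0, 0, 2, 0, 2]),
   (0, 0, [-2, 0, 0, 0, 0, 0, -2, 0, 0, 0, 0, 2, 2, 2, 0, 0, 0, 0, 0, 2, 0, 0, 2, 2]),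
   (0, 1, [-2, 0, 0, -2, 0, 0, 0, 0, 0, 2, 2, 2, 2, 0, 2, 0, 0, 0, 0, 0, 0, 0, 0, 2]),
   (0, 0, [-2, 0, 0, 0, 0, 0, 0, 2, 0, 2, 0, 0, 0, 0, 2, -2, 0, 2, 0, 0, 0, 2, 0, 2]),
   (1, 1, [-2, 0, 2, 0, 2, -2, 2, 0, 0, 0, 2, 2, 0, 0, 0, 0, 0, 0, 0, 0, 0, 0, 0, 2]),
   (0, 1, [-2, 2, 0, 2, 2, 0, 0, 0, 0, 0, 0, 2, 0, 0, 0, 0, 0, 0, 0, -2, 2, 0, 0, 2]),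
   (2, 2, [-2, 2, 0, 0, 0, 0, 0, 0, 0, 0, 0, 0, 0, 2, 0, 2, 0, 2, -2, 2, 0, 0, 0, 2]),
   (0, 0, [-2, 0, 0, 2, 0, 2, 0, 0, 2, 0, 0, 2, 0, 0, 0, 0, 2, 0, 0, 0, 0, 0, -2, 2]),
   (3, 2, [-2, 2, 2, 0, 0, 0, -2, 2, 0, 0, 0, 0, 0, 0, 0, 0, 0, 0, 0, 2, 0, 2, 0, 2]),
   (0, 1, [-2, 0, 0, -2, 0, 0, 0, 0, 0, 2, 0, 0, 0, 2, 0, 0, 0, 2, 0, 0, 2, 0, 2, 2]),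
   (0, 0, [-2, 0, 0, 2, 0, 0, 0, 0, 2, 0, 0, 0, 0, 0, 2, -2, 0, 0, 2, 0, 2, 0, 0, 2]),
   (4, 1, [-2, 0, 0, 0, 0, 0, 0, 2, 0, 0, 0, 0, 0, 0, 0, 2, 2, 0, 0, -2, 2, 0, 2, 2]),
   (0, 0, [-2, 0, 0, 0, 0, 0, 0, 0, 0, 0, 2, 2, 0, 2, 0, 0, -2, 0, 2, 0, 2, 0, 0, 2]),
   (0, 2, [-2, 2, 0, 0, 2, 2, 0, 2, -2, 0, 0, 0, 0, 0, 0, 2, 0, 0, 0, 0, 0, 0, 0, 2]),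
   (3, 2, [-2, 0, 0, 2, 0, 2, 0, 0, 2, 0, 0, -2, 0, 0, 0, 0, 2, 0, 0, 0, 0, 0, 2, 2]),
   (0, 0, [-2, 0, 0, 0, 2, 0, 2, 0, 0, 0, 0, 0, 0, 2, 0, 2, 0, 0, 0, 0, 2, -2, 0, 2]),
   (0, 1, [-2, 2, 0, 2, 0, 0, 0, 0, 0, 0, 0, 0, 2, 0, 0, 2, 0, 0, 0, 0, 0, 2, -2, 2]),
   (1, 2, [-2, 0, 0, 2, 2, 0, 2, 2, 0, 0, 0, 0, 0, 0, 2, 0, 0, 0, 0, 0, 0, 0, -2, 2]),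
   (2, 1, [-2, 0, 0, 0, 0, 2, 0, 2, 0, 0, 0, -2, 0, 0, 2, 0, 0, 0, 2, 2, 0, 0, 0, 2]),
   (0, 1, [-2, 0, 2, 0, 0, 0, 0, 0, 0, 2, 0, -2, 0, 0, 0, 0, 2, 2, 0, 2, 0, 0, 0, 2]),
   (0, 0, [-2, 0, 0, 2, 0, 0, 0, 0, 0, 0, 0, 0, 0, 2, 2, 0, 2, 0, 0, 2, 0, -2, 0, 2]),
   (1, 1, [-2, 0, 0, 0, 0, 0, 2, 2, 2, 2, 0, -2, 0, 0, 0, 0, 0, 0, 0, 0, 2, 0, 0, 2]),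
   (2, 2, [-2, -2, 0, 0, 0, 2, 0, 0, 0, 2, 0, 2, 0, 2, 0, 0, 0, 0, 0, 0, 0, 2, 0, 2]),
   (2, 2, [-2, -2, 2, 0, 0, 0, 0, 0, 2, 0, 0, 2, 2, 0, 0, 0, 0, 0, 2, 0, 0, 0, 0, 2]),
   (0, 1, [-2, 0, 0, 0, 0, 0, 0, 0, 0, 0, 2, 2, 0, -2, 0, 0, 2, 0, 2, 0, 2, 0, 0, 2])]

/-- A piece of a tree. -/
def tree1_2 : List (Nat × Nat × List Int) :=
  [(4, 2, [-2, 0, 0, 2, 2, 2, 0, 0, 0, 0, 0, 0, 2, 2, 0, 0, 0, 0, -2, 0, 0, 0, 0, 2]),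
   (0, 0, [-2, 0, 2, 0, 0, 0, 2, 0, 2, 0, 0, 0, 0, 0, 0, 2, 0, 2, 0, 0, 0, 0, -2, 2]),
   (0, 0, [-2, 2, 0, 2, 2, 0, 0, 0, 0, 0, 0, 2, 0, 0, 0, 0, 0, 0, 0, 2, -2, 0, 0, 2]),
   (0, 0, [-2, 0, 2, 0, 0, 2, 0, 0, 0, 0, 0, 0, 0, 0, 0, 2, 2, 0, -2, 0, 0, 2, 0, 2]),
   (1, 1, [-2, 2, 0, 0, 0, 2, 0, 0, 0, 2, 0, 2, 0, 2, 0, 0, 0, 0, 0, 0, 0, -2, 0, 2]),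
   (2, 1, [-2, 0, 0, 2, 0, 0, 0, 0, 2, 0, 0, 0, 0, 0, -2, 2, 0, 0, 2, 0, 2, 0, 0, 2]),
   (0, 0, [-2, 0, 0, 0, 2, 0, 0, 0, 0, -2, 0, 2, 0, 0, 0, 2, 0, 0, 2, 0, 0, 0, 2, 2]),
   (0, 0, [-2, 0, 2, 0, 0, 0, 0, 0, 0, 0, 0, 2, 0, 0, -2, 0, 0, 0, 0, 0, 2, 2, 2, 2]),
   (1, 2, [-2, 2, 2, 2, 0, 2, 0, 0, 0, 0, 0, 0, 0, 0, 2, 0, 0, -2, 0, 0, 0, 0, 0, 2]),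
   (2, 1, [-2, 0, -2, 0, 0, 2, 0, 0, 0, 0, 0, 0, 0, 0, 0, 2, 2, 0, 2, 0, 0, 2, 0, 2]),
   (0, 0, [-2, 0, 0, 0, 0, 0, 2, 0, 0, 0, 0, 2, 2, 2, 0, 0, 0, 0, 0, -2, 0, 0, 2, 2]),
   (1, 1, [-2, 0, 0, 0, 0, 0, 0, 2, 0, 0, 0, 0, 0, 0, 0, 2, 2, 0, 0, 2, -2, 0, 2, 2]),
   (3, 2, [-2, 0, -2, 2, 0, 0, 2, 0, 0, 0, 0, 0, 2, 0, 0, 0, 2, 0, 0, 0, 2, 0, 0, 2]),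
   (0, 0, [-2, 2, 0, 0, 0, 0, 0, 0, 0, 0, 0, 0, 0, 2, 0, 2, 0, 2, 2, -2, 0, 0, 0, 2]),
   (3, 1, [-2, 2, 0, 0, 0, 2, 0, 0, 0, 0, 2, 0, 2, 0, 0, 0, -2, 0, 0, 2, 0, 0, 0, 2]),
   (0, 0, [-2, 0, 0, 0, 0, 2, 2, 2, 0, 0, 0, 0, 0, -2, 0, 0, 2, 2, 0, 0, 0, 0, 0, 2]),
   (0, 1, [-2, 0, 0, 2, 0, 0, 0, 2, 2, 0, 0, 0, -2, 0, 0, 0, 0, 2, 0, 2, 0, 0, 0, 2]),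
   (0, 0, [-2, 0, 0, 2, 2, 0, 0, 0, 0, 0, 2, 0, 0, 0, 0, 2, 2, -2, 0, 0, 0, 0, 0, 2]),
   (3, 2, [-2, 0, 0, 0, 0, 0, 0, 0, -2, 0, 2, 2, 0, 0, 0, 2, 0, 0, 0, 2, 0, 2, 0, 2]),
   (0, 0, [-2, 0, 0, 0, -2, 0, 0, 2, 0, 0, 0, 2, 2, 0, 0, 0, 2, 0, 0, 0, 0, 2, 0, 2]),
   (1, 1, [-2, 0, 0, 0, 2, 0, 0, 0, 0, 2, 0, 2, 0, 0, 0, 2, 0, 0, -2, 0, 0, 0, 2, 2]),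
   (1, 2, [-2, 2, 0, 2, 0, 0, 0, 0, 0, 0, 0, 0, -2, 0, 0, 2, 0, 0, 0, 0, 0, 2, 2, 2]),
   (0, 2, [-2, 0, 2, 2, 0, 0, 0, 0, 0, 0, 2, 0, 0, 0, 0, 0, 0, 0, 2, -2, 0, 0, 2, 2]),
   (0, 2, [-2, 0, 2, 0, 0, 2, 0, 0, 0, 0, 0, 0, 0, 0, 0, 2, 2, 0, 2, 0, 0, -2, 0, 2]),
   (5, 2, [-2, 0, 0, 0, 0, -2, 0, 2, 0, 0, 0, 2, 0, 0, 2, 0, 0, 0, 2, 2, 0, 0, 0, 2]),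
   (0, 1, [-2, 0, 2, 0, 0, 0, 0, 0, 0, 2, 0, 2, 0, 0, 0, 0, 2, 2, 0, -2, 0, 0, 0, 2]),
   (0, 0, [-2, 0, 0, 2, 0, 0, 0, 0, 0, 0, 0, 0, 0, 2, 2, 0, -2, 0, 0, 2, 0, 2, 0, 2]),
   (0, 0, [-2, 0, 0, 0, 0, 0, 0, 0, 2, 2, 0, 0, 2, -2, 0, 2, 2, 0, 0, 0, 0, 0, 0, 2]),
   (2, 1, [-2, 0, 0, 0, 0, 0, 2, 2, 2, -2, 0, 2, 0, 0, 0, 0, 0, 0, 0, 0, 2, 0, 0, 2]),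
   (0, 1, [-2, 0, 0, 2, 0, 0, -2, 0, 0, 0, 0, 2, 0, 0, 0, 0, 0, 2, 2, 0, 0, 2, 0, 2])]

/-- A piece of a tree. -/
def tree1_3 : List (Nat × Nat × List Int) :=
  [(0, 1, [-2, 0, 0, -2, 0, 2, 0, 0, 2, 0, 0, 2, 0, 0, 0, 0, 2, 0, 0, 0, 0, 0, 2, 2]),
   (7, 1, [-2, 0, 0, 0, 0, 2, 2, 0, -2, 0, 0, 0, 2, 0, 2, 0, 0, 0, 0, 0, 0, 2, 0, 2]),
   (0, 0, [-2, 2, 0, 0, -2, 0, 2, 0, 0, 2, 0, 0, 2, 0, 0, 0, 0, 2, 0, 0, 0, 0, 0, 2]),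
   (0, 0, [-2, 2, -2, 2, 0, 2, 0, 0, 0, 0, 0, 0, 0, 0, 2, 0, 0, 2, 0, 0, 0, 0, 0, 2]),
   (0, 0, [-2, 0, 0, 2, 0, 2, 2, 0, 0, 2, 0, 0, 0, 0, 0, 2, 0, 0, 0, -2, 0, 0, 0, 2]),
   (0, 0, [-2, 2, 0, 0, 0, 0, 2, 0, 0, 0, 0, 2, 0, 0, 2, 2, -2, 0, 0, 0, 0, 0, 0, 2]),
   (0, 1, [-2, 0, 2, 2, 0, 0, 0, -2, 0, 0, 0, 2, 0, 2, 0, 2, 0, 0, 0, 0, 0, 0, 0, 2]),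
   (2, 1, [-2, 0, 0, 2, 0, 2, 2, 0, 0, -2, 0, 0, 0, 0, 0, 2, 0, 0, 0, 2, 0, 0, 0, 2]),
   (1, 2, [-2, 0, 0, 2, 0, 0, 2, 0, 0, 0, 0, 2, 0, 0, 0, 0, 0, 2, 2, 0, 0, -2, 0, 2]),
   (2, 1, [-2, 0, 2, 0, 0, 2, 0, 0, 2, 0, 0, 0, 0, 2, 0, 0, 0, 0, 0, 2, -2, 0, 0, 2]),
   (2, 1, [-2, -2, 0, 2, 0, 0, 2, 0, 2, 0, 2, 0, 0, 2, 0, 0, 0, 0, 0, 0, 0, 0, 0, 2]),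
   (0, 0, [-2, 2, 0, 0, 2, -2, 0, 2, 2, 0, 0, 0, 0, 0, 0, 2, 0, 0, 0, 0, 0, 0, 0, 2]),
   (0, 0, [-2, 0, 2, 0, 2, 2, -2, 0, 0, 0, 2, 2, 0, 0, 0, 0, 0, 0, 0, 0, 0, 0, 0, 2]),
   (1, 2, [-2, 0, 0, 2, 0, 0, 0, 0, 0, 2, 2, -2, 2, 0, 2, 0, 0, 0, 0, 0, 0, 0, 0, 2]),
   (2, 1, [-2, 0, 0, 2, 2, 2, 0, 0, 0, 0, 0, 0, 2, -2, 0, 0, 0, 0, 2, 0, 0, 0, 0, 2]),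
   (0, 0, [-2, 0, 2, 0, 0, 0, 2, 0, -2, 0, 0, 0, 0, 0, 0, 2, 0, 2, 0, 0, 0, 0, 2, 2]),
   (0, 0, [-2, 2, 0, 2, -2, 0, 0, 0, 0, 0, 0, 2, 0, 0, 0, 0, 0, 0, 0, 2, 2, 0, 0, 2]),
   (2, 1, [-2, 2, 0, 0, 0, 2, 0, 0, 0, 0, 2, 0, -2, 0, 0, 0, 2, 0, 0, 2, 0, 0, 0, 2]),
   (0, 2, [-2, 0, 0, 0, 0, 0, 0, 0, 2, 0, 2, 2, 0, 0, 0, 2, 0, 0, 0, -2, 0, 2, 0, 2]),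
   (2, 2, [-2, 0, 0, 0, 0, 2, 0, -2, 0, 0, 0, 2, 0, 0, 2, 0, 0, 0, 2, 2, 0, 0, 0, 2]),
   (0, 2, [-2, 2, 0, 0, 0, 2, 0, 0, 0, -2, 0, 2, 0, 2, 0, 0, 0, 0, 0, 0, 0, 2, 0, 2]),
   (3, 2, [-2, 0, 0, 0, 0, 0, 2, 2, 0, 0, -2, 0, 2, 0, 0, 2, 0, 0, 2, 0, 0, 0, 0, 2]),
   (0, 0, [-2, 2, 0, 0, 0, 0, 0, -2, 0, 0, 2, 2, 0, 0, 0, 0, 0, 2, 0, 0, 0, 0, 2, 2]),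
   (0, 0, [-2, 0, 0, 2, 0, 2, 0, 2, 0, 0, -2, 0, 0, 0, 0, 0, 0, 0, 0, 0, 2, 2, 0, 2]),
   (1, 1, [-2, 0, 0, 0, 2, 0, 0, 0, 2, 0, 0, 2, 0, 2, 2, 0, 0, -2, 0, 0, 0, 0, 0, 2]),
   (2, 1, [-2, 0, 0, 2, -2, 0, 0, 0, 0, 0, 2, 0, 0, 0, 0, 2, 2, 2, 0, 0, 0, 0, 0, 2]),
   (0, 0, [-2, 0, -2, 2, 0, 0, 0, 2, 0, 0, 0, 2, 0, 2, 0, 2, 0, 0, 0, 0, 0, 0, 0, 2]),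
   (4, 2, [-2, 0, 0, 0, 0, 0, 2, 0, 0, 0, 2, 0, 0, 0, -2, 0, 0, 2, 0, 2, 2, 0, 0, 2]),
   (0, 0, [-2, 2, 0, 2, 0, 0, 0, 2, 0, -2, 0, 0, 0, 0, 0, 0, 2, 0, 2, 0, 0, 0, 0, 2]),
   (0, 0, [-2, 0, 0, 0, 0, 2, 0, 0, 0, 0, 2, 0, 0, 2, -2, 2, 0, 0, 0, 0, 0, 0, 2, 2])]

/-- A piece of a tree. -/
def tree1_4 : List (Nat × Nat × List Int) :=
  [(1, 1, [-2, 0, 0, 0, 0, 2, -2, 2, 0, 0, 0, 0, 0, 2, 0, 0, 2, 2, 0, 0, 0, 0, 0, 2]),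
   (0, 2, [-2, 0, 0, 0, 0, 0, -2, 2, 2, 2, 0, 2, 0, 0, 0, 0, 0, 0, 0, 0, 2, 0, 0, 2]),
   (3, 1, [-2, 0, -2, 2, 2, 0, 0, 0, 2, 2, 0, 0, 0, 0, 0, 0, 0, 0, 0, 0, 0, 2, 0, 2]),
   (0, 0, [-2, 0, 2, 0, 2, 0, 0, 0, 0, 0, 0, 0, 2, 0, 2, 2, 0, 0, 0, -2, 0, 0, 0, 2]),
   (1, 1, [-2, 2, 0, 0, 0, 2, 2, 0, 0, 0, 0, 0, 0, 0, 0, 0, 0, 0, 2, 0, -2, 0, 2, 2]),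
   (1, 2, [-2, 0, 0, 0, 0, 0, 0, 0, 0, 0, 0, 0, 2, 0, 2, 0, -2, 2, 2, 0, 0, 0, 2, 2]),
   (2, 2, [-2, 0, 0, 0, 2, 0, 2, 0, 0, 0, 0, 0, 0, -2, 0, 2, 0, 0, 0, 0, 2, 2, 0, 2]),
   (0, 0, [-2, 2, 2, 0, 0, 0, 0, 0, -2, 0, 0, 2, 2, 0, 0, 0, 0, 0, 2, 0, 0, 0, 0, 2]),
   (1, 2, [-2, 0, 0, 2, 2, 0, 2, -2, 0, 0, 0, 0, 0, 0, 2, 0, 0, 0, 0, 0, 0, 0, 2, 2]),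
   (4, 1, [-2, 0, 2, 2, 0, 0, 0, 0, 0, 0, 2, 0, 0, 0, 0, 0, 0, 0, -2, 2, 0, 0, 2, 2]),
   (0, 0, [-2, 0, 0, 0, 0, 0, 0, 2, 0, 0, 0, 0, 0, 0, 0, 2, 2, 0, 0, 2, 2, 0, -2, 2]),
   (0, 0, [-2, 0, 0, 0, 0, 0, 0, 0, 0, 0, 2, 2, 0, 2, 0, 0, 2, 0, 2, 0, -2, 0, 0, 2]),
   (0, 0, [-2, 0, 0, 0, 0, 0, 0, 2, 2, 0, 0, 0, 0, 2, 0, 0, 0, 0, -2, 0, 0, 2, 2, 2]),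
   (0, 2, [-2, 0, 2, 0, 0, -2, 0, 2, 0, 2, 0, 0, 2, 0, 0, 0, 0, 0, 0, 0, 0, 0, 2, 2]),
   (3, 1, [-2, 0, 0, 0, 0, 0, 0, 2, 0, 2, 0, 0, 0, 0, -2, 2, 0, 2, 0, 0, 0, 2, 0, 2]),
   (0, 0, [-2, 0, 0, 2, 0, 0, 0, 0, 0, -2, 2, 2, 2, 0, 2, 0, 0, 0, 0, 0, 0, 0, 0, 2]),
   (0, 2, [-2, 2, 0, 0, 0, 0, 0, 0, 0, 0, 0, 0, 0, 2, 0, 2, 0, -2, 2, 2, 0, 0, 0, 2]),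
   (2, 1, [-2, 0, -2, 0, 0, 0, 2, 0, 2, 0, 0, 0, 0, 0, 0, 2, 0, 2, 0, 0, 0, 0, 2, 2]),
   (0, 1, [-2, 0, 0, 2, 0, 0, 0, 0, 2, 0, 0, 0, 0, 0, 2, 2, 0, 0, 2, 0, -2, 0, 0, 2]),
   (4, 1, [-2, 0, 0, 0, 2, 2, 0, 0, 0, 2, 0, 0, 0, 0, 2, 0, -2, 0, 0, 0, 2, 0, 0, 2]),
   (0, 0, [-2, 0, 2, 0, 0, 0, 2, 0, 0, 2, 0, 0, 0, -2, 2, 0, 0, 0, 2, 0, 0, 0, 0, 2]),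
   (0, 1, [-2, 0, 2, 2, 0, 0, 2, 0, 0, 0, 0, 0, -2, 0, 0, 0, 2, 0, 0, 0, 2, 0, 0, 2]),
   (1, 2, [-2, 0, 0, 0, 0, 2, 2, -2, 0, 0, 0, 0, 0, 2, 0, 0, 2, 2, 0, 0, 0, 0, 0, 2]),
   (0, 0, [-2, 2, 0, 2, 0, 0, 2, 0, 2, 0, -2, 0, 0, 2, 0, 0, 0, 0, 0, 0, 0, 0, 0, 2]),
   (3, 1, [-2, 2, 2, 0, 0, 0, 2, -2, 0, 0, 0, 0, 0, 0, 0, 0, 0, 0, 0, 2, 0, 2, 0, 2]),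
   (0, 2, [-2, 0, 0, 0, 0, 0, 2, 0, 0, -2, 2, 0, 0, 0, 0, 0, 2, 0, 0, 0, 0, 2, 2, 2]),
   (2, 2, [-2, 0, 0, 0, 2, 0, 0, 0, -2, 0, 0, 2, 0, 2, 2, 0, 0, 2, 0, 0, 0, 0, 0, 2]),
   (0, 0, [-2, 0, 2, 2, -2, 0, 0, 0, 2, 2, 0, 0, 0, 0, 0, 0, 0, 0, 0, 0, 0, 2, 0, 2]),
   (0, 1, [-2, -2, 0, 0, 0, 2, 2, 0, 0, 0, 0, 0, 0, 0, 0, 0, 0, 0, 2, 0, 2, 0, 2, 2]),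
   (2, 1, [-2, 2, 2, 0, 0, 0, 0, 0, 2, 0, 0, 2, 2, 0, 0, 0, 0, 0, -2, 0, 0, 0, 0, 2])]

/-- A piece of a tree. -/
def tree1_5 : List (Nat × Nat × List Int) :=
  [(4, 2, [-2, 0, 0, 0, 0, 0, 2, 0, 0, 0, 0, 2, -2, 2, 0, 0, 0, 0, 0, 2, 0, 0, 2, 2]),
   (0, 0, [-2, 2, 0, 0, 0, 0, 0, 0, 2, 0, 0, 0, 0, 0, 0, 0, 2, -2, 0, 0, 2, 2, 0, 2]),
   (0, 0, [-2, 0, 0, -2, 2, 2, 0, 0, 0, 0, 0, 0, 2, 2, 0, 0, 0, 0, 2, 0, 0, 0, 0, 2]),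
   (0, 0, [-2, 0, 2, 0, 0, 0, 2, 0, 2, 0, 0, 0, 0, 0, 0, -2, 0, 2, 0, 0, 0, 0, 2, 2]),
   (0, 0, [-2, 2, 0, 2, 2, 0, 0, 0, 0, 0, 0, -2, 0, 0, 0, 0, 0, 0, 0, 2, 2, 0, 0, 2]),
   (2, 2, [-2, 0, 0, 0, 0, 2, 0, 2, 0, 0, 0, 2, 0, 0, 2, 0, 0, 0, -2, 2, 0, 0, 0, 2]),
   (0, 2, [-2, 2, 0, 0, 0, -2, 0, 0, 0, 2, 0, 2, 0, 2, 0, 0, 0, 0, 0, 0, 0, 2, 0, 2]),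
   (3, 1, [-2, 0, 0, 0, 0, 0, 0, 2, -2, 0, 0, 0, 0, 2, 0, 0, 0, 0, 2, 0, 0, 2, 2, 2]),
   (0, 0, [-2, 0, 0, 0, -2, 0, 0, 0, 2, 0, 2, 0, 2, 0, 0, 0, 0, 0, 0, 0, 2, 0, 2, 2]),
   (0, 0, [-2, 0, -2, 0, 2, 0, 0, 2, 0, 0, 0, 0, 0, 0, 0, 0, 0, 2, 2, 0, 2, 0, 0, 2]),
   (1, 1, [-2, -2, 0, 0, 2, 0, 0, 0, 0, 0, 2, 0, 0, 0, 2, 0, 0, 0, 2, 0, 0, 2, 0, 2]),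
   (2, 1, [-2, 0, 0, 0, 0, 0, 0, 0, 0, 0, 0, 0, 2, 0, 2, 0, 2, 2, -2, 0, 0, 0, 2, 2]),
   (1, 2, [-2, 0, 2, 0, 0, 2, 0, 2, 0, 2, 0, 0, -2, 0, 0, 0, 0, 0, 0, 0, 0, 0, 2, 2]),
   (2, 2, [-2, 0, 0, 0, 2, 0, 0, 0, 2, 0, 2, 0, 2, 0, 0, 0, 0, 0, 0, 0, -2, 0, 2, 2]),
   (0, 0, [-2, 0, 2, 0, 2, 0, 0, 2, 0, 0, 0, 0, 0, 0, 0, 0, 0, 2, -2, 0, 2, 0, 0, 2]),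
   (0, 1, [-2, 2, 0, 0, 0, 0, 0, 0, 2, 0, 0, 0, 0, 0, 0, 0, -2, 2, 0, 0, 2, 2, 0, 2]),
   (1, 2, [-2, 0, 0, 0, 2, -2, 0, 0, 0, 2, 0, 0, 0, 0, 2, 0, 2, 0, 0, 0, 2, 0, 0, 2]),
   (2, 1, [-2, 2, 0, 0, 2, 0, 0, 0, 0, 0, 2, 0, 0, 0, 2, 0, 0, 0, 2, 0, 0, -2, 0, 2]),
   (3, 1, [-2, 0, 0, 2, 0, 0, 0, 0, 0, 2, -2, 2, 2, 0, 2, 0, 0, 0, 0, 0, 0, 0, 0, 2]),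
   (0, 0, [-2, 0, 0, 0, 0, 0, 0, -2, 0, 2, 0, 0, 0, 0, 2, 2, 0, 2, 0, 0, 0, 2, 0, 2]),
   (1, 1, [-2, 0, 2, 0, -2, 2, 2, 0, 0, 0, 2, 2, 0, 0, 0, 0, 0, 0, 0, 0, 0, 0, 0, 2]),
   (0, 2, [-2, 2, 0, 0, 0, 0, 2, 0, 0, 0, 0, 2, 0, 0, -2, 2, 2, 0, 0, 0, 0, 0, 0, 2]),
   (2, 2, [-2, 2, 0, 0, 0, 0, 0, 0, 0, 0, 0, 0, 0, 2, 0, -2, 0, 2, 2, 2, 0, 0, 0, 2]),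
   (0, 2, [-2, 0, 0, -2, 0, 2, 0, 2, 0, 0, 2, 0, 0, 0, 0, 0, 0, 0, 0, 0, 2, 2, 0, 2]),
   (3, 2, [-2, 2, 2, 0, 0, 0, 2, 2, 0, 0, 0, 0, 0, 0, 0, 0, 0, 0, 0, -2, 0, 2, 0, 2]),
   (0, 2, [-2, 0, 0, 0, 0, 0, 2, 0, 0, 2, 2, 0, 0, 0, 0, 0, 2, 0, 0, 0, 0, -2, 2, 2]),
   (4, 2, [-2, 0, 2, 0, 2, 0, 0, 2, 0, 0, 0, 0, 0, 0, 0, 0, 0, 2, 2, 0, -2, 0, 0, 2]),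
   (0, 1, [-2, 2, 0, 0, 0, 0, 0, 0, 2, 0, 0, 0, 0, 0, 0, 0, 2, 2, 0, 0, 2, -2, 0, 2]),
   (0, 0, [-2, 0, 0, 2, 2, 2, 0, 0, 0, 0, 0, 0, -2, 2, 0, 0, 0, 0, 2, 0, 0, 0, 0, 2]),
   (0, 0, [-2, 0, 2, 0, 0, 0, 2, 0, 2, 0, 0, 0, 0, 0, 0, 2, 0, -2, 0, 0, 0, 0, 2, 2])]

/-- A piece of a tree. -/
def tree1_6 : List (Nat × Nat × List Int) :=
  [(0, 0, [-2, 2, 0, -2, 2, 0, 0, 0, 0, 0, 0, 2, 0, 0, 0, 0, 0, 0, 0, 2, 2, 0, 0, 2]),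
   (0, 0, [-2, 0, 2, 0, 0, 2, 0, 0, 0, 0, 0, 0, 0, 0, 0, -2, 2, 0, 2, 0, 0, 2, 0, 2]),
   (2, 1, [-2, 0, 0, 2, 0, 0, 0, 0, -2, 0, 0, 0, 0, 0, 2, 2, 0, 0, 2, 0, 2, 0, 0, 2]),
   (2, 1, [-2, 2, 0, 0, 0, 2, 0, 0, 0, 0, -2, 0, 2, 0, 0, 0, 2, 0, 0, 2, 0, 0, 0, 2]),
   (0, 1, [-2, 0, 0, 0, -2, 0, 0, 2, 0, 2, 2, 0, 0, 2, 0, 0, 0, 0, 0, 2, 0, 0, 0, 2]),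
   (1, 2, [-2, 0, 0, 0, 0, 0, 0, 0, 2, 0, 2, 2, 0, 0, 0, -2, 0, 0, 0, 2, 0, 2, 0, 2]),
   (0, 2, [-2, 2, 0, -2, 0, 0, 0, 0, 0, 0, 0, 0, 2, 0, 0, 2, 0, 0, 0, 0, 0, 2, 2, 2]),
   (3, 2, [-2, 0, 0, 0, 0, 2, 0, 2, 0, 0, 0, 2, 0, 0, 2, 0, 0, 0, 2, -2, 0, 0, 0, 2]),
   (0, 1, [-2, 0, 2, 0, 0, 0, 0, 0, 0, -2, 0, 2, 0, 0, 0, 0, 2, 2, 0, 2, 0, 0, 0, 2]),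
   (3, 1, [-2, 0, 0, 0, 0, 0, 0, 2, 2, 0, 0, 0, 0, 2, 0, 0, 0, 0, 2, 0, 0, 2, -2, 2]),
   (0, 2, [-2, 0, -2, 0, 0, 2, 0, 2, 0, 2, 0, 0, 2, 0, 0, 0, 0, 0, 0, 0, 0, 0, 2, 2]),
   (0, 0, [-2, 0, 0, 0, 0, 0, 2, 0, 0, 0, 2, 0, 0, 0, 2, 0, 0, 2, 0, -2, 2, 0, 0, 2]),
   (1, 2, [-2, 0, 2, 0, 0, 0, 0, 0, 0, 2, 0, 2, 0, 0, 0, 0, -2, 2, 0, 2, 0, 0, 0, 2]),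
   (0, 0, [-2, 0, 0, 2, 0, 0, 0, 0, 0, 0, 0, 0, 0, -2, 2, 0, 2, 0, 0, 2, 0, 2, 0, 2]),
   (4, 2, [-2, 0, 0, 0, 2, 0, 0, 0, 2, 0, 2, 0, 2, 0, 0, 0, 0, 0, 0, 0, 2, 0, -2, 2]),
   (0, 1, [-2, 2, 0, 0, 2, 0, 0, 0, 0, 0, 2, 0, 0, 0, -2, 0, 0, 0, 2, 0, 0, 2, 0, 2]),
   (0, 0, [-2, 0, 2, 0, 0, 2, 0, 2, 0, -2, 0, 0, 2, 0, 0, 0, 0, 0, 0, 0, 0, 0, 2, 2]),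
   (0, 1, [-2, 0, 0, 0, 0, 0, -2, 0, 0, 0, 2, 0, 0, 0, 2, 0, 0, 2, 0, 2, 2, 0, 0, 2]),
   (2, 1, [-2, 2, -2, 0, 2, 0, 0, 0, 0, 0, 0, 0, 0, 2, 0, 0, 2, 0, 0, 0, 0, 0, 2, 2]),
   (1, 2, [-2, 0, 0, 0, 0, 2, 0, 0, 0, 0, 2, 0, 0, -2, 2, 2, 0, 0, 0, 0, 0, 0, 2, 2]),
   (2, 2, [-2, 0, -2, 0, 2, 0, 0, 0, 0, 0, 0, 0, 2, 0, 2, 2, 0, 0, 0, 2, 0, 0, 0, 2]),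
   (0, 1, [-2, 2, 2, 0, 0, 0, 0, 0, 0, 2, 2, 0, 0, 0, 0, 2, 0, 0, 0, 0, -2, 0, 0, 2]),
   (4, 2, [-2, 0, 0, 0, -2, 2, 0, 0, 0, 2, 0, 0, 0, 0, 2, 0, 2, 0, 0, 0, 2, 0, 0, 2]),
   (0, 0, [-2, 0, -2, 0, 0, 0, 2, 0, 0, 2, 0, 0, 0, 2, 2, 0, 0, 0, 2, 0, 0, 0, 0, 2]),
   (0, 0, [-2, 2, 0, 0, 0, 0, 0, 0, 2, 2, 0, 0, 0, 0, 2, 0, 0, 0, 0, -2, 0, 0, 2, 2]),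
   (0, 2, [-2, 0, 2, 0, 0, 0, 0, 0, 0, 0, 2, 0, 2, 2, 0, 0, 0, 2, 0, 0, 0, -2, 0, 2]),
   (2, 1, [-2, 0, 2, 2, 0, 0, 2, 0, 0, 0, 0, 0, 2, 0, 0, 0, 2, 0, 0, 0, -2, 0, 0, 2]),
   (1, 2, [-2, 0, 0, 0, 0, 2, 2, 2, 0, 0, 0, 0, 0, 2, 0, 0, -2, 2, 0, 0, 0, 0, 0, 2]),
   (0, 0, [-2, 2, 0, 2, 0, 0, 2, 0, 2, 0, 2, 0, 0, -2, 0, 0, 0, 0, 0, 0, 0, 0, 0, 2]),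
   (1, 1, [-2, 0, 0, 2, 0, 0, 0, -2, 2, 0, 0, 0, 2, 0, 0, 0, 0, 2, 0, 2, 0, 0, 0, 2])]

/-- A piece of a tree. -/
def tree1_7 : List (Nat × Nat × List Int) :=
  [(1, 2, [-2, 0, 0, 0, 0, 0, 2, 2, -2, 2, 0, 2, 0, 0, 0, 0, 0, 0, 0, 0, 2, 0, 0, 2]),
   (3, 1, [-2, -2, 2, 0, 0, 0, 2, 2, 0, 0, 0, 0, 0, 0, 0, 0, 0, 0, 0, 2, 0, 2, 0, 2]),
   (0, 0, [-2, 2, 0, 0, 0, -2, 0, 0, 0, 0, 2, 0, 2, 0, 0, 0, 2, 0, 0, 2, 0, 0, 0, 2]),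
   (1, 1, [-2, 0, 0, 2, 0, 0, 0, 0, 0, 2, 0, 0, 0, -2, 0, 0, 0, 2, 0, 0, 2, 0, 2, 2]),
   (0, 1, [-2, 0, 0, 0, 0, 2, 2, 0, 2, 0, 0, 0, -2, 0, 2, 0, 0, 0, 0, 0, 0, 2, 0, 2]),
   (2, 2, [-2, 0, 0, 0, 0, 0, 2, 0, 0, 2, -2, 0, 0, 0, 0, 0, 2, 0, 0, 0, 0, 2, 2, 2]),
   (0, 1, [-2, 0, 0, 2, -2, 0, 2, 2, 0, 0, 0, 0, 0, 0, 2, 0, 0, 0, 0, 0, 0, 0, 2, 2]),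
   (0, 1, [-2, -2, 2, 2, 0, 2, 0, 0, 0, 0, 0, 0, 0, 0, 2, 0, 0, 2, 0, 0, 0, 0, 0, 2]),
   (4, 2, [-2, 0, 0, 0, 2, 0, 0, 0, 2, 0, 0, 2, 0, 2, -2, 0, 0, 2, 0, 0, 0, 0, 0, 2]),
   (0, 0, [-2, 0, 2, 2, 2, 0, 0, 0, 2, -2, 0, 0, 0, 0, 0, 0, 0, 0, 0, 0, 0, 2, 0, 2]),
   (0, 0, [-2, 0, 2, 0, 2, 0, 0, 0, 0, 0, 0, 0, 2, 0, -2, 2, 0, 0, 0, 2, 0, 0, 0, 2]),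
   (1, 1, [-2, 2, 0, 0, 0, 2, -2, 0, 0, 0, 0, 0, 0, 0, 0, 0, 0, 0, 2, 0, 2, 0, 2, 2]),
   (1, 2, [-2, 0, 0, 0, 0, 0, 0, 0, 0, 0, 0, 0, 2, 0, 2, 0, 2, -2, 2, 0, 0, 0, 2, 2]),
   (0, 1, [-2, 0, 2, 0, 0, 0, 0, 2, -2, 0, 2, 0, 0, 0, 2, 0, 2, 0, 0, 0, 0, 0, 0, 2]),
   (3, 1, [-2, 2, -2, 0, 0, 0, 0, 0, 2, 0, 0, 2, 2, 0, 0, 0, 0, 0, 2, 0, 0, 0, 0, 2]),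
   (0, 0, [-2, 0, 0, 0, 2, 2, 0, 0, 0, 0, 0, 0, 0, 0, 0, 0, 0, 2, 0, -2, 0, 2, 2, 2]),
   (2, 2, [-2, 2, 0, 0, 0, 0, 0, 2, 0, 0, 0, 0, 2, -2, 2, 0, 0, 0, 0, 0, 2, 0, 0, 2]),
   (5, 1, [-2, 0, 2, 0, 0, 0, 0, 2, 2, 0, -2, 0, 0, 0, 2, 0, 2, 0, 0, 0, 0, 0, 0, 2]),
   (0, 0, [-2, 0, 0, 0, 2, 0, 0, -2, 0, 2, 2, 0, 0, 2, 0, 0, 0, 0, 0, 2, 0, 0, 0, 2]),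
   (0, 1, [-2, 2, 0, 0, 2, 0, 2, 0, 0, 2, 0, 0, 2, 0, 0, 0, 0, -2, 0, 0, 0, 0, 0, 2]),
   (0, 1, [-2, 2, 0, 2, 0, 0, 2, 0, -2, 0, 2, 0, 0, 2, 0, 0, 0, 0, 0, 0, 0, 0, 0, 2]),
   (0, 0, [-2, 2, 0, 0, -2, 2, 0, 2, 2, 0, 0, 0, 0, 0, 0, 2, 0, 0, 0, 0, 0, 0, 0, 2]),
   (0, 1, [-2, -2, 0, 0, 0, 0, 0, 0, 0, 0, 0, 0, 0, 2, 0, 2, 0, 2, 2, 2, 0, 0, 0, 2]),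
   (2, 2, [-2, 0, 0, 0, 0, 0, 2, 2, 0, 0, 2, 0, -2, 0, 0, 2, 0, 0, 2, 0, 0, 0, 0, 2]),
   (0, 0, [-2, 2, 0, 0, 0, 0, 0, 2, 0, 0, 2, 2, 0, 0, 0, 0, 0, -2, 0, 0, 0, 0, 2, 2]),
   (1, 1, [-2, 0, 0, 2, 2, 0, 0, 0, 0, 0, -2, 0, 0, 0, 0, 2, 2, 2, 0, 0, 0, 0, 0, 2]),
   (3, 2, [-2, 0, 0, 0, 0, 0, 2, 0, 0, 0, 2, 0, 0, 0, 2, 0, 0, 2, 0, 2, -2, 0, 0, 2]),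
   (0, 0, [-2, 2, 0, 2, 0, 0, 0, 2, 0, 2, 0, 0, 0, 0, 0, 0, 2, 0, -2, 0, 0, 0, 0, 2]),
   (0, 0, [-2, 0, 0, 0, 0, 2, 0, 0, 0, 0, 2, 0, 0, 2, 2, 2, 0, 0, 0, 0, 0, 0, -2, 2]),
   (2, 2, [-2, 0, 0, 0, -2, 0, 2, 0, 0, 0, 0, 0, 0, 2, 0, 2, 0, 0, 0, 0, 2, 2, 0, 2])]

/-- A piece of a tree. -/
def tree1_8 : List (Nat × Nat × List Int) :=
  [(0, 1, [-2, -2, 0, 2, 0, 0, 0, 0, 0, 0, 0, 0, 2, 0, 0, 2, 0, 0, 0, 0, 0, 2, 2, 2]),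
   (0, 0, [-2, 0, 0, 0, 0, -2, 0, 0, 0, 0, 0, 2, 2, 0, 0, 2, 0, 2, 0, 0, 2, 0, 0, 2]),
   (5, 2, [-2, 0, 0, 0, 0, 0, 0, 2, 0, -2, 0, 0, 0, 0, 2, 2, 0, 2, 0, 0, 0, 2, 0, 2]),
   (0, 0, [-2, 0, 0, 2, 0, 0, 0, 0, 0, 2, 2, 2, 2, 0, -2, 0, 0, 0, 0, 0, 0, 0, 0, 2]),
   (0, 1, [-2, 0, -2, 0, 2, 2, 2, 0, 0, 0, 2, 2, 0, 0, 0, 0, 0, 0, 0, 0, 0, 0, 0, 2]),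
   (1, 2, [-2, 2, 0, 0, 0, 0, 0, 0, 0, 0, 0, 0, 0, -2, 0, 2, 0, 2, 2, 2, 0, 0, 0, 2]),
   (0, 1, [-2, 0, 0, 0, 0, 0, 0, 0, 2, 2, 0, 0, -2, 2, 0, 2, 2, 0, 0, 0, 0, 0, 0, 2]),
   (1, 2, [-2, 0, 0, 2, 0, 2, 0, -2, 0, 0, 2, 0, 0, 0, 0, 0, 0, 0, 0, 0, 2, 2, 0, 2]),
   (3, 1, [-2, 0, 2, 0, 0, 0, -2, 0, 2, 0, 0, 0, 0, 0, 0, 2, 0, 2, 0, 0, 0, 0, 2, 2]),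
   (0, 0, [-2, -2, 0, 2, 2, 0, 0, 0, 0, 0, 0, 2, 0, 0, 0, 0, 0, 0, 0, 2, 2, 0, 0, 2]),
   (0, 1, [-2, 2, 0, 0, 0, 2, 0, 0, 0, 2, 0, 2, 0, -2, 0, 0, 0, 0, 0, 0, 0, 2, 0, 2]),
   (1, 2, [-2, 2, 0, 0, 2, 0, 0, 0, 0, 0, -2, 0, 0, 0, 2, 0, 0, 0, 2, 0, 0, 2, 0, 2]),
   (2, 2, [-2, 0, 2, 2, 0, 0, -2, 0, 0, 0, 0, 0, 2, 0, 0, 0, 2, 0, 0, 0, 2, 0, 0, 2]),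
   (4, 1, [-2, 0, 2, 0, -2, 0, 0, 2, 0, 0, 0, 0, 0, 0, 0, 0, 0, 2, 2, 0, 2, 0, 0, 2]),
   (0, 0, [-2, 0, -2, 2, 0, 0, 0, 0, 0, 0, 2, 0, 0, 0, 0, 0, 0, 0, 2, 2, 0, 0, 2, 2]),
   (0, 1, [-2, 0, 0, 0, 2, 2, 0, 0, 0, 2, 0, 0, 0, 0, 2, 0, 2, 0, 0, 0, -2, 0, 0, 2]),
   (0, 0, [-2, 0, 2, 0, 0, 0, 2, 0, 0, 2, 0, 0, 0, 2, 2, 0, 0, 0, -2, 0, 0, 0, 0, 2]),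
   (0, 1, [-2, 0, 2, 2, 0, 0, 2, 0, 0, 0, 0, 0, 2, 0, 0, 0, -2, 0, 0, 0, 2, 0, 0, 2]),
   (1, 2, [-2, 0, 0, 0, 0, -2, 2, 2, 0, 0, 0, 0, 0, 2, 0, 0, 2, 2, 0, 0, 0, 0, 0, 2]),
   (0, 0, [-2, 2, 0, 2, 0, 0, -2, 0, 2, 0, 2, 0, 0, 2, 0, 0, 0, 0, 0, 0, 0, 0, 0, 2]),
   (3, 1, [-2, 2, 2, 0, 0, 0, 2, 2, 0, 0, 0, 0, 0, 0, 0, 0, 0, 0, 0, 2, 0, -2, 0, 2]),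
   (0, 1, [-2, 0, 0, 2, 0, 0, 0, 0, 0, 2, 0, 0, 0, 2, 0, 0, 0, 2, 0, 0, 2, 0, -2, 2]),
   (2, 2, [-2, 0, 0, 0, -2, 0, 0, 0, 2, 0, 0, 2, 0, 2, 2, 0, 0, 2, 0, 0, 0, 0, 0, 2]),
   (0, 2, [-2, 2, 0, 0, 0, 0, 0, 2, 0, 0, 0, 0, 2, 2, -2, 0, 0, 0, 0, 0, 2, 0, 0, 2]),
   (3, 2, [-2, 0, 2, 0, 0, 2, 0, 0, 0, 0, 0, 0, 0, 0, 0, 2, -2, 0, 2, 0, 0, 2, 0, 2]),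
   (0, 0, [-2, 0, 0, 0, 0, 0, 2, 0, 0, 0, 0, 2, 2, -2, 0, 0, 0, 0, 0, 2, 0, 0, 2, 2]),
   (0, 0, [-2, 2, 0, 0, 0, 0, 0, 0, -2, 0, 0, 0, 0, 0, 0, 0, 2, 2, 0, 0, 2, 2, 0, 2]),
   (0, 0, [-2, 0, 0, 2, -2, 2, 0, 0, 0, 0, 0, 0, 2, 2, 0, 0, 0, 0, 2, 0, 0, 0, 0, 2]),
   (2, 1, [-2, 0, 0, 2, 0, 0, 0, 0, 0, 2, 2, 2, -2, 0, 2, 0, 0, 0, 0, 0, 0, 0, 0, 2]),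
   (0, 1, [-2, 0, 2, 0, 2, 2, 2, 0, 0, 0, -2, 2, 0, 0, 0, 0, 0, 0, 0, 0, 0, 0, 0, 2])]

/-- A piece of a tree. -/
def tree1_9 : List (Nat × Nat × List Int) :=
  [(3, 1, [-2, 0, 0, 0, 0, 0, 0, -2, 0, 0, 0, 0, 0, 0, 0, 2, 2, 0, 0, 2, 2, 0, 2, 2]),
   (0, 0, [-2, 0, 0, 0, 0, 0, 0, 0, 0, 0, -2, 2, 0, 2, 0, 0, 2, 0, 2, 0, 2, 0, 0, 2]),
   (0, 0, [-2, 0, 0, 0, 0, 0, 0, -2, 2, 0, 0, 0, 0, 2, 0, 0, 0, 0, 2, 0, 0, 2, 2, 2]),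
   (2, 1, [-2, 0, 0, 0, 0, 0, 0, 2, 0, 2, 0, 0, 0, 0, 2, 2, 0, -2, 0, 0, 0, 2, 0, 2]),
   (2, 2, [-2, 0, 0, 2, 0, 2, 0, 0, -2, 0, 0, 2, 0, 0, 0, 0, 2, 0, 0, 0, 0, 0, 2, 2]),
   (3, 1, [-2, -2, 0, 0, 0, 0, 0, 0, 2, 0, 0, 0, 0, 0, 0, 0, 2, 2, 0, 0, 2, 2, 0, 2]),
   (0, 0, [-2, 0, 0, 2, 2, -2, 0, 0, 0, 0, 0, 0, 2, 2, 0, 0, 0, 0, 2, 0, 0, 0, 0, 2]),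
   (0, 1, [-2, 2, 0, 0, 0, 2, 0, 0, 0, 0, 2, 0, 2, 0, 0, 0, 2, 0, 0, -2, 0, 0, 0, 2]),
   (0, 1, [-2, 0, 0, 0, 2, 0, 0, 2, 0, -2, 2, 0, 0, 2, 0, 0, 0, 0, 0, 2, 0, 0, 0, 2]),
   (0, 1, [-2, 2, 0, 0, 2, 0, -2, 0, 0, 2, 0, 0, 2, 0, 0, 0, 0, 2, 0, 0, 0, 0, 0, 2]),
   (2, 2, [-2, 0, 0, 0, 0, 0, 0, 0, 2, 0, 2, 2, 0, 0, 0, 2, 0, 0, 0, 2, 0, -2, 0, 2]),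
   (3, 1, [-2, 0, 0, 0, 0, 0, 0, 2, 2, 0, 0, 0, 0, -2, 0, 0, 0, 0, 2, 0, 0, 2, 2, 2]),
   (0, 0, [-2, 0, 0, 0, 2, 0, 0, 0, -2, 0, 2, 0, 2, 0, 0, 0, 0, 0, 0, 0, 2, 0, 2, 2]),
   (0, 1, [-2, 2, 0, 0, 2, 0, 0, 0, 0, 0, 2, 0, 0, 0, 2, 0, 0, 0, -2, 0, 0, 2, 0, 2]),
   (0, 0, [-2, 0, 2, 0, 0, 2, 0, 2, 0, 2, 0, 0, 2, 0, 0, 0, 0, 0, 0, 0, 0, 0, -2, 2]),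
   (1, 2, [-2, 0, 0, 0, 0, -2, 0, 0, 0, 0, 2, 0, 0, 2, 2, 2, 0, 0, 0, 0, 0, 0, 2, 2]),
   (3, 2, [-2, 0, 2, 0, 0, 2, 0, -2, 0, 2, 0, 0, 2, 0, 0, 0, 0, 0, 0, 0, 0, 0, 2, 2]),
   (0, 0, [-2, 0, 0, 0, 0, 0, 2, 0, 0, 0, -2, 0, 0, 0, 2, 0, 0, 2, 0, 2, 2, 0, 0, 2]),
   (1, 1, [-2, 0, 0, 0, 0, 0, 2, 0, 0, 0, 2, 0, 0, 0, 2, 0, 0, -2, 0, 2, 2, 0, 0, 2]),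
   (3, 2, [-2, 0, 0, 0, 2, 0, 0, 0, 2, 0, -2, 0, 2, 0, 0, 0, 0, 0, 0, 0, 2, 0, 2, 2]),
   (0, 0, [-2, 0, 2, 0, 2, 0, 0, -2, 0, 0, 0, 0, 0, 0, 0, 0, 0, 2, 2, 0, 2, 0, 0, 2]),
   (0, 0, [-2, 0, 2, 2, 0, 0, 0, 0, 0, 0, -2, 0, 0, 0, 0, 0, 0, 0, 2, 2, 0, 0, 2, 2]),
   (1, 2, [-2, 0, 0, 0, 2, 2, 0, 0, 0, -2, 0, 0, 0, 0, 2, 0, 2, 0, 0, 0, 2, 0, 0, 2]),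
   (2, 1, [-2, 2, 0, 0, -2, 0, 0, 0, 0, 0, 2, 0, 0, 0, 2, 0, 0, 0, 2, 0, 0, 2, 0, 2]),
   (1, 2, [-2, 0, 2, 0, 2, 0, 0, 0, 0, 0, 0, 0, 2, 0, 2, -2, 0, 0, 0, 2, 0, 0, 0, 2]),
   (0, 2, [-2, 0, 0, -2, 0, 0, 0, 0, 0, 0, 0, 0, 0, 2, 2, 0, 2, 0, 0, 2, 0, 2, 0, 2]),
   (4, 2, [-2, 0, 0, 0, 2, 2, 0, 0, 0, 2, 0, 0, 0, 0, -2, 0, 2, 0, 0, 0, 2, 0, 0, 2]),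
   (0, 0, [-2, 0, 2, 0, 0, 0, 2, 0, 0, -2, 0, 0, 0, 2, 2, 0, 0, 0, 2, 0, 0, 0, 0, 2]),
   (0, 0, [-2, 2, 0, 0, 0, 0, 0, 0, 2, 2, 0, 0, 0, 0, -2, 0, 0, 0, 0, 2, 0, 0, 2, 2]),
   (2, 1, [-2, 2, -2, 0, 0, 0, 2, 2, 0, 0, 0, 0, 0, 0, 0, 0, 0, 0, 0, 2, 0, 2, 0, 2])]

/-- A piece of a tree. -/
def tree1_10 : List (Nat × Nat × List Int) :=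
  [(0, 1, [-2, 0, 0, 2, 0, 0, 0, 0, 0, 2, 0, 0, 0, 2, 0, 0, 0, 2, 0, 0, -2, 0, 2, 2]),
   (0, 0, [-2, 0, 0, 2, 0, 0, 0, 0, 2, 0, 0, 0, 0, 0, 2, 2, 0, 0, -2, 0, 2, 0, 0, 2]),
   (2, 2, [-2, 0, 0, 0, 0, 0, 2, 0, 0, 2, 2, 0, 0, 0, 0, 0, -2, 0, 0, 0, 0, 2, 2, 2]),
   (2, 2, [-2, 0, 0, 0, 2, 0, 0, 0, 2, 0, 0, 2, 0, -2, 2, 0, 0, 2, 0, 0, 0, 0, 0, 2]),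
   (0, 0, [-2, 0, 2, 2, 2, 0, 0, 0, -2, 2, 0, 0, 0, 0, 0, 0, 0, 0, 0, 0, 0, 2, 0, 2]),
   (0, 1, [-2, 2, 0, 0, 0, 2, 2, 0, 0, 0, 0, 0, 0, 0, 0, 0, 0, 0, -2, 0, 2, 0, 2, 2]),
   (2, 1, [-2, 2, 2, 0, 0, 0, 0, 0, 2, 0, 0, 2, -2, 0, 0, 0, 0, 0, 2, 0, 0, 0, 0, 2]),
   (1, 2, [-2, 2, 0, 0, 0, 0, 0, -2, 0, 0, 0, 0, 2, 2, 2, 0, 0, 0, 0, 0, 2, 0, 0, 2]),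
   (0, 0, [-2, 0, 0, 0, 0, 2, 0, 0, 2, 2, -2, 0, 0, 0, 0, 0, 0, 2, 2, 0, 0, 0, 0, 2]),
   (1, 1, [-2, 0, 2, 0, 0, 0, 0, 0, 0, 0, 2, 0, 2, 2, 0, 0, 0, -2, 0, 0, 0, 2, 0, 2]),
   (5, 2, [-2, 0, 0, 0, 0, 0, 0, 0, 2, 2, 0, 0, 2, 2, 0, -2, 2, 0, 0, 0, 0, 0, 0, 2]),
   (0, 0, [-2, 0, 0, 0, 2, 0, 0, 0, 2, 0, 0, -2, 0, 2, 2, 0, 0, 2, 0, 0, 0, 0, 0, 2]),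
   (0, 0, [-2, 0, 2, 2, 2, 0, 0, 0, 2, 2, 0, 0, 0, 0, 0, 0, 0, 0, 0, 0, 0, -2, 0, 2]),
   (0, 0, [-2, 0, 2, 0, 2, 0, 0, 0, 0, 0, 0, 0, -2, 0, 2, 2, 0, 0, 0, 2, 0, 0, 0, 2]),
   (0, 0, [-2, 0, 2, 0, 0, 0, 0, 0, 0, 2, 0, 2, 0, 0, 0, 0, 2, -2, 0, 2, 0, 0, 0, 2]),
   (0, 2, [-2, 2, 0, 0, 0, 0, 0, 0, 2, 0, 0, 0, 0, 0, 0, 0, 2, 2, 0, 0, -2, 2, 0, 2]),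
   (2, 1, [-2, 2, 2, 0, 0, 0, 0, 0, 0, 2, -2, 0, 0, 0, 0, 2, 0, 0, 0, 0, 2, 0, 0, 2]),
   (1, 2, [-2, 0, 0, 2, 0, 0, 0, 0, 0, 0, 0, 0, 0, 2, 2, 0, 2, 0, 0, -2, 0, 2, 0, 2]),
   (2, 1, [-2, 2, 0, 0, 0, 2, 2, 0, 0, 0, 0, 0, 0, 0, 0, 0, 0, 0, 2, 0, 2, 0, -2, 2]),
   (0, 1, [-2, 0, 0, 2, 0, 0, 0, 0, 0, 0, 0, 0, 0, 2, -2, 0, 2, 0, 0, 2, 0, 2, 0, 2]),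
   (2, 2, [-2, 0, 0, 0, 0, 0, 0, 0, 0, 0, 0, 0, 2, 0, 2, 0, 2, 2, 2, 0, 0, 0, -2, 2]),
   (0, 1, [-2, 0, 2, 0, 0, 0, 0, 2, 2, 0, 2, 0, 0, 0, -2, 0, 2, 0, 0, 0, 0, 0, 0, 2]),
   (1, 2, [-2, 0, -2, 0, 0, 2, 0, 0, 2, 0, 0, 0, 0, 2, 0, 0, 0, 0, 0, 2, 2, 0, 0, 2]),
   (3, 1, [-2, 2, 2, 0, 0, 0, 0, 0, 2, 0, 0, -2, 2, 0, 0, 0, 0, 0, 2, 0, 0, 0, 0, 2]),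
   (0, 0, [-2, 0, 0, 0, 2, 2, 0, 0, 0, 0, 0, 0, 0, 0, 0, 0, 0, 2, 0, 2, 0, -2, 2, 2]),
   (0, 2, [-2, 0, 2, 0, 0, 0, 0, 0, 0, 0, 0, 2, 0, 0, 2, 0, 0, 0, 0, 0, 2, 2, -2, 2]),
   (2, 1, [-2, 0, 0, 0, 0, 0, 0, 0, 0, 0, 2, -2, 0, 2, 0, 0, 2, 0, 2, 0, 2, 0, 0, 2]),
   (0, 0, [-2, 0, 0, 0, 0, 0, 0, 2, 2, 0, 0, 0, 0, 2, 0, 0, 0, 0, 2, 0, 0, -2, 2, 2]),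
   (1, 2, [-2, -2, 0, 0, 2, 2, 0, 2, 2, 0, 0, 0, 0, 0, 0, 2, 0, 0, 0, 0, 0, 0, 0, 2]),
   (2, 2, [-2, -2, 0, 0, 0, 2, 0, 0, 0, 0, 2, 0, 2, 0, 0, 0, 2, 0, 0, 2, 0, 0, 0, 2])]

/-- A piece of a tree. -/
def tree1_11 : List (Nat × Nat × List Int) :=
  [(0, 1, [-2, 0, 0, 0, 2, 0, 0, 2, 0, 2, 2, 0, 0, -2, 0, 0, 0, 0, 0, 2, 0, 0, 0, 2]),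
   (1, 2, [-2, 0, 0, 0, 0, 0, 0, 0, 2, 0, -2, 2, 0, 0, 0, 2, 0, 0, 0, 2, 0, 2, 0, 2]),
   (3, 2, [-2, -2, 0, 0, 0, 0, 0, 2, 0, 0, 0, 0, 2, 2, 2, 0, 0, 0, 0, 0, 2, 0, 0, 2]),
   (0, 1, [-2, 0, 2, 0, 0, 0, 0, 0, 0, 0, 2, 0, 2, -2, 0, 0, 0, 2, 0, 0, 0, 2, 0, 2]),
   (0, 1, [-2, 0, 0, 0, 2, 0, 0, 0, 2, 0, 2, 0, -2, 0, 0, 0, 0, 0, 0, 0, 2, 0, 2, 2]),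
   (2, 2, [-2, 0, 0, 0, 2, 0, 0, 2, 0, 2, -2, 0, 0, 2, 0, 0, 0, 0, 0, 2, 0, 0, 0, 2]),
   (3, 1, [-2, 0, 0, 0, 0, 0, 2, 2, 0, 0, 2, 0, 2, 0, 0, -2, 0, 0, 2, 0, 0, 0, 0, 2]),
   (0, 0, [-2, 2, 0, 0, 0, 0, 0, 2, 0, 0, 2, -2, 0, 0, 0, 0, 0, 2, 0, 0, 0, 0, 2, 2]),
   (0, 0, [-2, 0, 0, 2, 0, 2, 0, 2, 0, 0, 2, 0, 0, 0, 0, 0, 0, 0, 0, 0, 2, -2, 0, 2]),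
   (0, 2, [-2, 0, 0, 0, 2, 0, 0, 0, 0, 2, 0, 2, 0, 0, 0, 2, 0, 0, 2, 0, 0, 0, -2, 2]),
   (2, 2, [-2, -2, 2, 0, 0, 0, 0, 0, 0, 2, 2, 0, 0, 0, 0, 2, 0, 0, 0, 0, 2, 0, 0, 2]),
   (2, 1, [-2, 0, 0, 2, 2, 0, 0, 0, 0, 0, 2, 0, 0, 0, 0, -2, 2, 2, 0, 0, 0, 0, 0, 2]),
   (0, 0, [-2, 0, 2, 2, 0, 0, 0, 2, 0, 0, 0, -2, 0, 2, 0, 2, 0, 0, 0, 0, 0, 0, 0, 2]),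
   (0, 2, [-2, -2, 0, 2, 0, 0, 0, 2, 0, 2, 0, 0, 0, 0, 0, 0, 2, 0, 2, 0, 0, 0, 0, 2]),
   (2, 1, [-2, 2, 0, 0, 2, 2, 0, 2, 2, 0, 0, 0, 0, 0, 0, -2, 0, 0, 0, 0, 0, 0, 0, 2]),
   (0, 0, [-2, 0, 2, 0, 2, 2, 2, 0, 0, 0, 2, -2, 0, 0, 0, 0, 0, 0, 0, 0, 0, 0, 0, 2]),
   (3, 2, [-2, 0, 0, -2, 0, 2, 2, 0, 0, 2, 0, 0, 0, 0, 0, 2, 0, 0, 0, 2, 0, 0, 0, 2]),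
   (0, 1, [-2, 0, 0, 2, 0, -2, 2, 0, 0, 2, 0, 0, 0, 0, 0, 2, 0, 0, 0, 2, 0, 0, 0, 2]),
   (0, 0, [-2, 2, 0, 0, 0, 0, -2, 0, 0, 0, 0, 2, 0, 0, 2, 2, 2, 0, 0, 0, 0, 0, 0, 2]),
   (0, 1, [-2, 0, 2, -2, 0, 0, 0, 2, 0, 0, 0, 2, 0, 2, 0, 2, 0, 0, 0, 0, 0, 0, 0, 2]),
   (2, 2, [-2, 0, 0, 2, 0, 0, 2, 0, 0, 0, 0, -2, 0, 0, 0, 0, 0, 2, 2, 0, 0, 2, 0, 2]),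
   (2, 2, [-2, 0, 0, 2, 0, 0, 2, 0, 0, 0, 0, 2, 0, 0, 0, 0, 0, 2, -2, 0, 0, 2, 0, 2]),
   (0, 1, [-2, 0, 0, 2, 0, 2, 0, 0, 2, 0, 0, 2, 0, 0, 0, 0, -2, 0, 0, 0, 0, 0, 2, 2]),
   (1, 2, [-2, 2, 0, 0, 0, -2, 2, 0, 0, 0, 0, 0, 0, 0, 0, 0, 0, 0, 2, 0, 2, 0, 2, 2]),
   (4, 2, [-2, 0, 0, -2, 0, 0, 0, 2, 2, 0, 0, 0, 2, 0, 0, 0, 0, 2, 0, 2, 0, 0, 0, 2]),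
   (0, 1, [-2, 0, 0, 0, 0, -2, 0, 0, 2, 2, 2, 0, 0, 0, 0, 0, 0, 2, 2, 0, 0, 0, 0, 2]),
   (0, 0, [-2, 0, 0, 2, 2, 0, -2, 2, 0, 0, 0, 0, 0, 0, 2, 0, 0, 0, 0, 0, 0, 0, 2, 2]),
   (0, 2, [-2, 0, 2, 0, 0, 0, -2, 0, 0, 2, 0, 0, 0, 2, 2, 0, 0, 0, 2, 0, 0, 0, 0, 2]),
   (2, 1, [-2, 0, 0, 0, 2, 0, 2, 0, 2, 0, 0, 0, 0, 0, 0, 0, 2, 0, 2, -2, 0, 0, 0, 2]),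
   (0, 0, [-2, 2, 2, 0, 2, 0, 0, 0, 0, 0, 0, 0, 0, 2, 0, 0, -2, 0, 0, 0, 0, 0, 2, 2])]

/-- A piece of a tree. -/
def tree1_12 : List (Nat × Nat × List Int) :=
  [(2, 2, [-2, 0, 0, 0, 0, 2, 0, 0, 0, 0, 0, -2, 2, 0, 0, 2, 0, 2, 0, 0, 2, 0, 0, 2]),
   (2, 2, [-2, 0, 0, 0, 0, 0, 0, 0, 0, 2, 0, 0, 2, 0, 0, 0, 0, 0, -2, 2, 2, 2, 0, 2]),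
   (0, 2, [-2, 0, 0, 0, 2, -2, 0, 0, 0, 0, 0, 0, 0, 0, 0, 0, 0, 2, 0, 2, 0, 2, 2, 2]),
   (5, 2, [-2, 0, 2, 0, 0, 2, 0, 0, 2, 0, 0, 0, 0, 2, 0, 0, 0, 0, 0, -2, 2, 0, 0, 2]),
   (0, 0, [-2, 0, 0, 0, 2, 0, 2, 0, 2, 0, 0, 0, 0, 0, 0, 0, -2, 0, 2, 2, 0, 0, 0, 2]),
   (0, 0, [-2, 2, 2, 0, 2, 0, 0, 0, 0, 0, 0, 0, 0, -2, 0, 0, 2, 0, 0, 0, 0, 0, 2, 2]),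
   (0, 0, [-2, 0, 2, 0, 0, 2, 0, 0, -2, 0, 0, 0, 0, 2, 0, 0, 0, 0, 0, 2, 2, 0, 0, 2]),
   (0, 0, [-2, 0, 0, 0, -2, 0, 2, 0, 2, 0, 0, 0, 0, 0, 0, 0, 2, 0, 2, 2, 0, 0, 0, 2]),
   (0, 2, [-2, 0, 0, 0, 0, 2, 2, 0, 2, 0, 0, 0, 2, 0, -2, 0, 0, 0, 0, 0, 0, 2, 0, 2]),
   (2, 2, [-2, 0, 0, 0, 2, 0, 0, 2, 0, 0, 0, 2, -2, 0, 0, 0, 2, 0, 0, 0, 0, 2, 0, 2]),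
   (0, 1, [-2, 2, 0, 0, 0, 0, 0, 2, 0, 0, -2, 2, 0, 0, 0, 0, 0, 2, 0, 0, 0, 0, 2, 2]),
   (3, 1, [-2, 2, 0, 0, 0, 0, 0, 2, 0, 0, 0, 0, -2, 2, 2, 0, 0, 0, 0, 0, 2, 0, 0, 2]),
   (0, 0, [-2, 0, 0, 0, 0, 2, 0, 0, 2, 2, 2, 0, 0, 0, 0, 0, 0, -2, 2, 0, 0, 0, 0, 2]),
   (0, 2, [-2, 0, 0, 0, 0, 2, 0, 0, 0, 0, 0, 2, 2, 0, 0, 2, 0, 2, 0, 0, -2, 0, 0, 2]),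
   (2, 1, [-2, 0, 2, 0, 0, 0, 0, 0, 0, 0, -2, 0, 2, 2, 0, 0, 0, 2, 0, 0, 0, 2, 0, 2]),
   (0, 2, [-2, 0, 0, 0, 0, 0, 0, 2, 0, 0, 0, 0, 0, 0, 0, -2, 2, 0, 0, 2, 2, 0, 2, 2]),
   (0, 2, [-2, 0, 2, -2, 2, 0, 0, 0, 2, 2, 0, 0, 0, 0, 0, 0, 0, 0, 0, 0, 0, 2, 0, 2]),
   (3, 2, [-2, 0, 0, 0, 2, 0, 0, 2, 0, 2, 2, 0, 0, 2, 0, 0, 0, 0, 0, -2, 0, 0, 0, 2]),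
   (0, 0, [-2, 0, 2, 0, 0, 0, 0, 2, 2, 0, 2, 0, 0, 0, 2, 0, -2, 0, 0, 0, 0, 0, 0, 2]),
   (0, 2, [-2, 0, 0, 0, 0, 0, 0, 0, -2, 2, 0, 0, 2, 2, 0, 2, 2, 0, 0, 0, 0, 0, 0, 2]),
   (2, 1, [-2, 2, 0, 0, 2, 0, 2, 0, 0, -2, 0, 0, 2, 0, 0, 0, 0, 2, 0, 0, 0, 0, 0, 2]),
   (1, 2, [-2, 0, 0, 0, 0, 0, 0, 2, 0, 2, 0, 0, 0, 0, 2, 2, 0, 2, 0, 0, 0, -2, 0, 2]),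
   (3, 2, [-2, 0, 2, 0, 0, 0, 0, -2, 2, 0, 2, 0, 0, 0, 2, 0, 2, 0, 0, 0, 0, 0, 0, 2]),
   (0, 1, [-2, 0, 2, 0, 2, 0, 0, 2, 0, 0, 0, 0, 0, 0, 0, 0, 0, -2, 2, 0, 2, 0, 0, 2]),
   (0, 0, [-2, 0, 2, -2, 0, 0, 0, 0, 0, 0, 2, 0, 0, 0, 0, 0, 0, 0, 2, 2, 0, 0, 2, 2]),
   (2, 2, [-2, 0, 0, 0, 0, 0, 0, 0, 2, -2, 0, 0, 2, 2, 0, 2, 2, 0, 0, 0, 0, 0, 0, 2]),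
   (0, 1, [-2, 0, 0, 0, 0, 0, -2, 2, 0, 0, 2, 0, 2, 0, 0, 2, 0, 0, 2, 0, 0, 0, 0, 2]),
   (4, 1, [-2, 2, 0, 2, 0, 0, 0, -2, 0, 2, 0, 0, 0, 0, 0, 0, 2, 0, 2, 0, 0, 0, 0, 2]),
   (0, 0, [-2, 0, 0, 0, 0, 2, 0, 0, 0, 0, -2, 0, 0, 2, 2, 2, 0, 0, 0, 0, 0, 0, 2, 2]),
   (0, 0, [-2, 0, 0, 0, 0, 0, 2, -2, 2, 2, 0, 2, 0, 0, 0, 0, 0, 0, 0, 0, 2, 0, 0, 2])]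

/-- A piece of a tree. -/
def tree1_13 : List (Nat × Nat × List Int) :=
  [(0, 1, [-2, 0, 0, 2, 0, 0, 2, 0, 0, 0, 0, 2, 0, 0, 0, 0, 0, -2, 2, 0, 0, 2, 0, 2]),
   (2, 1, [-2, 0, 2, 0, -2, 0, 0, 0, 0, 0, 0, 0, 2, 0, 2, 2, 0, 0, 0, 2, 0, 0, 0, 2]),
   (0, 0, [-2, 0, -2, 0, 0, 0, 0, 0, 0, 2, 0, 2, 0, 0, 0, 0, 2, 2, 0, 2, 0, 0, 0, 2]),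
   (3, 1, [-2, 0, 0, 0, 0, 2, 2, 2, 0, 0, 0, 0, 0, 2, 0, 0, 2, -2, 0, 0, 0, 0, 0, 2]),
   (0, 1, [-2, 0, 0, 2, 0, 0, 0, 2, -2, 0, 0, 0, 2, 0, 0, 0, 0, 2, 0, 2, 0, 0, 0, 2]),
   (0, 1, [-2, 0, 0, 0, 0, 2, 0, 0, 2, 2, 2, 0, 0, 0, 0, 0, 0, 2, -2, 0, 0, 0, 0, 2]),
   (2, 2, [-2, 0, 0, 0, 0, 0, 2, 2, 2, 2, 0, 2, 0, 0, 0, 0, 0, 0, 0, 0, -2, 0, 0, 2]),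
   (2, 2, [-2, 0, 0, 0, 0, 2, 0, 0, 2, -2, 2, 0, 0, 0, 0, 0, 0, 2, 2, 0, 0, 0, 0, 2]),
   (0, 0, [-2, 0, 0, 2, 2, 0, 2, 2, 0, 0, 0, 0, 0, 0, -2, 0, 0, 0, 0, 0, 0, 0, 2, 2]),
   (0, 0, [-2, 2, 2, 0, 0, 0, 0, 0, 0, -2, 2, 0, 0, 0, 0, 2, 0, 0, 0, 0, 2, 0, 0, 2]),
   (0, 0, [-2, 0, 0, 0, 0, 2, 0, 2, 0, 0, 0, 2, 0, 0, -2, 0, 0, 0, 2, 2, 0, 0, 0, 2]),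
   (1, 1, [-2, 0, 0, 0, 2, 0, -2, 0, 0, 0, 0, 0, 0, 2, 0, 2, 0, 0, 0, 0, 2, 2, 0, 2]),
   (3, 1, [-2, 0, 0, 0, 2, 0, -2, 0, 2, 0, 0, 0, 0, 0, 0, 0, 2, 0, 2, 2, 0, 0, 0, 2]),
   (1, 2, [-2, 0, 0, 0, 0, 2, 0, 0, 0, 0, 0, 2, 2, 0, 0, 2, 0, -2, 0, 0, 2, 0, 0, 2]),
   (4, 1, [-2, 0, 0, 0, 0, 0, 0, 0, 0, -2, 0, 0, 2, 0, 0, 0, 0, 0, 2, 2, 2, 2, 0, 2]),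
   (0, 0, [-2, 0, 0, 0, 0, 0, 0, 0, 0, 0, 0, 0, 2, 0, -2, 0, 2, 2, 2, 0, 0, 0, 2, 2]),
   (0, 0, [-2, 0, 0, 2, 0, 0, 0, 0, 0, -2, 0, 0, 0, 2, 0, 0, 0, 2, 0, 0, 2, 0, 2, 2]),
   (0, 1, [-2, 0, 0, 0, 0, 2, -2, 0, 2, 0, 0, 0, 2, 0, 2, 0, 0, 0, 0, 0, 0, 2, 0, 2]),
   (0, 0, [-2, -2, 0, 0, 2, 0, 2, 0, 0, 2, 0, 0, 2, 0, 0, 0, 0, 2, 0, 0, 0, 0, 0, 2]),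
   (3, 1, [-2, 0, -2, 0, 0, 0, 0, 2, 2, 0, 2, 0, 0, 0, 2, 0, 2, 0, 0, 0, 0, 0, 0, 2]),
   (0, 2, [-2, 0, 0, 0, 0, 0, 0, 0, 2, 2, 0, 0, 2, 2, 0, 2, -2, 0, 0, 0, 0, 0, 0, 2]),
   (0, 1, [-2, 0, 0, 0, 0, 0, 2, -2, 0, 0, 2, 0, 2, 0, 0, 2, 0, 0, 2, 0, 0, 0, 0, 2]),
   (3, 2, [-2, 0, 2, 0, 0, 2, 0, 0, 2, 0, 0, 0, 0, -2, 0, 0, 0, 0, 0, 2, 2, 0, 0, 2]),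
   (0, 0, [-2, 0, 0, 0, 2, 0, 2, 0, -2, 0, 0, 0, 0, 0, 0, 0, 2, 0, 2, 2, 0, 0, 0, 2]),
   (1, 1, [-2, 0, 0, 0, 0, 0, 0, 0, 0, 2, 0, 0, -2, 0, 0, 0, 0, 0, 2, 2, 2, 2, 0, 2]),
   (1, 2, [-2, 0, 0, 0, 2, 0, 0, -2, 0, 0, 0, 2, 2, 0, 0, 0, 2, 0, 0, 0, 0, 2, 0, 2]),
   (3, 1, [-2, 0, 0, 0, 0, 0, -2, 0, 0, 2, 2, 0, 0, 0, 0, 0, 2, 0, 0, 0, 0, 2, 2, 2]),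
   (0, 1, [-2, 0, 0, -2, 2, 0, 2, 2, 0, 0, 0, 0, 0, 0, 2, 0, 0, 0, 0, 0, 0, 0, 2, 2]),
   (0, 0, [-2, 2, 2, 0, 0, 0, 0, 0, 0, 2, 2, 0, 0, 0, 0, -2, 0, 0, 0, 0, 2, 0, 0, 2]),
   (0, 1, [-2, 0, 0, 0, 2, 0, 2, 0, 0, 0, 0, 0, 0, 2, 0, -2, 0, 0, 0, 0, 2, 2, 0, 2])]

/-- A piece of a tree. -/
def tree1_14 : List (Nat × Nat × List Int) :=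
  [(2, 1, [-2, 2, 2, 2, 0, -2, 0, 0, 0, 0, 0, 0, 0, 0, 2, 0, 0, 2, 0, 0, 0, 0, 0, 2]),
   (0, 0, [-2, 0, 0, 2, 0, 2, -2, 0, 0, 2, 0, 0, 0, 0, 0, 2, 0, 0, 0, 2, 0, 0, 0, 2]),
   (4, 2, [-2, 0, 0, 0, 2, 2, 0, 0, 0, 0, 0, 0, 0, 0, 0, 0, 0, -2, 0, 2, 0, 2, 2, 2]),
   (0, 0, [-2, 0, 2, -2, 0, 0, 2, 0, 0, 0, 0, 0, 2, 0, 0, 0, 2, 0, 0, 0, 2, 0, 0, 2]),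
   (0, 1, [-2, 0, 0, 2, 0, -2, 0, 2, 0, 0, 2, 0, 0, 0, 0, 0, 0, 0, 0, 0, 2, 2, 0, 2]),
   (0, 2, [-2, 0, 0, 0, 2, 0, 0, 0, 0, 2, 0, -2, 0, 0, 0, 2, 0, 0, 2, 0, 0, 0, 2, 2]),
   (2, 2, [-2, 0, 0, 0, 2, 0, 2, 0, 2, 0, 0, 0, 0, 0, 0, 0, 2, 0, -2, 2, 0, 0, 0, 2]),
   (0, 0, [-2, 2, 2, 0, 2, 0, 0, 0, 0, 0, 0, 0, 0, 2, 0, 0, 2, 0, 0, 0, 0, 0, -2, 2]),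
   (1, 1, [-2, 2, 0, 2, 0, 0, 0, 2, 0, 2, 0, 0, 0, 0, 0, 0, -2, 0, 2, 0, 0, 0, 0, 2]),
   (1, 2, [-2, 0, 0, 0, 0, -2, 2, 0, 2, 0, 0, 0, 2, 0, 2, 0, 0, 0, 0, 0, 0, 2, 0, 2]),
   (3, 1, [-2, 2, 0, 0, 0, 0, 0, 0, -2, 2, 0, 0, 0, 0, 2, 0, 0, 0, 0, 2, 0, 0, 2, 2]),
   (1, 2, [-2, 0, 2, 0, 0, 0, 0, 0, 0, 0, 0, 2, 0, 0, 2, 0, 0, 0, 0, 0, -2, 2, 2, 2]),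
   (0, 1, [-2, 0, 2, 0, 0, 0, 0, 0, 0, 0, 0, 2, 0, 0, 2, 0, 0, 0, 0, 0, 2, -2, 2, 2]),
   (1, 2, [-2, 2, 2, 0, -2, 0, 0, 0, 0, 0, 0, 0, 0, 2, 0, 0, 2, 0, 0, 0, 0, 0, 2, 2]),
   (4, 2, [-2, 0, 0, 0, 2, 0, 0, 2, 0, 0, 0, 2, 2, 0, 0, 0, 2, 0, 0, 0, 0, -2, 0, 2]),
   (0, 0, [-2, 0, 2, 0, 0, 0, 0, 0, 0, 0, 2, 0, -2, 2, 0, 0, 0, 2, 0, 0, 0, 2, 0, 2]),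
   (0, 0, [-2, 0, 0, 2, 0, 0, 0, 2, 2, 0, 0, 0, 2, 0, 0, 0, 0, -2, 0, 2, 0, 0, 0, 2]),
   (0, 0, [-2, 0, 0, -2, 2, 0, 0, 0, 0, 0, 2, 0, 0, 0, 0, 2, 2, 2, 0, 0, 0, 0, 0, 2]),
   (1, 1, [-2, 0, 0, 0, 0, 2, 0, 0, -2, 2, 2, 0, 0, 0, 0, 0, 0, 2, 2, 0, 0, 0, 0, 2]),
   (0, 2, [-2, 0, 0, 0, 0, 2, 0, 0, 0, 0, 0, 2, -2, 0, 0, 2, 0, 2, 0, 0, 2, 0, 0, 2]),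
   (2, 2, [-2, 0, 0, 0, 0, 0, 0, 0, 0, 2, 0, 0, 2, 0, 0, 0, 0, 0, 2, 2, -2, 2, 0, 2]),
   (0, 2, [-2, 0, 0, 0, -2, 2, 0, 0, 0, 0, 0, 0, 0, 0, 0, 0, 0, 2, 0, 2, 0, 2, 2, 2]),
   (4, 1, [-2, 2, 0, 0, 0, 0, 0, 2, 0, 0, 2, 2, 0, 0, 0, 0, 0, 2, 0, 0, 0, 0, -2, 2]),
   (0, 0, [-2, 0, 0, 2, 0, 2, 0, 2, 0, 0, 2, 0, 0, 0, 0, 0, 0, 0, 0, 0, -2, 2, 0, 2]),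
   (0, 0, [-2, 0, 0, 0, 0, 0, 2, 2, 0, 0, 2, 0, 2, 0, 0, 2, 0, 0, -2, 0, 0, 0, 0, 2]),
   (1, 2, [-2, 0, 0, 0, -2, 0, 0, 0, 0, 2, 0, 2, 0, 0, 0, 2, 0, 0, 2, 0, 0, 0, 2, 2]),
   (0, 0, [-2, 0, -2, 0, 0, 0, 0, 0, 0, 0, 0, 2, 0, 0, 2, 0, 0, 0, 0, 0, 2, 2, 2, 2]),
   (1, 1, [-2, -2, 0, 0, 0, 0, 2, 0, 0, 0, 0, 2, 0, 0, 2, 2, 2, 0, 0, 0, 0, 0, 0, 2]),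
   (1, 2, [-2, 2, 2, 2, 0, 2, 0, 0, 0, 0, 0, 0, 0, 0, -2, 0, 0, 2, 0, 0, 0, 0, 0, 2]),
   (3, 2, [-2, 2, -2, 0, 0, 0, 0, 0, 0, 2, 2, 0, 0, 0, 0, 2, 0, 0, 0, 0, 2, 0, 0, 2])]

/-- A piece of a tree. -/
def tree1_15 : List (Nat × Nat × List Int) :=
  [(0, 1, [-2, 0, 0, 0, 2, 0, 2, 0, 0, 0, 0, 0, 0, 2, 0, 2, 0, 0, 0, 0, -2, 2, 0, 2]),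
   (0, 1, [-2, 2, 0, 2, 0, 0, 0, 0, 0, 0, 0, 0, 2, 0, 0, 2, 0, 0, 0, 0, 0, -2, 2, 2]),
   (2, 2, [-2, 0, 0, 2, 2, 0, 0, 0, 0, 0, 2, 0, 0, 0, 0, 2, -2, 2, 0, 0, 0, 0, 0, 2]),
   (0, 0, [-2, 0, 2, 2, 0, 0, 0, 2, 0, 0, 0, 2, 0, -2, 0, 2, 0, 0, 0, 0, 0, 0, 0, 2]),
   (1, 1, [-2, 2, 0, 0, 2, 2, 0, -2, 2, 0, 0, 0, 0, 0, 0, 2, 0, 0, 0, 0, 0, 0, 0, 2]),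
   (4, 2, [-2, 2, 0, 0, 0, 0, 0, 0, 2, 2, 0, 0, 0, 0, 2, 0, 0, 0, 0, 2, 0, 0, -2, 2]),
   (0, 1, [-2, 0, 2, 0, 0, 0, 2, 0, 0, 2, 0, 0, 0, 2, -2, 0, 0, 0, 2, 0, 0, 0, 0, 2]),
   (0, 0, [-2, 2, 0, 0, 0, 0, 0, 0, 2, -2, 0, 0, 0, 0, 2, 0, 0, 0, 0, 2, 0, 0, 2, 2]),
   (2, 2, [-2, 0, -2, 0, 0, 0, 0, 0, 0, 0, 2, 0, 2, 2, 0, 0, 0, 2, 0, 0, 0, 2, 0, 2]),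
   (0, 0, [-2, 0, 0, 2, 0, 0, 0, 2, 2, 0, 0, 0, 2, 0, 0, 0, 0, 2, 0, -2, 0, 0, 0, 2]),
   (1, 2, [-2, 0, 0, 0, 0, 0, 0, 2, 0, 0, 0, 0, 0, 0, 0, 2, -2, 0, 0, 2, 2, 0, 2, 2])]

/-- A root. -/
def root1 : List Int := [-2, 0, 0, 0, 0, 0, 0, 0, 0, 0, 0, 0, -2, 0, 2, 0, 2, 2, 2, 0, 0, 0, 2, 2]

/-- A tree. -/
def tree1 : List (Nat × Nat × List Int) :=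
  tree1_0 ++ tree1_1 ++ tree1_2 ++ tree1_3 ++ tree1_4 ++ tree1_5 ++ tree1_6 ++ tree1_7 ++ tree1_8 ++ tree1_9 ++ tree1_10 ++ tree1_11 ++ tree1_12 ++ tree1_13 ++ tree1_14 ++ tree1_15

/-- A piece of a tree. -/
def tree2_0 : List (Nat × Nat × List Int) :=
  [(0, 0, [0, 0, 0, 0, 0, 2, 0, 0, 2, 2, 0, 2, 0, 2, 0, 0, 2, 2, 0, 0, 2, 0, 0, 0]),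
   (0, 0, [0, 0, 0, 2, 2, 0, 2, 0, 2, 0, 0, 0, 0, 2, 2, 0, 0, 0, 2, 0, 0, 2, 0, 0]),
   (0, 0, [0, 2, 2, 0, 2, 0, 0, 0, 2, 2, 0, 0, 2, 0, 0, 2, 0, 0, 0, 0, 0, 0, 2, 0]),
   (0, 1, [0, 2, 0, 0, 0, 0, 2, 0, 0, 0, 2, 0, 0, 2, 2, 2, 0, 0, 2, 0, 2, 0, 0, 0]),
   (0, 0, [0, 2, 0, 0, 0, 2, 0, 2, 2, 2, 0, 2, 0, 0, 0, 0, 0, 0, 2, 0, 0, 0, 2, 0]),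
   (0, 0, [0, 0, 0, 0, 2, 2, 2, 0, 0, 0, 2, 0, 0, 0, 2, 0, 0, 0, 0, 0, 2, 2, 2, 0]),
   (0, 0, [0, 2, 2, 0, 0, 0, 2, 2, 0, 2, 0, 0, 2, 0, 0, 0, 0, 0, 2, 0, 2, 0, 0, 0]),
   (2, 1, [0, 0, 0, 0, 0, 0, 2, 0, 0, 0, 0, 2, 0, 2, 2, 0, 2, 2, 2, 2, 0, 0, 0, 0]),
   (0, 2, [0, 2, 0, 0, 0, 2, 2, 2, 2, 0, 0, 0, 0, 2, 0, 0, 0, 0, 0, 0, 2, 2, 0, 0]),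
   (2, 2, [0, 2, 2, 0, 0, 2, 0, 0, 0, 2, 2, 2, 2, 0, 0, 0, 0, 2, 0, 0, 0, 0, 0, 0]),
   (2, 1, [0, 0, 2, 2, 2, 0, 0, 0, 0, 0, 0, 0, 2, 2, 0, 2, 2, 0, 0, 0, 0, 2, 0, 0]),
   (0, 0, [0, 0, 2, 0, 0, 0, 0, 0, 2, 0, 0, 2, 2, 2, 0, 2, 0, 2, 0, 2, 0, 0, 0, 0]),
   (2, 2, [0, 0, 0, 2, 2, 2, 2, 2, 0, 0, 2, 0, 0, 2, 0, 2, 0, 0, 0, 0, 0, 0, 0, 0]),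
   (0, 1, [0, 2, 0, 2, 2, 2, 0, 0, 0, 0, 0, 0, 2, 0, 0, 2, 0, 2, 0, 2, 0, 0, 0, 0]),
   (3, 2, [0, 0, 2, 2, 0, 0, 0, 0, 0, 0, 2, 0, 2, 0, 2, 0, 2, 2, 0, 2, 0, 0, 0, 0]),
   (0, 1, [0, 0, 2, 0, 2, 2, 0, 2, 2, 2, 2, 0, 0, 0, 0, 0, 0, 0, 0, 0, 2, 0, 0, 0]),
   (0, 0, [0, 0, 2, 0, 2, 0, 2, 2, 0, 0, 2, 0, 0, 0, 2, 0, 0, 0, 2, 2, 0, 0, 0, 0]),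
   (2, 2, [0, 0, 0, 0, 0, 0, 0, 0, 2, 0, 0, 0, 0, 2, 0, 2, 2, 0, 2, 2, 2, 2, 0, 0]),
   (3, 1, [0, 2, 2, 2, 0, 2, 0, 0, 0, 0, 0, 0, 2, 0, 0, 0, 2, 0, 2, 0, 0, 0, 2, 0]),
   (0, 0, [0, 0, 0, 0, 0, 2, 2, 0, 0, 0, 0, 0, 0, 2, 0, 2, 0, 2, 0, 2, 2, 0, 2, 0]),
   (0, 2, [0, 0, 2, 2, 2, 0, 2, 2, 0, 0, 0, 2, 0, 0, 0, 0, 0, 0, 0, 0, 2, 2, 0, 0]),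
   (0, 0, [0, 2, 2, 0, 0, 0, 0, 0, 0, 0, 2, 0, 2, 0, 0, 2, 0, 0, 2, 2, 0, 2, 0, 0]),
   (1, 1, [0, 2, 0, 2, 0, 2, 0, 0, 0, 0, 0, 2, 0, 0, 0, 0, 0, 2, 0, 0, 2, 2, 2, 0]),
   (3, 1, [0, 0, 0, 0, 0, 2, 0, 2, 0, 0, 2, 0, 0, 2, 2, 0, 2, 0, 0, 2, 2, 0, 0, 0]),
   (0, 0, [0, 0, 0, 0, 0, 0, 2, 2, 2, 2, 2, 0, 0, 2, 0, 0, 2, 0, 2, 0, 0, 0, 0, 0]),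
   (1, 1, [0, 0, 2, 0, 2, 0, 0, 2, 0, 2, 0, 0, 2, 0, 0, 0, 0, 2, 0, 2, 0, 2, 0, 0]),
   (0, 2, [0, 0, 0, 0, 0, 0, 0, 0, 0, 2, 0, 0, 0, 0, 2, 0, 2, 2, 0, 2, 2, 2, 2, 0]),
   (3, 2, [0, 0, 2, 0, 0, 2, 0, 0, 2, 0, 2, 2, 0, 0, 0, 0, 2, 0, 2, 2, 0, 0, 0, 0]),
   (0, 0, [0, 0, 0, 0, 2, 0, 2, 2, 0, 0, 0, 0, 0, 2, 0, 0, 2, 0, 0, 2, 0, 2, 2, 0]),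
   (0, 0, [0, 2, 2, 0, 0, 0, 0, 0, 2, 0, 2, 0, 2, 2, 0, 0, 2, 0, 0, 0, 2, 0, 0, 0])]

/-- A piece of a tree. -/
def tree2_1 : List (Nat × Nat × List Int) :=
  [(1, 2, [0, 0, 2, 0, 0, 0, 2, 2, 2, 2, 0, 0, 0, 0, 2, 0, 0, 0, 0, 0, 0, 2, 2, 0]),
   (2, 1, [0, 0, 0, 0, 2, 0, 0, 2, 0, 2, 0, 2, 0, 0, 0, 0, 2, 0, 2, 2, 2, 0, 0, 0]),
   (1, 2, [0, 2, 0, 0, 0, 2, 0, 0, 2, 0, 0, 2, 2, 0, 0, 2, 2, 0, 0, 0, 0, 2, 0, 0]),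
   (0, 1, [0, 0, 0, 0, 0, 0, 0, 2, 0, 0, 2, 2, 0, 2, 0, 2, 0, 0, 2, 2, 0, 0, 2, 0]),
   (1, 2, [0, 2, 0, 2, 0, 0, 0, 0, 2, 0, 2, 2, 2, 0, 0, 0, 0, 0, 0, 2, 0, 0, 2, 0]),
   (4, 2, [0, 0, 0, 0, 0, 2, 2, 2, 0, 0, 0, 0, 2, 2, 2, 0, 0, 0, 2, 0, 0, 0, 2, 0]),
   (0, 0, [0, 2, 0, 0, 0, 0, 2, 0, 2, 2, 2, 0, 0, 0, 0, 0, 0, 2, 0, 0, 2, 0, 2, 0]),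
   (0, 0, [0, 2, 0, 2, 2, 2, 0, 2, 0, 0, 0, 0, 0, 0, 2, 0, 0, 0, 2, 0, 2, 0, 0, 0]),
   (0, 1, [0, 2, 2, 0, 0, 2, 0, 0, 0, 0, 0, 0, 0, 2, 0, 0, 2, 2, 0, 2, 0, 2, 0, 0]),
   (3, 2, [0, 0, 2, 0, 0, 2, 2, 2, 0, 2, 0, 2, 0, 2, 0, 0, 0, 0, 0, 2, 0, 0, 0, 0]),
   (0, 2, [0, 2, 0, 0, 0, 0, 2, 2, 0, 2, 0, 2, 0, 0, 0, 0, 2, 2, 0, 0, 0, 2, 0, 0]),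
   (0, 0, [0, 2, 0, 2, 0, 2, 0, 0, 0, 0, 2, 0, 2, 2, 2, 0, 0, 0, 0, 0, 0, 2, 0, 0]),
   (0, 1, [0, 0, 2, 0, 2, 2, 0, 0, 0, 0, 2, 0, 2, 2, 0, 0, 0, 0, 0, 2, 0, 0, 2, 0]),
   (2, 1, [0, 0, 0, 2, 0, 0, 2, 2, 2, 0, 0, 2, 0, 2, 0, 0, 0, 2, 0, 0, 0, 0, 2, 0]),
   (5, 1, [0, 0, 0, 0, 0, 0, 2, 2, 2, 0, 0, 2, 2, 0, 0, 0, 0, 0, 2, 2, 0, 2, 0, 0]),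
   (0, 0, [0, 2, 0, 0, 2, 0, 0, 0, 0, 0, 2, 0, 2, 0, 0, 0, 2, 2, 0, 0, 0, 2, 2, 0]),
   (0, 0, [0, 0, 2, 2, 0, 2, 0, 2, 0, 0, 0, 0, 2, 2, 0, 0, 0, 2, 0, 0, 2, 0, 0, 0]),
   (0, 1, [0, 0, 0, 0, 0, 2, 0, 0, 2, 0, 2, 0, 2, 0, 0, 0, 0, 2, 0, 2, 2, 2, 0, 0]),
   (0, 1, [0, 0, 0, 0, 2, 0, 0, 0, 2, 2, 2, 0, 0, 0, 0, 0, 0, 0, 2, 2, 0, 2, 2, 0]),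
   (1, 2, [0, 0, 0, 0, 2, 0, 0, 0, 0, 0, 0, 2, 2, 0, 0, 2, 0, 0, 0, 2, 2, 2, 2, 0]),
   (3, 1, [0, 2, 0, 0, 2, 0, 0, 2, 2, 0, 2, 0, 0, 2, 2, 0, 0, 0, 0, 0, 0, 0, 2, 0]),
   (0, 1, [0, 2, 2, 0, 2, 0, 0, 0, 0, 0, 0, 0, 2, 2, 2, 0, 0, 2, 2, 0, 0, 0, 0, 0]),
   (2, 2, [0, 0, 2, 0, 0, 0, 0, 0, 2, 0, 2, 0, 0, 0, 2, 2, 0, 0, 0, 2, 2, 0, 2, 0]),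
   (0, 1, [0, 0, 2, 0, 2, 0, 0, 0, 0, 2, 0, 0, 0, 0, 2, 2, 0, 0, 2, 0, 2, 2, 0, 0]),
   (0, 2, [0, 0, 0, 2, 2, 2, 0, 0, 0, 0, 0, 0, 0, 2, 2, 0, 2, 2, 0, 0, 0, 0, 2, 0]),
   (0, 2, [0, 0, 2, 0, 0, 0, 0, 2, 2, 0, 0, 2, 0, 2, 2, 0, 0, 0, 2, 0, 2, 0, 0, 0]),
   (5, 1, [0, 0, 0, 2, 0, 0, 0, 0, 0, 2, 2, 2, 0, 0, 0, 0, 2, 2, 2, 0, 0, 0, 2, 0]),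
   (0, 0, [0, 0, 0, 2, 0, 0, 0, 2, 0, 0, 0, 0, 0, 2, 2, 2, 0, 0, 0, 0, 2, 2, 2, 0]),
   (0, 0, [0, 0, 0, 0, 0, 0, 0, 0, 2, 2, 2, 2, 2, 0, 0, 2, 0, 0, 2, 0, 2, 0, 0, 0]),
   (0, 0, [0, 0, 0, 0, 2, 0, 0, 2, 0, 0, 0, 2, 0, 0, 2, 0, 0, 2, 2, 0, 0, 2, 2, 0])]

/-- A piece of a tree. -/
def tree2_2 : List (Nat × Nat × List Int) :=
  [(0, 0, [0, 0, 2, 2, 0, 0, 0, 0, 0, 2, 2, 0, 2, 0, 0, 0, 0, 0, 0, 0, 2, 2, 2, 0]),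
   (2, 1, [0, 0, 0, 0, 2, 0, 2, 0, 0, 0, 2, 2, 0, 0, 0, 2, 2, 0, 2, 0, 0, 2, 0, 0]),
   (2, 1, [0, 0, 2, 0, 0, 2, 0, 0, 0, 0, 0, 0, 2, 0, 2, 2, 0, 2, 0, 0, 0, 2, 2, 0]),
   (0, 2, [0, 0, 2, 2, 0, 0, 0, 0, 0, 0, 0, 2, 0, 2, 0, 0, 2, 0, 0, 2, 2, 0, 2, 0]),
   (0, 1, [0, 0, 0, 0, 0, 2, 0, 2, 0, 2, 0, 2, 2, 0, 2, 0, 0, 0, 0, 0, 2, 2, 0, 0]),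
   (4, 1, [0, 0, 0, 0, 2, 2, 2, 2, 2, 0, 0, 2, 0, 0, 2, 0, 2, 0, 0, 0, 0, 0, 0, 0]),
   (0, 2, [0, 2, 0, 0, 0, 0, 2, 0, 2, 2, 0, 2, 2, 2, 2, 0, 0, 0, 0, 0, 0, 0, 0, 0]),
   (0, 1, [0, 0, 2, 2, 0, 0, 2, 0, 0, 0, 2, 2, 2, 2, 0, 0, 0, 0, 2, 0, 0, 0, 0, 0]),
   (0, 0, [0, 2, 0, 0, 0, 0, 0, 2, 2, 0, 0, 0, 0, 0, 0, 2, 0, 2, 0, 2, 0, 2, 2, 0]),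
   (4, 2, [0, 2, 2, 0, 0, 2, 0, 0, 2, 0, 0, 0, 0, 0, 0, 2, 0, 2, 2, 0, 2, 0, 0, 0]),
   (0, 0, [0, 0, 0, 2, 2, 2, 2, 0, 0, 0, 0, 2, 0, 0, 0, 0, 0, 0, 2, 2, 0, 0, 2, 0]),
   (0, 2, [0, 2, 2, 0, 0, 2, 2, 0, 0, 0, 0, 2, 0, 0, 2, 0, 0, 0, 2, 0, 0, 2, 0, 0]),
   (0, 2, [0, 2, 0, 0, 0, 2, 2, 0, 0, 0, 2, 2, 0, 2, 0, 0, 2, 0, 0, 0, 0, 0, 2, 0]),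
   (0, 1, [0, 0, 0, 2, 2, 0, 0, 2, 0, 0, 0, 2, 2, 2, 2, 0, 0, 0, 0, 2, 0, 0, 0, 0]),
   (4, 2, [0, 0, 0, 2, 2, 2, 0, 0, 0, 0, 2, 2, 2, 0, 0, 0, 2, 0, 0, 0, 2, 0, 0, 0]),
   (0, 1, [0, 2, 0, 0, 2, 2, 0, 2, 0, 0, 2, 2, 0, 0, 0, 0, 0, 0, 0, 2, 0, 2, 0, 0]),
   (4, 2, [0, 2, 0, 0, 0, 2, 2, 0, 0, 2, 0, 0, 2, 0, 0, 0, 0, 0, 0, 2, 0, 2, 2, 0]),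
   (0, 0, [0, 2, 0, 0, 0, 2, 2, 0, 0, 0, 0, 0, 2, 0, 2, 0, 2, 2, 0, 0, 2, 0, 0, 0]),
   (0, 0, [0, 2, 0, 2, 0, 2, 2, 0, 0, 2, 0, 0, 0, 2, 0, 0, 0, 2, 2, 0, 0, 0, 0, 0]),
   (0, 0, [0, 2, 0, 2, 0, 2, 2, 0, 2, 0, 0, 0, 0, 0, 2, 2, 0, 0, 0, 0, 0, 0, 2, 0]),
   (1, 1, [0, 0, 0, 2, 0, 2, 2, 0, 2, 0, 0, 0, 2, 2, 0, 0, 2, 0, 0, 2, 0, 0, 0, 0]),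
   (2, 2, [0, 0, 0, 0, 2, 0, 2, 0, 2, 0, 2, 2, 0, 2, 0, 0, 0, 0, 0, 2, 2, 0, 0, 0]),
   (0, 0, [0, 2, 2, 0, 2, 0, 0, 2, 2, 0, 0, 0, 0, 0, 0, 0, 2, 0, 2, 0, 0, 2, 0, 0]),
   (1, 1, [0, 2, 0, 2, 2, 0, 0, 0, 0, 2, 0, 2, 2, 0, 0, 0, 0, 0, 2, 0, 0, 2, 0, 0]),
   (1, 2, [0, 2, 0, 0, 2, 0, 2, 2, 0, 0, 0, 0, 2, 0, 2, 2, 0, 0, 0, 0, 0, 2, 0, 0]),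
   (3, 1, [0, 0, 0, 2, 0, 0, 2, 0, 0, 2, 2, 0, 0, 2, 2, 0, 0, 0, 0, 2, 0, 0, 2, 0]),
   (0, 1, [0, 0, 2, 2, 2, 2, 2, 0, 0, 2, 0, 0, 2, 0, 2, 0, 0, 0, 0, 0, 0, 0, 0, 0]),
   (0, 0, [0, 2, 2, 0, 0, 0, 2, 0, 0, 2, 0, 0, 0, 0, 2, 2, 0, 2, 0, 2, 0, 0, 0, 0]),
   (0, 2, [0, 0, 0, 2, 0, 0, 2, 0, 0, 0, 2, 0, 0, 2, 0, 0, 2, 2, 0, 0, 2, 2, 0, 0]),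
   (3, 2, [0, 0, 2, 0, 0, 0, 2, 2, 0, 0, 0, 0, 0, 2, 0, 2, 0, 2, 2, 0, 0, 2, 0, 0])]

/-- A piece of a tree. -/
def tree2_3 : List (Nat × Nat × List Int) :=
  [(2, 2, [0, 0, 2, 0, 0, 0, 2, 0, 0, 0, 2, 2, 0, 0, 0, 0, 0, 2, 0, 2, 0, 2, 2, 0]),
   (0, 0, [0, 2, 0, 2, 0, 0, 0, 2, 0, 0, 0, 0, 2, 0, 0, 0, 2, 0, 0, 2, 2, 2, 0, 0]),
   (0, 1, [0, 0, 0, 0, 0, 2, 0, 2, 0, 2, 2, 0, 0, 2, 0, 0, 0, 2, 0, 0, 0, 2, 2, 0]),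
   (2, 1, [0, 0, 0, 2, 2, 0, 0, 0, 2, 2, 0, 2, 0, 0, 2, 0, 0, 0, 0, 0, 2, 0, 2, 0]),
   (1, 2, [0, 2, 2, 0, 0, 0, 2, 0, 0, 0, 0, 0, 0, 0, 0, 2, 2, 0, 0, 0, 2, 2, 2, 0]),
   (0, 2, [0, 0, 2, 2, 2, 0, 2, 0, 2, 0, 2, 0, 0, 0, 0, 0, 2, 0, 0, 0, 0, 0, 2, 0]),
   (5, 2, [0, 2, 0, 0, 2, 0, 0, 2, 2, 0, 0, 2, 2, 0, 0, 0, 0, 2, 0, 0, 2, 0, 0, 0]),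
   (0, 0, [0, 0, 2, 2, 2, 2, 0, 0, 0, 0, 2, 0, 0, 0, 0, 0, 0, 2, 2, 0, 0, 2, 0, 0]),
   (0, 0, [0, 0, 2, 2, 0, 0, 2, 2, 0, 0, 0, 0, 2, 0, 0, 2, 0, 0, 0, 2, 0, 0, 2, 0]),
   (0, 0, [0, 2, 0, 0, 0, 0, 0, 0, 0, 0, 2, 2, 0, 0, 0, 2, 2, 2, 0, 2, 2, 0, 0, 0]),
   (2, 1, [0, 2, 0, 0, 2, 2, 0, 0, 2, 0, 0, 0, 0, 0, 0, 0, 2, 0, 0, 2, 2, 0, 2, 0]),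
   (0, 1, [0, 2, 0, 0, 0, 0, 0, 2, 0, 2, 0, 0, 0, 2, 2, 0, 0, 0, 2, 2, 0, 2, 0, 0]),
   (0, 1, [0, 0, 2, 0, 0, 0, 2, 0, 0, 2, 0, 0, 2, 2, 0, 0, 2, 2, 0, 0, 0, 0, 2, 0]),
   (3, 2, [0, 0, 0, 0, 0, 2, 0, 0, 0, 0, 0, 2, 0, 0, 2, 2, 2, 0, 2, 0, 2, 0, 2, 0]),
   (0, 0, [0, 0, 0, 0, 0, 0, 2, 0, 0, 2, 0, 2, 0, 2, 0, 0, 0, 0, 2, 0, 2, 2, 2, 0]),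
   (0, 0, [0, 2, 0, 0, 0, 0, 0, 0, 2, 0, 0, 0, 2, 0, 2, 0, 0, 0, 2, 0, 2, 2, 2, 0]),
   (1, 1, [0, 0, 0, 2, 0, 0, 2, 0, 0, 0, 0, 2, 2, 0, 2, 0, 2, 0, 0, 0, 0, 2, 2, 0]),
   (2, 1, [0, 0, 2, 0, 0, 0, 0, 2, 0, 0, 0, 2, 0, 0, 2, 2, 2, 0, 0, 2, 0, 2, 0, 0]),
   (0, 0, [0, 0, 0, 0, 0, 0, 0, 0, 0, 2, 2, 2, 2, 2, 0, 0, 2, 0, 0, 2, 0, 2, 0, 0]),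
   (0, 0, [0, 0, 0, 0, 0, 0, 0, 2, 2, 0, 0, 0, 2, 2, 2, 0, 2, 2, 0, 0, 0, 2, 0, 0]),
   (2, 2, [0, 2, 0, 2, 0, 0, 0, 0, 2, 2, 0, 0, 0, 2, 0, 0, 2, 0, 0, 0, 0, 2, 2, 0]),
   (0, 0, [0, 0, 0, 0, 2, 2, 0, 0, 2, 0, 0, 0, 2, 2, 2, 2, 0, 0, 0, 0, 2, 0, 0, 0]),
   (1, 2, [0, 0, 2, 0, 0, 0, 0, 2, 2, 0, 2, 0, 2, 0, 0, 0, 0, 2, 2, 0, 0, 0, 2, 0]),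
   (3, 2, [0, 2, 2, 2, 2, 2, 0, 0, 2, 0, 0, 2, 0, 2, 0, 0, 0, 0, 0, 0, 0, 0, 0, 0]),
   (3, 1, [0, 2, 0, 0, 0, 0, 0, 0, 2, 0, 2, 2, 0, 2, 0, 0, 0, 2, 2, 0, 0, 2, 0, 0]),
   (0, 0, [0, 0, 0, 2, 2, 2, 0, 2, 2, 0, 0, 0, 2, 0, 0, 0, 0, 0, 0, 0, 0, 2, 2, 0]),
   (0, 1, [0, 2, 0, 0, 0, 2, 0, 0, 0, 0, 2, 0, 0, 0, 2, 0, 0, 2, 2, 2, 0, 0, 2, 0]),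
   (0, 1, [0, 0, 2, 0, 2, 0, 0, 0, 2, 2, 0, 0, 0, 2, 2, 0, 2, 0, 0, 2, 0, 0, 0, 0]),
   (1, 2, [0, 0, 2, 0, 0, 2, 0, 0, 0, 0, 2, 2, 0, 2, 0, 2, 0, 0, 0, 0, 2, 2, 0, 0]),
   (2, 2, [0, 0, 2, 0, 0, 0, 0, 0, 0, 2, 0, 2, 2, 0, 2, 0, 0, 0, 2, 2, 0, 0, 2, 0])]

/-- A piece of a tree. -/
def tree2_4 : List (Nat × Nat × List Int) :=
  [(2, 1, [0, 0, 0, 0, 2, 0, 0, 0, 2, 0, 0, 2, 2, 2, 0, 0, 2, 0, 2, 0, 0, 0, 2, 0]),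
   (0, 0, [0, 0, 2, 0, 2, 0, 0, 0, 2, 0, 0, 0, 0, 2, 0, 0, 0, 2, 0, 0, 2, 2, 2, 0]),
   (0, 0, [0, 0, 2, 2, 2, 0, 0, 0, 2, 0, 0, 0, 2, 0, 0, 0, 0, 0, 2, 2, 2, 0, 0, 0]),
   (1, 2, [0, 0, 2, 0, 2, 0, 0, 2, 0, 0, 0, 0, 2, 0, 2, 0, 2, 0, 0, 0, 2, 0, 2, 0]),
   (0, 1, [0, 2, 2, 0, 0, 0, 0, 2, 0, 0, 2, 0, 0, 0, 2, 0, 0, 2, 0, 0, 2, 2, 0, 0]),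
   (3, 1, [0, 2, 0, 0, 0, 0, 0, 2, 0, 0, 2, 2, 2, 0, 2, 0, 2, 0, 2, 0, 0, 0, 0, 0]),
   (0, 2, [0, 2, 0, 0, 0, 2, 0, 0, 2, 2, 2, 0, 0, 2, 0, 2, 0, 0, 0, 2, 0, 0, 0, 0]),
   (2, 2, [0, 2, 2, 0, 0, 2, 0, 2, 2, 0, 0, 0, 2, 0, 2, 0, 0, 0, 0, 2, 0, 0, 0, 0]),
   (0, 0, [0, 0, 0, 0, 2, 2, 2, 0, 0, 2, 2, 0, 0, 0, 0, 0, 2, 2, 0, 2, 0, 0, 0, 0]),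
   (1, 1, [0, 0, 2, 0, 0, 0, 0, 0, 0, 2, 2, 0, 0, 2, 0, 0, 0, 2, 2, 2, 2, 0, 0, 0]),
   (3, 2, [0, 2, 0, 0, 0, 2, 0, 2, 0, 0, 2, 0, 2, 0, 0, 2, 0, 0, 0, 0, 2, 0, 2, 0]),
   (0, 0, [0, 0, 0, 0, 0, 2, 2, 2, 0, 0, 2, 2, 0, 0, 0, 0, 0, 2, 2, 0, 2, 0, 0, 0]),
   (0, 0, [0, 2, 0, 2, 0, 0, 2, 2, 0, 0, 2, 0, 0, 0, 0, 0, 0, 0, 2, 0, 0, 2, 2, 0]),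
   (1, 1, [0, 0, 0, 2, 2, 0, 0, 0, 2, 0, 0, 2, 0, 0, 0, 0, 2, 2, 0, 2, 0, 2, 0, 0]),
   (1, 2, [0, 2, 0, 0, 2, 2, 2, 0, 0, 2, 0, 2, 0, 0, 0, 2, 0, 0, 0, 0, 2, 0, 0, 0]),
   (2, 2, [0, 0, 2, 2, 2, 0, 0, 0, 0, 2, 2, 2, 0, 0, 0, 2, 0, 0, 0, 2, 0, 0, 0, 0]),
   (3, 2, [0, 2, 0, 0, 2, 0, 0, 0, 0, 2, 2, 0, 2, 0, 2, 0, 0, 0, 0, 2, 2, 0, 0, 0]),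
   (0, 0, [0, 0, 2, 0, 0, 2, 0, 2, 0, 2, 0, 0, 0, 0, 2, 0, 2, 2, 2, 0, 0, 0, 0, 0]),
   (0, 1, [0, 0, 2, 0, 0, 0, 2, 2, 2, 0, 0, 0, 0, 0, 0, 0, 2, 2, 0, 2, 2, 0, 0, 0]),
   (0, 0, [0, 2, 0, 2, 2, 0, 0, 0, 0, 0, 2, 0, 0, 2, 0, 0, 2, 0, 2, 2, 0, 0, 0, 0]),
   (1, 2, [0, 0, 0, 0, 2, 0, 2, 0, 2, 2, 0, 0, 2, 0, 0, 0, 2, 0, 0, 0, 2, 2, 0, 0]),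
   (3, 1, [0, 2, 2, 0, 2, 0, 2, 0, 0, 2, 2, 0, 0, 2, 0, 0, 0, 0, 0, 0, 0, 2, 0, 0]),
   (0, 1, [0, 2, 0, 2, 2, 0, 2, 0, 0, 0, 0, 0, 2, 2, 0, 0, 0, 0, 0, 0, 2, 0, 2, 0]),
   (2, 2, [0, 0, 0, 0, 2, 0, 0, 0, 0, 0, 2, 0, 0, 2, 2, 2, 0, 2, 0, 2, 0, 2, 0, 0]),
   (0, 0, [0, 0, 2, 2, 0, 0, 0, 2, 2, 2, 0, 2, 2, 0, 0, 0, 2, 0, 0, 0, 0, 0, 0, 0]),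
   (0, 2, [0, 2, 0, 0, 0, 0, 0, 0, 2, 2, 0, 0, 2, 0, 0, 0, 2, 2, 2, 2, 0, 0, 0, 0]),
   (6, 1, [0, 0, 2, 0, 0, 0, 0, 2, 0, 2, 2, 0, 2, 2, 2, 2, 0, 0, 0, 0, 0, 0, 0, 0]),
   (0, 0, [0, 0, 0, 0, 0, 0, 0, 2, 2, 2, 2, 2, 0, 0, 2, 0, 0, 2, 0, 2, 0, 0, 0, 0]),
   (0, 0, [0, 0, 0, 2, 2, 0, 0, 2, 0, 2, 2, 0, 0, 0, 2, 0, 2, 0, 0, 0, 0, 2, 0, 0]),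
   (0, 1, [0, 2, 2, 0, 2, 2, 2, 2, 0, 0, 0, 0, 0, 0, 0, 0, 0, 2, 0, 0, 0, 0, 2, 0])]

/-- A piece of a tree. -/
def tree2_5 : List (Nat × Nat × List Int) :=
  [(0, 0, [0, 2, 2, 2, 0, 2, 2, 0, 0, 0, 2, 0, 0, 0, 0, 0, 0, 0, 0, 2, 2, 0, 0, 0]),
   (0, 0, [0, 2, 0, 0, 0, 2, 2, 2, 0, 0, 0, 0, 0, 0, 0, 2, 2, 0, 2, 2, 0, 0, 0, 0]),
   (1, 1, [0, 0, 0, 2, 2, 2, 0, 0, 0, 2, 0, 0, 0, 2, 0, 0, 0, 0, 0, 2, 2, 2, 0, 0]),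
   (2, 1, [0, 2, 0, 2, 0, 0, 0, 0, 2, 0, 0, 0, 0, 2, 2, 0, 0, 2, 0, 2, 2, 0, 0, 0]),
   (0, 2, [0, 0, 0, 0, 2, 0, 0, 2, 0, 0, 2, 0, 2, 2, 0, 0, 0, 0, 2, 0, 2, 2, 0, 0]),
   (2, 2, [0, 0, 2, 0, 0, 0, 2, 0, 0, 2, 2, 2, 0, 0, 2, 0, 2, 0, 0, 0, 2, 0, 0, 0]),
   (2, 2, [0, 0, 0, 0, 0, 0, 0, 0, 2, 2, 0, 0, 0, 2, 2, 2, 0, 2, 2, 0, 0, 0, 2, 0]),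
   (0, 1, [0, 0, 2, 0, 0, 0, 2, 0, 2, 0, 0, 0, 2, 0, 2, 2, 2, 0, 2, 0, 0, 0, 0, 0]),
   (0, 0, [0, 2, 0, 0, 2, 0, 0, 0, 0, 2, 0, 2, 0, 2, 0, 0, 0, 2, 0, 2, 0, 0, 2, 0]),
   (4, 1, [0, 0, 2, 0, 2, 0, 2, 0, 2, 2, 0, 2, 0, 0, 0, 0, 0, 2, 2, 0, 0, 0, 0, 0]),
   (0, 0, [0, 2, 2, 2, 2, 0, 0, 0, 0, 0, 0, 0, 0, 0, 2, 0, 0, 0, 0, 2, 0, 2, 2, 0]),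
   (0, 0, [0, 0, 2, 0, 0, 2, 0, 0, 0, 2, 0, 0, 2, 0, 0, 2, 2, 0, 0, 2, 2, 0, 0, 0]),
   (1, 1, [0, 2, 2, 0, 0, 2, 0, 0, 0, 2, 0, 0, 0, 2, 2, 0, 0, 0, 0, 0, 2, 0, 2, 0]),
   (0, 1, [0, 0, 2, 0, 0, 0, 2, 0, 0, 0, 0, 0, 2, 2, 2, 0, 0, 0, 0, 2, 2, 2, 0, 0]),
   (2, 2, [0, 0, 2, 0, 0, 0, 0, 0, 0, 0, 2, 0, 0, 2, 2, 0, 2, 0, 2, 0, 0, 2, 2, 0]),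
   (0, 0, [0, 0, 0, 0, 0, 0, 0, 2, 2, 2, 0, 0, 2, 2, 0, 0, 0, 0, 0, 2, 2, 0, 2, 0]),
   (0, 0, [0, 0, 0, 0, 2, 0, 0, 0, 2, 0, 2, 0, 0, 0, 2, 0, 2, 2, 2, 0, 2, 0, 0, 0]),
   (1, 1, [0, 0, 0, 0, 0, 0, 2, 0, 0, 2, 2, 0, 2, 0, 2, 0, 0, 2, 2, 0, 0, 2, 0, 0]),
   (2, 2, [0, 0, 2, 0, 0, 2, 0, 2, 2, 0, 0, 0, 0, 2, 0, 2, 2, 0, 0, 0, 0, 0, 2, 0]),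
   (3, 1, [0, 2, 0, 2, 0, 0, 2, 0, 2, 0, 0, 2, 0, 0, 0, 0, 2, 0, 2, 0, 2, 0, 0, 0]),
   (0, 1, [0, 0, 0, 2, 0, 2, 0, 2, 0, 0, 0, 2, 0, 2, 0, 0, 2, 0, 2, 0, 0, 2, 0, 0]),
   (0, 1, [0, 0, 0, 0, 0, 2, 0, 2, 0, 0, 0, 2, 2, 0, 0, 0, 2, 2, 0, 2, 0, 0, 2, 0]),
   (2, 2, [0, 2, 0, 0, 2, 2, 2, 0, 2, 0, 2, 0, 2, 0, 0, 0, 0, 0, 2, 0, 0, 0, 0, 0]),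
   (3, 2, [0, 2, 0, 0, 0, 0, 0, 0, 0, 2, 0, 0, 2, 2, 0, 2, 0, 2, 0, 0, 2, 2, 0, 0]),
   (0, 0, [0, 0, 0, 2, 0, 2, 0, 0, 2, 0, 0, 2, 2, 0, 2, 0, 0, 2, 2, 0, 0, 0, 0, 0]),
   (0, 0, [0, 0, 0, 2, 2, 0, 2, 0, 0, 2, 0, 0, 0, 0, 0, 2, 0, 2, 0, 0, 0, 2, 2, 0]),
   (0, 0, [0, 2, 2, 2, 0, 0, 0, 0, 0, 0, 0, 2, 2, 0, 2, 2, 0, 0, 0, 0, 2, 0, 0, 0]),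
   (2, 2, [0, 2, 0, 0, 0, 2, 0, 0, 0, 0, 0, 2, 2, 2, 0, 0, 0, 0, 2, 2, 2, 0, 0, 0]),
   (2, 1, [0, 0, 0, 0, 0, 0, 2, 0, 2, 0, 2, 0, 2, 2, 0, 2, 0, 0, 0, 0, 0, 2, 2, 0]),
   (1, 2, [0, 0, 0, 2, 2, 0, 0, 2, 0, 0, 2, 0, 0, 0, 0, 0, 0, 2, 0, 2, 2, 0, 2, 0])]

/-- A piece of a tree. -/
def tree2_6 : List (Nat × Nat × List Int) :=
  [(0, 0, [0, 0, 2, 2, 0, 0, 0, 2, 0, 0, 2, 0, 0, 0, 0, 2, 2, 0, 2, 0, 2, 0, 0, 0]),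
   (0, 1, [0, 0, 0, 0, 2, 2, 0, 2, 0, 0, 0, 0, 0, 0, 0, 2, 2, 2, 0, 0, 2, 2, 0, 0]),
   (2, 1, [0, 2, 0, 0, 2, 2, 0, 0, 2, 2, 0, 0, 0, 0, 2, 0, 0, 2, 0, 0, 0, 2, 0, 0]),
   (4, 1, [0, 0, 2, 0, 2, 0, 2, 0, 0, 0, 2, 0, 2, 0, 0, 2, 0, 2, 0, 0, 2, 0, 0, 0]),
   (0, 0, [0, 2, 2, 2, 0, 0, 0, 2, 0, 0, 0, 2, 0, 0, 0, 0, 0, 2, 2, 2, 0, 0, 0, 0]),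
   (0, 0, [0, 0, 0, 2, 0, 2, 0, 0, 0, 0, 2, 0, 0, 0, 0, 2, 2, 0, 0, 2, 0, 2, 2, 0]),
   (0, 0, [0, 0, 0, 0, 0, 0, 2, 2, 0, 0, 0, 2, 2, 2, 0, 2, 2, 0, 0, 0, 2, 0, 0, 0]),
   (0, 1, [0, 0, 0, 2, 0, 0, 0, 2, 0, 0, 2, 2, 2, 0, 0, 2, 0, 2, 0, 0, 0, 2, 0, 0]),
   (1, 2, [0, 2, 0, 2, 2, 0, 2, 2, 2, 2, 0, 0, 0, 0, 0, 0, 0, 0, 0, 2, 0, 0, 0, 0]),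
   (2, 1, [0, 0, 0, 0, 2, 2, 0, 2, 0, 2, 0, 0, 0, 0, 2, 2, 0, 0, 0, 2, 0, 0, 2, 0]),
   (1, 2, [0, 0, 2, 2, 0, 0, 0, 0, 2, 0, 0, 2, 0, 0, 0, 2, 0, 0, 2, 0, 0, 2, 2, 0]),
   (2, 2, [0, 2, 0, 0, 0, 2, 0, 0, 0, 2, 2, 0, 0, 0, 0, 0, 2, 0, 2, 0, 2, 2, 0, 0]),
   (0, 2, [0, 0, 0, 0, 2, 2, 0, 0, 2, 0, 2, 2, 0, 0, 0, 2, 0, 2, 0, 0, 0, 0, 2, 0]),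
   (3, 1, [0, 2, 0, 2, 2, 0, 0, 0, 2, 0, 2, 0, 0, 0, 0, 2, 0, 0, 0, 0, 2, 2, 0, 0]),
   (0, 0, [0, 0, 2, 0, 2, 2, 0, 2, 0, 0, 0, 2, 2, 0, 0, 2, 0, 0, 2, 0, 0, 0, 0, 0]),
   (0, 2, [0, 2, 0, 2, 0, 2, 0, 0, 0, 2, 0, 2, 0, 0, 2, 0, 2, 0, 0, 2, 0, 0, 0, 0]),
   (2, 1, [0, 2, 0, 0, 2, 2, 0, 0, 0, 0, 0, 0, 0, 2, 0, 2, 0, 0, 2, 0, 0, 2, 2, 0]),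
   (0, 0, [0, 0, 2, 0, 0, 2, 2, 0, 2, 0, 0, 2, 2, 0, 0, 0, 0, 0, 0, 0, 2, 0, 2, 0]),
   (0, 1, [0, 0, 0, 2, 0, 0, 0, 0, 0, 0, 2, 2, 0, 0, 2, 0, 0, 0, 2, 2, 2, 2, 0, 0]),
   (1, 2, [0, 2, 2, 0, 2, 0, 2, 0, 0, 0, 0, 2, 2, 0, 0, 0, 2, 0, 0, 2, 0, 0, 0, 0]),
   (3, 2, [0, 0, 0, 2, 2, 0, 0, 0, 0, 0, 2, 0, 2, 0, 2, 2, 0, 0, 2, 0, 0, 0, 2, 0]),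
   (0, 0, [0, 0, 2, 0, 0, 0, 0, 2, 0, 2, 0, 2, 0, 0, 0, 2, 0, 2, 0, 0, 2, 0, 2, 0]),
   (0, 1, [0, 0, 0, 0, 0, 0, 2, 0, 2, 0, 0, 2, 0, 0, 2, 2, 0, 2, 0, 0, 2, 2, 0, 0]),
   (1, 2, [0, 2, 2, 2, 2, 0, 0, 0, 0, 2, 0, 0, 0, 0, 0, 0, 2, 2, 0, 0, 2, 0, 0, 0]),
   (2, 1, [0, 2, 2, 0, 2, 2, 0, 0, 0, 0, 2, 0, 0, 0, 2, 2, 2, 0, 0, 0, 0, 0, 0, 0]),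
   (1, 2, [0, 0, 2, 2, 0, 2, 0, 0, 0, 0, 0, 0, 0, 2, 2, 2, 0, 0, 2, 2, 0, 0, 0, 0]),
   (0, 0, [0, 0, 0, 0, 0, 0, 2, 0, 2, 2, 0, 2, 0, 0, 0, 2, 2, 0, 0, 2, 0, 0, 2, 0]),
   (4, 2, [0, 0, 0, 2, 2, 0, 2, 0, 0, 0, 0, 0, 0, 0, 2, 2, 2, 0, 0, 2, 2, 0, 0, 0]),
   (0, 0, [0, 2, 2, 0, 0, 0, 0, 0, 0, 2, 0, 2, 0, 2, 0, 2, 2, 0, 2, 0, 0, 0, 0, 0]),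
   (0, 0, [0, 0, 0, 0, 0, 2, 0, 0, 2, 0, 0, 2, 0, 2, 2, 0, 0, 0, 0, 2, 0, 2, 2, 0])]

/-- A piece of a tree. -/
def tree2_7 : List (Nat × Nat × List Int) :=
  [(1, 2, [0, 2, 0, 2, 0, 2, 0, 2, 2, 0, 2, 0, 0, 0, 0, 0, 2, 2, 0, 0, 0, 0, 0, 0]),
   (0, 1, [0, 0, 0, 0, 2, 2, 0, 2, 2, 0, 0, 0, 0, 2, 0, 0, 0, 2, 2, 2, 0, 0, 0, 0]),
   (3, 1, [0, 2, 2, 2, 0, 2, 0, 2, 0, 2, 0, 0, 0, 0, 0, 2, 0, 0, 0, 0, 0, 2, 0, 0]),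
   (0, 0, [0, 0, 0, 0, 0, 2, 2, 0, 0, 0, 2, 2, 2, 0, 2, 2, 0, 0, 0, 2, 0, 0, 0, 0]),
   (0, 2, [0, 2, 0, 2, 0, 0, 2, 0, 0, 0, 0, 2, 0, 2, 0, 2, 0, 0, 0, 2, 0, 2, 0, 0]),
   (5, 2, [0, 0, 0, 2, 0, 0, 0, 2, 0, 2, 0, 0, 0, 2, 0, 2, 2, 2, 0, 2, 0, 0, 0, 0]),
   (0, 0, [0, 0, 0, 2, 0, 0, 0, 0, 2, 0, 2, 2, 0, 2, 2, 2, 2, 0, 0, 0, 0, 0, 0, 0]),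
   (0, 0, [0, 0, 0, 0, 2, 0, 0, 2, 2, 2, 0, 2, 0, 2, 0, 2, 0, 0, 0, 0, 0, 2, 0, 0]),
   (0, 1, [0, 2, 0, 0, 0, 0, 2, 0, 0, 0, 0, 2, 2, 0, 0, 2, 0, 2, 2, 0, 0, 0, 2, 0]),
   (1, 2, [0, 2, 0, 2, 0, 0, 0, 2, 0, 2, 0, 0, 2, 0, 2, 0, 0, 2, 0, 0, 0, 0, 2, 0]),
   (2, 2, [0, 2, 0, 2, 0, 0, 0, 2, 2, 0, 0, 0, 2, 2, 0, 2, 0, 0, 2, 0, 0, 0, 0, 0]),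
   (0, 1, [0, 0, 0, 0, 0, 2, 0, 0, 0, 0, 2, 0, 2, 2, 0, 2, 2, 2, 2, 0, 0, 0, 0, 0]),
   (0, 2, [0, 0, 0, 2, 0, 2, 0, 2, 2, 0, 0, 2, 0, 0, 0, 2, 0, 0, 0, 2, 2, 0, 0, 0]),
   (2, 2, [0, 0, 0, 2, 0, 2, 0, 2, 0, 2, 2, 0, 2, 0, 0, 0, 0, 0, 2, 2, 0, 0, 0, 0]),
   (0, 2, [0, 0, 0, 0, 0, 2, 0, 0, 0, 2, 0, 2, 0, 0, 0, 2, 0, 2, 2, 2, 0, 2, 0, 0]),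
   (4, 1, [0, 0, 0, 0, 0, 2, 2, 2, 2, 2, 0, 0, 2, 0, 0, 2, 0, 2, 0, 0, 0, 0, 0, 0]),
   (0, 0, [0, 2, 0, 2, 2, 0, 2, 0, 0, 0, 2, 2, 0, 0, 2, 0, 0, 2, 0, 0, 0, 0, 0, 0]),
   (1, 1, [0, 0, 0, 2, 0, 0, 2, 0, 2, 0, 2, 0, 0, 0, 0, 2, 0, 2, 2, 2, 0, 0, 0, 0]),
   (0, 0, [0, 2, 0, 2, 2, 0, 0, 2, 0, 0, 0, 2, 0, 0, 0, 2, 2, 0, 0, 0, 0, 0, 2, 0]),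
   (0, 1, [0, 2, 0, 0, 0, 2, 0, 2, 0, 0, 0, 2, 0, 2, 2, 2, 0, 2, 0, 0, 0, 0, 0, 0]),
   (1, 2, [0, 2, 2, 2, 0, 0, 0, 0, 2, 2, 2, 0, 0, 0, 2, 0, 0, 0, 2, 0, 0, 0, 0, 0]),
   (2, 1, [0, 0, 0, 2, 2, 2, 0, 0, 2, 2, 0, 0, 0, 0, 0, 2, 2, 0, 2, 0, 0, 0, 0, 0]),
   (0, 0, [0, 0, 2, 0, 2, 0, 2, 0, 0, 0, 0, 2, 0, 2, 2, 2, 0, 0, 0, 0, 0, 0, 2, 0]),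
   (2, 2, [0, 0, 0, 2, 0, 2, 2, 0, 0, 0, 0, 0, 2, 0, 0, 2, 0, 0, 2, 0, 2, 2, 0, 0]),
   (2, 2, [0, 0, 0, 2, 0, 0, 2, 0, 0, 2, 0, 2, 2, 0, 0, 0, 0, 2, 0, 2, 2, 0, 0, 0]),
   (0, 0, [0, 2, 0, 2, 0, 0, 0, 0, 0, 0, 0, 0, 0, 0, 2, 2, 2, 2, 2, 0, 0, 2, 0, 0]),
   (0, 0, [0, 0, 0, 2, 0, 2, 0, 0, 0, 2, 0, 2, 2, 2, 0, 2, 0, 0, 0, 0, 0, 0, 2, 0]),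
   (1, 2, [0, 0, 0, 2, 0, 2, 0, 0, 2, 0, 2, 0, 0, 2, 0, 0, 0, 0, 2, 0, 2, 0, 2, 0]),
   (0, 0, [0, 0, 0, 0, 2, 0, 2, 2, 2, 0, 0, 0, 0, 0, 0, 2, 0, 0, 2, 0, 2, 0, 2, 0]),
   (3, 1, [0, 0, 0, 2, 0, 2, 2, 0, 2, 2, 2, 2, 0, 0, 0, 0, 0, 0, 0, 0, 0, 2, 0, 0])]

/-- A piece of a tree. -/
def tree2_8 : List (Nat × Nat × List Int) :=
  [(1, 2, [0, 2, 0, 0, 2, 0, 2, 0, 0, 0, 0, 0, 0, 0, 0, 0, 0, 2, 2, 2, 2, 2, 0, 0]),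
   (3, 2, [0, 0, 0, 2, 0, 0, 0, 2, 2, 2, 0, 0, 0, 0, 0, 0, 0, 2, 2, 0, 2, 2, 0, 0]),
   (0, 1, [0, 0, 0, 0, 0, 2, 2, 0, 2, 0, 0, 0, 0, 0, 0, 0, 2, 2, 2, 0, 0, 2, 2, 0]),
   (0, 1, [0, 0, 0, 2, 0, 0, 0, 2, 2, 0, 0, 0, 0, 0, 2, 0, 2, 0, 2, 2, 0, 0, 2, 0]),
   (0, 0, [0, 0, 0, 0, 2, 0, 0, 0, 0, 2, 2, 0, 0, 2, 0, 2, 2, 0, 0, 0, 2, 0, 2, 0]),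
   (6, 2, [0, 0, 2, 2, 0, 0, 0, 2, 2, 0, 2, 0, 0, 2, 0, 0, 0, 0, 0, 2, 0, 2, 0, 0]),
   (0, 0, [0, 0, 0, 0, 2, 0, 0, 2, 2, 0, 2, 0, 2, 0, 0, 2, 2, 0, 0, 2, 0, 0, 0, 0]),
   (0, 0, [0, 0, 2, 0, 2, 0, 0, 2, 0, 0, 2, 2, 0, 2, 0, 0, 2, 2, 0, 0, 0, 0, 0, 0]),
   (0, 2, [0, 2, 0, 0, 0, 0, 0, 2, 2, 2, 0, 0, 0, 0, 2, 2, 2, 0, 0, 0, 2, 0, 0, 0]),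
   (0, 0, [0, 0, 0, 0, 2, 2, 0, 0, 0, 2, 2, 2, 0, 2, 2, 0, 0, 0, 2, 0, 0, 0, 0, 0]),
   (1, 2, [0, 0, 0, 2, 2, 0, 0, 0, 2, 2, 2, 0, 2, 2, 0, 0, 0, 2, 0, 0, 0, 0, 0, 0]),
   (0, 2, [0, 0, 0, 0, 0, 0, 0, 2, 0, 0, 0, 0, 2, 0, 2, 2, 0, 2, 2, 2, 2, 0, 0, 0]),
   (0, 1, [0, 0, 2, 0, 0, 0, 0, 0, 2, 2, 2, 0, 0, 0, 0, 2, 2, 2, 0, 0, 0, 2, 0, 0]),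
   (5, 1, [0, 2, 0, 0, 2, 0, 0, 2, 0, 2, 2, 0, 0, 0, 0, 2, 0, 2, 2, 0, 0, 0, 0, 0]),
   (0, 0, [0, 0, 2, 2, 0, 2, 0, 2, 0, 0, 2, 2, 0, 0, 2, 0, 0, 0, 0, 0, 0, 0, 2, 0]),
   (0, 0, [0, 0, 0, 0, 0, 0, 2, 2, 0, 2, 2, 0, 0, 0, 0, 2, 0, 0, 0, 2, 2, 2, 0, 0]),
   (2, 1, [0, 2, 0, 0, 2, 0, 2, 0, 2, 0, 0, 0, 0, 2, 0, 2, 2, 2, 0, 0, 0, 0, 0, 0]),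
   (0, 2, [0, 0, 0, 2, 0, 0, 2, 2, 2, 0, 2, 0, 2, 0, 2, 0, 0, 0, 0, 0, 2, 0, 0, 0]),
   (2, 2, [0, 0, 0, 2, 0, 2, 0, 0, 0, 2, 2, 0, 0, 0, 2, 2, 0, 2, 0, 0, 2, 0, 0, 0]),
   (0, 0, [0, 0, 0, 2, 0, 0, 2, 2, 0, 2, 0, 2, 0, 0, 2, 2, 0, 0, 2, 0, 0, 0, 0, 0]),
   (0, 0, [0, 2, 0, 0, 0, 0, 0, 0, 0, 2, 2, 2, 0, 0, 2, 2, 0, 0, 0, 0, 0, 2, 2, 0]),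
   (2, 1, [0, 0, 2, 0, 2, 2, 2, 0, 2, 0, 0, 0, 0, 0, 0, 2, 0, 0, 0, 2, 0, 2, 0, 0]),
   (1, 2, [0, 0, 0, 2, 2, 0, 0, 0, 0, 0, 0, 2, 0, 2, 0, 2, 0, 2, 2, 0, 2, 0, 0, 0]),
   (3, 2, [0, 0, 0, 2, 0, 0, 0, 0, 2, 2, 0, 0, 2, 0, 2, 2, 0, 0, 0, 2, 0, 2, 0, 0]),
   (0, 0, [0, 0, 0, 0, 2, 0, 0, 0, 0, 2, 0, 2, 2, 0, 2, 2, 2, 2, 0, 0, 0, 0, 0, 0]),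
   (0, 0, [0, 0, 2, 2, 0, 0, 0, 0, 0, 2, 0, 2, 0, 2, 2, 0, 0, 2, 0, 0, 0, 2, 0, 0]),
   (0, 2, [0, 2, 0, 0, 0, 0, 0, 2, 0, 0, 0, 0, 0, 2, 0, 0, 2, 2, 2, 0, 2, 0, 2, 0]),
   (2, 1, [0, 2, 2, 0, 0, 0, 2, 2, 2, 0, 2, 2, 0, 0, 0, 2, 0, 0, 0, 0, 0, 0, 0, 0]),
   (0, 2, [0, 2, 0, 2, 0, 0, 2, 0, 0, 2, 2, 0, 2, 0, 0, 2, 2, 0, 0, 0, 0, 0, 0, 0]),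
   (3, 1, [0, 0, 2, 0, 0, 2, 2, 0, 0, 2, 2, 0, 0, 0, 0, 2, 0, 0, 2, 0, 0, 0, 2, 0])]

/-- A piece of a tree. -/
def tree2_9 : List (Nat × Nat × List Int) :=
  [(0, 0, [0, 2, 0, 0, 0, 0, 2, 2, 0, 0, 0, 2, 0, 0, 2, 0, 0, 0, 0, 2, 2, 0, 2, 0]),
   (1, 2, [0, 0, 2, 2, 0, 2, 2, 0, 0, 0, 0, 2, 0, 0, 0, 2, 2, 2, 0, 0, 0, 0, 0, 0]),
   (2, 2, [0, 0, 0, 2, 0, 0, 0, 0, 0, 0, 0, 0, 2, 2, 0, 0, 0, 2, 2, 2, 0, 2, 2, 0]),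
   (0, 0, [0, 0, 0, 2, 0, 0, 0, 0, 2, 0, 0, 0, 2, 0, 0, 2, 2, 2, 0, 0, 2, 0, 2, 0]),
   (1, 1, [0, 0, 0, 0, 0, 2, 0, 0, 2, 2, 2, 0, 2, 0, 2, 0, 2, 0, 0, 0, 0, 0, 2, 0]),
   (0, 0, [0, 0, 0, 0, 2, 0, 2, 2, 0, 2, 0, 0, 0, 2, 2, 0, 0, 2, 0, 0, 2, 0, 0, 0]),
   (2, 2, [0, 0, 2, 0, 0, 2, 0, 2, 0, 0, 0, 0, 0, 0, 0, 0, 0, 0, 2, 2, 2, 2, 2, 0]),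
   (0, 0, [0, 0, 0, 0, 0, 0, 2, 0, 0, 0, 2, 0, 2, 0, 0, 0, 2, 0, 2, 2, 2, 0, 2, 0]),
   (1, 2, [0, 0, 2, 0, 2, 2, 0, 0, 0, 2, 0, 2, 0, 0, 0, 0, 2, 0, 0, 0, 0, 2, 2, 0]),
   (5, 1, [0, 0, 0, 0, 2, 2, 0, 0, 0, 2, 0, 0, 2, 0, 0, 0, 0, 2, 2, 0, 2, 0, 2, 0]),
   (0, 0, [0, 0, 2, 2, 0, 0, 2, 0, 0, 0, 0, 0, 0, 0, 2, 0, 0, 2, 2, 0, 2, 0, 2, 0]),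
   (0, 0, [0, 2, 0, 2, 0, 0, 0, 0, 0, 2, 0, 0, 0, 0, 0, 2, 0, 0, 2, 2, 2, 0, 2, 0]),
   (0, 1, [0, 0, 0, 0, 0, 2, 2, 0, 0, 2, 0, 0, 0, 2, 2, 2, 2, 0, 0, 0, 0, 2, 0, 0]),
   (2, 1, [0, 0, 2, 2, 0, 2, 0, 0, 2, 0, 0, 0, 0, 0, 2, 0, 2, 0, 0, 0, 2, 2, 0, 0]),
   (0, 0, [0, 0, 0, 0, 2, 0, 2, 0, 0, 2, 0, 0, 2, 2, 0, 2, 0, 0, 2, 2, 0, 0, 0, 0]),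
   (0, 0, [0, 2, 2, 0, 0, 0, 0, 0, 2, 0, 0, 2, 0, 0, 2, 0, 2, 2, 0, 0, 0, 0, 2, 0]),
   (1, 2, [0, 0, 0, 2, 0, 2, 2, 2, 0, 0, 0, 0, 0, 0, 2, 0, 0, 2, 0, 2, 0, 2, 0, 0]),
   (3, 2, [0, 0, 2, 0, 2, 2, 2, 0, 0, 0, 0, 0, 0, 2, 0, 0, 2, 0, 2, 0, 2, 0, 0, 0]),
   (0, 0, [0, 2, 2, 0, 0, 0, 2, 0, 2, 0, 0, 0, 0, 2, 0, 0, 0, 0, 2, 2, 0, 0, 2, 0]),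
   (0, 2, [0, 0, 2, 0, 0, 2, 2, 2, 0, 0, 2, 0, 2, 0, 0, 0, 2, 0, 0, 0, 0, 2, 0, 0]),
   (4, 1, [0, 2, 0, 0, 0, 0, 2, 0, 2, 0, 2, 0, 0, 0, 2, 0, 2, 0, 0, 2, 0, 2, 0, 0]),
   (0, 0, [0, 2, 0, 0, 2, 2, 0, 2, 0, 2, 0, 0, 2, 2, 0, 0, 2, 0, 0, 0, 0, 0, 0, 0]),
   (0, 0, [0, 0, 2, 0, 0, 2, 2, 0, 2, 0, 2, 0, 0, 2, 2, 0, 0, 2, 0, 0, 0, 0, 0, 0]),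
   (1, 1, [0, 2, 0, 0, 0, 0, 2, 2, 0, 0, 2, 0, 2, 2, 0, 0, 0, 2, 0, 2, 0, 0, 0, 0]),
   (2, 1, [0, 0, 2, 2, 2, 0, 0, 2, 0, 2, 0, 0, 0, 2, 0, 0, 0, 0, 2, 0, 0, 0, 2, 0]),
   (2, 2, [0, 0, 2, 0, 2, 2, 0, 0, 0, 0, 0, 2, 0, 0, 2, 0, 0, 2, 0, 2, 2, 0, 0, 0]),
   (0, 0, [0, 0, 2, 2, 0, 0, 2, 0, 0, 2, 0, 0, 0, 0, 0, 0, 2, 0, 2, 2, 0, 2, 0, 0]),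
   (0, 1, [0, 0, 0, 2, 0, 2, 2, 2, 0, 2, 0, 0, 0, 0, 0, 0, 2, 0, 0, 0, 2, 0, 2, 0]),
   (2, 1, [0, 2, 2, 0, 0, 0, 0, 0, 2, 2, 0, 2, 0, 0, 0, 0, 0, 0, 0, 2, 2, 2, 0, 0]),
   (0, 0, [0, 0, 0, 0, 2, 2, 0, 0, 0, 0, 0, 0, 2, 0, 2, 0, 2, 0, 2, 2, 0, 2, 0, 0])]

/-- A piece of a tree. -/
def tree2_10 : List (Nat × Nat × List Int) :=
  [(0, 1, [0, 2, 2, 0, 0, 0, 0, 2, 0, 2, 2, 0, 0, 0, 0, 0, 2, 0, 0, 2, 0, 0, 2, 0]),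
   (3, 2, [0, 2, 0, 0, 2, 0, 0, 0, 0, 0, 0, 2, 0, 2, 2, 0, 2, 0, 0, 0, 2, 2, 0, 0]),
   (0, 0, [0, 0, 2, 0, 0, 2, 0, 0, 2, 2, 0, 0, 2, 2, 0, 0, 0, 0, 2, 0, 0, 2, 0, 0]),
   (0, 0, [0, 0, 0, 0, 2, 0, 2, 0, 2, 0, 0, 0, 2, 0, 2, 0, 0, 2, 0, 2, 0, 0, 2, 0]),
   (2, 1, [0, 2, 2, 0, 0, 0, 0, 2, 0, 0, 0, 2, 2, 2, 0, 0, 0, 0, 0, 0, 0, 2, 2, 0]),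
   (4, 2, [0, 0, 0, 0, 0, 0, 0, 2, 0, 2, 0, 0, 2, 0, 0, 2, 2, 0, 2, 0, 0, 2, 2, 0]),
   (0, 0, [0, 0, 0, 0, 0, 0, 0, 0, 0, 0, 2, 2, 2, 2, 2, 0, 0, 2, 0, 0, 2, 0, 2, 0]),
   (0, 1, [0, 0, 2, 0, 2, 0, 0, 0, 2, 0, 2, 2, 2, 0, 2, 0, 0, 0, 0, 0, 0, 2, 0, 0]),
   (0, 1, [0, 2, 2, 0, 2, 0, 0, 0, 0, 0, 2, 2, 0, 0, 0, 0, 0, 0, 2, 0, 2, 0, 2, 0]),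
   (2, 2, [0, 2, 2, 0, 2, 0, 0, 2, 0, 0, 0, 0, 0, 2, 0, 2, 0, 0, 0, 2, 2, 0, 0, 0]),
   (2, 1, [0, 0, 0, 0, 0, 0, 2, 2, 0, 0, 2, 0, 0, 0, 2, 2, 2, 2, 0, 0, 0, 0, 2, 0]),
   (0, 0, [0, 2, 0, 2, 0, 0, 0, 2, 0, 2, 2, 2, 0, 2, 0, 0, 0, 0, 0, 0, 2, 0, 0, 0]),
   (0, 0, [0, 0, 0, 0, 0, 2, 0, 2, 2, 0, 2, 0, 0, 0, 2, 2, 0, 0, 2, 0, 0, 2, 0, 0]),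
   (0, 0, [0, 0, 0, 0, 2, 0, 2, 2, 0, 2, 2, 2, 2, 0, 0, 0, 0, 0, 0, 0, 0, 0, 2, 0]),
   (1, 1, [0, 0, 2, 0, 2, 0, 0, 0, 0, 0, 0, 0, 0, 0, 0, 2, 2, 2, 2, 2, 0, 0, 2, 0]),
   (2, 1, [0, 0, 0, 0, 2, 2, 2, 0, 0, 0, 0, 2, 2, 2, 0, 0, 0, 2, 0, 0, 0, 2, 0, 0]),
   (0, 0, [0, 2, 2, 2, 0, 0, 2, 0, 2, 0, 0, 0, 2, 0, 0, 0, 0, 2, 0, 0, 0, 2, 0, 0]),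
   (3, 1, [0, 0, 2, 2, 2, 0, 0, 2, 2, 0, 0, 0, 0, 0, 2, 2, 0, 2, 0, 0, 0, 0, 0, 0]),
   (0, 2, [0, 0, 0, 2, 0, 0, 0, 0, 0, 2, 0, 0, 2, 2, 2, 0, 2, 0, 2, 0, 2, 0, 0, 0]),
   (2, 2, [0, 0, 2, 2, 0, 0, 2, 0, 2, 2, 0, 0, 0, 2, 0, 2, 0, 0, 0, 0, 2, 0, 0, 0]),
   (0, 0, [0, 2, 0, 0, 2, 0, 0, 0, 2, 0, 0, 2, 0, 0, 2, 2, 0, 0, 2, 2, 0, 0, 0, 0]),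
   (1, 2, [0, 0, 0, 2, 2, 0, 2, 2, 0, 0, 0, 0, 2, 0, 0, 0, 2, 2, 2, 0, 0, 0, 0, 0]),
   (0, 0, [0, 2, 2, 2, 0, 0, 0, 0, 0, 0, 2, 0, 0, 2, 0, 2, 0, 2, 0, 0, 0, 0, 2, 0]),
   (4, 2, [0, 0, 2, 2, 0, 2, 0, 0, 2, 2, 0, 0, 0, 0, 0, 0, 0, 2, 0, 2, 0, 0, 2, 0]),
   (0, 1, [0, 0, 0, 0, 0, 2, 2, 0, 2, 2, 0, 0, 0, 0, 2, 0, 0, 0, 2, 2, 2, 0, 0, 0]),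
   (0, 0, [0, 2, 0, 0, 2, 0, 2, 0, 0, 2, 0, 0, 0, 0, 2, 0, 2, 0, 2, 0, 0, 0, 2, 0]),
   (0, 1, [0, 2, 2, 2, 0, 0, 2, 2, 0, 0, 0, 0, 0, 2, 2, 0, 2, 0, 0, 0, 0, 0, 0, 0]),
   (3, 2, [0, 0, 2, 0, 0, 0, 0, 0, 0, 0, 0, 2, 2, 0, 0, 0, 2, 2, 2, 0, 2, 2, 0, 0]),
   (0, 1, [0, 0, 0, 0, 0, 0, 0, 2, 2, 0, 2, 2, 0, 0, 0, 0, 2, 0, 0, 0, 2, 2, 2, 0])]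

/-- A root. -/
def root2 : List Int := [0, 2, 0, 0, 0, 0, 0, 0, 0, 0, 0, 0, 2, 2, 2, 2, 2, 0, 0, 2, 0, 0, 2, 0]

/-- A tree. -/
def tree2 : List (Nat × Nat × List Int) :=
  tree2_0 ++ tree2_1 ++ tree2_2 ++ tree2_3 ++ tree2_4 ++ tree2_5 ++ tree2_6 ++ tree2_7 ++ tree2_8 ++ tree2_9 ++ tree2_10

/-- A piece of a tree. -/
def tree3_0 : List (Nat × Nat × List Int) :=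
  [(0, 0, [-1, 1, 1, -1, 1, 1, 1, 1, -1, -1, 1, -1, 1, -1, 1, 1, 1, 1, -1, 3, 1, 1, 1, 1]),
   (0, 0, [-1, 1, 1, 1, -1, 1, 1, 1, -1, 1, 1, 1, 1, 1, -1, -1, 3, 1, 1, 1, 1, -1, -1, 1]),
   (0, 0, [-1, 1, -1, 1, -1, 1, 1, 1, 1, -1, 1, -1, -1, 3, 1, 1, 1, 1, 1, 1, -1, 1, 1, 1]),
   (0, 0, [-1, 1, -1, 1, 1, 1, 1, 1, 3, 1, 1, 1, 1, 1, -1, 1, 1, -1, -1, -1, 1, -1, 1, 1]),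
   (0, 1, [-1, 1, -1, 1, 1, 1, 1, 1, -1, -1, 1, 1, 1, 1, 1, 1, -1, 1, 3, 1, -1, 1, -1, 1]),
   (0, 0, [-1, 1, 1, 1, -1, 1, 1, 1, 1, 1, 1, 1, 1, -1, -1, 1, 1, 1, -1, -1, -1, 1, 3, 1]),
   (0, 2, [-1, 1, 3, 1, -1, -1, 1, -1, 1, 1, 1, 1, 1, -1, -1, 1, 1, 1, 1, 1, 1, -1, 1, 1]),
   (0, 1, [-1, -1, -1, 1, 1, 1, 1, 1, 1, 1, 1, 1, -1, 1, 1, 1, 1, -1, 1, -1, 3, 1, -1, 1]),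
   (3, 1, [-1, 1, 1, 1, 1, 1, -1, -1, 1, 1, 1, 1, 1, 1, -1, 1, 3, 1, -1, 1, -1, -1, 1, 1]),
   (0, 0, [-1, -1, 1, 1, 1, 1, 1, 1, 1, -1, -1, 1, -1, 3, 1, 1, 1, 1, -1, 1, 1, 1, -1, 1]),
   (0, 2, [-1, 1, -1, 1, 1, -1, 1, 3, 1, 1, -1, 1, 1, 1, 1, -1, 1, -1, 1, -1, 1, 1, 1, 1]),
   (2, 1, [-1, 1, -1, -1, 1, 1, 1, 3, 1, 1, 1, 1, 1, 1, 1, 1, -1, -1, 1, 1, 1, -1, -1, 1]),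
   (0, 1, [-1, 1, 1, 1, 1, -1, 1, -1, -1, 1, 1, 1, 1, 1, -1, 1, 1, 3, 1, 1, -1, 1, -1, 1]),
   (1, 2, [-1, 1, -1, 1, 1, 1, 1, 1, -1, 3, 1, 1, 1, 1, 1, 1, -1, 1, -1, 1, -1, 1, -1, 1]),
   (2, 2, [-1, 1, 1, 1, -1, -1, -1, 1, 3, -1, 1, 1, 1, -1, 1, 1, 1, 1, 1, 1, 1, 1, -1, 1]),
   (2, 2, [-1, 1, -1, 1, -1, 3, 1, 1, -1, 1, 1, 1, -1, 1, 1, 1, -1, -1, 1, 1, 1, 1, 1, 1]),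
   (0, 1, [-1, -1, 1, 1, 1, 1, 1, -1, -1, 1, -1, 1, 1, 1, 1, 1, 1, 1, -1, 3, -1, 1, 1, 1]),
   (1, 2, [-1, 1, 1, 1, 1, 1, 1, 1, -1, 1, 1, 3, -1, 1, -1, 1, -1, 1, 1, -1, -1, 1, 1, 1]),
   (3, 2, [-1, 1, 1, 1, 1, -1, 1, 1, 1, 1, 1, 1, 3, -1, 1, 1, -1, 1, 1, 1, -1, -1, -1, 1]),
   (0, 0, [-1, 1, 1, 1, 1, 1, -1, 1, -1, 1, 1, 1, -1, -1, 1, 1, 1, 3, -1, 1, -1, 1, 1, 1]),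
   (0, 1, [-1, 1, 1, -1, 1, 1, 1, 1, 3, 1, -1, 1, -1, 1, 1, 1, -1, 1, -1, 1, 1, -1, 1, 1]),
   (0, 2, [-1, 1, 1, 1, 1, -1, 1, 1, -1, 1, 1, 1, 3, 1, 1, -1, 1, 1, -1, -1, 1, 1, -1, 1]),
   (2, 2, [-1, 1, 1, 1, -1, -1, -1, -1, 1, 1, 1, 1, -1, 1, 1, 1, 1, 1, 1, -1, 3, 1, 1, 1]),
   (2, 1, [-1, 1, 1, 1, 1, 1, 1, -1, 1, 1, 3, 1, -1, 1, -1, 1, 1, 1, 1, -1, 1, -1, -1, 1]),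
   (0, 2, [-1, 1, -1, 1, 1, 1, 1, 1, 1, -1, 1, 1, 1, -1, 1, 3, 1, 1, 1, -1, 1, -1, -1, 1]),
   (2, 2, [-1, 1, -1, 1, -1, 1, 1, -1, -1, 1, 1, -1, 1, 1, 1, 1, 1, 1, 1, 3, 1, 1, -1, 1]),
   (0, 1, [-1, -1, 1, 1, 1, 1, 1, 1, 1, 3, 1, -1, 1, 1, -1, 1, 1, -1, -1, 1, -1, 1, 1, 1]),
   (0, 2, [-1, -1, 1, 1, -1, -1, 1, 1, 1, 1, -1, 1, 1, -1, 1, 1, 1, 3, 1, 1, -1, 1, 1, 1]),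
   (2, 2, [-1, -1, -1, 1, 1, 1, 1, 1, 1, -1, 1, 1, -1, 1, -1, 1, -1, 1, 1, 1, 1, 3, 1, 1]),
   (0, 1, [-1, 1, -1, 1, 1, 1, -1, -1, 1, 1, -1, 1, 1, -1, 1, 1, 1, 1, 1, 1, -1, 1, 3, 1])]

/-- A piece of a tree. -/
def tree3_1 : List (Nat × Nat × List Int) :=
  [(5, 1, [-1, -1, 1, 1, 1, 1, -1, 1, 1, 1, -1, -1, 3, 1, 1, 1, 1, 1, 1, 1, -1, -1, 1, 1]),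
   (0, 0, [-1, -1, 1, 1, 1, -1, 1, -1, 1, 1, 1, 1, -1, 1, 1, 1, 1, 3, -1, 1, 1, -1, 1, 1]),
   (0, 0, [-1, 1, 1, 3, 1, -1, -1, 1, 1, 1, -1, 1, -1, 1, 1, 1, 1, -1, 1, 1, 1, 1, -1, 1]),
   (0, 1, [-1, 1, 1, -1, -1, 3, 1, 1, -1, 1, -1, 1, 1, 1, -1, 1, 1, 1, 1, -1, 1, 1, 1, 1]),
   (2, 1, [-1, 1, 1, 1, 1, 1, 1, 1, 3, 1, -1, 1, 1, -1, 1, 1, -1, -1, 1, -1, 1, 1, -1, 1]),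
   (0, 0, [-1, 1, 1, -1, 3, 1, 1, -1, -1, 1, 1, 1, 1, -1, 1, 1, -1, 1, 1, 1, -1, 1, 1, 1]),
   (0, 0, [-1, 1, 3, 1, -1, 1, 1, 1, -1, 1, -1, 1, 1, -1, 1, -1, 1, 1, -1, 1, 1, 1, 1, 1]),
   (0, 2, [-1, 1, 1, -1, 1, -1, 1, -1, 1, 1, 1, 1, -1, 1, -1, -1, 3, 1, 1, 1, 1, 1, 1, 1]),
   (4, 2, [-1, 1, 1, 1, 1, -1, 1, 1, 1, -1, -1, -1, 1, 1, 1, 1, 1, 1, 1, -1, 3, 1, -1, 1]),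
   (0, 0, [-1, 1, 1, 1, 1, 1, -1, -1, 1, 1, 1, 1, 1, 1, -1, 1, -1, 1, 3, 1, -1, -1, 1, 1]),
   (1, 1, [-1, 1, 1, 1, -1, 1, -1, 1, 1, -1, 1, -1, 1, 1, -1, 1, 1, 1, 1, -1, 1, 3, 1, 1]),
   (1, 2, [-1, -1, -1, 1, 3, 1, 1, 1, 1, 1, 1, -1, 1, 1, 1, -1, 1, -1, 1, 1, 1, -1, 1, 1]),
   (0, 0, [-1, 1, 3, -1, 1, -1, 1, 1, 1, 1, 1, -1, -1, 1, 1, 1, 1, 1, 1, -1, 1, -1, 1, 1]),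
   (4, 1, [-1, 1, 1, -1, -1, 1, 1, 1, 1, 1, 3, -1, 1, -1, 1, 1, 1, 1, 1, 1, 1, -1, -1, 1]),
   (0, 0, [-1, 1, -1, 1, 1, 1, 1, 3, -1, 1, 1, 1, -1, 1, 1, -1, 1, 1, 1, 1, -1, -1, 1, 1]),
   (0, 0, [-1, 1, 1, 1, -1, 1, 1, 1, 1, 1, 3, -1, -1, 1, 1, 1, 1, -1, -1, -1, 1, 1, 1, 1]),
   (2, 1, [-1, -1, 1, 1, 3, -1, 1, 1, 1, 1, 1, -1, -1, 1, -1, 1, 1, 1, 1, 1, 1, 1, -1, 1]),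
   (0, 2, [-1, -1, -1, 1, 1, 1, 1, 1, 1, 1, -1, -1, 1, -1, 3, 1, 1, 1, 1, -1, 1, 1, 1, 1]),
   (2, 2, [-1, -1, -1, 1, 1, 1, 1, -1, 1, 1, 1, 1, 1, 1, -1, 3, 1, 1, -1, 1, 1, 1, -1, 1]),
   (0, 1, [-1, 1, -1, 1, 1, 1, 1, 1, 1, 1, 1, 1, 1, -1, -1, 3, -1, -1, 1, 1, -1, 1, 1, 1]),
   (1, 2, [-1, 1, -1, 3, 1, -1, 1, 1, 1, -1, -1, 1, 1, -1, 1, 1, -1, 1, 1, 1, 1, 1, 1, 1]),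
   (3, 2, [-1, -1, 1, 1, -1, 1, -1, 1, 1, 1, -1, 1, 1, 1, 1, -1, 1, 1, 1, 3, 1, 1, -1, 1]),
   (0, 0, [-1, -1, -1, 1, 1, -1, 1, -1, 1, 1, 1, -1, 1, 1, 1, 1, 3, 1, 1, 1, -1, 1, 1, 1]),
   (0, 0, [-1, 1, 1, 1, 1, -1, -1, 1, 1, 1, -1, 1, 1, 3, 1, 1, 1, 1, -1, -1, 1, -1, 1, 1]),
   (2, 1, [-1, -1, 1, -1, -1, 1, 1, 1, 1, 3, 1, 1, 1, -1, -1, -1, 1, 1, 1, 1, 1, 1, 1, 1]),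
   (0, 0, [-1, 1, -1, 1, 1, -1, 1, 1, -1, -1, 1, -1, 1, 1, 3, -1, 1, 1, 1, 1, 1, 1, 1, 1]),
   (1, 1, [-1, -1, -1, 1, 1, -1, 3, 1, 1, 1, 1, 1, -1, -1, 1, -1, 1, 1, 1, 1, 1, 1, 1, 1]),
   (1, 2, [-1, 1, 1, -1, 1, 1, 1, -1, 1, 1, -1, 1, 1, -1, -1, 1, 1, 3, -1, 1, 1, 1, 1, 1]),
   (2, 2, [-1, 1, -1, -1, 1, 1, -1, 1, 1, 1, -1, 1, 1, 1, -1, -1, 1, 1, 1, 1, 1, 3, 1, 1]),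
   (0, 0, [-1, -1, 1, 1, 1, 1, 1, -1, 1, -1, 1, -1, 3, 1, 1, -1, 1, 1, 1, -1, 1, 1, 1, 1])]

/-- A piece of a tree. -/
def tree3_2 : List (Nat × Nat × List Int) :=
  [(0, 2, [-1, -1, 1, -1, 1, 1, 1, 1, 1, -1, -1, 1, 1, 1, 1, 1, 1, -1, 1, 3, 1, -1, 1, 1]),
   (2, 2, [-1, 1, 1, -1, 1, 1, -1, 1, 1, 1, 1, 1, 1, -1, 1, -1, -1, 1, -1, 1, 1, 1, 3, 1]),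
   (4, 2, [-1, -1, 1, 1, -1, 1, 1, 3, 1, 1, 1, 1, 1, 1, -1, 1, -1, -1, 1, -1, 1, 1, 1, 1]),
   (0, 0, [-1, 1, -1, -1, 1, -1, 1, 1, 1, -1, 3, 1, 1, -1, 1, 1, -1, 1, 1, 1, 1, 1, 1, 1]),
   (0, 0, [-1, 1, 1, 1, 1, 1, -1, 3, -1, 1, 1, 1, 1, -1, -1, -1, 1, 1, 1, -1, 1, 1, 1, 1]),
   (0, 0, [-1, -1, 1, 1, -1, 1, 1, 1, -1, -1, 3, -1, 1, 1, 1, 1, -1, 1, 1, 1, 1, 1, 1, 1]),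
   (0, 2, [-1, -1, 1, 1, 1, 1, 1, 1, -1, 1, -1, 1, -1, 1, -1, 3, 1, -1, 1, 1, 1, 1, 1, 1]),
   (2, 2, [-1, 1, 1, -1, 1, 1, -1, -1, 1, 3, 1, 1, -1, -1, 1, 1, 1, 1, 1, 1, 1, -1, 1, 1]),
   (2, 1, [-1, 1, 1, 1, 3, -1, -1, -1, 1, 1, 1, 1, -1, 1, 1, 1, 1, 1, 1, -1, -1, 1, 1, 1]),
   (0, 1, [-1, 3, 1, -1, 1, 1, 1, 1, 1, -1, -1, 1, 1, 1, 1, 1, 1, -1, 1, -1, 1, -1, 1, 1]),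
   (2, 2, [-1, 1, 1, 1, 1, 1, 1, -1, -1, 1, 1, -1, 1, 1, 1, 3, -1, -1, -1, 1, 1, 1, 1, 1]),
   (0, 2, [-1, -1, 1, 3, 1, -1, 1, 1, -1, -1, 1, 1, -1, 1, 1, 1, 1, 1, 1, 1, -1, 1, 1, 1]),
   (3, 1, [-1, -1, -1, 1, 1, 1, 1, -1, -1, -1, 1, 1, 1, -1, 1, 1, 1, 3, 1, 1, 1, 1, 1, 1]),
   (0, 0, [-1, 1, 1, 3, -1, -1, 1, 1, -1, 1, -1, 1, 1, 1, -1, 1, 1, 1, 1, -1, 1, 1, 1, 1]),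
   (1, 2, [-1, 1, 1, 1, 1, 1, 1, -1, 1, -1, -1, 1, -1, 1, 1, 1, -1, -1, 1, 1, 3, 1, 1, 1]),
   (0, 1, [-1, 1, 1, 1, -1, 1, -1, -1, -1, 1, -1, 1, 1, 1, 1, 1, 1, -1, 1, 1, 1, 3, 1, 1]),
   (0, 2, [-1, 1, 1, 1, 1, 1, -1, 1, 1, -1, 1, 1, -1, 1, -1, -1, 1, 1, 1, 1, -1, 1, 3, 1]),
   (4, 2, [-1, 1, 1, 1, 1, 1, 1, 1, -1, 3, -1, 1, 1, -1, -1, 1, 1, 1, 1, 1, -1, -1, 1, 1]),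
   (0, 1, [-1, 1, -1, 1, -1, 1, 3, 1, 1, 1, 1, 1, -1, 1, 1, 1, 1, 1, -1, 1, 1, -1, -1, 1]),
   (0, 0, [-1, 3, -1, 1, 1, 1, 1, 1, 1, 1, 1, 1, -1, 1, 1, 1, 1, -1, 1, -1, -1, 1, -1, 1]),
   (0, 0, [-1, 1, 1, -1, 1, 3, 1, 1, 1, 1, 1, 1, 1, 1, 1, 1, -1, -1, -1, -1, -1, 1, 1, 1]),
   (3, 2, [-1, 1, 1, 1, -1, 1, 1, -1, 1, 1, 1, 1, -1, -1, 1, -1, 1, 3, 1, 1, 1, 1, -1, 1]),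
   (0, 0, [-1, 1, -1, 3, 1, 1, 1, 1, -1, 1, -1, -1, 1, 1, 1, 1, 1, -1, 1, 1, -1, 1, 1, 1]),
   (0, 0, [-1, 1, 1, -1, -1, 1, 1, -1, 1, 1, 1, 1, 1, 1, 1, 3, 1, 1, -1, -1, 1, -1, 1, 1]),
   (2, 2, [-1, 1, -1, -1, 1, 1, 1, -1, 1, -1, 1, 1, 1, 1, -1, 1, 1, 1, 1, -1, 3, 1, 1, 1]),
   (5, 1, [-1, -1, -1, 1, 1, 1, 1, 3, 1, 1, 1, 1, 1, 1, -1, -1, 1, 1, -1, 1, 1, 1, -1, 1]),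
   (0, 0, [-1, 1, 1, 1, 1, -1, 1, 1, 1, -1, 3, -1, 1, 1, 1, 1, 1, 1, 1, -1, -1, 1, -1, 1]),
   (0, 0, [-1, 1, 1, 1, 1, 1, -1, 3, 1, 1, 1, 1, 1, 1, -1, 1, -1, 1, -1, 1, -1, -1, 1, 1]),
   (0, 0, [-1, -1, 1, 1, 1, 1, 1, 1, 1, -1, 3, 1, -1, -1, 1, 1, 1, 1, -1, 1, 1, 1, -1, 1]),
   (0, 0, [-1, 1, 1, 1, 1, -1, 1, 3, -1, 1, 1, 1, 1, 1, -1, 1, 1, -1, 1, 1, -1, 1, -1, 1])]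

/-- A piece of a tree. -/
def tree3_3 : List (Nat × Nat × List Int) :=
  [(1, 1, [-1, 1, 1, 1, 3, 1, -1, 1, 1, 1, -1, 1, -1, -1, -1, 1, -1, 1, 1, 1, 1, 1, 1, 1]),
   (0, 0, [-1, -1, 3, 1, 1, 1, 1, -1, -1, -1, 1, 1, 1, -1, 1, 1, 1, -1, 1, 1, 1, 1, 1, 1]),
   (2, 2, [-1, 1, -1, 1, 1, -1, 1, -1, 1, 1, -1, 1, 1, 1, 1, 3, 1, -1, 1, -1, 1, 1, 1, 1]),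
   (2, 1, [-1, 1, -1, -1, 1, 1, 1, -1, 1, 1, 1, 1, 1, 1, 1, 1, -1, 3, 1, 1, 1, -1, -1, 1]),
   (0, 0, [-1, 1, 1, 3, 1, 1, 1, 1, 1, 1, -1, 1, -1, -1, 1, -1, 1, 1, 1, -1, -1, 1, 1, 1]),
   (0, 1, [-1, 1, 1, 1, -1, 3, 1, 1, 1, -1, -1, 1, -1, 1, 1, -1, 1, 1, 1, 1, 1, -1, 1, 1]),
   (1, 2, [-1, 1, 1, -1, -1, 1, 1, -1, 1, 1, 1, 1, 1, 1, 1, -1, 1, 1, 3, -1, 1, -1, 1, 1]),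
   (3, 2, [-1, 1, 1, 1, -1, -1, -1, 1, -1, 3, 1, 1, 1, -1, 1, 1, 1, 1, 1, 1, 1, 1, -1, 1]),
   (0, 0, [-1, -1, -1, 1, -1, 1, -1, 1, -1, 1, 1, 1, 1, 1, 3, 1, 1, 1, 1, 1, -1, 1, 1, 1]),
   (1, 1, [-1, -1, 1, -1, 1, 1, 3, 1, 1, 1, 1, 1, -1, 1, -1, 1, 1, 1, -1, -1, 1, 1, 1, 1]),
   (3, 1, [-1, 1, 1, 1, 3, 1, -1, 1, 1, -1, 1, -1, 1, 1, -1, 1, 1, 1, 1, -1, 1, -1, 1, 1]),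
   (0, 0, [-1, -1, 3, 1, 1, 1, 1, 1, 1, -1, 1, 1, -1, 1, -1, 1, -1, 1, 1, 1, 1, -1, 1, 1]),
   (0, 1, [-1, 1, -1, 1, 1, 1, -1, -1, 1, 1, -1, 1, 1, -1, 1, 1, 1, 1, 1, 1, 3, 1, -1, 1]),
   (0, 2, [-1, 1, -1, 1, 3, 1, -1, -1, 1, -1, 1, 1, 1, 1, 1, -1, -1, 1, 1, 1, 1, 1, 1, 1]),
   (3, 1, [-1, 3, -1, -1, 1, 1, -1, 1, 1, -1, 1, -1, 1, 1, 1, 1, 1, 1, 1, 1, 1, 1, -1, 1]),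
   (0, 2, [-1, -1, -1, 1, 1, 1, -1, 1, 1, 1, 3, 1, 1, 1, 1, 1, -1, -1, -1, 1, 1, 1, 1, 1]),
   (0, 0, [-1, -1, 1, -1, 1, -1, 1, 3, 1, 1, 1, 1, 1, -1, 1, 1, 1, 1, 1, -1, 1, 1, -1, 1]),
   (4, 2, [-1, -1, -1, 1, -1, 1, 1, 1, 1, 1, 1, -1, 1, 1, 1, 3, 1, -1, 1, 1, 1, -1, 1, 1]),
   (0, 0, [-1, 1, -1, -1, 1, -1, 1, 1, 1, 1, 1, 3, -1, 1, 1, 1, 1, 1, 1, -1, 1, -1, 1, 1]),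
   (0, 0, [-1, 1, 1, 1, 1, 1, -1, 1, 1, 1, 1, 1, -1, 1, 1, -1, -1, -1, 1, -1, 1, 3, 1, 1]),
   (0, 0, [-1, -1, 1, -1, 1, 1, 1, 1, 1, 1, 1, -1, 3, -1, 1, 1, -1, -1, 1, 1, 1, 1, 1, 1]),
   (2, 2, [-1, 3, 1, 1, 1, 1, 1, 1, 1, 1, 1, -1, 1, 1, 1, 1, -1, 1, -1, -1, 1, -1, -1, 1]),
   (0, 1, [-1, 1, 1, 1, 1, 1, 1, -1, 1, -1, 1, -1, 1, 3, -1, 1, -1, 1, 1, 1, 1, 1, -1, 1]),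
   (3, 2, [-1, -1, 1, 3, 1, 1, 1, 1, 1, 1, -1, 1, 1, 1, -1, 1, -1, 1, 1, 1, -1, 1, -1, 1]),
   (0, 0, [-1, 1, 1, 1, 1, -1, 1, -1, 1, -1, 1, 1, 1, -1, 1, 3, 1, 1, -1, 1, -1, 1, 1, 1]),
   (1, 1, [-1, 1, -1, 1, -1, 3, 1, -1, 1, 1, 1, 1, 1, -1, -1, 1, 1, 1, 1, 1, 1, -1, 1, 1]),
   (0, 0, [-1, 1, -1, 1, 1, 1, 3, 1, -1, -1, -1, 1, -1, 1, 1, 1, 1, 1, 1, -1, 1, 1, 1, 1]),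
   (5, 1, [-1, 1, -1, 1, 1, 1, 1, 1, 1, 1, 1, 1, 1, -1, -1, -1, -1, 3, 1, 1, -1, 1, 1, 1]),
   (0, 0, [-1, 1, 1, 3, 1, 1, 1, 1, -1, -1, 1, -1, 1, -1, 1, 1, 1, 1, -1, -1, 1, 1, 1, 1]),
   (0, 0, [-1, 1, 1, 1, -1, 1, 1, 1, -1, 1, 1, 1, 1, 1, -1, 3, -1, 1, 1, 1, 1, -1, -1, 1])]

/-- A piece of a tree. -/
def tree3_4 : List (Nat × Nat × List Int) :=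
  [(0, 0, [-1, 1, -1, 1, -1, 1, 1, 1, 1, -1, 1, 3, -1, -1, 1, 1, 1, 1, 1, 1, -1, 1, 1, 1]),
   (2, 1, [-1, 1, 1, 1, 1, 3, -1, 1, 1, -1, 1, -1, -1, 1, 1, 1, -1, 1, -1, 1, 1, 1, 1, 1]),
   (0, 1, [-1, 1, 1, -1, 1, 1, -1, -1, 1, 1, -1, -1, 1, 1, 1, 1, -1, 1, 1, 3, 1, 1, 1, 1]),
   (0, 0, [-1, -1, 1, 1, 1, 1, 1, -1, 1, 1, -1, 1, 1, -1, 1, -1, 3, 1, 1, 1, 1, -1, 1, 1]),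
   (1, 1, [-1, 1, 1, -1, -1, -1, 1, -1, 1, 3, 1, -1, 1, 1, 1, 1, 1, -1, 1, 1, 1, 1, 1, 1]),
   (1, 2, [-1, -1, 1, 1, 1, 1, -1, 1, -1, -1, 1, 1, 1, 1, 1, -1, 1, 1, -1, 1, 1, 3, 1, 1]),
   (4, 1, [-1, 1, -1, 1, 1, 1, 1, -1, 3, 1, 1, 1, -1, 1, 1, -1, 1, 1, 1, 1, -1, -1, 1, 1]),
   (0, 0, [-1, 1, 1, 1, 3, 1, 1, 1, 1, 1, -1, -1, -1, 1, 1, 1, 1, -1, -1, -1, 1, 1, 1, 1]),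
   (0, 1, [-1, 3, 1, 1, -1, 1, 1, 1, -1, -1, -1, -1, 1, 1, 1, 1, -1, 1, 1, 1, 1, 1, 1, 1]),
   (2, 1, [-1, 1, 1, 1, 1, 1, 1, 1, 1, 1, -1, 1, 1, 1, 1, -1, 1, -1, 3, 1, -1, -1, -1, 1]),
   (0, 0, [-1, 1, 1, -1, 1, 1, 1, -1, 1, 1, 1, -1, -1, 1, 1, 1, 1, 1, -1, 1, -1, 1, 3, 1]),
   (0, 2, [-1, -1, 3, 1, -1, -1, 1, 1, 1, -1, 1, 1, 1, 1, 1, 1, 1, 1, -1, -1, 1, 1, 1, 1]),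
   (2, 2, [-1, 1, -1, -1, -1, 3, 1, 1, 1, 1, 1, 1, 1, 1, 1, -1, 1, 1, 1, 1, -1, 1, -1, 1]),
   (2, 2, [-1, 1, 1, -1, -1, 1, 1, 1, 1, -1, 1, 1, 3, 1, 1, 1, -1, 1, 1, -1, 1, 1, -1, 1]),
   (0, 1, [-1, -1, 1, 1, 1, -1, -1, -1, 1, -1, 3, 1, 1, 1, -1, 1, 1, 1, 1, 1, 1, 1, 1, 1]),
   (1, 2, [-1, 1, -1, 1, 1, 1, 1, 1, -1, 1, 1, 1, 1, 1, -1, 1, 1, -1, -1, 3, 1, -1, 1, 1]),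
   (4, 2, [-1, 1, -1, -1, 1, -1, 1, 1, 1, 3, -1, 1, 1, -1, 1, 1, -1, 1, 1, 1, 1, 1, 1, 1]),
   (0, 0, [-1, 1, 1, 1, 1, 1, -1, -1, -1, 1, 1, 1, 1, -1, 3, -1, 1, 1, 1, -1, 1, 1, 1, 1]),
   (0, 0, [-1, -1, 1, 1, -1, 1, 1, 1, -1, 3, -1, -1, 1, 1, 1, 1, -1, 1, 1, 1, 1, 1, 1, 1]),
   (0, 0, [-1, 1, -1, 1, -1, -1, 1, -1, 1, 1, 1, 1, 1, -1, 3, 1, 1, 1, 1, 1, 1, -1, 1, 1]),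
   (0, 1, [-1, -1, 3, 1, 1, 1, 1, 1, 1, 1, 1, 1, -1, 1, 1, 1, 1, -1, 1, -1, -1, 1, -1, 1]),
   (2, 2, [-1, -1, 1, 1, 1, 1, 1, 1, -1, 1, -1, 1, -1, 1, -1, -1, 1, 3, 1, 1, 1, 1, 1, 1]),
   (2, 1, [-1, 1, 3, -1, 1, 1, 1, 1, 1, -1, 1, 1, -1, 1, 1, -1, 1, -1, -1, 1, 1, 1, 1, 1]),
   (0, 0, [-1, 1, 1, -1, 1, 1, 1, 1, 1, 1, 1, -1, 1, 1, -1, -1, 1, -1, 1, 3, 1, 1, -1, 1]),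
   (0, 2, [-1, -1, -1, -1, 1, 1, 1, 1, 1, 1, 1, 1, 1, -1, 1, 1, 1, 1, -1, 1, -1, 3, 1, 1]),
   (2, 2, [-1, 1, 1, -1, 1, -1, 1, 1, 1, 1, 1, 1, 1, 1, 1, 1, 3, -1, -1, -1, -1, 1, 1, 1]),
   (0, 2, [-1, 1, 1, 1, -1, -1, 1, 1, 3, 1, 1, -1, 1, 1, 1, 1, 1, 1, -1, 1, -1, -1, 1, 1]),
   (3, 2, [-1, 1, 1, -1, 1, 1, -1, -1, 1, -1, 1, 1, -1, 3, 1, 1, 1, 1, 1, 1, 1, -1, 1, 1]),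
   (0, 2, [-1, 1, 1, 1, 1, 1, -1, 3, 1, -1, 1, 1, 1, 1, 1, 1, 1, -1, -1, -1, 1, 1, -1, 1]),
   (0, 0, [-1, -1, 1, -1, 1, 1, 1, 1, 1, 1, 3, 1, 1, 1, -1, 1, -1, 1, 1, 1, -1, 1, -1, 1])]

/-- A piece of a tree. -/
def tree3_5 : List (Nat × Nat × List Int) :=
  [(1, 2, [-1, 1, -1, 1, 1, -1, -1, 1, 1, 3, 1, 1, 1, 1, 1, 1, 1, -1, 1, 1, -1, -1, 1, 1]),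
   (0, 1, [-1, 1, 1, -1, 1, 1, 3, 1, -1, 1, 1, 1, 1, 1, 1, 1, 1, 1, 1, -1, -1, -1, -1, 1]),
   (5, 1, [-1, 1, 1, 1, -1, -1, 3, -1, 1, 1, 1, 1, -1, 1, 1, 1, 1, 1, 1, -1, -1, 1, 1, 1]),
   (0, 0, [-1, 3, -1, 1, 1, 1, -1, 1, 1, 1, -1, 1, 1, 1, 1, 1, -1, -1, -1, 1, 1, 1, 1, 1]),
   (0, 2, [-1, 1, 1, 1, 1, -1, -1, 1, -1, 1, 3, 1, 1, 1, 1, -1, -1, 1, 1, 1, -1, 1, 1, 1]),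
   (2, 1, [-1, -1, 1, 3, 1, 1, 1, 1, 1, -1, -1, 1, 1, 1, 1, 1, 1, -1, 1, -1, 1, -1, 1, 1]),
   (0, 0, [-1, 1, 1, -1, 1, -1, 1, -1, 1, 1, 1, 1, -1, 1, -1, 3, -1, 1, 1, 1, 1, 1, 1, 1]),
   (1, 1, [-1, 1, 1, 1, -1, 3, -1, 1, -1, -1, 1, 1, 1, -1, 1, 1, 1, 1, 1, 1, 1, 1, -1, 1]),
   (3, 2, [-1, 1, 1, 1, 1, 1, 1, -1, -1, 1, 1, -1, 1, 1, 1, -1, -1, 3, -1, 1, 1, 1, 1, 1]),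
   (0, 0, [-1, 1, 1, 3, -1, 1, 1, 1, 1, 1, -1, -1, 1, -1, 1, 1, 1, 1, 1, 1, 1, -1, -1, 1]),
   (0, 0, [-1, 1, -1, 1, 1, 1, 1, -1, -1, 1, 1, 1, -1, 1, 1, 3, 1, 1, 1, 1, -1, -1, 1, 1]),
   (2, 1, [-1, 1, 1, 1, 1, 1, 1, -1, 3, 1, 1, -1, 1, 1, 1, -1, -1, -1, -1, 1, 1, 1, 1, 1]),
   (0, 0, [-1, 1, 1, -1, 3, 1, 1, 1, 1, 1, -1, -1, 1, -1, 1, 1, 1, 1, 1, 1, 1, -1, -1, 1]),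
   (2, 2, [-1, -1, 1, -1, 1, -1, 1, 1, -1, -1, 1, 1, -1, 1, 1, 1, 1, 1, 1, 1, 3, 1, 1, 1]),
   (0, 0, [-1, 1, 1, 1, -1, -1, -1, 1, 1, 1, 1, 1, 1, 1, -1, -1, 1, -1, 3, 1, 1, 1, 1, 1]),
   (1, 1, [-1, 1, 1, 1, 1, -1, -1, 1, 1, 1, -1, 1, 1, -1, 1, 1, 1, 1, -1, -1, 1, 3, 1, 1]),
   (5, 2, [-1, 1, -1, -1, 1, 1, 1, 1, 3, 1, 1, 1, -1, -1, -1, 1, 1, 1, 1, 1, 1, 1, -1, 1]),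
   (0, 0, [-1, 1, 1, 1, 3, 1, 1, 1, -1, -1, 1, 1, 1, 1, 1, -1, 1, -1, 1, -1, -1, 1, 1, 1]),
   (0, 1, [-1, 3, 1, 1, 1, 1, -1, 1, -1, -1, 1, 1, 1, 1, 1, -1, 1, 1, -1, 1, 1, -1, 1, 1]),
   (0, 0, [-1, -1, 1, 1, -1, 3, 1, 1, 1, 1, 1, -1, -1, 1, -1, 1, 1, 1, 1, 1, 1, 1, -1, 1]),
   (0, 0, [-1, 1, -1, 1, 1, -1, 3, 1, 1, -1, 1, 1, 1, 1, 1, 1, 1, -1, 1, 1, -1, -1, 1, 1]),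
   (0, 2, [-1, 1, 1, 1, -1, 1, 3, 1, 1, 1, 1, -1, 1, 1, 1, 1, -1, -1, 1, 1, -1, 1, -1, 1]),
   (3, 1, [-1, 1, 1, -1, 1, 1, -1, 1, 1, 1, 1, 1, 1, 3, 1, -1, -1, 1, -1, 1, 1, 1, -1, 1]),
   (0, 1, [-1, 1, 1, -1, 1, -1, 1, -1, 1, 1, 1, 1, 3, 1, -1, -1, -1, 1, 1, 1, 1, 1, 1, 1]),
   (0, 1, [-1, 1, -1, 1, 1, -1, 1, -1, 1, 1, 3, 1, 1, 1, 1, -1, 1, -1, 1, -1, 1, 1, 1, 1]),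
   (2, 2, [-1, 1, -1, -1, 1, -1, -1, 3, -1, 1, 1, 1, 1, 1, 1, 1, 1, 1, -1, 1, 1, 1, 1, 1]),
   (3, 2, [-1, 1, 1, -1, -1, 1, 1, 1, 1, 1, 1, 1, -1, 1, 3, 1, 1, -1, 1, 1, -1, -1, 1, 1]),
   (0, 0, [-1, 1, -1, -1, 1, 1, 1, 1, 1, 3, 1, 1, -1, 1, 1, -1, 1, -1, -1, 1, 1, 1, 1, 1]),
   (0, 0, [-1, 1, 1, -1, 1, 1, 1, 1, 1, 1, 1, -1, 1, 1, 3, -1, 1, -1, 1, -1, 1, 1, -1, 1]),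
   (0, 1, [-1, 1, 3, 1, 1, -1, 1, 1, -1, -1, 1, -1, 1, 1, -1, -1, 1, 1, 1, 1, 1, 1, 1, 1])]

/-- A piece of a tree. -/
def tree3_6 : List (Nat × Nat × List Int) :=
  [(3, 1, [-1, -1, 3, 1, 1, -1, 1, 1, -1, 1, -1, 1, 1, 1, 1, 1, 1, 1, 1, 1, 1, -1, -1, 1]),
   (0, 0, [-1, 1, 1, 1, -1, -1, -1, -1, 1, 1, 1, 1, -1, 1, 1, 1, 1, 1, 1, 3, -1, 1, 1, 1]),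
   (1, 1, [-1, 1, 1, 1, -1, 1, 1, 1, 1, 1, 1, 1, 1, -1, -1, 1, 1, 1, -1, -1, 3, 1, -1, 1]),
   (2, 2, [-1, 1, 1, 1, -1, 1, 1, 1, 1, 1, 1, 1, 1, 3, -1, 1, 1, 1, -1, -1, -1, 1, -1, 1]),
   (3, 1, [-1, 1, -1, 1, 1, -1, 1, 1, 1, 1, -1, 1, -1, 1, -1, 1, 1, 1, 3, 1, -1, 1, 1, 1]),
   (0, 0, [-1, 1, 1, 1, 1, 1, -1, -1, 1, -1, 1, 1, 1, 1, 1, 1, 1, -1, -1, -1, 1, 1, 3, 1]),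
   (0, 1, [-1, 1, 1, -1, 1, 1, -1, 1, -1, -1, 1, 1, 1, 1, 3, 1, -1, -1, 1, 1, 1, 1, 1, 1]),
   (0, 1, [-1, 1, 3, -1, 1, -1, -1, -1, -1, 1, 1, 1, 1, 1, 1, 1, 1, 1, -1, 1, 1, 1, 1, 1]),
   (1, 2, [-1, 1, 1, 1, 1, 1, -1, 1, -1, 1, 1, 1, -1, 3, 1, 1, 1, -1, -1, 1, -1, 1, 1, 1]),
   (2, 2, [-1, 1, 3, 1, 1, -1, -1, 1, 1, -1, 1, 1, 1, 1, 1, 1, 1, -1, 1, 1, -1, -1, 1, 1]),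
   (0, 0, [-1, -1, 1, -1, 1, 1, -1, 1, 1, 1, 1, 1, -1, 1, -1, 1, 1, 1, -1, 3, 1, 1, 1, 1]),
   (1, 1, [-1, 1, 1, -1, 1, 1, -1, 1, -1, 1, 1, 1, 1, 1, 1, 1, 1, 1, 1, -1, 3, -1, -1, 1]),
   (1, 2, [-1, 1, 1, 1, -1, 1, -1, 1, 1, 1, 1, -1, 1, 1, 1, 1, 3, -1, 1, 1, -1, 1, -1, 1]),
   (3, 1, [-1, 1, -1, 1, -1, 1, 1, 1, 1, 1, -1, 1, 1, 1, 1, 1, 3, 1, 1, -1, -1, -1, 1, 1]),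
   (0, 0, [-1, 1, -1, 1, 1, 1, 1, -1, 1, 1, 1, 1, -1, 3, 1, 1, -1, 1, -1, -1, 1, 1, 1, 1]),
   (0, 1, [-1, 1, 1, 1, 1, 1, 1, -1, 1, -1, -1, 1, 3, 1, 1, 1, -1, -1, 1, 1, -1, 1, 1, 1]),
   (1, 2, [-1, 1, 1, 1, 1, -1, 1, 3, -1, -1, 1, 1, 1, 1, 1, 1, -1, 1, 1, -1, 1, -1, 1, 1]),
   (2, 1, [-1, -1, 1, 1, -1, 1, 1, 3, 1, -1, 1, 1, 1, 1, 1, 1, 1, 1, 1, 1, -1, -1, -1, 1]),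
   (0, 0, [-1, 1, -1, 1, 1, -1, 1, 1, 1, 1, 3, 1, -1, 1, -1, 1, 1, 1, -1, 1, -1, 1, 1, 1]),
   (1, 1, [-1, -1, 1, 1, 1, 1, -1, 1, 1, 1, 1, 1, 1, -1, -1, 1, 1, 3, 1, 1, 1, -1, -1, 1]),
   (3, 2, [-1, 1, 1, 1, -1, 3, 1, 1, 1, 1, 1, -1, 1, -1, 1, -1, -1, 1, 1, -1, 1, 1, 1, 1]),
   (0, 0, [-1, 1, -1, 1, 1, 1, 3, 1, -1, 1, 1, -1, 1, -1, 1, 1, -1, 1, 1, 1, 1, -1, 1, 1]),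
   (0, 0, [-1, 3, 1, 1, -1, 1, 1, 1, -1, 1, 1, 1, -1, -1, 1, 1, 1, 1, 1, -1, 1, -1, 1, 1]),
   (1, 2, [-1, -1, 1, 1, 1, 1, 3, -1, -1, 1, 1, 1, -1, 1, 1, 1, -1, 1, 1, 1, 1, 1, -1, 1]),
   (2, 1, [-1, -1, 1, 1, 1, 1, 1, -1, 1, -1, 1, -1, -1, 1, 1, -1, 1, 1, 1, 3, 1, 1, 1, 1]),
   (0, 0, [-1, 1, 1, 1, 1, -1, 1, 1, 1, 1, -1, -1, 1, 1, -1, 1, 3, -1, 1, 1, 1, -1, 1, 1]),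
   (1, 1, [-1, 1, 1, 1, 1, 1, -1, 1, 1, 3, -1, -1, 1, -1, 1, -1, 1, -1, 1, 1, 1, 1, 1, 1]),
   (1, 2, [-1, -1, 1, -1, 1, 1, 1, 1, 1, -1, -1, 1, 1, 1, 1, 1, 1, -1, 1, -1, 1, 3, 1, 1]),
   (2, 2, [-1, -1, 1, -1, 1, 1, 1, -1, -1, 1, 1, 3, 1, 1, -1, 1, 1, 1, 1, 1, 1, -1, 1, 1]),
   (0, 1, [-1, 1, -1, 1, 1, -1, 1, 1, 1, 1, 1, 3, 1, -1, 1, 1, 1, -1, -1, 1, 1, 1, -1, 1])]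

/-- A piece of a tree. -/
def tree3_7 : List (Nat × Nat × List Int) :=
  [(1, 2, [-1, 3, 1, 1, 1, 1, 1, 1, 1, -1, -1, 1, -1, -1, 1, 1, 1, 1, -1, 1, 1, 1, -1, 1]),
   (4, 2, [-1, 1, -1, 1, 1, 1, 1, -1, 1, 1, 1, 1, 3, -1, 1, 1, -1, 1, -1, -1, 1, 1, 1, 1]),
   (0, 1, [-1, 1, 1, 1, 1, 1, 1, -1, 1, -1, 3, 1, -1, 1, 1, 1, -1, -1, 1, 1, -1, 1, 1, 1]),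
   (0, 0, [-1, 1, 1, -1, 1, 1, 1, 3, 1, 1, -1, 1, 1, -1, -1, 1, 1, -1, -1, 1, 1, 1, 1, 1]),
   (0, 1, [-1, 1, -1, 1, -1, -1, 1, 1, -1, 1, 1, 1, -1, 1, 1, 1, -1, 3, 1, 1, 1, 1, 1, 1]),
   (1, 2, [-1, 1, 1, 1, 1, -1, 1, -1, 1, 3, 1, 1, 1, -1, 1, -1, 1, 1, -1, 1, -1, 1, 1, 1]),
   (0, 1, [-1, 1, 1, 1, 1, 1, 3, 1, 1, 1, 1, 1, -1, 1, 1, -1, -1, -1, 1, -1, 1, -1, 1, 1]),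
   (3, 1, [-1, 1, 1, 1, 3, 1, -1, -1, -1, 1, -1, 1, 1, 1, 1, 1, 1, -1, 1, 1, 1, -1, 1, 1]),
   (0, 0, [-1, -1, 3, -1, -1, 1, 1, -1, 1, 1, -1, 1, -1, 1, 1, 1, 1, 1, 1, 1, 1, 1, 1, 1]),
   (1, 1, [-1, 3, 1, -1, -1, 1, 1, 1, -1, 1, 1, 1, 1, 1, 1, 1, 1, -1, -1, 1, 1, 1, -1, 1]),
   (0, 1, [-1, -1, 1, 1, 1, -1, 1, 1, -1, 1, 1, 1, 1, 3, -1, 1, -1, 1, -1, 1, 1, 1, 1, 1]),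
   (2, 2, [-1, 1, 1, 1, 1, 1, -1, 1, 1, -1, 1, 1, -1, 1, 3, -1, 1, 1, 1, 1, -1, 1, -1, 1]),
   (2, 2, [-1, 1, 1, 1, -1, 1, 1, 1, -1, -1, 1, 1, 1, 1, 1, 3, 1, -1, 1, -1, -1, 1, 1, 1]),
   (0, 0, [-1, 1, -1, -1, -1, 1, 1, 1, 1, 1, 1, 3, 1, 1, -1, 1, -1, 1, -1, 1, 1, 1, 1, 1]),
   (0, 1, [-1, -1, -1, 1, 1, -1, 1, -1, 1, 1, 1, 3, 1, 1, 1, 1, -1, 1, 1, 1, -1, 1, 1, 1]),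
   (2, 1, [-1, -1, 1, 1, 1, 1, -1, 1, -1, -1, 1, 1, 1, 1, 1, 3, 1, 1, -1, 1, 1, -1, 1, 1]),
   (0, 1, [-1, 1, 1, -1, 1, 1, -1, 1, 1, 1, 1, 1, 1, -1, 1, 3, -1, 1, -1, 1, 1, 1, -1, 1]),
   (2, 2, [-1, 1, 1, 3, -1, 1, 1, 1, 1, 1, 1, 1, -1, 1, -1, 1, 1, -1, 1, 1, -1, -1, 1, 1]),
   (3, 2, [-1, 1, 1, 1, 1, -1, 1, -1, -1, -1, 1, 1, 1, 1, 1, 1, -1, 1, 1, 3, 1, -1, 1, 1]),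
   (0, 0, [-1, 1, 1, 1, -1, 1, -1, 1, 1, 1, -1, 1, -1, -1, -1, 1, 3, 1, 1, 1, 1, 1, 1, 1]),
   (0, 0, [-1, -1, -1, 1, 1, 1, 1, -1, -1, -1, 1, 1, 1, 3, 1, 1, 1, -1, 1, 1, 1, 1, 1, 1]),
   (1, 1, [-1, -1, -1, -1, -1, 1, 1, 3, 1, 1, -1, 1, -1, 1, 1, 1, 1, 1, 1, 1, 1, 1, 1, 1]),
   (2, 1, [-1, 1, 1, 1, 1, 1, -1, -1, 1, 3, 1, 1, 1, 1, 1, 1, 1, -1, -1, -1, 1, 1, -1, 1]),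
   (0, 0, [-1, -1, 1, -1, 1, 1, 1, 1, 1, 1, -1, 1, 1, 1, 3, 1, -1, 1, 1, 1, -1, 1, -1, 1]),
   (1, 1, [-1, 1, 1, -1, 1, 1, 3, 1, -1, -1, 1, 1, 1, 1, -1, 1, -1, -1, 1, 1, 1, 1, 1, 1]),
   (0, 1, [-1, 1, -1, 3, 1, -1, -1, -1, -1, 1, 1, 1, 1, 1, 1, 1, 1, 1, -1, 1, 1, 1, 1, 1]),
   (2, 2, [-1, 1, -1, 1, 1, -1, -1, 1, 1, -1, 1, 1, 1, 1, 1, 1, 1, 3, 1, 1, -1, -1, 1, 1]),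
   (0, 0, [-1, -1, 1, 3, 1, 1, -1, 1, 1, 1, 1, 1, -1, 1, -1, 1, 1, 1, -1, -1, 1, 1, 1, 1]),
   (3, 2, [-1, 1, 1, 1, 1, 1, 1, 1, -1, -1, 1, -1, -1, 1, 1, 1, 1, -1, 1, 1, 1, 3, -1, 1]),
   (0, 2, [-1, -1, -1, 1, 1, 1, 1, 1, 1, 1, 1, 1, -1, 1, 1, 1, 1, -1, 1, -1, -1, 1, 3, 1])]

/-- A piece of a tree. -/
def tree3_8 : List (Nat × Nat × List Int) :=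
  [(6, 1, [-1, 1, 1, 1, 1, -1, -1, 1, 1, 3, 1, -1, -1, 1, 1, 1, -1, 1, -1, 1, 1, 1, 1, 1]),
   (0, 0, [-1, -1, 1, 1, 1, 1, -1, 1, 1, 1, 1, 1, 1, -1, 3, 1, 1, -1, 1, 1, 1, -1, -1, 1]),
   (0, 0, [-1, -1, 1, -1, 1, -1, 1, 1, -1, 3, 1, 1, -1, 1, 1, 1, 1, 1, 1, 1, -1, 1, 1, 1]),
   (0, 0, [-1, 1, 1, 1, -1, -1, -1, 1, 1, 1, 1, 1, 1, 1, 3, -1, 1, -1, -1, 1, 1, 1, 1, 1]),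
   (0, 0, [-1, -1, -1, -1, 1, 1, -1, 1, 1, 3, 1, -1, 1, 1, 1, 1, 1, 1, 1, 1, 1, 1, -1, 1]),
   (0, 1, [-1, 1, 1, -1, 1, -1, 3, 1, 1, 1, 1, -1, 1, -1, -1, 1, 1, 1, 1, 1, -1, 1, 1, 1]),
   (1, 2, [-1, -1, -1, 1, 1, 1, -1, 1, 1, 1, -1, 1, 1, 1, 1, 1, -1, 3, -1, 1, 1, 1, 1, 1]),
   (2, 1, [-1, -1, 3, -1, 1, 1, 1, 1, -1, 1, 1, 1, 1, 1, 1, -1, -1, 1, 1, -1, 1, 1, 1, 1]),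
   (0, 0, [-1, 1, 1, 1, -1, -1, 1, 1, 1, 1, 1, -1, 1, -1, 1, -1, -1, 1, 1, 3, 1, 1, 1, 1]),
   (1, 1, [-1, 1, 1, 1, 1, -1, 1, -1, 1, -1, 1, 1, 1, -1, 1, -1, 1, 1, -1, 1, 3, 1, 1, 1]),
   (2, 2, [-1, 1, 1, -1, 1, -1, -1, 1, 1, 1, 1, -1, 1, 3, -1, 1, 1, 1, 1, 1, -1, 1, 1, 1]),
   (0, 0, [-1, -1, 1, 1, 1, 1, -1, 1, 3, -1, 1, 1, 1, 1, 1, -1, 1, 1, -1, 1, 1, -1, 1, 1]),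
   (0, 1, [-1, 1, 1, -1, 1, 1, -1, 1, 1, 1, 1, 1, 1, -1, 1, -1, -1, 1, 3, 1, 1, 1, -1, 1]),
   (2, 1, [-1, 1, -1, -1, 1, -1, 1, 1, 1, 1, 1, -1, 3, 1, 1, 1, 1, 1, 1, -1, 1, -1, 1, 1]),
   (0, 0, [-1, 1, 1, 1, 1, 1, -1, 1, 1, 1, 1, 1, -1, 1, 1, -1, -1, 3, 1, -1, 1, -1, 1, 1]),
   (1, 2, [-1, -1, 1, 1, 1, 1, 1, 1, 1, 1, 1, -1, 1, 1, 1, 1, -1, 1, -1, 3, 1, -1, -1, 1]),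
   (4, 1, [-1, 1, 1, 1, 1, -1, 3, 1, 1, 1, -1, 1, 1, -1, 1, 1, 1, 1, -1, -1, 1, -1, 1, 1]),
   (0, 0, [-1, 3, 1, 1, 1, 1, -1, -1, -1, 1, 1, 1, -1, 1, 1, 1, -1, 1, 1, 1, 1, 1, -1, 1]),
   (0, 1, [-1, 1, 1, -1, 1, 1, 1, -1, 1, 1, -1, 1, 1, 3, -1, 1, 1, -1, -1, 1, 1, 1, 1, 1]),
   (0, 0, [-1, 1, 1, -1, 1, 1, 1, -1, 3, -1, -1, 1, 1, 1, 1, -1, 1, 1, 1, 1, 1, 1, -1, 1]),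
   (3, 1, [-1, 1, 1, 3, -1, 1, 1, 1, 1, -1, 1, 1, -1, 1, 1, 1, -1, 1, 1, -1, 1, 1, -1, 1]),
   (1, 2, [-1, 1, 1, 1, 1, -1, 3, -1, 1, 1, 1, -1, 1, 1, 1, -1, 1, 1, 1, 1, 1, -1, -1, 1]),
   (0, 0, [-1, 3, 1, 1, 1, 1, -1, 1, 1, 1, -1, -1, -1, 1, 1, 1, 1, 1, 1, 1, -1, -1, 1, 1]),
   (1, 1, [-1, 1, 1, 3, 1, 1, 1, 1, 1, 1, 1, -1, 1, 1, -1, -1, 1, -1, 1, -1, 1, 1, -1, 1]),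
   (1, 2, [-1, -1, -1, -1, 1, 1, 3, 1, 1, -1, 1, -1, 1, 1, 1, 1, 1, 1, 1, 1, 1, 1, -1, 1]),
   (3, 2, [-1, 1, 1, 1, -1, 1, 1, 1, 1, 1, -1, -1, -1, 1, 1, 1, 1, 3, -1, -1, 1, 1, 1, 1]),
   (0, 0, [-1, 1, -1, 3, 1, 1, 1, -1, 1, 1, 1, 1, 1, 1, 1, 1, -1, -1, 1, 1, 1, -1, -1, 1]),
   (0, 1, [-1, 1, 1, 1, 1, 3, 1, -1, -1, 1, 1, 1, 1, 1, -1, 1, 1, -1, 1, 1, -1, 1, -1, 1]),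
   (0, 0, [-1, 1, 1, -1, -1, 1, 3, 1, 1, -1, -1, 1, 1, 1, 1, 1, 1, 1, -1, 1, -1, 1, 1, 1]),
   (3, 1, [-1, -1, 1, 1, -1, 1, 1, 1, 3, -1, -1, -1, 1, 1, 1, 1, -1, 1, 1, 1, 1, 1, 1, 1])]

/-- A piece of a tree. -/
def tree3_9 : List (Nat × Nat × List Int) :=
  [(0, 0, [-1, 1, -1, 1, 3, -1, 1, -1, 1, 1, 1, 1, 1, -1, -1, 1, 1, 1, 1, 1, 1, -1, 1, 1]),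
   (0, 2, [-1, 1, 1, 1, 1, 1, 1, -1, 1, -1, 1, -1, 1, -1, 3, 1, -1, 1, 1, 1, 1, 1, -1, 1]),
   (3, 2, [-1, -1, 1, 1, 1, -1, 1, 1, 1, 1, 1, 1, 1, 1, -1, -1, 1, 1, 1, -1, 3, -1, 1, 1]),
   (0, 1, [-1, 1, -1, 1, 1, 1, 1, 1, 1, -1, 1, 1, 1, -1, 1, -1, 1, 1, 1, -1, 1, 3, -1, 1]),
   (0, 0, [-1, 1, 1, 1, 1, 1, 1, 1, -1, 1, 1, -1, 3, 1, -1, 1, -1, 1, 1, -1, -1, 1, 1, 1]),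
   (5, 1, [-1, 1, 3, -1, 1, 1, 1, 1, -1, 1, 1, 1, -1, -1, -1, 1, 1, 1, 1, 1, 1, 1, -1, 1]),
   (0, 0, [-1, 1, 1, 1, -1, 1, 1, 1, -1, -1, 1, 1, 1, 1, 1, -1, 1, -1, 1, 3, -1, 1, 1, 1]),
   (0, 0, [-1, 1, -1, -1, -1, 1, 1, 1, 1, 1, 1, -1, 1, 1, -1, 1, 3, 1, -1, 1, 1, 1, 1, 1]),
   (0, 0, [-1, 1, -1, 1, 1, 1, 1, 1, 1, -1, 1, 1, 1, 3, 1, -1, 1, 1, 1, -1, 1, -1, -1, 1]),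
   (1, 1, [-1, -1, -1, 1, 1, -1, 1, 3, 1, 1, 1, -1, 1, 1, 1, 1, -1, 1, 1, 1, -1, 1, 1, 1]),
   (0, 1, [-1, 1, 1, 1, 1, 1, 1, -1, 1, 1, 1, -1, 1, -1, 1, 1, 1, 3, 1, -1, -1, -1, 1, 1]),
   (2, 2, [-1, -1, 1, 1, 1, -1, 1, 1, 3, 1, 1, 1, 1, -1, -1, 1, -1, 1, -1, 1, 1, 1, 1, 1]),
   (0, 2, [-1, 1, 1, 1, 1, -1, 1, -1, -1, 1, -1, -1, 3, -1, 1, 1, 1, 1, 1, 1, 1, 1, 1, 1]),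
   (3, 1, [-1, -1, 1, 1, 1, 1, -1, 1, -1, 3, 1, 1, 1, 1, 1, -1, 1, 1, -1, 1, 1, -1, 1, 1]),
   (0, 0, [-1, -1, 1, 1, -1, -1, 1, 1, 1, 1, 1, -1, -1, 1, 3, 1, 1, 1, 1, 1, 1, 1, -1, 1]),
   (1, 1, [-1, 1, 1, -1, 1, 1, 3, 1, 1, 1, 1, 1, 1, -1, 1, -1, -1, 1, -1, 1, 1, 1, -1, 1]),
   (2, 2, [-1, 1, 1, -1, -1, 1, 1, 1, 1, 1, 1, 1, -1, 1, -1, 1, 1, -1, 1, 1, -1, 3, 1, 1]),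
   (0, 0, [-1, 1, -1, -1, 1, 1, 1, 1, 1, -1, 1, 1, 3, 1, 1, -1, 1, -1, -1, 1, 1, 1, 1, 1]),
   (0, 2, [-1, 1, 1, -1, 1, -1, 1, 1, 1, 1, 1, 1, 1, 1, 1, 1, -1, -1, -1, 3, -1, 1, 1, 1]),
   (2, 1, [-1, -1, -1, 1, 1, -1, 1, 1, -1, 1, -1, 1, 1, 1, 1, 1, 1, 1, 1, 1, 1, -1, 3, 1]),
   (3, 1, [-1, 1, -1, 1, 1, -1, 1, 1, 1, 1, -1, 1, -1, 1, -1, 1, 1, 1, -1, 1, 3, 1, 1, 1]),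
   (0, 0, [-1, 1, 1, 1, 1, 1, -1, -1, 1, -1, 1, 1, 1, 1, 1, 1, 1, -1, 3, -1, 1, 1, -1, 1]),
   (0, 0, [-1, -1, 1, -1, 1, 1, 1, 1, 1, 1, -1, 1, 1, 1, -1, 1, -1, 1, 1, 1, -1, 1, 3, 1]),
   (2, 1, [-1, 1, -1, 1, -1, 1, 1, 1, 1, 1, -1, 1, 1, 1, 1, 1, -1, 1, 1, -1, -1, 3, 1, 1]),
   (1, 2, [-1, 1, 1, 1, 3, -1, 1, 1, 1, 1, 1, -1, 1, -1, 1, -1, -1, 1, 1, -1, 1, 1, 1, 1]),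
   (0, 0, [-1, 1, 3, 1, 1, 1, -1, 1, -1, 1, 1, -1, 1, -1, 1, 1, -1, 1, 1, 1, 1, -1, 1, 1]),
   (1, 1, [-1, 3, 1, 1, 1, 1, 1, -1, 1, -1, 1, -1, -1, 1, 1, -1, 1, 1, 1, -1, 1, 1, 1, 1]),
   (1, 2, [-1, -1, 1, -1, 1, 1, 1, -1, -1, 1, 1, -1, 1, 1, 3, 1, 1, 1, 1, 1, 1, -1, 1, 1]),
   (3, 2, [-1, 1, -1, 1, 1, 1, 1, -1, 1, 1, 1, 1, -1, -1, 1, 1, 3, 1, -1, -1, 1, 1, 1, 1]),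
   (0, 0, [-1, 1, 1, 1, 1, 1, 1, 1, -1, 1, -1, 1, 1, 3, 1, 1, -1, -1, 1, -1, 1, 1, -1, 1])]

/-- A piece of a tree. -/
def tree3_10 : List (Nat × Nat × List Int) :=
  [(0, 0, [-1, 1, 1, -1, -1, 1, 1, -1, 3, 1, 1, 1, 1, -1, 1, 1, -1, 1, 1, 1, -1, 1, 1, 1]),
   (1, 1, [-1, 1, 1, 1, -1, 1, 1, -1, -1, -1, 1, 1, 3, 1, -1, 1, 1, 1, -1, 1, 1, 1, 1, 1]),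
   (0, 0, [-1, 1, -1, 1, -1, 1, 1, 1, 1, -1, -1, 1, 1, 1, -1, 1, 1, 3, 1, 1, 1, 1, -1, 1]),
   (3, 1, [-1, 1, 1, 1, 1, 1, 1, 3, 1, -1, -1, 1, -1, 1, 1, 1, -1, -1, 1, 1, -1, 1, 1, 1]),
   (0, 0, [-1, 1, 1, -1, 1, 1, 1, -1, 1, 1, 3, 1, 1, -1, -1, 1, 1, -1, -1, 1, 1, 1, 1, 1]),
   (1, 2, [-1, 1, 1, 1, -1, 1, 1, 1, -1, 3, 1, 1, 1, 1, 1, -1, 1, -1, 1, -1, -1, 1, 1, 1]),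
   (2, 2, [-1, 1, 1, 1, 1, -1, 1, -1, 3, -1, 1, 1, 1, 1, 1, 1, -1, 1, 1, -1, 1, -1, 1, 1]),
   (3, 2, [-1, 1, -1, 1, 1, 1, -1, -1, 1, 1, -1, 1, 1, 3, 1, 1, 1, 1, 1, 1, -1, 1, -1, 1]),
   (0, 0, [-1, -1, 1, 1, 1, 1, 1, -1, 3, 1, -1, 1, 1, 1, 1, 1, 1, 1, -1, -1, -1, 1, 1, 1]),
   (0, 0, [-1, 1, 1, 1, 3, -1, 1, -1, 1, 1, -1, 1, 1, 1, 1, 1, -1, 1, -1, 1, 1, 1, -1, 1]),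
   (0, 0, [-1, 1, 3, 1, 1, 1, -1, -1, 1, 1, -1, 1, 1, -1, 1, 1, 1, 1, 1, 1, -1, 1, -1, 1]),
   (0, 1, [-1, 1, 1, -1, -1, 1, 1, 1, 1, 1, 1, 1, -1, 1, -1, 1, 1, -1, 1, 1, 3, -1, 1, 1]),
   (2, 1, [-1, 3, 1, 1, -1, 1, 1, -1, 1, 1, 1, 1, 1, 1, -1, 1, -1, -1, 1, -1, 1, 1, 1, 1]),
   (2, 1, [-1, 1, 1, 1, -1, 1, 1, 1, 1, -1, 1, 1, 1, -1, 1, 1, -1, -1, 3, 1, 1, -1, 1, 1]),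
   (0, 0, [-1, 1, -1, -1, 1, 1, 1, 1, -1, 1, 1, 1, -1, -1, -1, 1, 1, 1, 1, 1, 1, 1, 3, 1]),
   (1, 1, [-1, -1, 1, 1, 1, 1, -1, -1, -1, 1, 1, 1, -1, 1, 1, 1, 3, 1, 1, 1, 1, 1, -1, 1]),
   (2, 2, [-1, 1, 1, 1, -1, -1, 1, 1, 1, -1, -1, 1, 3, 1, 1, -1, 1, 1, 1, 1, 1, -1, 1, 1]),
   (0, 1, [-1, -1, 1, 1, -1, 1, -1, 1, 1, 1, 3, 1, 1, 1, 1, -1, 1, 1, 1, -1, 1, 1, -1, 1]),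
   (3, 1, [-1, 1, 1, -1, -1, 1, 1, 1, 1, 1, 1, 1, 3, 1, -1, 1, 1, -1, 1, 1, -1, -1, 1, 1]),
   (0, 0, [-1, 1, -1, -1, 1, 1, 1, 1, 1, -1, 1, 1, -1, 1, 1, -1, 1, 3, -1, 1, 1, 1, 1, 1]),
   (0, 1, [-1, 1, 1, 1, 1, -1, -1, 1, 3, 1, -1, 1, 1, 1, 1, -1, -1, 1, 1, 1, -1, 1, 1, 1]),
   (1, 2, [-1, 1, 1, -1, 1, -1, 1, 1, 1, 1, 1, 1, 1, 1, 1, 1, -1, -1, -1, -1, 3, 1, 1, 1]),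
   (3, 2, [-1, 1, -1, 1, -1, 1, -1, 3, 1, -1, 1, 1, 1, 1, 1, -1, -1, 1, 1, 1, 1, 1, 1, 1]),
   (0, 0, [-1, -1, -1, 1, 1, 1, 1, 1, 1, 1, 3, -1, 1, -1, -1, 1, 1, 1, 1, -1, 1, 1, 1, 1]),
   (1, 2, [-1, 1, 1, -1, 1, 1, -1, 1, -1, 3, 1, 1, 1, 1, -1, 1, -1, -1, 1, 1, 1, 1, 1, 1]),
   (0, 0, [-1, -1, 1, -1, -1, 1, 1, 1, 1, -1, 1, 1, 1, -1, 3, -1, 1, 1, 1, 1, 1, 1, 1, 1]),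
   (5, 1, [-1, 1, 1, -1, 1, 1, 3, -1, 1, 1, -1, -1, 1, 1, 1, 1, -1, 1, 1, -1, 1, 1, 1, 1]),
   (0, 0, [-1, 3, 1, 1, 1, 1, 1, -1, 1, 1, -1, 1, 1, -1, 1, -1, -1, 1, 1, 1, 1, -1, 1, 1]),
   (0, 0, [-1, 1, 1, 1, 1, 3, 1, -1, -1, 1, -1, -1, -1, -1, 1, 1, 1, 1, 1, 1, 1, 1, 1, 1]),
   (0, 0, [-1, 1, 1, 1, -1, 1, 3, -1, -1, 1, -1, 1, 1, 1, 1, 1, 1, -1, 1, 1, 1, -1, 1, 1])]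

/-- A piece of a tree. -/
def tree3_11 : List (Nat × Nat × List Int) :=
  [(0, 0, [-1, 3, -1, -1, -1, 1, 1, -1, 1, 1, -1, 1, -1, 1, 1, 1, 1, 1, 1, 1, 1, 1, 1, 1]),
   (1, 2, [-1, 1, 1, 1, 1, 1, 3, 1, 1, -1, 1, 1, -1, 1, -1, -1, 1, 1, 1, 1, -1, 1, -1, 1]),
   (0, 1, [-1, 1, -1, 3, 1, 1, -1, 1, 1, 1, -1, 1, 1, 1, -1, -1, 1, 1, 1, 1, 1, -1, 1, 1]),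
   (3, 2, [-1, -1, 1, 1, 1, 1, 1, -1, 1, -1, 1, 3, -1, 1, 1, -1, 1, 1, 1, -1, 1, 1, 1, 1]),
   (2, 1, [-1, 1, 1, 1, -1, 1, 1, -1, 1, 1, 1, 1, -1, 3, 1, -1, 1, -1, 1, 1, 1, 1, -1, 1]),
   (0, 0, [-1, 1, -1, -1, 1, 1, 1, 1, 3, 1, -1, -1, 1, 1, 1, 1, 1, -1, 1, 1, -1, 1, 1, 1]),
   (1, 1, [-1, -1, 1, 1, 1, 1, 1, 1, -1, 1, -1, 1, 3, 1, -1, -1, 1, -1, 1, 1, 1, 1, 1, 1]),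
   (0, 0, [-1, 1, 1, -1, -1, -1, 1, -1, 1, -1, 1, -1, 1, 1, 1, 1, 1, 3, 1, 1, 1, 1, 1, 1]),
   (0, 1, [-1, -1, 1, 1, 1, -1, -1, 1, 3, 1, 1, -1, 1, 1, 1, 1, 1, -1, 1, -1, 1, 1, 1, 1]),
   (1, 2, [-1, -1, 1, 1, 1, 1, 1, 1, 1, -1, 1, -1, 1, 1, -1, 1, 1, -1, -1, 1, 3, 1, 1, 1]),
   (2, 1, [-1, 1, -1, 1, -1, 1, 1, 1, -1, 1, 3, 1, 1, -1, 1, -1, 1, 1, -1, 1, 1, 1, 1, 1]),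
   (0, 1, [-1, -1, 1, 1, 3, 1, 1, 1, 1, 1, 1, 1, -1, 1, 1, -1, -1, 1, -1, 1, -1, 1, 1, 1]),
   (3, 2, [-1, 1, -1, -1, 1, 1, 1, 3, 1, -1, 1, 1, 1, 1, -1, 1, 1, 1, 1, -1, -1, 1, 1, 1]),
   (0, 0, [-1, 1, 1, 1, 1, 1, 1, 1, 1, -1, 3, 1, 1, 1, -1, -1, -1, 1, -1, -1, 1, 1, 1, 1]),
   (1, 2, [-1, 1, 1, 1, -1, 1, 1, 1, 1, 3, 1, 1, 1, -1, 1, 1, -1, -1, -1, 1, 1, -1, 1, 1]),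
   (3, 2, [-1, 1, 1, -1, 1, 1, 1, -1, -1, -1, 3, 1, 1, 1, 1, -1, 1, 1, 1, 1, 1, 1, -1, 1]),
   (0, 0, [-1, 1, 1, 1, -1, 1, 1, 3, 1, 1, -1, -1, 1, 1, -1, -1, 1, 1, 1, 1, -1, 1, 1, 1]),
   (0, 0, [-1, 1, -1, 1, 1, 1, 1, -1, 1, -1, 3, -1, 1, 1, 1, 1, 1, 1, -1, 1, 1, -1, 1, 1]),
   (0, 2, [-1, -1, 1, 1, 1, -1, 1, 1, 1, -1, 1, 1, 1, 1, 1, 3, -1, -1, 1, 1, 1, 1, -1, 1]),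
   (3, 1, [-1, 1, 1, 1, 3, -1, -1, 1, 1, 1, 1, 1, 1, 1, -1, -1, 1, -1, -1, 1, 1, 1, 1, 1]),
   (0, 1, [-1, 3, -1, -1, 1, 1, 1, 1, -1, 1, 1, 1, 1, 1, 1, -1, -1, 1, 1, -1, 1, 1, 1, 1]),
   (1, 2, [-1, 1, 1, -1, 1, -1, -1, 1, 1, 1, 1, -1, 1, -1, 3, 1, 1, 1, 1, 1, -1, 1, 1, 1]),
   (2, 2, [-1, 1, -1, -1, 1, 1, 1, 1, 1, -1, 1, 1, -1, 1, 1, 3, 1, -1, -1, 1, 1, 1, 1, 1]),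
   (0, 0, [-1, 1, 1, -1, 1, 1, 1, 1, 1, 1, 1, 3, 1, 1, -1, -1, 1, -1, 1, -1, 1, 1, -1, 1]),
   (0, 1, [-1, 1, -1, 1, 1, -1, 1, 1, -1, -1, 1, 3, 1, 1, -1, -1, 1, 1, 1, 1, 1, 1, 1, 1]),
   (1, 2, [-1, 3, -1, -1, 1, 1, 1, 1, 1, 1, 1, 1, 1, -1, 1, 1, 1, 1, -1, 1, -1, -1, 1, 1]),
   (2, 1, [-1, 1, 1, 1, 1, -1, -1, 1, -1, 1, -1, 1, 1, 1, 1, 3, -1, 1, 1, 1, -1, 1, 1, 1]),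
   (1, 2, [-1, 1, 1, 3, 1, -1, 1, 1, 1, 1, 1, 1, 1, 1, 1, 1, -1, -1, -1, -1, -1, 1, 1, 1]),
   (4, 1, [-1, 1, 1, 3, -1, -1, 1, -1, 1, -1, 1, -1, 1, 1, 1, 1, 1, -1, 1, 1, 1, 1, 1, 1]),
   (0, 0, [-1, 1, -1, -1, 1, 1, -1, 1, 1, 1, -1, 1, 1, 1, -1, 3, 1, 1, 1, 1, 1, -1, 1, 1])]

/-- A piece of a tree. -/
def tree3_12 : List (Nat × Nat × List Int) :=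
  [(0, 1, [-1, 1, -1, -1, -1, -1, 1, 1, 1, 1, 1, 1, 1, 1, 1, 3, 1, 1, 1, 1, -1, 1, -1, 1]),
   (0, 0, [-1, 1, -1, 1, 1, 1, -1, 1, 1, 1, 1, 3, 1, 1, 1, -1, 1, 1, -1, -1, -1, 1, 1, 1]),
   (1, 2, [-1, 1, -1, 3, -1, 1, 1, 1, 1, 1, 1, -1, 1, 1, -1, 1, -1, 1, -1, 1, 1, 1, 1, 1]),
   (0, 1, [-1, -1, -1, 1, 1, 3, 1, -1, 1, 1, 1, -1, 1, 1, 1, 1, -1, 1, 1, 1, -1, 1, 1, 1]),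
   (1, 2, [-1, -1, 1, 1, 1, -1, 1, 1, -1, 1, 1, 1, 1, -1, -1, 1, -1, 1, 3, 1, 1, 1, 1, 1]),
   (4, 1, [-1, -1, 1, 1, 1, 3, -1, 1, -1, 1, 1, -1, 1, 1, 1, 1, 1, -1, 1, -1, 1, 1, 1, 1]),
   (0, 0, [-1, -1, 1, -1, -1, -1, 3, 1, 1, 1, 1, 1, 1, 1, 1, 1, -1, 1, 1, 1, 1, -1, 1, 1]),
   (0, 0, [-1, 3, -1, 1, 1, -1, -1, 1, 1, 1, 1, 1, -1, -1, 1, -1, 1, 1, 1, 1, 1, 1, 1, 1]),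
   (2, 2, [-1, -1, 1, 1, 1, 1, -1, 1, 1, 1, -1, 3, -1, 1, 1, 1, 1, 1, 1, 1, -1, -1, 1, 1]),
   (0, 2, [-1, 3, 1, 1, -1, 1, -1, 1, 1, 1, -1, 1, 1, 1, 1, -1, 1, 1, 1, -1, 1, 1, -1, 1]),
   (0, 2, [-1, 1, -1, -1, 1, 1, -1, 1, 1, 1, 3, 1, 1, 1, -1, -1, 1, 1, 1, 1, 1, -1, 1, 1]),
   (5, 2, [-1, -1, 1, 1, 1, 1, 3, 1, -1, -1, 1, 1, 1, 1, 1, -1, 1, 1, -1, 1, 1, -1, 1, 1]),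
   (0, 0, [-1, 3, 1, 1, -1, -1, 1, 1, 1, 1, 1, -1, -1, 1, -1, 1, 1, 1, 1, 1, 1, 1, -1, 1]),
   (0, 0, [-1, 1, -1, 1, 1, 3, -1, 1, 1, -1, 1, 1, 1, 1, 1, 1, 1, -1, 1, 1, -1, -1, 1, 1]),
   (0, 1, [-1, 1, 1, -1, 1, 1, -1, 1, -1, 1, 1, 1, 1, 1, 1, 1, 1, 1, 1, 3, -1, -1, -1, 1]),
   (1, 2, [-1, 1, 1, 1, -1, 1, -1, 1, 1, 1, 1, 3, 1, 1, 1, 1, -1, -1, 1, 1, -1, 1, -1, 1]),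
   (2, 1, [-1, -1, -1, 1, 1, 1, 1, 1, 1, 1, -1, -1, 1, 3, -1, 1, 1, 1, 1, -1, 1, 1, 1, 1]),
   (0, 1, [-1, 1, -1, 1, -1, 1, 1, 1, 1, -1, 1, -1, 3, -1, 1, 1, 1, 1, 1, 1, -1, 1, 1, 1]),
   (1, 2, [-1, -1, 1, 1, 1, 1, 1, 3, 1, 1, -1, 1, 1, -1, 1, -1, -1, 1, 1, 1, 1, -1, 1, 1]),
   (0, 0, [-1, 1, 1, 1, 1, -1, 1, -1, -1, 1, 3, -1, -1, -1, 1, 1, 1, 1, 1, 1, 1, 1, 1, 1]),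
   (1, 2, [-1, 1, 1, -1, 1, 1, 1, -1, -1, 3, -1, 1, 1, 1, 1, -1, 1, 1, 1, 1, 1, 1, -1, 1]),
   (4, 1, [-1, 1, 1, 3, 1, 1, -1, 1, 1, 1, 1, 1, 1, -1, 1, -1, -1, 1, -1, 1, 1, 1, -1, 1]),
   (0, 1, [-1, 1, 1, -1, 1, 3, 1, -1, 1, 1, 1, 1, -1, 1, -1, -1, -1, 1, 1, 1, 1, 1, 1, 1]),
   (0, 1, [-1, 1, -1, 1, 1, -1, 1, -1, 1, 1, -1, 1, 1, 1, 1, -1, 1, -1, 1, 3, 1, 1, 1, 1]),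
   (1, 2, [-1, 1, 1, -1, 1, 1, 1, 1, -1, -1, 1, 3, 1, -1, 1, 1, 1, 1, -1, -1, 1, 1, 1, 1]),
   (2, 2, [-1, 1, -1, -1, 1, -1, -1, -1, -1, 1, 1, 1, 1, 1, 1, 1, 1, 1, 3, 1, 1, 1, 1, 1]),
   (2, 2, [-1, 1, 1, -1, 1, -1, 3, 1, 1, 1, -1, 1, -1, 1, 1, 1, 1, -1, 1, 1, 1, 1, -1, 1]),
   (0, 0, [-1, 3, 1, -1, 1, 1, -1, -1, 1, 1, 1, 1, 1, 1, 1, -1, 1, -1, 1, 1, -1, 1, 1, 1]),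
   (0, 0, [-1, -1, 1, -1, 1, 3, 1, 1, 1, 1, -1, -1, 1, 1, 1, -1, 1, 1, -1, 1, 1, 1, 1, 1]),
   (1, 1, [-1, 1, 1, -1, 1, -1, 1, 1, -1, 1, 1, 1, 1, 3, 1, -1, 1, -1, 1, 1, 1, -1, 1, 1])]

/-- A piece of a tree. -/
def tree3_13 : List (Nat × Nat × List Int) :=
  [(1, 2, [-1, 1, 1, -1, -1, 1, -1, 1, 1, -1, 3, 1, 1, 1, 1, 1, 1, 1, -1, 1, -1, 1, 1, 1]),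
   (2, 2, [-1, 1, -1, 1, 1, 1, 3, 1, 1, 1, 1, -1, 1, 1, 1, -1, 1, 1, -1, -1, -1, 1, 1, 1]),
   (0, 1, [-1, 1, 1, 3, 1, 1, 1, 1, 1, -1, 1, -1, 1, 1, 1, -1, -1, 1, 1, 1, -1, -1, 1, 1]),
   (5, 2, [-1, -1, 1, 1, 1, -1, -1, 1, -1, 1, 1, -1, 1, 1, 1, 1, 1, 3, 1, -1, 1, 1, 1, 1]),
   (0, 0, [-1, -1, 1, 3, -1, -1, -1, 1, 1, 1, 1, 1, 1, 1, 1, 1, -1, 1, 1, 1, 1, -1, 1, 1]),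
   (0, 0, [-1, -1, -1, 1, 1, -1, -1, 1, 1, 1, 1, 1, -1, -1, 1, 3, 1, 1, 1, 1, 1, 1, 1, 1]),
   (0, 0, [-1, -1, 1, 1, 1, -1, -1, 1, -1, 1, 1, 3, 1, 1, 1, 1, 1, -1, 1, -1, 1, 1, 1, 1]),
   (1, 1, [-1, 1, 1, -1, 1, 1, 1, 1, 1, 1, -1, 1, -1, -1, 1, 3, 1, 1, 1, -1, -1, 1, 1, 1]),
   (0, 0, [-1, 1, 1, 1, 1, 1, 1, -1, -1, 1, 1, 3, 1, 1, 1, -1, -1, -1, -1, 1, 1, 1, 1, 1]),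
   (1, 1, [-1, 1, 1, 1, -1, -1, 1, 1, 1, -1, -1, 1, -1, 1, 1, 3, 1, 1, 1, 1, 1, -1, 1, 1]),
   (0, 1, [-1, -1, 1, 1, -1, 1, -1, 1, 1, 1, -1, 1, 1, 1, 1, 3, 1, 1, 1, -1, 1, 1, -1, 1]),
   (2, 2, [-1, 1, 1, 3, -1, 1, 1, -1, 1, 1, 1, 1, 1, 1, 1, -1, 1, 1, -1, -1, 1, -1, 1, 1]),
   (0, 2, [-1, 1, 1, -1, 1, -1, 1, 1, 1, -1, 1, 1, 1, 1, -1, 1, 1, 1, 3, 1, 1, -1, -1, 1]),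
   (4, 1, [-1, -1, 1, -1, 1, 3, 1, -1, 1, 1, 1, 1, 1, -1, 1, 1, 1, 1, 1, -1, 1, 1, -1, 1]),
   (0, 0, [-1, 1, 1, 1, 1, -1, 3, 1, -1, 1, -1, 1, 1, 1, 1, -1, -1, 1, 1, 1, -1, 1, 1, 1]),
   (0, 0, [-1, 3, 1, 1, -1, 1, -1, -1, 1, 1, 1, -1, 1, -1, 1, 1, 1, 1, -1, 1, 1, 1, 1, 1]),
   (1, 2, [-1, 1, 1, -1, -1, 1, 3, 1, -1, 1, 1, -1, -1, 1, 1, -1, 1, 1, 1, 1, 1, 1, 1, 1]),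
   (2, 1, [-1, 1, 1, 1, 1, -1, 1, 1, 1, -1, 1, 1, -1, -1, -1, 1, 1, -1, 1, 3, 1, 1, 1, 1]),
   (0, 1, [-1, 1, -1, 1, 1, 1, -1, 1, -1, 3, -1, 1, -1, 1, 1, 1, 1, 1, 1, -1, 1, 1, 1, 1]),
   (2, 2, [-1, 1, -1, 1, 1, 1, 1, -1, 1, -1, -1, 3, 1, 1, 1, 1, 1, 1, -1, 1, 1, -1, 1, 1]),
   (0, 0, [-1, 1, 1, 1, 1, 1, 1, -1, 1, 1, -1, 1, -1, 1, -1, 1, 1, 1, 1, -1, 1, 3, -1, 1]),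
   (3, 2, [-1, 1, 1, 1, 1, 1, -1, 1, -1, 1, -1, -1, 1, 1, -1, 1, 1, 1, 3, 1, 1, 1, -1, 1]),
   (0, 0, [-1, -1, 1, 1, -1, 1, 1, -1, 1, -1, 1, 1, 1, 1, 1, 1, 1, 1, 1, 1, -1, -1, 3, 1]),
   (1, 2, [-1, -1, -1, 1, 1, 3, -1, 1, 1, 1, 1, 1, -1, -1, 1, -1, 1, 1, 1, 1, 1, 1, 1, 1]),
   (0, 2, [-1, 1, 1, -1, 1, 1, -1, -1, 1, 1, -1, 3, 1, 1, 1, 1, -1, 1, 1, -1, 1, 1, 1, 1]),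
   (0, 1, [-1, 1, 1, -1, -1, -1, 1, -1, 1, -1, 1, 3, 1, 1, 1, 1, 1, -1, 1, 1, 1, 1, 1, 1]),
   (5, 1, [-1, 1, 1, -1, 1, 1, 1, 1, 3, -1, 1, -1, 1, -1, 1, 1, 1, 1, -1, -1, 1, 1, 1, 1]),
   (0, 0, [-1, 1, 1, 1, 3, 1, 1, 1, -1, 1, 1, 1, 1, 1, -1, -1, -1, 1, 1, 1, 1, -1, -1, 1]),
   (0, 0, [-1, 1, 3, 1, -1, 1, 1, 1, 1, -1, 1, -1, -1, -1, 1, 1, 1, 1, 1, 1, -1, 1, 1, 1]),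
   (0, 2, [-1, -1, 1, 1, -1, 1, 1, -1, 1, 1, 1, 1, 1, 1, -1, 1, 3, -1, 1, -1, 1, 1, 1, 1])]

/-- A piece of a tree. -/
def tree3_14 : List (Nat × Nat × List Int) :=
  [(2, 2, [-1, 1, -1, -1, 1, 1, 1, 1, -1, 1, 1, 1, -1, -1, 3, 1, 1, 1, 1, 1, 1, 1, -1, 1]),
   (0, 1, [-1, 1, 3, 1, 1, -1, 1, 1, 1, 1, -1, 1, -1, 1, -1, 1, 1, 1, -1, 1, -1, 1, 1, 1]),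
   (3, 1, [-1, 1, 1, 1, 1, -1, -1, 1, 1, -1, 1, -1, -1, 1, 1, 1, -1, 1, 3, 1, 1, 1, 1, 1]),
   (0, 0, [-1, -1, 1, 1, 1, 1, -1, 1, 1, 1, 1, 1, 1, -1, -1, 1, 1, -1, 1, 1, 1, -1, 3, 1]),
   (1, 1, [-1, 1, 1, -1, 1, 1, -1, -1, 1, 1, -1, -1, 1, 1, 1, 1, 3, 1, 1, -1, 1, 1, 1, 1]),
   (0, 0, [-1, -1, 1, 1, 1, 1, 1, -1, 1, 1, -1, 1, 1, 3, 1, -1, -1, 1, 1, 1, 1, -1, 1, 1]),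
   (1, 1, [-1, 1, 1, -1, -1, -1, 1, 3, 1, -1, 1, -1, 1, 1, 1, 1, 1, -1, 1, 1, 1, 1, 1, 1]),
   (3, 2, [-1, -1, 1, 1, 1, -1, 1, -1, 1, 1, 1, 1, 3, 1, 1, 1, 1, -1, -1, 1, 1, -1, 1, 1]),
   (0, 0, [-1, 1, 1, -1, 1, -1, -1, 1, 1, 1, -1, 1, -1, 1, 1, 1, 1, 3, 1, 1, 1, 1, -1, 1]),
   (0, 0, [-1, -1, 1, 3, 1, 1, -1, -1, 1, 1, 1, 1, 1, 1, 1, -1, 1, -1, 1, 1, -1, 1, 1, 1]),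
   (0, 1, [-1, 1, 1, -1, 1, 3, 1, 1, -1, 1, 1, 1, 1, -1, 1, -1, 1, -1, 1, 1, 1, -1, 1, 1]),
   (2, 1, [-1, 1, 1, -1, -1, -1, 1, 1, 3, 1, -1, 1, 1, 1, -1, 1, 1, 1, 1, -1, 1, 1, 1, 1]),
   (2, 1, [-1, 1, 1, 1, 1, 1, 1, 1, -1, 1, 3, 1, 1, -1, 1, 1, -1, -1, 1, -1, 1, 1, -1, 1]),
   (0, 0, [-1, 1, 1, -1, -1, 1, 1, 3, -1, 1, 1, 1, 1, -1, 1, 1, -1, 1, 1, 1, -1, 1, 1, 1]),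
   (2, 2, [-1, 1, 1, 1, 1, -1, 1, 1, 1, -1, -1, -1, 1, 1, 1, 1, 1, 1, 1, 3, -1, 1, -1, 1]),
   (0, 1, [-1, 1, 1, 1, -1, 1, -1, 1, 1, 3, 1, -1, 1, 1, -1, 1, 1, 1, 1, -1, 1, -1, 1, 1]),
   (4, 2, [-1, -1, 1, 1, 1, 1, -1, 1, 1, 1, -1, -1, -1, 1, 1, 1, 1, 1, 1, 1, 3, -1, 1, 1]),
   (0, 0, [-1, -1, 1, 1, 1, -1, 1, -1, 1, 1, 1, 1, -1, 1, 1, 1, 1, -1, 3, 1, 1, -1, 1, 1]),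
   (0, 0, [-1, 1, 1, -1, 1, -1, -1, 1, 1, 1, -1, 1, -1, 1, 1, 1, 1, -1, 1, 1, 1, 1, 3, 1]),
   (0, 1, [-1, 1, 1, -1, -1, -1, 1, 1, -1, 1, -1, 1, 1, 1, 3, 1, 1, 1, 1, -1, 1, 1, 1, 1]),
   (0, 2, [-1, 1, 1, 1, 1, 1, 1, 1, 1, 1, 1, -1, -1, 3, -1, -1, 1, 1, -1, 1, 1, -1, 1, 1]),
   (2, 2, [-1, 1, 3, 1, 1, 1, -1, 1, 1, 1, 1, -1, 1, 1, 1, -1, 1, 1, -1, -1, -1, 1, 1, 1]),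
   (2, 1, [-1, 1, 1, 1, 1, 1, 1, 1, -1, 1, -1, 1, 1, -1, 1, 1, 3, -1, 1, -1, 1, 1, -1, 1]),
   (1, 2, [-1, 1, 1, 1, 1, 3, 1, 1, 1, -1, -1, -1, 1, 1, 1, 1, 1, 1, 1, -1, -1, 1, -1, 1]),
   (0, 0, [-1, 1, 1, 1, 1, 1, 3, -1, 1, 1, 1, 1, 1, 1, -1, 1, -1, 1, -1, 1, -1, -1, 1, 1]),
   (0, 2, [-1, 1, 1, 1, -1, -1, 3, 1, -1, -1, 1, 1, 1, -1, 1, 1, 1, 1, 1, 1, 1, 1, -1, 1]),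
   (2, 1, [-1, 1, 1, 1, -1, 1, -1, 1, 1, -1, 1, -1, 1, 1, -1, 1, 1, 1, 1, 3, 1, -1, 1, 1]),
   (0, 0, [-1, -1, -1, 1, 1, 1, 1, 1, 1, -1, 1, 1, -1, 1, -1, 1, 3, 1, 1, 1, 1, -1, 1, 1]),
   (1, 2, [-1, -1, 1, 1, 1, 1, -1, 1, 1, 1, 1, 1, 1, -1, -1, 1, 1, -1, 1, 1, 1, 3, -1, 1]),
   (2, 2, [-1, -1, -1, 1, -1, 1, 1, 1, 1, 1, 1, 3, 1, 1, 1, -1, 1, -1, 1, 1, 1, -1, 1, 1])]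

/-- A piece of a tree. -/
def tree3_15 : List (Nat × Nat × List Int) :=
  [(0, 2, [-1, 3, 1, -1, 1, 1, 1, 1, 1, 1, -1, 1, 1, 1, -1, 1, -1, 1, 1, 1, -1, 1, -1, 1]),
   (4, 1, [-1, 1, 1, -1, -1, 1, 1, 1, 1, 1, -1, -1, 1, -1, 1, 1, 1, 1, 1, 1, 1, 3, -1, 1]),
   (0, 0, [-1, 1, -1, 1, 1, 1, 1, -1, -1, 1, 1, 1, 3, 1, 1, -1, 1, 1, 1, 1, -1, -1, 1, 1]),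
   (0, 1, [-1, 1, 1, 1, 1, 1, 1, 1, 1, 1, 3, 1, 1, 1, 1, -1, 1, -1, -1, 1, -1, -1, -1, 1]),
   (2, 1, [-1, -1, 1, 1, -1, -1, 1, 1, 1, 1, 1, -1, -1, 1, -1, 1, 1, 1, 1, 1, 1, 1, 3, 1]),
   (0, 2, [-1, -1, 3, 1, 1, 1, 1, 1, 1, 1, -1, -1, 1, -1, -1, 1, 1, 1, 1, -1, 1, 1, 1, 1]),
   (2, 2, [-1, -1, -1, 1, 1, 1, 1, -1, 1, 1, 1, 1, 1, 1, -1, -1, 1, 1, -1, 1, 1, 1, 3, 1]),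
   (2, 2, [-1, -1, 1, 1, 3, 1, -1, 1, 1, 1, -1, 1, 1, 1, 1, -1, 1, 1, 1, -1, 1, 1, -1, 1]),
   (0, 0, [-1, -1, 3, 1, 1, -1, 1, -1, 1, 1, 1, -1, 1, 1, 1, 1, -1, 1, 1, 1, -1, 1, 1, 1]),
   (0, 0, [-1, 1, 1, 1, 1, -1, -1, 1, 1, 1, -1, 1, 1, -1, 1, 1, 1, 1, -1, 3, 1, -1, 1, 1]),
   (2, 1, [-1, 3, 1, -1, -1, 1, 1, 1, 1, -1, 1, 1, 1, -1, -1, -1, 1, 1, 1, 1, 1, 1, 1, 1]),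
   (0, 0, [-1, 1, -1, 1, 1, 3, 1, 1, -1, -1, 1, -1, 1, 1, -1, -1, 1, 1, 1, 1, 1, 1, 1, 1]),
   (1, 1, [-1, -1, -1, 1, 1, -1, -1, 1, 1, 1, 1, 1, -1, 3, 1, -1, 1, 1, 1, 1, 1, 1, 1, 1]),
   (0, 2, [-1, 1, 1, -1, 1, 1, -1, 3, 1, 1, -1, -1, 1, 1, 1, 1, -1, 1, 1, -1, 1, 1, 1, 1]),
   (3, 2, [-1, 1, -1, -1, 1, 1, -1, 1, 1, 1, -1, 1, 1, 1, 3, -1, 1, 1, 1, 1, 1, -1, 1, 1]),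
   (0, 1, [-1, 1, 3, -1, -1, -1, 1, 1, 1, 1, 1, 1, 1, 1, 1, -1, 1, 1, 1, 1, -1, 1, -1, 1]),
   (6, 2, [-1, -1, 1, 1, 1, -1, 1, -1, 1, 1, 1, 1, -1, 1, 1, 1, 1, -1, -1, 1, 1, 3, 1, 1]),
   (0, 0, [-1, 1, 1, -1, 1, -1, -1, 1, 1, 1, -1, 1, 3, 1, 1, 1, 1, -1, 1, 1, 1, 1, -1, 1]),
   (0, 0, [-1, -1, 1, -1, 1, 1, -1, -1, 1, 1, 1, 1, 1, 1, 1, -1, 1, 3, 1, 1, -1, 1, 1, 1]),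
   (0, 0, [-1, -1, 1, 3, 1, -1, 1, 1, 1, 1, -1, -1, 1, 1, 1, -1, 1, 1, -1, 1, 1, 1, 1, 1]),
   (0, 0, [-1, 1, 1, 1, 1, -1, -1, -1, 1, 1, 1, -1, 1, 1, 1, 3, 1, 1, 1, 1, 1, -1, -1, 1]),
   (0, 1, [-1, 1, 1, -1, 1, 1, 1, 1, 1, 1, 1, -1, 1, 1, -1, 3, 1, -1, 1, -1, 1, 1, -1, 1]),
   (2, 2, [-1, -1, 1, -1, 1, -1, 1, 1, 1, 1, -1, -1, 1, 1, 1, -1, 1, 1, 3, 1, 1, 1, 1, 1]),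
   (0, 1, [-1, 1, 1, 1, -1, -1, 1, 1, 1, 1, 1, -1, 1, -1, 1, -1, 3, 1, 1, -1, 1, 1, 1, 1]),
   (0, 1, [-1, -1, 1, 1, 1, 1, 1, 3, 1, -1, 1, -1, -1, 1, 1, -1, 1, 1, 1, -1, 1, 1, 1, 1]),
   (1, 2, [-1, -1, 1, -1, 1, 1, 1, -1, 3, 1, 1, -1, 1, 1, -1, 1, 1, 1, 1, 1, 1, -1, 1, 1]),
   (4, 1, [-1, 1, 1, -1, 1, -1, 1, 1, 3, 1, 1, 1, 1, -1, 1, -1, 1, -1, 1, 1, 1, -1, 1, 1]),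
   (0, 1, [-1, 1, 1, 1, 1, -1, 1, 1, -1, 1, 1, 1, -1, 1, 1, -1, 1, 1, 3, -1, 1, 1, -1, 1]),
   (0, 0, [-1, 1, 1, 1, -1, 1, -1, 1, 1, 1, 1, -1, 1, 1, 1, 1, -1, -1, 1, 1, -1, 1, 3, 1]),
   (1, 1, [-1, 1, 1, 1, 1, 1, 1, 1, 1, -1, -1, 1, 1, 1, -1, -1, 3, 1, -1, -1, 1, 1, 1, 1])]

/-- A piece of a tree. -/
def tree3_16 : List (Nat × Nat × List Int) :=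
  [(1, 2, [-1, 1, -1, -1, 1, 3, 1, 1, 1, 1, 1, -1, -1, 1, 1, 1, 1, 1, 1, -1, 1, -1, 1, 1]),
   (3, 2, [-1, 1, 1, -1, -1, 1, -1, 1, 1, -1, -1, 1, 1, 1, 1, 1, 1, 1, -1, 1, 3, 1, 1, 1]),
   (0, 0, [-1, -1, -1, 1, 1, 1, 1, -1, 1, 1, 1, 1, 1, 1, -1, -1, 1, 1, 3, 1, 1, 1, -1, 1]),
   (0, 1, [-1, 1, -1, 1, 1, 1, 1, 1, 1, 1, 1, 1, 1, -1, -1, -1, 3, -1, 1, 1, -1, 1, 1, 1]),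
   (1, 2, [-1, 1, -1, -1, 1, 3, 1, 1, 1, -1, -1, 1, 1, -1, 1, 1, -1, 1, 1, 1, 1, 1, 1, 1]),
   (4, 1, [-1, 1, 1, -1, -1, -1, 1, 1, -1, 1, 3, 1, 1, 1, -1, 1, 1, 1, 1, -1, 1, 1, 1, 1]),
   (0, 1, [-1, -1, -1, 1, 3, -1, 1, 1, 1, -1, 1, 1, 1, 1, 1, 1, 1, 1, -1, -1, 1, 1, 1, 1]),
   (0, 0, [-1, 1, 3, 1, 1, -1, -1, 1, 1, 1, 1, 1, 1, 1, -1, 1, -1, 1, 1, -1, 1, 1, -1, 1]),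
   (1, 1, [-1, 3, 1, 1, 1, 1, -1, 1, 1, -1, 1, 1, 1, -1, 1, 1, -1, 1, 1, -1, -1, 1, 1, 1]),
   (0, 0, [-1, -1, 1, 1, 1, 3, 1, 1, -1, 1, 1, 1, 1, -1, -1, 1, -1, 1, -1, 1, 1, 1, 1, 1]),
   (2, 2, [-1, 1, 1, 1, 1, -1, 1, 1, 1, 1, -1, -1, 1, 1, 3, 1, -1, -1, 1, 1, 1, -1, 1, 1]),
   (0, 1, [-1, 1, 3, 1, -1, 1, 1, -1, -1, 1, 1, -1, 1, 1, 1, 1, 1, 1, 1, -1, 1, 1, -1, 1]),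
   (1, 2, [-1, -1, 1, 1, 1, 1, 1, 1, -1, 1, 1, -1, 1, 3, 1, -1, 1, 1, 1, 1, -1, 1, -1, 1]),
   (3, 2, [-1, 1, 1, 1, 1, 1, 1, 1, 1, 1, 1, -1, -1, -1, -1, 3, 1, 1, -1, 1, 1, -1, 1, 1]),
   (0, 0, [-1, 1, 1, 1, 1, 1, 1, 1, -1, -1, 1, 3, -1, 1, 1, 1, 1, -1, 1, 1, 1, -1, -1, 1]),
   (0, 1, [-1, 1, 1, 1, 1, 1, -1, 1, -1, 1, -1, 3, 1, 1, -1, 1, 1, 1, -1, 1, 1, 1, -1, 1]),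
   (2, 1, [-1, 1, -1, 1, 1, 1, 1, 1, 1, 1, -1, -1, -1, 1, 1, 3, -1, 1, 1, 1, 1, 1, -1, 1]),
   (0, 0, [-1, 1, 1, 1, 1, 1, 1, -1, 1, 1, 1, 3, 1, -1, 1, 1, 1, -1, 1, -1, -1, -1, 1, 1]),
   (1, 1, [-1, 1, 1, 1, -1, 1, 1, -1, 1, 1, -1, -1, 1, 1, -1, 3, 1, 1, 1, 1, -1, 1, 1, 1]),
   (1, 2, [-1, -1, -1, 3, 1, 1, 1, 1, -1, 1, 1, 1, 1, 1, 1, -1, -1, 1, 1, -1, 1, 1, 1, 1]),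
   (2, 2, [-1, -1, 1, 3, 1, -1, 1, -1, 1, 1, 1, 1, 1, -1, 1, 1, 1, 1, 1, -1, 1, 1, -1, 1]),
   (3, 2, [-1, 1, -1, 1, 1, 1, -1, 1, 1, 1, 1, -1, 1, 1, 1, -1, 1, 1, -1, 3, -1, 1, 1, 1]),
   (0, 0, [-1, -1, 1, 1, 1, 1, 1, 1, 1, 1, 1, -1, 1, 1, 1, 1, 3, 1, -1, -1, 1, -1, -1, 1]),
   (0, 2, [-1, -1, -1, 1, 1, -1, 1, 1, 3, 1, -1, 1, 1, 1, 1, 1, 1, 1, 1, 1, 1, -1, -1, 1]),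
   (0, 1, [-1, 1, 1, 1, -1, 1, 1, 1, 1, 1, 1, 1, 1, -1, -1, 1, 1, 1, 3, -1, -1, 1, -1, 1]),
   (1, 2, [-1, 1, -1, 1, 1, 1, 1, 1, 1, 1, -1, -1, 3, 1, 1, -1, -1, 1, 1, 1, 1, 1, -1, 1]),
   (0, 1, [-1, 1, 1, 1, -1, 1, 1, -1, 1, 1, 3, -1, 1, 1, -1, -1, 1, 1, 1, 1, -1, 1, 1, 1]),
   (1, 2, [-1, -1, -1, -1, 1, 1, 1, 1, -1, 1, 1, 1, 1, 1, 1, -1, -1, 1, 1, 3, 1, 1, 1, 1]),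
   (4, 1, [-1, 1, 1, -1, 1, 1, 1, 1, 1, 3, 1, -1, 1, 1, 1, -1, -1, 1, 1, 1, -1, -1, 1, 1]),
   (0, 2, [-1, -1, 1, -1, -1, 1, 1, 1, -1, 1, 1, 1, 1, 1, 1, 1, 1, 3, -1, 1, 1, 1, -1, 1])]

/-- A piece of a tree. -/
def tree3_17 : List (Nat × Nat × List Int) :=
  [(0, 0, [-1, 1, -1, 3, -1, -1, 1, 1, 1, 1, 1, 1, 1, 1, 1, -1, 1, 1, 1, 1, -1, 1, -1, 1]),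
   (0, 2, [-1, 1, -1, -1, -1, 1, 1, 1, 1, 1, 1, -1, 1, 1, -1, 1, -1, 1, 3, 1, 1, 1, 1, 1]),
   (4, 2, [-1, -1, 1, -1, -1, -1, -1, 1, 1, 1, 1, 1, 1, 1, 1, 1, -1, 1, 1, 1, 1, 3, 1, 1]),
   (0, 0, [-1, -1, -1, 1, 1, -1, -1, 1, 1, 1, 1, 1, 3, -1, 1, -1, 1, 1, 1, 1, 1, 1, 1, 1]),
   (0, 1, [-1, 1, 1, -1, 1, 1, 1, 1, 1, 1, 3, 1, -1, -1, 1, -1, 1, 1, 1, -1, -1, 1, 1, 1]),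
   (2, 2, [-1, 1, 1, 1, 1, 1, -1, 1, -1, 1, -1, -1, 1, 1, -1, 1, 1, 1, -1, 1, 1, 1, 3, 1]),
   (0, 0, [-1, -1, 1, 1, -1, 1, 1, -1, 1, -1, 1, 1, 1, 1, 1, 1, 1, 1, 1, 1, 3, -1, -1, 1]),
   (1, 1, [-1, 1, -1, -1, -1, 1, 1, 1, 1, 1, 1, -1, 1, 1, 3, 1, -1, 1, -1, 1, 1, 1, 1, 1]),
   (5, 1, [-1, 1, 1, 1, 1, 1, 1, 1, -1, 1, -1, 1, 1, -1, 1, 1, -1, -1, 1, -1, 1, 1, 3, 1]),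
   (0, 0, [-1, 1, 1, -1, -1, 1, 1, -1, -1, 1, 1, 1, 1, -1, 1, 1, -1, 1, 1, 1, 3, 1, 1, 1]),
   (0, 0, [-1, 1, -1, 1, -1, 1, 1, 1, -1, 1, -1, 1, 1, -1, 1, -1, 1, 1, 3, 1, 1, 1, 1, 1]),
   (0, 0, [-1, 1, -1, 1, -1, 1, 1, -1, -1, 1, 1, -1, 1, 1, 1, 1, 1, 1, 1, -1, 1, 1, 3, 1]),
   (0, 0, [-1, 1, -1, 1, -1, 1, 1, 1, 1, 1, -1, 1, 1, 1, 1, 1, -1, 1, 1, -1, 3, -1, 1, 1]),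
   (2, 1, [-1, -1, 1, 1, -1, 1, 1, 1, 1, 1, 1, 1, -1, 1, 1, -1, 3, 1, -1, 1, -1, 1, 1, 1]),
   (0, 0, [-1, 1, -1, 1, 1, -1, 1, 1, 1, 1, 1, -1, 1, 3, 1, 1, 1, -1, -1, 1, 1, 1, -1, 1]),
   (3, 2, [-1, 1, 1, 1, 3, 1, 1, -1, -1, -1, 1, 1, -1, 1, -1, 1, 1, 1, -1, 1, 1, 1, 1, 1]),
   (0, 0, [-1, 1, 3, 1, -1, 1, 1, 1, 1, -1, -1, 1, 1, 1, -1, 1, 1, -1, 1, 1, 1, 1, -1, 1]),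
   (0, 0, [-1, 1, -1, -1, 1, 1, 1, -1, 1, -1, 1, 1, 1, 1, -1, 1, 1, 1, 1, 3, -1, 1, 1, 1]),
   (1, 1, [-1, -1, -1, 1, -1, 1, -1, 1, -1, 1, 1, 1, 1, 1, -1, 1, 1, 1, 1, 1, 3, 1, 1, 1]),
   (4, 1, [-1, 1, 1, 1, -1, 1, 1, -1, -1, -1, 1, 1, -1, 1, 3, 1, 1, 1, -1, 1, 1, 1, 1, 1]),
   (0, 0, [-1, 1, -1, 1, -1, 1, 1, 1, 1, 3, -1, 1, 1, 1, -1, 1, 1, -1, 1, 1, 1, 1, -1, 1]),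
   (0, 0, [-1, 1, -1, -1, 1, 1, 1, -1, 1, -1, 1, 1, 1, 1, 3, 1, 1, 1, 1, -1, -1, 1, 1, 1]),
   (0, 0, [-1, 1, 1, 1, 1, 1, 1, 1, 1, 3, -1, 1, 1, 1, -1, -1, -1, 1, -1, -1, 1, 1, 1, 1]),
   (2, 1, [-1, -1, -1, 1, -1, 1, 3, 1, -1, 1, 1, 1, 1, 1, -1, 1, 1, 1, 1, 1, -1, 1, 1, 1]),
   (0, 1, [-1, -1, -1, 3, 1, 1, 1, 1, 1, 1, 1, 1, 1, -1, 1, 1, 1, 1, -1, 1, -1, -1, 1, 1]),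
   (3, 1, [-1, -1, 3, 1, 1, 1, -1, 1, 1, 1, -1, 1, 1, 1, 1, 1, -1, -1, -1, 1, 1, 1, 1, 1]),
   (0, 0, [-1, -1, 1, -1, 1, -1, 1, -1, 1, 1, 1, 1, 1, -1, 1, 1, 1, 1, 1, 3, 1, 1, -1, 1]),
   (0, 1, [-1, 1, 1, 1, 1, -1, 1, 1, 1, 3, 1, 1, -1, -1, -1, 1, 1, -1, 1, -1, 1, 1, 1, 1]),
   (1, 2, [-1, 1, -1, 1, 1, 1, 1, -1, 1, -1, -1, -1, 1, 1, 1, 1, 1, 1, -1, 1, 1, 3, 1, 1]),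
   (2, 2, [-1, 1, 1, 1, 1, -1, -1, 1, -1, 1, -1, 1, 1, 1, 1, -1, 3, 1, 1, 1, -1, 1, 1, 1])]

/-- A piece of a tree. -/
def tree3_18 : List (Nat × Nat × List Int) :=
  [(0, 0, [-1, -1, 1, 1, -1, 1, -1, -1, 1, 1, 1, -1, 1, 3, 1, 1, 1, 1, -1, 1, 1, 1, 1, 1]),
   (1, 1, [-1, 1, 1, -1, -1, 1, 1, 3, 1, 1, 1, 1, 1, 1, 1, -1, 1, 1, -1, -1, 1, -1, 1, 1]),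
   (1, 2, [-1, 1, 1, -1, -1, 1, -1, 1, 3, 1, 1, -1, -1, 1, 1, -1, 1, 1, 1, 1, 1, 1, 1, 1]),
   (3, 2, [-1, 1, 1, 1, 1, -1, 1, 1, 1, -1, 1, 1, -1, 3, -1, 1, 1, -1, 1, -1, 1, 1, 1, 1]),
   (0, 0, [-1, 1, 1, -1, 1, 1, -1, 1, 3, -1, 1, 1, 1, 1, -1, 1, -1, -1, 1, 1, 1, 1, 1, 1]),
   (0, 0, [-1, -1, 1, -1, 3, 1, 1, 1, 1, -1, 1, 1, 1, -1, -1, -1, 1, 1, 1, 1, 1, 1, 1, 1]),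
   (0, 2, [-1, 1, 1, -1, 1, 1, 1, -1, 1, 1, -1, 1, 1, -1, 3, 1, 1, -1, -1, 1, 1, 1, 1, 1]),
   (2, 2, [-1, 1, 1, 1, 1, 1, -1, 1, -1, 1, 1, 1, 3, -1, 1, 1, 1, -1, -1, 1, -1, 1, 1, 1]),
   (2, 1, [-1, 1, -1, 1, 1, 1, -1, 1, -1, -1, -1, 1, 3, 1, 1, 1, 1, 1, 1, -1, 1, 1, 1, 1]),
   (0, 0, [-1, -1, 1, 1, -1, 1, 1, -1, 1, 1, 1, 1, 1, 1, -1, 1, -1, 3, 1, -1, 1, 1, 1, 1]),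
   (0, 2, [-1, 1, 1, 1, 1, 1, 1, 1, -1, -1, -1, 1, 1, -1, -1, 1, 1, 1, 1, 1, 3, -1, 1, 1]),
   (2, 2, [-1, 1, 1, 1, 1, 1, -1, 1, 1, 1, 1, 1, -1, 1, 1, -1, -1, -1, 1, 3, 1, -1, 1, 1]),
   (2, 2, [-1, 1, 1, 1, 1, 1, 1, 3, 1, 1, 1, -1, 1, -1, 1, 1, 1, -1, 1, -1, -1, -1, 1, 1]),
   (0, 0, [-1, 1, 1, -1, 1, 1, 1, 1, -1, 1, 3, 1, -1, 1, 1, 1, -1, 1, -1, 1, 1, -1, 1, 1]),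
   (0, 0, [-1, 1, 1, 1, -1, 1, 1, 3, 1, 1, 1, 1, -1, -1, 1, -1, 1, -1, 1, 1, 1, 1, -1, 1]),
   (2, 1, [-1, 1, 1, 1, 1, 1, 1, 1, -1, -1, 1, -1, -1, 1, 1, 1, 1, 3, 1, 1, 1, -1, -1, 1]),
   (1, 2, [-1, -1, 1, 1, -1, 1, 1, -1, 1, 3, 1, 1, 1, 1, 1, 1, 1, 1, 1, 1, -1, -1, -1, 1]),
   (4, 2, [-1, 1, 3, 1, 1, 1, 1, -1, -1, 1, 1, 1, -1, 1, 1, -1, 1, 1, 1, 1, -1, -1, 1, 1]),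
   (0, 0, [-1, 1, 1, 1, -1, 1, 1, 1, 1, 1, -1, -1, -1, 1, 1, 1, 1, -1, -1, 3, 1, 1, 1, 1]),
   (0, 0, [-1, 1, -1, -1, 1, 1, 1, -1, 1, 1, 1, 1, 1, 1, 1, 1, 3, -1, 1, 1, 1, -1, -1, 1]),
   (0, 0, [-1, 1, 1, -1, 1, 1, 1, 1, 1, 1, -1, 1, -1, 3, 1, -1, 1, 1, 1, -1, -1, 1, 1, 1]),
   (2, 2, [-1, -1, 1, 1, 1, -1, 1, 1, 1, 1, 1, 1, 1, 1, -1, -1, 1, 1, 1, -1, -1, 3, 1, 1]),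
   (0, 1, [-1, 1, -1, 1, 1, 1, 1, 1, 1, -1, 1, 1, 1, -1, 1, -1, 1, 1, 1, -1, 1, -1, 3, 1]),
   (3, 1, [-1, 1, 1, 1, 1, 1, 1, 1, 1, 1, -1, 1, 1, 1, 1, -1, 1, -1, -1, 1, 3, -1, -1, 1]),
   (0, 0, [-1, 1, 1, -1, 1, 1, 1, -1, 1, 1, 1, -1, -1, 1, 1, 1, 1, 1, 3, 1, -1, 1, -1, 1]),
   (1, 1, [-1, 1, 1, 1, -1, 1, 1, 1, -1, 1, 1, 1, 1, 1, -1, -1, -1, 1, 1, 1, 1, 3, -1, 1]),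
   (1, 2, [-1, 1, -1, -1, 3, -1, 1, 1, 1, 1, 1, 1, 1, 1, 1, -1, 1, 1, 1, 1, -1, 1, -1, 1]),
   (0, 1, [-1, 3, 1, 1, 1, -1, 1, 1, 1, 1, 1, 1, 1, 1, -1, -1, 1, 1, 1, -1, -1, -1, 1, 1]),
   (3, 2, [-1, 1, 1, -1, -1, 1, 1, 1, 1, -1, 1, 1, -1, 1, 1, 1, 3, 1, 1, -1, 1, 1, -1, 1]),
   (0, 0, [-1, 1, -1, 1, 1, 1, 1, 1, 1, 1, 1, 1, 1, 3, -1, -1, -1, -1, 1, 1, -1, 1, 1, 1])]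

/-- A piece of a tree. -/
def tree3_19 : List (Nat × Nat × List Int) :=
  [(1, 1, [-1, -1, 1, 1, 1, -1, -1, 3, 1, -1, -1, 1, 1, 1, -1, 1, 1, 1, 1, 1, 1, 1, 1, 1]),
   (4, 2, [-1, 1, 1, 1, 1, -1, 1, 1, 1, -1, -1, -1, 1, 1, 1, 1, 1, 1, 1, -1, -1, 1, 3, 1]),
   (0, 0, [-1, 1, 1, 1, 1, 1, -1, -1, 1, 1, 1, 1, 1, 1, -1, 1, -1, 1, -1, 1, 3, -1, 1, 1]),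
   (0, 0, [-1, -1, 1, 1, 1, 1, 1, 1, 1, -1, -1, 1, -1, -1, 1, 1, 1, 1, 3, 1, 1, 1, -1, 1]),
   (0, 0, [-1, 1, 1, 1, 1, -1, 1, -1, -1, 1, 1, 1, 1, 1, -1, 1, 1, -1, 1, 1, -1, 1, 3, 1]),
   (1, 2, [-1, 1, -1, 1, 1, 3, 1, -1, 1, 1, -1, 1, 1, 1, 1, -1, 1, -1, 1, -1, 1, 1, 1, 1]),
   (0, 2, [-1, 1, 1, -1, 1, 1, 1, 1, 1, -1, 1, 3, 1, 1, 1, -1, -1, 1, 1, 1, -1, -1, 1, 1]),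
   (3, 1, [-1, 1, -1, -1, 1, 1, 1, -1, 1, 1, 1, 1, 1, 1, 1, 1, -1, -1, 1, 1, 1, 3, -1, 1]),
   (0, 2, [-1, 1, -1, 1, 1, 1, 1, 1, -1, -1, 1, 1, 1, 1, 1, 1, -1, 1, -1, 1, -1, 1, 3, 1]),
   (0, 2, [-1, 1, 3, 1, -1, -1, 1, 1, -1, 1, 1, 1, -1, 1, 1, 1, -1, -1, 1, 1, 1, 1, 1, 1]),
   (3, 2, [-1, 1, 1, 1, 3, -1, -1, 1, -1, -1, 1, 1, 1, -1, 1, 1, 1, 1, 1, 1, 1, 1, -1, 1]),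
   (0, 0, [-1, -1, 3, 1, -1, 1, -1, 1, -1, 1, 1, 1, 1, 1, -1, 1, 1, 1, 1, 1, -1, 1, 1, 1]),
   (0, 1, [-1, -1, -1, -1, 1, 1, 1, 1, 1, 1, 1, 1, 1, -1, 1, 1, 1, 1, -1, 1, 3, -1, 1, 1]),
   (2, 1, [-1, 3, 1, -1, 1, 1, -1, 1, 1, 1, 1, 1, -1, 1, -1, 1, 1, 1, -1, -1, 1, 1, 1, 1]),
   (0, 0, [-1, -1, 1, 1, 1, 3, 1, 1, 1, -1, 1, 1, 1, 1, 1, -1, -1, -1, 1, 1, 1, 1, -1, 1]),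
   (0, 2, [-1, 1, -1, -1, 1, 1, 1, 1, -1, 1, -1, 3, 1, 1, 1, 1, 1, -1, 1, 1, -1, 1, 1, 1]),
   (3, 2, [-1, 1, -1, 1, 1, 1, -1, -1, 1, 1, 1, -1, -1, 1, 3, 1, 1, -1, 1, 1, 1, 1, 1, 1]),
   (0, 0, [-1, -1, 1, -1, 1, 1, 1, 1, 1, 3, -1, 1, 1, 1, 1, 1, 1, -1, 1, -1, 1, -1, 1, 1]),
   (4, 1, [-1, 1, 1, 1, -1, 1, -1, 1, 1, -1, 1, -1, 1, 1, 3, 1, 1, 1, 1, -1, 1, -1, 1, 1]),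
   (0, 0, [-1, -1, -1, 1, 1, 1, 1, 1, 1, 3, 1, 1, -1, 1, -1, 1, -1, 1, 1, 1, 1, -1, 1, 1]),
   (0, 1, [-1, 1, -1, 1, 1, 1, 3, -1, 1, 1, -1, 1, 1, -1, 1, 1, 1, 1, 1, 1, -1, 1, -1, 1]),
   (0, 0, [-1, 3, 1, 1, 1, 1, 1, -1, -1, 1, -1, 1, 1, 1, 1, 1, 1, 1, -1, -1, -1, 1, 1, 1]),
   (0, 0, [-1, 1, 1, 1, -1, 3, 1, -1, 1, 1, -1, 1, 1, 1, 1, 1, -1, 1, -1, 1, 1, 1, -1, 1]),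
   (2, 2, [-1, 1, -1, 1, -1, 1, 3, -1, 1, -1, 1, 1, 1, 1, 1, -1, -1, 1, 1, 1, 1, 1, 1, 1]),
   (3, 1, [-1, -1, 3, -1, 1, 1, -1, 1, 1, -1, 1, -1, 1, 1, 1, 1, 1, 1, 1, 1, 1, 1, -1, 1]),
   (0, 0, [-1, -1, 1, 1, 1, -1, 1, 1, 1, 1, 1, 1, 1, 1, -1, -1, 1, 1, 1, 3, -1, -1, 1, 1]),
   (0, 0, [-1, 1, 1, 1, 1, -1, -1, 1, 1, -1, 1, -1, -1, 1, 1, 1, 3, 1, -1, 1, 1, 1, 1, 1]),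
   (1, 1, [-1, 1, -1, 1, 1, 1, 1, 1, 1, 3, 1, 1, 1, -1, 1, -1, 1, 1, 1, -1, 1, -1, -1, 1]),
   (0, 0, [-1, 1, 1, 1, 1, 1, 1, 1, -1, 1, 1, -1, -1, 1, 3, 1, -1, 1, 1, -1, -1, 1, 1, 1]),
   (3, 1, [-1, 1, 1, -1, 1, -1, -1, 1, 1, 1, 1, -1, 1, -1, -1, 1, 1, 1, 1, 1, 3, 1, 1, 1])]

/-- A piece of a tree. -/
def tree3_20 : List (Nat × Nat × List Int) :=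
  [(0, 1, [-1, 1, -1, -1, 1, -1, 1, 1, 1, 1, 1, -1, -1, 1, 1, 1, 1, 1, 1, -1, 1, 3, 1, 1]),
   (1, 2, [-1, -1, 1, 1, 3, 1, -1, -1, 1, 1, 1, -1, 1, -1, 1, 1, 1, 1, -1, 1, 1, 1, 1, 1]),
   (0, 1, [-1, 3, 1, -1, 1, 1, 1, 1, 1, 1, 1, -1, -1, -1, 1, 1, -1, -1, 1, 1, 1, 1, 1, 1]),
   (3, 2, [-1, -1, -1, 1, 1, 1, -1, 1, 1, 1, -1, 1, 1, 1, 1, 1, 3, -1, -1, 1, 1, 1, 1, 1]),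
   (2, 2, [-1, -1, 1, 1, 1, 1, -1, 1, 1, 1, 1, 1, 1, 3, -1, 1, 1, -1, 1, 1, 1, -1, -1, 1]),
   (0, 0, [-1, -1, 1, -1, 1, -1, 1, 1, 3, -1, 1, 1, -1, 1, 1, 1, 1, 1, 1, 1, -1, 1, 1, 1]),
   (1, 1, [-1, 1, -1, -1, 1, 1, 1, 1, -1, 1, 1, 1, 3, -1, -1, 1, 1, 1, 1, 1, 1, 1, -1, 1]),
   (0, 0, [-1, 1, 1, 1, -1, 1, 1, 1, -1, -1, 1, 1, 1, 1, 1, -1, 1, 3, 1, -1, -1, 1, 1, 1]),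
   (1, 2, [-1, 1, -1, 1, 1, 1, 1, -1, 1, 1, 1, 1, -1, -1, 1, 1, -1, 1, -1, 3, 1, 1, 1, 1]),
   (2, 2, [-1, 1, -1, 1, 1, 1, -1, 3, 1, 1, -1, 1, 1, -1, 1, 1, 1, 1, 1, 1, -1, 1, -1, 1]),
   (0, 0, [-1, -1, 1, 1, 1, 1, 1, -1, -1, 1, 3, 1, 1, 1, 1, 1, 1, 1, -1, -1, -1, 1, 1, 1]),
   (1, 1, [-1, 1, 1, -1, -1, 1, 1, 1, 1, 1, 1, 1, -1, 1, -1, 1, 1, 3, 1, 1, -1, -1, 1, 1]),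
   (4, 2, [-1, -1, 3, 1, -1, 1, 1, 1, 1, 1, 1, -1, 1, 1, 1, -1, 1, -1, 1, 1, 1, -1, 1, 1]),
   (0, 0, [-1, 1, -1, -1, 1, -1, 1, 1, 1, 1, 1, -1, -1, 1, 1, 1, 1, 1, 1, 3, 1, -1, 1, 1]),
   (0, 0, [-1, 1, 1, 1, 1, 1, -1, 1, 1, 1, 1, 1, -1, 1, 1, -1, 3, -1, 1, -1, 1, -1, 1, 1]),
   (0, 0, [-1, -1, 1, -1, 1, 1, 1, 1, 1, 1, 1, -1, -1, 3, 1, 1, -1, -1, 1, 1, 1, 1, 1, 1]),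
   (1, 1, [-1, 1, 1, -1, 1, 1, 1, 3, -1, -1, -1, 1, 1, 1, 1, -1, 1, 1, 1, 1, 1, 1, -1, 1]),
   (1, 2, [-1, 1, 1, -1, 1, 1, -1, 1, 3, 1, 1, 1, 1, 1, 1, 1, 1, 1, 1, -1, -1, -1, -1, 1]),
   (0, 2, [-1, 1, -1, 1, -1, 1, -1, 1, 1, 1, 1, 1, 3, 1, 1, 1, 1, 1, -1, 1, 1, -1, -1, 1]),
   (3, 2, [-1, -1, 1, 1, 1, 1, 1, 1, 1, 1, 1, -1, 1, 1, 1, 1, -1, 1, -1, -1, 1, 3, -1, 1]),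
   (0, 1, [-1, 1, 1, 1, 1, 1, 1, -1, 1, -1, 1, -1, 1, -1, -1, 1, -1, 1, 1, 1, 1, 1, 3, 1]),
   (3, 1, [-1, -1, 1, 1, 1, 1, 1, 1, -1, 1, 1, -1, 1, -1, 1, -1, 1, 1, 1, 1, 3, 1, -1, 1]),
   (0, 0, [-1, 1, 1, 1, -1, -1, 1, 1, -1, 1, 1, -1, 1, 1, 1, 1, 1, 1, 3, 1, -1, -1, 1, 1]),
   (0, 0, [-1, 1, -1, 1, -1, 1, -1, 1, 1, 1, 1, 1, -1, 1, 1, 1, 1, 1, -1, 1, 1, -1, 3, 1]),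
   (2, 2, [-1, -1, -1, -1, 3, 1, 1, -1, 1, 1, -1, 1, -1, 1, 1, 1, 1, 1, 1, 1, 1, 1, 1, 1]),
   (0, 0, [-1, 1, 3, 1, 1, -1, 1, -1, 1, 1, -1, 1, 1, 1, 1, -1, 1, -1, 1, -1, 1, 1, 1, 1]),
   (1, 1, [-1, 3, 1, 1, -1, -1, 1, 1, 1, 1, -1, 1, 1, -1, 1, 1, 1, -1, 1, 1, -1, 1, 1, 1]),
   (1, 2, [-1, 1, 1, 1, 1, 1, 1, 1, 1, -1, -1, 1, 1, 1, 3, -1, -1, 1, -1, -1, 1, 1, 1, 1]),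
   (3, 2, [-1, -1, 1, -1, 1, 1, 1, 1, 1, 1, -1, 1, 1, 1, -1, 1, 3, 1, 1, 1, -1, 1, -1, 1]),
   (0, 0, [-1, 1, 1, 1, 1, -1, 1, -1, 1, -1, 1, 1, 1, 3, 1, -1, 1, 1, -1, 1, -1, 1, 1, 1])]

/-- A piece of a tree. -/
def tree3_21 : List (Nat × Nat × List Int) :=
  [(0, 0, [-1, 1, 1, 1, 1, 1, -1, 1, 3, 1, -1, -1, 1, 1, -1, 1, 1, 1, -1, 1, 1, 1, -1, 1]),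
   (2, 1, [-1, 1, -1, 1, -1, -1, 1, 3, 1, 1, 1, 1, 1, -1, -1, 1, 1, 1, 1, 1, 1, -1, 1, 1]),
   (0, 2, [-1, 1, 1, 1, 1, 1, 1, -1, 1, 3, 1, -1, 1, -1, -1, 1, -1, 1, 1, 1, 1, 1, -1, 1]),
   (0, 1, [-1, 1, -1, 1, 1, 1, 3, -1, 1, 1, 1, -1, -1, 1, -1, 1, 1, -1, 1, 1, 1, 1, 1, 1]),
   (3, 2, [-1, 1, -1, 1, -1, 1, 1, 1, 3, 1, -1, 1, 1, -1, 1, -1, 1, 1, -1, 1, 1, 1, 1, 1]),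
   (0, 1, [-1, -1, 1, 1, -1, 1, 1, 1, 1, 1, 1, 1, -1, 1, 1, -1, -1, 1, 3, 1, -1, 1, 1, 1]),
   (7, 1, [-1, 1, -1, 1, 1, 1, 1, -1, -1, 1, 1, 1, -1, 1, 1, -1, 1, 1, 1, 1, 3, -1, 1, 1]),
   (0, 0, [-1, 1, 1, 1, -1, 1, 1, 1, 1, 1, -1, -1, -1, 1, 1, 1, 1, -1, 3, -1, 1, 1, 1, 1]),
   (0, 0, [-1, 1, -1, -1, 1, 1, 1, -1, 1, 1, 1, 1, 1, 1, 1, 1, -1, -1, 1, 1, 1, -1, 3, 1]),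
   (0, 0, [-1, 1, 1, -1, 1, 1, 1, 1, 1, 1, -1, 1, -1, -1, 1, -1, 1, 1, 1, -1, 3, 1, 1, 1]),
   (0, 0, [-1, 1, 1, 1, 1, 1, 1, -1, -1, 1, 1, -1, 1, 1, 1, -1, -1, -1, 3, 1, 1, 1, 1, 1]),
   (0, 0, [-1, 1, 1, -1, -1, 1, 1, 1, 1, 1, -1, -1, 1, -1, 1, 1, 1, 1, 1, 1, 1, -1, 3, 1]),
   (1, 1, [-1, 1, 1, 1, 1, 1, 1, -1, -1, 1, 1, -1, 1, 1, 1, -1, 3, -1, -1, 1, 1, 1, 1, 1]),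
   (1, 2, [-1, -1, 1, -1, 1, 3, 1, 1, -1, -1, 1, 1, -1, 1, 1, 1, 1, 1, 1, 1, -1, 1, 1, 1]),
   (0, 0, [-1, 1, 1, 1, -1, -1, 3, 1, 1, 1, 1, 1, 1, 1, -1, -1, 1, -1, -1, 1, 1, 1, 1, 1]),
   (1, 2, [-1, 1, 1, 1, -1, 1, 1, 1, 1, 1, -1, 3, -1, 1, 1, 1, 1, -1, -1, -1, 1, 1, 1, 1]),
   (3, 1, [-1, 1, 1, 1, -1, -1, 1, 1, 1, -1, -1, 1, -1, 1, 1, -1, 1, 1, 1, 1, 1, 3, 1, 1]),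
   (0, 0, [-1, 1, -1, 1, 1, 1, -1, -1, 1, 1, 1, -1, 3, 1, -1, 1, 1, -1, 1, 1, 1, 1, 1, 1]),
   (0, 0, [-1, -1, 1, -1, 1, 1, 1, 1, 1, -1, -1, 1, 1, 1, 1, 1, 1, 3, 1, -1, 1, -1, 1, 1]),
   (1, 1, [-1, 1, -1, -1, 1, 1, 1, 1, -1, 1, 3, -1, 1, 1, 1, 1, 1, -1, 1, 1, -1, 1, 1, 1]),
   (2, 1, [-1, -1, 1, 1, -1, 1, -1, 1, 1, 1, -1, 1, 1, 1, 1, -1, 1, 1, 1, -1, 1, 1, 3, 1]),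
   (1, 2, [-1, 1, 1, -1, 1, 1, 1, 1, 1, 1, 1, -1, 1, 1, -1, -1, 1, -1, 1, -1, 1, 1, 3, 1]),
   (0, 2, [-1, -1, 3, -1, 1, 1, 1, 1, 1, 1, 1, 1, 1, -1, 1, 1, 1, 1, -1, 1, -1, -1, 1, 1]),
   (3, 2, [-1, 1, 1, -1, 3, 1, 1, -1, 1, 1, 1, 1, 1, 1, 1, -1, 1, 1, -1, -1, 1, -1, 1, 1]),
   (0, 0, [-1, 1, 3, 1, 1, 1, 1, 1, 1, 1, -1, -1, -1, 1, 1, -1, -1, 1, 1, 1, 1, 1, -1, 1]),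
   (0, 1, [-1, 1, 1, 1, -1, 1, 1, -1, 1, 1, -1, -1, 1, 1, -1, -1, 1, 1, 1, 1, 3, 1, 1, 1]),
   (2, 1, [-1, 3, 1, 1, 1, -1, 1, 1, 1, -1, 1, 1, 1, 1, 1, -1, -1, -1, 1, 1, 1, 1, -1, 1]),
   (0, 1, [-1, 1, 1, 1, 1, 1, -1, -1, -1, 1, 1, 1, 1, 3, -1, -1, 1, 1, 1, -1, 1, 1, 1, 1]),
   (2, 2, [-1, 1, 1, -1, 1, -1, 1, 1, 1, -1, 1, 1, 1, 1, 3, 1, 1, 1, -1, 1, 1, -1, -1, 1]),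
   (3, 1, [-1, 1, 1, 1, 1, -1, 1, -1, -1, 1, 1, 1, 1, 1, 3, 1, 1, -1, 1, 1, -1, 1, -1, 1])]

/-- A piece of a tree. -/
def tree3_22 : List (Nat × Nat × List Int) :=
  [(0, 0, [-1, 1, 1, -1, -1, 1, -1, 1, 1, 3, -1, 1, 1, 1, 1, 1, 1, 1, -1, 1, -1, 1, 1, 1]),
   (0, 2, [-1, 1, 1, 1, -1, -1, -1, 1, 1, 1, 1, 1, 1, 1, -1, -1, 1, 3, -1, 1, 1, 1, 1, 1]),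
   (2, 1, [-1, 1, 3, 1, 1, 1, 1, 1, -1, 1, 1, 1, 1, 1, -1, 1, 1, -1, -1, -1, 1, -1, 1, 1]),
   (0, 0, [-1, 1, 1, -1, -1, 1, 1, 1, 1, -1, 1, 1, -1, 1, 1, 1, -1, 1, 1, 3, 1, 1, -1, 1]),
   (0, 2, [-1, 1, -1, 1, 1, 1, 1, 1, -1, 1, 1, 1, 1, 1, -1, 1, 1, -1, -1, -1, 1, 3, 1, 1]),
   (2, 1, [-1, 1, -1, 1, 1, 1, 1, 1, -1, -1, 1, 1, 1, 1, 1, 1, -1, 1, -1, 1, 3, 1, -1, 1]),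
   (0, 2, [-1, 1, -1, 1, 3, -1, 1, 1, -1, 1, 1, 1, -1, 1, 1, 1, -1, -1, 1, 1, 1, 1, 1, 1]),
   (2, 2, [-1, 1, 1, 1, 1, -1, 1, 1, 1, 1, 1, 1, -1, -1, 1, 1, 3, 1, 1, 1, -1, -1, -1, 1]),
   (0, 1, [-1, 1, 1, 1, 1, 1, 1, 3, 1, 1, -1, 1, -1, 1, -1, 1, 1, 1, 1, -1, 1, -1, -1, 1]),
   (4, 2, [-1, 1, 3, 1, 1, 1, 1, 1, -1, -1, 1, 1, 1, 1, 1, 1, -1, 1, -1, 1, -1, 1, -1, 1]),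
   (0, 0, [-1, 1, 1, 1, -1, 1, 1, 1, 1, 1, 1, 1, 1, -1, -1, 1, 1, 1, -1, 3, -1, 1, -1, 1]),
   (0, 0, [-1, 1, -1, 1, 1, 1, 1, 1, -1, -1, 1, 1, 1, 1, 1, 1, 3, 1, -1, 1, -1, 1, -1, 1]),
   (0, 2, [-1, 1, -1, 1, -1, -1, 1, 1, 3, 1, 1, 1, -1, 1, 1, 1, -1, -1, 1, 1, 1, 1, 1, 1]),
   (2, 2, [-1, 1, -1, 1, -1, -1, 1, -1, 1, 1, 1, 1, 1, -1, -1, 1, 1, 1, 1, 1, 1, 3, 1, 1]),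
   (2, 2, [-1, 1, -1, 1, -1, -1, 1, 1, -1, 1, 1, 1, -1, 1, 1, 1, 3, -1, 1, 1, 1, 1, 1, 1]),
   (0, 1, [-1, -1, 1, 1, 1, 1, 1, 3, -1, 1, -1, 1, 1, 1, 1, 1, 1, 1, -1, -1, -1, 1, 1, 1]),
   (0, 0, [-1, 1, 1, 1, -1, -1, 1, -1, 1, 1, 3, 1, 1, 1, 1, 1, -1, 1, -1, 1, 1, 1, -1, 1]),
   (1, 1, [-1, 1, 1, 1, -1, 1, 1, 1, 1, -1, 1, 1, 1, -1, 1, 1, -1, 3, -1, 1, 1, -1, 1, 1]),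
   (1, 2, [-1, 1, 1, 1, -1, -1, 1, 1, 1, 3, -1, 1, -1, 1, 1, -1, 1, 1, 1, 1, 1, -1, 1, 1]),
   (5, 1, [-1, -1, 1, 1, -1, 1, 1, 1, -1, -1, -1, -1, 1, 1, 1, 1, 3, 1, 1, 1, 1, 1, 1, 1]),
   (0, 0, [-1, 1, -1, 1, -1, -1, 1, -1, 1, 1, 1, 1, 1, 3, -1, 1, 1, 1, 1, 1, 1, -1, 1, 1]),
   (0, 0, [-1, 1, -1, 1, 1, 1, -1, 1, 3, -1, -1, 1, -1, 1, 1, 1, 1, 1, 1, -1, 1, 1, 1, 1]),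
   (0, 1, [-1, 1, 1, -1, -1, 1, -1, 1, 1, -1, -1, 1, 1, 1, 1, 1, 1, 1, 3, 1, -1, 1, 1, 1]),
   (0, 1, [-1, -1, 1, -1, -1, -1, -1, 1, 1, 1, 1, 1, 1, 1, 1, 1, 3, 1, 1, 1, 1, -1, 1, 1]),
   (1, 2, [-1, 1, 1, 1, -1, 3, -1, 1, 1, 1, 1, 1, 1, 1, -1, -1, 1, -1, -1, 1, 1, 1, 1, 1]),
   (0, 2, [-1, 1, 1, -1, 1, -1, -1, 1, 1, 1, 1, 3, 1, -1, -1, 1, 1, 1, 1, 1, -1, 1, 1, 1]),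
   (3, 2, [-1, 1, 1, 1, 1, 1, -1, 1, 1, 1, 1, 1, 3, 1, 1, -1, -1, -1, 1, -1, 1, -1, 1, 1]),
   (2, 1, [-1, -1, -1, 1, 1, 1, 1, 1, 1, 1, 1, 1, 3, 1, 1, 1, 1, -1, 1, -1, -1, 1, -1, 1]),
   (0, 0, [-1, 1, 1, -1, 1, -1, 1, 1, 1, 1, 1, 1, 1, 1, 1, 1, -1, 3, -1, -1, -1, 1, 1, 1]),
   (0, 2, [-1, 1, 1, 1, -1, -1, 1, 1, -1, 1, 1, -1, 1, 1, 1, 1, 1, 1, -1, 1, 3, -1, 1, 1])]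

/-- A piece of a tree. -/
def tree3_23 : List (Nat × Nat × List Int) :=
  [(2, 1, [-1, 1, 1, 1, 1, 1, 1, 1, -1, -1, 3, 1, 1, -1, -1, 1, 1, 1, 1, 1, -1, -1, 1, 1]),
   (0, 1, [-1, 1, -1, 1, 3, 1, -1, 1, 1, 1, 1, 1, -1, 1, 1, 1, 1, 1, -1, 1, 1, -1, -1, 1]),
   (1, 2, [-1, 1, 1, 1, -1, 1, 1, -1, 1, 1, 1, 1, -1, -1, 1, 3, 1, -1, 1, 1, 1, 1, -1, 1]),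
   (2, 2, [-1, 1, -1, 1, -1, 1, 1, 1, 1, 1, -1, 1, 1, 1, 1, 1, -1, 1, 1, 3, -1, -1, 1, 1]),
   (2, 2, [-1, 1, 1, 1, 1, 1, 1, 3, 1, -1, 1, -1, 1, -1, -1, 1, -1, 1, 1, 1, 1, 1, -1, 1]),
   (0, 1, [-1, 1, -1, 1, 1, 1, -1, -1, 1, 1, 1, -1, -1, 1, -1, 1, 1, 3, 1, 1, 1, 1, 1, 1]),
   (0, 2, [-1, -1, 1, 1, 1, 1, -1, 1, 1, -1, 1, 1, 1, -1, 1, 1, -1, 1, 1, -1, 3, 1, 1, 1]),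
   (2, 2, [-1, -1, -1, 1, 1, 1, 1, -1, -1, 3, 1, 1, 1, -1, 1, 1, 1, -1, 1, 1, 1, 1, 1, 1]),
   (0, 1, [-1, 1, 1, 1, 1, 1, 3, 1, -1, 1, 1, 1, -1, -1, 1, 1, 1, -1, -1, 1, -1, 1, 1, 1]),
   (0, 1, [-1, 1, 1, 3, 1, 1, 1, 1, -1, 1, -1, 1, -1, 1, 1, 1, -1, 1, -1, 1, 1, -1, 1, 1]),
   (5, 1, [-1, -1, 1, 1, -1, 1, -1, 3, 1, 1, 1, -1, 1, -1, 1, 1, 1, 1, -1, 1, 1, 1, 1, 1]),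
   (0, 0, [-1, -1, -1, 1, 1, -1, 1, 1, -1, 1, 3, 1, 1, 1, 1, 1, 1, 1, 1, 1, 1, -1, -1, 1]),
   (0, 0, [-1, 1, 1, 1, -1, -1, -1, 3, 1, 1, 1, 1, -1, 1, 1, 1, 1, 1, 1, -1, -1, 1, 1, 1]),
   (1, 1, [-1, 1, 1, 1, 3, 1, 1, 1, 1, 1, 1, 1, 1, -1, -1, 1, 1, 1, -1, -1, -1, 1, -1, 1]),
   (2, 1, [-1, -1, 1, -1, 1, 1, 1, 1, 1, 1, 1, -1, -1, -1, 1, 1, -1, 3, 1, 1, 1, 1, 1, 1]),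
   (0, 0, [-1, 1, 1, 3, 1, -1, 1, 1, -1, 1, 1, 1, 1, -1, 1, -1, 1, -1, 1, 1, 1, -1, 1, 1]),
   (0, 0, [-1, 1, 1, -1, -1, 1, -1, 1, -1, 1, 1, -1, -1, 1, 1, 3, 1, 1, 1, 1, 1, 1, 1, 1]),
   (1, 1, [-1, 1, 1, 1, 1, 3, 1, 1, -1, 1, 1, 1, -1, 1, 1, -1, 1, 1, -1, -1, 1, 1, -1, 1]),
   (2, 1, [-1, 1, 1, 1, 1, -1, 1, -1, 3, 1, -1, -1, -1, -1, 1, 1, 1, 1, 1, 1, 1, 1, 1, 1]),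
   (1, 2, [-1, -1, 1, 1, 1, 1, 1, -1, -1, 1, -1, 1, 1, 1, 1, 1, 1, 1, -1, -1, 3, 1, 1, 1]),
   (0, 0, [-1, 1, 1, 1, -1, -1, 1, -1, 1, 1, -1, 1, 1, 1, 1, 1, -1, 1, 3, 1, 1, 1, -1, 1]),
   (1, 1, [-1, 1, 1, 1, -1, 1, 1, 1, 1, -1, 1, 1, 1, -1, 1, 1, -1, -1, -1, 1, 1, 3, 1, 1]),
   (1, 2, [-1, 1, 1, 1, 3, -1, 1, 1, 1, -1, -1, 1, -1, 1, 1, -1, 1, 1, 1, 1, 1, -1, 1, 1]),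
   (0, 0, [-1, 1, 3, 1, 1, 1, -1, -1, 1, 1, 1, -1, -1, 1, -1, 1, 1, -1, 1, 1, 1, 1, 1, 1]),
   (4, 2, [-1, -1, 1, 1, 1, -1, -1, -1, 1, 3, -1, 1, 1, 1, -1, 1, 1, 1, 1, 1, 1, 1, 1, 1]),
   (0, 0, [-1, -1, 1, 1, 1, -1, -1, -1, 1, -1, -1, 1, 1, 1, 3, 1, 1, 1, 1, 1, 1, 1, 1, 1]),
   (0, 1, [-1, 1, 3, -1, -1, 1, -1, 1, 1, 1, 1, 1, 1, -1, 1, 1, 1, -1, 1, -1, 1, 1, 1, 1]),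
   (1, 2, [-1, 1, 1, 1, 1, 1, -1, 1, 1, -1, -1, -1, 1, 3, 1, -1, 1, -1, 1, 1, 1, 1, 1, 1]),
   (2, 1, [-1, 1, -1, -1, -1, 1, 3, 1, 1, 1, 1, 1, 1, -1, 1, 1, 1, -1, 1, -1, 1, 1, 1, 1]),
   (1, 2, [-1, 1, 1, 1, 1, 1, -1, 1, 1, -1, -1, -1, 1, -1, 1, -1, 1, 3, 1, 1, 1, 1, 1, 1])]

/-- A piece of a tree. -/
def tree3_24 : List (Nat × Nat × List Int) :=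
  [(0, 0, [-1, -1, 1, 3, 1, 1, 1, -1, -1, 1, 1, -1, 1, 1, -1, 1, 1, 1, 1, 1, 1, -1, 1, 1]),
   (0, 1, [-1, 1, -1, 1, 1, 3, 1, 1, 1, 1, 1, -1, 1, -1, 1, 1, 1, -1, -1, 1, 1, 1, -1, 1]),
   (5, 2, [-1, -1, 1, 1, 1, 1, 1, 1, 3, 1, -1, 1, -1, 1, -1, -1, 1, -1, 1, 1, 1, 1, 1, 1]),
   (0, 0, [-1, 1, 1, -1, 3, -1, 1, -1, 1, -1, 1, -1, 1, 1, 1, 1, 1, -1, 1, 1, 1, 1, 1, 1]),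
   (0, 0, [-1, 1, 3, -1, 1, 1, -1, 1, 1, 1, -1, 1, 1, 1, -1, -1, 1, 1, 1, 1, 1, -1, 1, 1]),
   (0, 2, [-1, 1, 1, -1, 1, 1, -1, 1, 1, 1, 1, 1, 1, -1, 1, -1, 3, 1, -1, 1, 1, 1, -1, 1]),
   (2, 1, [-1, 3, 1, 1, 1, -1, -1, 1, -1, 1, 1, -1, 1, 1, 1, 1, 1, -1, 1, -1, 1, 1, 1, 1]),
   (0, 0, [-1, -1, 1, -1, -1, 3, -1, 1, 1, 1, 1, 1, 1, 1, 1, 1, -1, 1, 1, 1, 1, -1, 1, 1]),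
   (1, 1, [-1, 1, 1, -1, 1, 1, 1, 1, -1, -1, 1, -1, 1, 3, 1, 1, 1, 1, -1, -1, 1, 1, 1, 1]),
   (1, 2, [-1, -1, 1, 1, 1, 1, -1, 1, 1, 1, 3, -1, -1, 1, 1, 1, 1, 1, 1, 1, -1, -1, 1, 1]),
   (2, 2, [-1, -1, 1, 1, 1, 1, 1, 1, 1, -1, 1, -1, 1, 1, 3, 1, 1, -1, -1, 1, -1, 1, 1, 1]),
   (0, 0, [-1, 1, 1, -1, 1, -1, 1, 1, 1, 3, 1, 1, 1, 1, -1, 1, 1, 1, -1, 1, 1, -1, -1, 1]),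
   (1, 2, [-1, -1, 1, 1, -1, -1, 1, 1, 1, 1, -1, 1, 1, 3, 1, 1, 1, -1, 1, 1, -1, 1, 1, 1]),
   (3, 2, [-1, 1, 1, -1, 1, 1, 1, 1, 1, 1, -1, 1, 3, -1, 1, -1, 1, 1, 1, -1, -1, 1, 1, 1]),
   (0, 1, [-1, 1, 1, 1, -1, -1, 1, 1, 1, -1, 3, 1, -1, 1, 1, -1, 1, 1, 1, 1, 1, -1, 1, 1]),
   (4, 2, [-1, -1, 1, 1, 1, 3, 1, 1, 1, 1, 1, 1, 1, 1, -1, -1, 1, 1, 1, -1, -1, -1, 1, 1]),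
   (0, 0, [-1, 1, 1, 1, 1, -1, 3, 1, 1, -1, 1, -1, -1, 1, 1, 1, -1, 1, -1, 1, 1, 1, 1, 1]),
   (0, 0, [-1, 3, 1, 1, 1, 1, -1, 1, 1, 1, 1, 1, 1, -1, -1, 1, 1, -1, 1, 1, 1, -1, -1, 1]),
   (0, 1, [-1, 1, -1, -1, 1, 1, 1, 1, -1, 1, 1, 1, -1, 3, -1, 1, 1, 1, 1, 1, 1, 1, -1, 1]),
   (2, 1, [-1, 1, 1, 3, 1, 1, -1, -1, 1, 1, -1, -1, 1, 1, 1, 1, -1, 1, 1, -1, 1, 1, 1, 1]),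
   (0, 0, [-1, -1, 1, 1, 1, 1, 1, -1, 1, 1, -1, 1, 1, -1, 1, 3, -1, 1, 1, 1, 1, -1, 1, 1]),
   (0, 0, [-1, 1, 1, 1, 1, -1, 1, -1, -1, 1, -1, 3, -1, -1, 1, 1, 1, 1, 1, 1, 1, 1, 1, 1]),
   (1, 2, [-1, 1, 1, 3, 1, 1, 1, -1, -1, -1, -1, 1, 1, 1, 1, -1, 1, 1, 1, 1, 1, 1, -1, 1]),
   (2, 1, [-1, 1, 1, -1, -1, 3, 1, -1, 1, -1, 1, -1, 1, 1, 1, 1, 1, -1, 1, 1, 1, 1, 1, 1]),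
   (0, 1, [-1, -1, 1, 1, 1, -1, -1, 1, -1, 1, 1, -1, 1, 1, 1, 1, 1, -1, 1, 3, 1, 1, 1, 1]),
   (1, 2, [-1, -1, 1, 1, 1, 1, 1, 1, 1, -1, 1, 3, 1, 1, -1, 1, 1, -1, -1, 1, -1, 1, 1, 1]),
   (2, 2, [-1, -1, 1, 1, 1, 1, -1, 1, -1, -1, 1, 1, 1, 1, 1, -1, 1, 1, 3, 1, 1, -1, 1, 1]),
   (0, 2, [-1, 1, 1, -1, 1, 3, -1, 1, 1, 1, -1, 1, -1, 1, 1, 1, 1, -1, 1, 1, 1, 1, -1, 1]),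
   (3, 2, [-1, -1, 1, 1, 1, -1, 3, 1, -1, 1, 1, -1, 1, 1, 1, 1, 1, -1, 1, -1, 1, 1, 1, 1]),
   (0, 0, [-1, 3, 1, -1, -1, -1, -1, 1, 1, 1, 1, 1, 1, 1, 1, 1, -1, 1, 1, 1, 1, -1, 1, 1])]

/-- A piece of a tree. -/
def tree3_25 : List (Nat × Nat × List Int) :=
  [(0, 2, [-1, 1, 1, 1, 1, 1, -1, 1, -1, 1, 3, -1, 1, 1, -1, 1, 1, 1, -1, 1, 1, 1, -1, 1]),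
   (2, 2, [-1, -1, 1, 1, 1, 1, 3, 1, 1, 1, -1, -1, -1, 1, 1, 1, 1, 1, 1, 1, -1, -1, 1, 1]),
   (0, 0, [-1, 3, 1, 1, 1, -1, 1, -1, 1, 1, 1, 1, -1, 1, 1, 1, 1, -1, -1, 1, 1, -1, 1, 1]),
   (1, 2, [-1, -1, 1, 1, -1, 1, 3, 1, 1, 1, -1, 1, 1, 1, 1, -1, 1, 1, 1, -1, 1, 1, -1, 1]),
   (4, 1, [-1, 1, -1, 1, 1, 1, 1, 1, 1, -1, 1, 1, 1, -1, 1, -1, 1, 1, 1, 3, 1, -1, -1, 1]),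
   (0, 0, [-1, 1, 1, 1, 1, 1, 1, 1, -1, 1, 1, -1, -1, 1, -1, 1, 3, 1, 1, -1, -1, 1, 1, 1]),
   (0, 0, [-1, 1, 1, 1, -1, 1, 1, 1, 1, -1, 1, 1, 1, 3, 1, 1, -1, -1, -1, 1, 1, -1, 1, 1]),
   (0, 1, [-1, -1, 1, 1, 1, 1, -1, -1, -1, 1, 1, 1, 3, 1, 1, 1, -1, 1, 1, 1, 1, 1, -1, 1]),
   (2, 1, [-1, 1, -1, 1, 1, 1, 1, 3, 1, -1, -1, -1, 1, 1, 1, 1, 1, 1, -1, 1, 1, -1, 1, 1]),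
   (0, 1, [-1, 1, 1, 1, -1, 1, -1, 1, 1, 1, 1, -1, 1, 1, 1, 1, -1, 3, 1, 1, -1, 1, -1, 1]),
   (2, 2, [-1, -1, 1, 1, -1, 1, 1, 1, 3, 1, 1, 1, -1, -1, 1, 1, 1, 1, 1, -1, 1, -1, 1, 1]),
   (2, 1, [-1, 1, 1, 1, 1, 1, -1, 1, 1, 3, 1, 1, -1, 1, -1, -1, 1, 1, 1, 1, -1, 1, -1, 1]),
   (0, 1, [-1, 1, -1, -1, 1, 1, 3, 1, 1, 1, -1, 1, 1, 1, -1, -1, 1, 1, 1, 1, 1, -1, 1, 1]),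
   (1, 2, [-1, 1, -1, -1, -1, 1, -1, 1, 1, 1, 1, 1, 1, -1, 1, 1, 1, 3, 1, -1, 1, 1, 1, 1]),
   (3, 2, [-1, 1, 1, -1, -1, 1, 1, 1, 1, 1, -1, 3, 1, -1, 1, 1, 1, 1, 1, 1, 1, -1, -1, 1]),
   (0, 0, [-1, 1, -1, 1, 1, 1, 1, -1, -1, 1, 1, 1, -1, 1, 1, -1, 1, 1, 1, 1, -1, 3, 1, 1]),
   (0, 0, [-1, 1, 1, 1, -1, 1, 1, 1, 1, 1, -1, -1, 3, 1, 1, 1, 1, -1, -1, -1, 1, 1, 1, 1]),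
   (1, 1, [-1, 1, 1, 1, 1, 1, 1, 1, 1, 1, -1, 1, 1, 1, 1, -1, 1, -1, -1, 1, -1, -1, 3, 1]),
   (1, 2, [-1, 1, 1, -1, -1, 1, 1, 1, 1, -1, 1, 1, -1, 1, 1, 1, -1, 1, 1, -1, 1, 1, 3, 1]),
   (0, 0, [-1, 1, -1, 1, 1, 1, 1, 1, 1, 1, 1, 1, 1, -1, -1, -1, -1, -1, 1, 1, 3, 1, 1, 1]),
   (3, 1, [-1, -1, 1, 1, -1, -1, 1, 1, 1, 1, 1, 3, -1, 1, -1, 1, 1, 1, 1, 1, 1, 1, -1, 1]),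
   (0, 0, [-1, 1, -1, 1, 1, -1, -1, 1, 1, -1, 1, 1, 1, 1, 1, 1, 1, -1, 1, 1, -1, 3, 1, 1]),
   (0, 1, [-1, 1, 1, -1, 1, 1, -1, 1, -1, 1, 1, 1, 1, 1, 1, 1, 1, 1, 1, -1, -1, -1, 3, 1]),
   (0, 0, [-1, -1, 1, 1, -1, 1, 1, 1, 1, 1, 1, 1, -1, 1, 1, -1, -1, 1, -1, 1, 3, 1, 1, 1]),
   (3, 1, [-1, -1, -1, 1, 1, 1, 1, 1, 1, 1, -1, 3, 1, -1, -1, 1, 1, 1, 1, -1, 1, 1, 1, 1]),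
   (0, 0, [-1, 1, 1, 1, 1, -1, 1, -1, -1, -1, 1, 1, 1, 1, 1, 1, -1, 1, 1, -1, 1, 3, 1, 1]),
   (2, 2, [-1, 3, -1, 1, 1, 1, 1, 1, 1, 1, -1, -1, 1, -1, -1, 1, 1, 1, 1, -1, 1, 1, 1, 1]),
   (0, 0, [-1, 1, 1, 1, 1, 3, 1, -1, -1, -1, 1, 1, 1, 1, 1, 1, -1, 1, 1, -1, 1, -1, 1, 1]),
   (3, 2, [-1, 3, -1, 1, 1, 1, 1, -1, 1, 1, 1, 1, 1, 1, -1, -1, 1, 1, -1, 1, 1, 1, -1, 1]),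
   (4, 1, [-1, 1, 1, 1, 1, 1, 1, 1, 1, 1, -1, 1, 1, 1, 1, -1, 1, -1, -1, 1, -1, 3, -1, 1])]

/-- A piece of a tree. -/
def tree3_26 : List (Nat × Nat × List Int) :=
  [(0, 0, [-1, 1, 1, -1, 1, 1, 1, -1, 1, 1, 1, -1, 3, 1, 1, 1, 1, 1, -1, 1, -1, 1, -1, 1]),
   (0, 0, [-1, 1, 1, 1, 1, 1, 1, 1, 1, 1, -1, 1, 1, 1, 1, -1, 1, 3, -1, 1, -1, -1, -1, 1]),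
   (0, 0, [-1, 1, 1, 3, 1, 1, 1, -1, 1, 1, 1, -1, -1, 1, 1, 1, 1, 1, -1, 1, -1, 1, -1, 1]),
   (0, 0, [-1, 1, 1, 1, 1, 1, 1, 1, 1, 1, -1, 1, 1, 1, 1, 3, 1, -1, -1, 1, -1, -1, -1, 1]),
   (0, 0, [-1, 1, 1, -1, 1, 1, 1, -1, 1, 1, 1, 3, -1, 1, 1, 1, 1, 1, -1, 1, -1, 1, -1, 1]),
   (2, 1, [-1, 1, 1, 1, 1, 3, 1, 1, 1, 1, -1, -1, 1, 1, -1, 1, -1, -1, 1, 1, 1, -1, 1, 1]),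
   (0, 2, [-1, -1, 1, 1, 1, 1, 1, 1, -1, 1, 1, 3, 1, -1, 1, -1, 1, 1, 1, 1, -1, 1, -1, 1]),
   (0, 0, [-1, 1, 1, 1, -1, -1, 1, 1, -1, 1, 1, -1, 1, 1, 1, 1, 1, 1, -1, 1, -1, 3, 1, 1]),
   (3, 2, [-1, -1, -1, 1, -1, -1, 1, 1, 1, -1, 1, 1, 1, 1, 1, 1, 1, 1, 3, -1, 1, 1, 1, 1]),
   (0, 0, [-1, 1, -1, 1, 1, -1, -1, 1, 1, 1, 1, 1, 1, 1, -1, 1, -1, 1, 1, -1, 1, 1, 3, 1]),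
   (1, 1, [-1, -1, 1, 1, 1, 1, -1, 1, 1, -1, 1, 1, 1, -1, 1, 1, 3, 1, 1, -1, -1, 1, 1, 1]),
   (3, 1, [-1, 1, 1, 1, -1, 1, 1, 1, 3, 1, 1, 1, 1, 1, -1, -1, -1, 1, 1, 1, 1, -1, -1, 1]),
   (0, 0, [-1, 1, -1, 1, 3, 1, 1, 1, 1, -1, 1, -1, -1, -1, 1, 1, 1, 1, 1, 1, -1, 1, 1, 1]),
   (0, 2, [-1, -1, 1, 1, -1, 1, 1, -1, 1, 1, 1, 1, 1, 1, 3, 1, -1, -1, 1, -1, 1, 1, 1, 1]),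
   (3, 2, [-1, 1, -1, -1, -1, -1, 1, 1, 1, 1, 1, 1, 1, 1, 1, -1, 1, 1, 1, 1, 3, 1, -1, 1]),
   (0, 0, [-1, 1, -1, 1, 1, 1, -1, 1, 1, 1, 1, -1, 1, 1, 1, -1, 1, 1, 3, -1, -1, 1, 1, 1]),
   (0, 0, [-1, -1, 1, 1, 1, 1, 1, 1, 1, 1, 1, -1, 1, 1, 1, 1, -1, 1, -1, -1, 1, -1, 3, 1]),
   (1, 1, [-1, 1, 1, -1, 1, 1, 1, 1, 1, -1, 1, -1, 1, 1, 1, -1, 3, 1, 1, 1, -1, -1, 1, 1]),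
   (2, 2, [-1, 1, -1, -1, 3, 1, 1, 1, 1, 1, 1, -1, 1, 1, -1, 1, -1, 1, -1, 1, 1, 1, 1, 1]),
   (0, 1, [-1, 3, -1, 1, 1, -1, 1, -1, 1, 1, 1, -1, 1, 1, 1, 1, -1, 1, 1, 1, -1, 1, 1, 1]),
   (4, 1, [-1, 1, 1, 1, 1, -1, 1, 1, 1, 1, 3, -1, 1, 1, -1, 1, -1, -1, 1, 1, 1, -1, 1, 1]),
   (0, 0, [-1, 1, 1, -1, 1, 1, -1, 3, 1, -1, 1, 1, -1, -1, 1, 1, 1, 1, 1, 1, 1, -1, 1, 1]),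
   (0, 0, [-1, -1, 1, 1, 1, 1, 1, 1, -1, 1, 3, 1, -1, 1, -1, -1, 1, -1, 1, 1, 1, 1, 1, 1]),
   (2, 1, [-1, 1, -1, 1, 3, 1, 1, -1, -1, 1, 1, -1, 1, 1, 1, 1, 1, 1, 1, -1, 1, 1, -1, 1]),
   (0, 0, [-1, 1, 3, 1, -1, 1, 1, 1, 1, 1, -1, 1, 1, 1, 1, 1, -1, 1, 1, -1, -1, -1, 1, 1]),
   (1, 1, [-1, 3, 1, 1, 1, 1, 1, 1, 1, -1, 1, -1, 1, 1, -1, 1, 1, -1, -1, 1, -1, 1, 1, 1]),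
   (0, 1, [-1, 1, -1, 1, 1, 1, -1, 1, -1, 1, 1, -1, 1, 3, 1, 1, -1, 1, 1, 1, 1, -1, 1, 1]),
   (1, 2, [-1, -1, 1, 1, -1, -1, 1, 1, 1, 1, 3, 1, 1, -1, 1, 1, 1, -1, 1, 1, -1, 1, 1, 1]),
   (2, 2, [-1, -1, -1, 1, 1, 1, 1, 1, 1, -1, 1, 1, -1, 1, 3, 1, -1, 1, 1, 1, 1, -1, 1, 1]),
   (2, 2, [-1, -1, 1, 1, 1, 1, 1, 1, -1, 1, 1, -1, 1, -1, 1, 3, 1, 1, 1, 1, -1, 1, -1, 1])]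

/-- A piece of a tree. -/
def tree3_27 : List (Nat × Nat × List Int) :=
  [(0, 0, [-1, 1, 1, 1, -1, -1, 1, 1, -1, 1, 1, 3, 1, 1, 1, 1, 1, 1, -1, 1, -1, -1, 1, 1]),
   (0, 0, [-1, 1, -1, 1, -1, 1, -1, 1, 1, 1, 1, 1, -1, 1, 1, 1, 1, 1, -1, 1, 1, 3, -1, 1]),
   (2, 2, [-1, -1, -1, 3, -1, 1, 1, -1, 1, 1, -1, 1, -1, 1, 1, 1, 1, 1, 1, 1, 1, 1, 1, 1]),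
   (0, 2, [-1, 1, 1, 1, 1, 1, 1, 1, 1, -1, -1, 1, 1, 1, -1, -1, -1, 1, 3, -1, 1, 1, 1, 1]),
   (4, 2, [-1, -1, -1, 1, -1, -1, 1, 1, 1, -1, 1, 1, 1, 1, 1, 1, 1, 1, -1, 3, 1, 1, 1, 1]),
   (0, 0, [-1, 1, -1, 1, 1, -1, -1, 1, 1, 1, 1, 1, 1, 1, -1, 1, 3, 1, 1, -1, 1, 1, -1, 1]),
   (0, 0, [-1, -1, 1, 1, 1, 1, -1, 1, 1, -1, 1, 1, 1, 3, 1, 1, -1, 1, 1, -1, -1, 1, 1, 1]),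
   (0, 2, [-1, 1, 1, 1, -1, 1, -1, 3, -1, 1, -1, 1, 1, 1, 1, 1, 1, -1, 1, 1, 1, -1, 1, 1]),
   (0, 0, [-1, -1, -1, -1, -1, 1, 1, -1, 1, 1, 3, 1, -1, 1, 1, 1, 1, 1, 1, 1, 1, 1, 1, 1]),
   (3, 2, [-1, 1, -1, 1, 1, 1, -1, 1, 3, 1, 1, -1, 1, -1, 1, 1, -1, 1, 1, 1, 1, -1, 1, 1]),
   (0, 0, [-1, -1, 1, 1, 3, 1, 1, 1, -1, 1, 1, 1, -1, -1, 1, 1, 1, 1, 1, -1, 1, -1, 1, 1]),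
   (3, 1, [-1, -1, 1, 1, 1, 1, -1, 1, 1, 3, 1, 1, 1, -1, 1, 1, -1, 1, 1, -1, -1, 1, 1, 1]),
   (0, 0, [-1, -1, 1, 1, 1, -1, 1, 1, -1, 1, 1, 1, 1, -1, 3, 1, -1, 1, -1, 1, 1, 1, 1, 1]),
   (0, 2, [-1, 1, 1, 1, 1, -1, 1, -1, -1, 1, -1, -1, -1, 3, 1, 1, 1, 1, 1, 1, 1, 1, 1, 1]),
   (2, 1, [-1, 1, 1, -1, 1, 1, 3, -1, 1, -1, 1, 1, -1, -1, 1, 1, 1, 1, 1, 1, 1, -1, 1, 1]),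
   (0, 2, [-1, 1, 1, 1, 1, 1, 3, -1, 1, -1, 1, 1, 1, 1, 1, 1, 1, -1, -1, -1, 1, 1, -1, 1]),
   (2, 2, [-1, 1, 1, 1, -1, 1, -1, -1, -1, 1, -1, 1, 1, 1, 1, 1, 1, 3, 1, 1, 1, -1, 1, 1]),
   (0, 1, [-1, -1, 1, -1, -1, 1, 1, 1, 3, 1, 1, 1, 1, 1, 1, 1, 1, -1, -1, 1, 1, 1, -1, 1]),
   (3, 2, [-1, 1, 1, 1, 1, -1, 1, 1, 1, 1, -1, -1, 1, 1, -1, 1, -1, -1, 1, 1, 1, 3, 1, 1]),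
   (0, 0, [-1, 1, 1, -1, 1, 1, -1, -1, 1, -1, 1, 1, 3, -1, 1, 1, 1, 1, 1, 1, 1, -1, 1, 1]),
   (0, 2, [-1, 1, 1, 1, 1, 1, -1, -1, 1, -1, 1, 1, 1, 1, 1, 1, 1, -1, -1, 3, 1, 1, -1, 1]),
   (2, 2, [-1, -1, 1, 1, 1, 1, 1, 1, -1, 1, 1, -1, 1, -1, 1, -1, 1, 1, 1, 1, -1, 1, 3, 1]),
   (4, 1, [-1, 1, 1, 1, -1, 1, 1, 1, -1, 1, 1, 1, 1, 1, -1, -1, -1, 1, 1, 1, 1, -1, 3, 1]),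
   (0, 0, [-1, 1, -1, 1, -1, 1, 1, 1, 1, -1, 1, -1, -1, -1, 1, 1, 1, 1, 1, 1, 3, 1, 1, 1]),
   (0, 0, [-1, 1, -1, 1, 1, 1, 1, 1, -1, 1, 1, 1, 1, 1, -1, 1, 1, -1, 3, -1, 1, -1, 1, 1]),
   (0, 2, [-1, 1, 1, 1, 1, 3, 1, 1, 1, 1, 1, 1, -1, -1, 1, 1, -1, 1, 1, 1, -1, -1, -1, 1]),
   (2, 1, [-1, -1, 1, 1, 1, 1, -1, 1, 1, 1, -1, -1, -1, 1, 1, 1, 1, 1, 1, 1, -1, 3, 1, 1]),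
   (1, 2, [-1, -1, 1, 1, 3, 1, 1, -1, 1, 1, 1, 1, 1, 1, -1, 1, -1, -1, 1, -1, 1, 1, 1, 1]),
   (0, 0, [-1, 1, 3, -1, 1, -1, 1, 1, 1, -1, -1, 1, 1, -1, 1, 1, -1, 1, 1, 1, 1, 1, 1, 1]),
   (0, 0, [-1, 1, 1, 1, 1, 1, -1, -1, -1, 1, 1, 1, 1, -1, -1, -1, 1, 1, 1, 3, 1, 1, 1, 1])]

/-- A piece of a tree. -/
def tree3_28 : List (Nat × Nat × List Int) :=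
  [(2, 1, [-1, 3, -1, 1, 1, 1, 1, -1, -1, -1, 1, 1, 1, -1, 1, 1, 1, -1, 1, 1, 1, 1, 1, 1]),
   (1, 2, [-1, 1, 1, 1, 1, 1, 1, 1, -1, -1, -1, 1, 1, -1, 3, 1, 1, 1, 1, 1, -1, -1, 1, 1]),
   (0, 1, [-1, 1, 3, 1, -1, 1, -1, 1, 1, 1, 1, 1, -1, 1, 1, 1, 1, 1, -1, 1, 1, -1, -1, 1]),
   (4, 1, [-1, -1, -1, 1, 1, 1, 1, -1, 1, 1, 1, 1, 1, 1, 3, -1, 1, 1, -1, 1, 1, 1, -1, 1]),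
   (0, 2, [-1, 1, -1, -1, 1, -1, 1, 1, 1, -1, -1, 1, 1, 3, 1, 1, -1, 1, 1, 1, 1, 1, 1, 1]),
   (0, 0, [-1, 1, 1, 1, 1, 1, -1, -1, 3, 1, 1, 1, 1, -1, -1, -1, 1, 1, 1, -1, 1, 1, 1, 1]),
   (0, 1, [-1, 1, -1, -1, 1, 1, 1, 1, 1, -1, 1, 1, -1, 1, 1, -1, 1, -1, 3, 1, 1, 1, 1, 1]),
   (2, 1, [-1, 1, 1, 1, -1, -1, -1, -1, 1, 1, 1, 1, 3, 1, 1, 1, 1, 1, 1, -1, -1, 1, 1, 1]),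
   (0, 1, [-1, -1, 1, -1, 1, 1, 1, 1, 1, -1, 3, 1, 1, 1, 1, 1, 1, -1, 1, -1, 1, -1, 1, 1]),
   (2, 2, [-1, 1, 1, 1, 1, 1, 1, 3, -1, 1, 1, -1, 1, 1, 1, -1, -1, -1, -1, 1, 1, 1, 1, 1]),
   (4, 2, [-1, 1, -1, -1, -1, -1, 1, 1, 1, 1, 1, 1, 1, 1, 1, -1, 1, 1, 1, 1, -1, 1, 3, 1]),
   (0, 0, [-1, 1, -1, 1, 1, 1, -1, 1, 1, 1, 1, -1, 1, 1, 1, -1, 1, 1, -1, -1, 3, 1, 1, 1]),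
   (0, 0, [-1, -1, 1, 1, 1, 1, 1, 1, 1, 1, 1, -1, 1, 1, 1, 1, -1, 1, 3, -1, 1, -1, -1, 1]),
   (0, 0, [-1, 1, 1, 1, 1, -1, 1, 1, 1, 1, 1, 1, -1, -1, 1, 1, -1, 1, 1, 1, -1, -1, 3, 1]),
   (0, 1, [-1, 1, 1, 1, 1, 1, 1, -1, 1, 1, -1, 1, -1, 1, 3, 1, 1, 1, 1, -1, 1, -1, -1, 1]),
   (2, 1, [-1, 1, 1, 1, 1, 1, 1, -1, 1, -1, 1, -1, 1, -1, -1, 1, 3, 1, 1, 1, 1, 1, -1, 1]),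
   (0, 0, [-1, 1, 1, 1, 1, 1, 1, 1, -1, -1, -1, 1, 1, 3, -1, 1, 1, 1, 1, 1, -1, -1, 1, 1]),
   (1, 2, [-1, -1, -1, 1, 1, 1, 1, -1, 3, -1, 1, 1, 1, -1, 1, 1, 1, -1, 1, 1, 1, 1, 1, 1]),
   (2, 2, [-1, -1, -1, 1, 1, 3, 1, 1, -1, 1, -1, 1, 1, 1, 1, 1, 1, 1, 1, 1, 1, -1, -1, 1]),
   (0, 2, [-1, 1, -1, 1, 1, 1, 1, 1, 1, 1, -1, 3, -1, 1, 1, -1, -1, 1, 1, 1, 1, 1, -1, 1]),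
   (3, 1, [-1, 1, 1, -1, 1, 1, 1, 1, 1, -1, 1, -1, 1, 1, 1, -1, -1, 1, 1, 1, -1, 3, 1, 1]),
   (0, 0, [-1, 1, 1, 1, 1, 1, 1, 1, 1, 1, 1, -1, 3, -1, -1, -1, 1, 1, -1, 1, 1, -1, 1, 1]),
   (0, 1, [-1, 1, -1, 1, 1, 1, 1, 1, 1, 1, 3, -1, -1, 1, 1, -1, -1, 1, 1, 1, 1, 1, -1, 1]),
   (0, 1, [-1, 1, 1, 1, 3, 1, 1, -1, 1, 1, -1, -1, 1, 1, -1, -1, 1, 1, 1, 1, -1, 1, 1, 1]),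
   (3, 1, [-1, 1, 1, 1, 1, -1, -1, -1, 1, 1, 1, -1, 1, 1, 1, -1, 1, 1, 1, 1, 1, -1, 3, 1]),
   (1, 2, [-1, -1, 1, -1, -1, 1, 1, 1, -1, 1, 1, 1, 1, 1, 1, 1, 1, -1, -1, 1, 1, 1, 3, 1]),
   (2, 2, [-1, -1, 1, -1, 3, -1, -1, 1, 1, 1, 1, 1, 1, 1, 1, 1, -1, 1, 1, 1, 1, -1, 1, 1]),
   (0, 0, [-1, -1, 3, 1, 1, -1, -1, 1, 1, 1, 1, 1, -1, -1, 1, -1, 1, 1, 1, 1, 1, 1, 1, 1]),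
   (1, 1, [-1, 3, 1, -1, 1, -1, 1, -1, 1, 1, 1, 1, 1, -1, 1, 1, 1, 1, 1, -1, 1, 1, -1, 1]),
   (1, 2, [-1, 1, 1, 1, 1, 1, -1, 1, -1, 1, -1, -1, 1, 1, 3, 1, 1, 1, -1, 1, 1, 1, -1, 1])]

/-- A piece of a tree. -/
def tree3_29 : List (Nat × Nat × List Int) :=
  [(3, 1, [-1, -1, 1, 1, 1, -1, 1, 1, 1, 1, 1, 1, 1, 1, 3, -1, 1, 1, 1, -1, -1, -1, 1, 1]),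
   (0, 1, [-1, 1, 3, 1, 1, 1, 1, 1, 1, -1, 1, 1, 1, -1, 1, -1, 1, 1, 1, -1, 1, -1, -1, 1]),
   (0, 0, [-1, 1, 1, 1, 1, 1, 1, 1, -1, 1, 1, -1, -1, 1, -1, 1, -1, 1, 1, 3, -1, 1, 1, 1]),
   (0, 1, [-1, 1, -1, 1, 1, 1, 1, -1, 1, 3, -1, -1, 1, 1, 1, 1, 1, 1, -1, 1, 1, -1, 1, 1]),
   (1, 2, [-1, -1, 1, 1, -1, 1, 1, 1, -1, 1, 1, 1, -1, -1, 1, 1, 1, 1, 1, -1, 1, 3, 1, 1]),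
   (2, 1, [-1, 1, 1, 1, 1, 1, -1, 1, 1, -1, 1, 1, -1, 1, -1, -1, 1, 1, 1, 1, 3, 1, -1, 1]),
   (0, 2, [-1, 1, -1, -1, 3, 1, -1, 1, 1, 1, 1, 1, 1, -1, 1, 1, 1, -1, 1, -1, 1, 1, 1, 1]),
   (3, 2, [-1, 1, 1, -1, -1, 1, 1, 1, 1, 1, -1, -1, 1, 3, 1, 1, 1, 1, 1, 1, 1, -1, -1, 1]),
   (0, 1, [-1, -1, 1, 1, -1, -1, 1, 1, 1, 1, 1, -1, 3, 1, -1, 1, 1, 1, 1, 1, 1, 1, -1, 1]),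
   (3, 2, [-1, 1, 3, -1, -1, 1, 1, 1, 1, 1, 1, -1, 1, 1, -1, 1, -1, 1, -1, 1, 1, 1, 1, 1]),
   (0, 1, [-1, -1, -1, 1, 1, -1, 1, -1, 1, 1, 1, -1, 1, 1, 1, 1, -1, 1, 1, 1, 3, 1, 1, 1]),
   (0, 0, [-1, 1, 1, 1, 1, -1, -1, 1, 1, 1, -1, 1, 1, -1, 1, 1, 1, 1, 3, -1, 1, -1, 1, 1]),
   (0, 0, [-1, -1, 1, 1, 1, 1, -1, -1, -1, 1, 1, 1, -1, 1, 1, 1, -1, 1, 1, 1, 1, 1, 3, 1]),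
   (1, 2, [-1, 1, 1, 1, 1, 3, -1, -1, 1, 1, 1, -1, 1, 1, 1, -1, 1, 1, 1, 1, 1, -1, -1, 1]),
   (2, 1, [-1, 1, 1, 1, 1, 1, 1, -1, 1, 1, 1, -1, 1, -1, 1, 1, 1, -1, 1, -1, -1, 3, 1, 1]),
   (0, 1, [-1, 1, 1, 1, 1, 1, 1, 1, -1, -1, 1, -1, -1, 1, 1, 1, 1, -1, 1, 1, 1, -1, 3, 1]),
   (2, 2, [-1, -1, 1, 1, 3, 1, 1, 1, -1, -1, -1, -1, 1, 1, 1, 1, -1, 1, 1, 1, 1, 1, 1, 1]),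
   (0, 2, [-1, -1, 1, 1, 1, 1, 1, 1, -1, 1, -1, 1, -1, 1, 3, -1, 1, -1, 1, 1, 1, 1, 1, 1]),
   (3, 2, [-1, -1, 1, 1, 1, -1, 1, 1, -1, 1, 1, 1, 1, -1, -1, 1, 3, 1, -1, 1, 1, 1, 1, 1]),
   (0, 1, [-1, 1, -1, 1, 1, 1, 1, 3, 1, 1, 1, 1, -1, -1, 1, 1, -1, 1, -1, -1, 1, 1, 1, 1]),
   (0, 2, [-1, 1, 1, 1, 1, -1, 1, -1, -1, 3, 1, 1, 1, 1, 1, 1, -1, 1, 1, -1, 1, -1, 1, 1]),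
   (0, 0, [-1, 1, 1, 1, -1, 1, -1, 1, 1, 1, -1, 1, -1, -1, 3, 1, -1, 1, 1, 1, 1, 1, 1, 1]),
   (7, 2, [-1, 1, 1, -1, 3, 1, 1, 1, 1, -1, 1, 1, -1, 1, 1, 1, -1, 1, 1, -1, 1, 1, -1, 1]),
   (0, 1, [-1, 3, 1, 1, 1, -1, -1, -1, 1, -1, -1, 1, 1, 1, -1, 1, 1, 1, 1, 1, 1, 1, 1, 1]),
   (0, 0, [-1, -1, 1, 1, 1, 3, -1, -1, 1, -1, -1, 1, 1, 1, -1, 1, 1, 1, 1, 1, 1, 1, 1, 1]),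
   (0, 0, [-1, -1, 1, 1, 1, -1, 3, -1, 1, -1, -1, 1, 1, 1, -1, 1, 1, 1, 1, 1, 1, 1, 1, 1]),
   (0, 1, [-1, 1, -1, 3, -1, 1, -1, 1, 1, 1, 1, 1, 1, -1, 1, 1, 1, -1, 1, -1, 1, 1, 1, 1]),
   (0, 0, [-1, -1, -1, -1, 1, 1, 1, 1, -1, 1, 1, 1, 1, 1, 1, 3, -1, 1, 1, -1, 1, 1, 1, 1]),
   (2, 2, [-1, 1, 1, 1, 1, 1, 3, 1, 1, -1, -1, -1, 1, -1, 1, -1, 1, -1, 1, 1, 1, 1, 1, 1]),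
   (0, 0, [-1, 3, 1, -1, 1, 1, 1, -1, -1, 1, 1, -1, 1, 1, -1, 1, 1, 1, 1, 1, 1, -1, 1, 1])]

/-- A piece of a tree. -/
def tree3_30 : List (Nat × Nat × List Int) :=
  [(1, 2, [-1, -1, 1, -1, 1, 1, 3, -1, 1, 1, 1, 1, 1, 1, 1, -1, 1, -1, 1, 1, -1, 1, 1, 1]),
   (3, 1, [-1, 1, -1, -1, -1, 1, -1, 1, 1, 1, 1, 1, 1, -1, 1, 1, 1, -1, 1, 3, 1, 1, 1, 1]),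
   (0, 0, [-1, -1, -1, -1, 1, 1, 1, 1, -1, 1, 1, 1, 1, 1, 1, -1, 3, 1, 1, -1, 1, 1, 1, 1]),
   (0, 0, [-1, 1, 1, 1, -1, -1, 1, 1, 1, 1, 1, -1, 1, 3, 1, -1, -1, 1, 1, -1, 1, 1, 1, 1]),
   (1, 1, [-1, 1, 1, 1, 1, -1, 1, 3, 1, -1, 1, 1, 1, -1, 1, -1, 1, 1, -1, 1, -1, 1, 1, 1]),
   (2, 2, [-1, 1, 1, 1, 1, 1, -1, -1, 1, 1, 1, 1, 1, 1, -1, 1, -1, 1, -1, 1, -1, 3, 1, 1]),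
   (0, 0, [-1, -1, 1, 1, 1, 1, 1, 1, 1, -1, -1, 1, 3, -1, 1, 1, 1, 1, -1, 1, 1, 1, -1, 1]),
   (1, 2, [-1, 1, 1, 1, -1, -1, -1, 1, -1, -1, 1, 1, 1, -1, 1, 1, 1, 1, 1, 1, 1, 1, 3, 1]),
   (3, 2, [-1, 1, 1, 1, 1, 1, -1, 1, 1, -1, -1, 3, 1, -1, 1, -1, 1, -1, 1, 1, 1, 1, 1, 1]),
   (0, 0, [-1, -1, 1, -1, 1, 1, 1, -1, -1, 1, 1, -1, 1, 1, -1, 1, 1, 1, 1, 1, 1, 3, 1, 1]),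
   (0, 1, [-1, 1, -1, 1, 1, -1, 1, 1, 1, 1, 1, -1, 1, -1, 1, 1, 1, -1, -1, 1, 1, 1, 3, 1]),
   (1, 2, [-1, -1, 1, 1, 1, 1, 1, 1, 1, -1, -1, 1, -1, -1, 1, 1, 1, 1, -1, 1, 1, 1, 3, 1]),
   (4, 1, [-1, 1, -1, -1, -1, 1, -1, 1, 1, 1, 1, 1, 1, 3, 1, 1, 1, -1, 1, -1, 1, 1, 1, 1]),
   (0, 0, [-1, -1, -1, -1, 1, 1, 1, 1, 3, 1, 1, 1, 1, 1, 1, -1, -1, 1, 1, -1, 1, 1, 1, 1]),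
   (0, 1, [-1, 1, 1, 1, 1, -1, 1, -1, 1, -1, 1, 1, 1, -1, 1, -1, 1, 1, 3, 1, -1, 1, 1, 1]),
   (1, 2, [-1, 1, 1, -1, 1, 1, 1, 1, -1, 1, -1, 1, 3, 1, 1, 1, -1, 1, -1, 1, 1, -1, 1, 1]),
   (0, 2, [-1, 1, 1, 1, 1, -1, 1, 1, -1, 1, 1, 1, -1, 1, 1, -1, 1, 1, -1, 3, 1, 1, -1, 1]),
   (3, 1, [-1, -1, 1, -1, 1, -1, 1, 1, -1, -1, 1, 1, 3, 1, 1, 1, 1, 1, 1, 1, -1, 1, 1, 1]),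
   (0, 1, [-1, 1, 1, 1, 1, -1, -1, 1, 1, 1, 3, 1, 1, -1, 1, 1, 1, 1, -1, -1, 1, -1, 1, 1]),
   (3, 2, [-1, 1, 1, 1, 1, 1, -1, 1, 1, -1, 3, -1, 1, -1, 1, -1, 1, -1, 1, 1, 1, 1, 1, 1]),
   (0, 0, [-1, -1, 1, -1, 1, 1, 1, 3, -1, 1, 1, -1, 1, 1, -1, 1, 1, 1, 1, 1, 1, -1, 1, 1]),
   (1, 1, [-1, 1, 1, -1, 3, 1, -1, 1, -1, 1, 1, -1, -1, 1, 1, -1, 1, 1, 1, 1, 1, 1, 1, 1]),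
   (0, 1, [-1, 3, 1, -1, 1, -1, 1, 1, 1, 1, -1, -1, 1, 1, 1, -1, 1, 1, -1, 1, 1, 1, 1, 1]),
   (1, 2, [-1, -1, 1, -1, 1, 1, -1, 1, 1, 1, 1, 1, -1, 1, 3, 1, 1, 1, -1, -1, 1, 1, 1, 1]),
   (2, 2, [-1, -1, 1, -1, 1, 1, -1, -1, 1, 1, 1, 1, 1, 1, 1, 3, 1, -1, 1, 1, -1, 1, 1, 1]),
   (0, 0, [-1, -1, 1, -1, 1, -1, 1, 1, 1, 1, -1, 3, 1, 1, 1, -1, 1, 1, -1, 1, 1, 1, 1, 1]),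
   (0, 1, [-1, 1, 1, 1, -1, -1, 1, 1, 1, 1, 1, 3, 1, -1, 1, -1, -1, 1, 1, -1, 1, 1, 1, 1]),
   (0, 0, [-1, 1, -1, 1, 1, 1, -1, 1, -1, 1, 1, -1, 1, -1, 1, 1, -1, 1, 1, 1, 1, 3, 1, 1]),
   (3, 1, [-1, 1, 1, -1, 1, -1, 1, 1, -1, 1, 1, 1, 1, -1, 1, 3, 1, -1, 1, 1, 1, -1, 1, 1]),
   (0, 1, [-1, 1, 1, 1, 1, -1, 1, 1, -1, 1, 1, 1, -1, 1, 1, 3, 1, 1, -1, -1, 1, 1, -1, 1])]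

/-- A piece of a tree. -/
def tree3_31 : List (Nat × Nat × List Int) :=
  [(0, 1, [-1, 1, 1, 1, 1, 1, 1, 1, 1, -1, -1, 1, 1, 1, -1, 3, -1, 1, -1, -1, 1, 1, 1, 1]),
   (3, 2, [-1, 1, 1, 3, -1, 1, -1, 1, 1, -1, -1, 1, 1, 1, 1, 1, 1, 1, -1, 1, -1, 1, 1, 1]),
   (4, 2, [-1, 1, -1, 1, 1, 1, 1, 1, -1, 1, 1, 1, 1, 1, 3, 1, 1, -1, -1, -1, 1, -1, 1, 1]),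
   (0, 0, [-1, 1, 1, -1, -1, 1, 1, 1, 1, 3, 1, 1, -1, 1, 1, 1, -1, 1, 1, -1, 1, 1, -1, 1]),
   (0, 2, [-1, 1, -1, 1, 1, 1, 1, 1, -1, 1, 1, 1, 1, 1, -1, 1, 1, 3, -1, -1, 1, -1, 1, 1]),
   (0, 1, [-1, 1, -1, 1, 1, 1, 1, 1, 3, -1, 1, 1, 1, 1, 1, 1, -1, 1, -1, 1, -1, 1, -1, 1]),
   (0, 2, [-1, 1, -1, 1, -1, -1, 1, 1, -1, 1, 1, 1, 3, 1, 1, 1, -1, -1, 1, 1, 1, 1, 1, 1]),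
   (2, 2, [-1, 1, 1, 1, 1, -1, 1, 1, 1, 1, 1, 1, -1, -1, 1, 1, -1, 1, 1, 1, 3, -1, -1, 1]),
   (0, 0, [-1, 1, 1, 1, 1, 1, -1, 1, -1, 1, 1, 1, -1, -1, 1, 1, 1, -1, 3, 1, -1, 1, 1, 1]),
   (4, 2, [-1, 1, 1, 1, 1, -1, 1, 1, 1, 1, 1, 1, -1, 3, 1, 1, -1, 1, 1, 1, -1, -1, -1, 1]),
   (0, 0, [-1, 1, 1, 1, 1, 1, -1, 1, 3, 1, 1, 1, -1, -1, 1, 1, 1, -1, -1, 1, -1, 1, 1, 1]),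
   (0, 0, [-1, -1, 1, -1, 3, 1, 1, 1, -1, 1, 1, 1, 1, 1, 1, 1, 1, -1, -1, 1, 1, 1, -1, 1]),
   (0, 1, [-1, 3, 1, 1, 1, -1, 1, 1, -1, 1, 1, 1, 1, -1, -1, 1, -1, 1, -1, 1, 1, 1, 1, 1]),
   (1, 2, [-1, 1, -1, 1, 1, -1, 1, 1, 1, 1, -1, 1, -1, 1, 3, 1, 1, 1, -1, 1, -1, 1, 1, 1]),
   (2, 1, [-1, 1, 1, -1, 1, 1, 1, 1, -1, 1, -1, 1, -1, 1, 1, 1, -1, 1, 3, 1, 1, -1, 1, 1]),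
   (0, 0, [-1, 1, 1, 1, -1, 1, 1, -1, 1, 1, 1, 1, -1, -1, 1, -1, 1, -1, 1, 1, 1, 1, 3, 1]),
   (0, 0, [-1, 1, -1, -1, 1, 1, 1, 1, -1, 1, -1, -1, 1, 1, 1, 1, 1, -1, 1, 1, 3, 1, 1, 1]),
   (2, 1, [-1, 1, 1, 1, -1, -1, 1, -1, 1, 1, -1, 1, 1, 1, 1, 1, 3, 1, -1, 1, 1, 1, -1, 1]),
   (0, 2, [-1, 1, -1, 1, 1, -1, 1, 1, 3, -1, 1, -1, 1, 1, -1, -1, 1, 1, 1, 1, 1, 1, 1, 1]),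
   (4, 1, [-1, 1, 1, 1, 1, 1, 1, -1, 1, 1, -1, 1, 3, 1, -1, 1, 1, 1, 1, -1, 1, -1, -1, 1]),
   (0, 0, [-1, 1, 1, 1, 1, 1, 1, -1, 1, -1, -1, 1, -1, 1, 1, 1, -1, 3, 1, 1, -1, 1, 1, 1]),
   (0, 0, [-1, 1, 1, 3, 1, 1, 1, -1, 1, 1, -1, 1, 1, -1, -1, 1, 1, -1, -1, 1, 1, 1, 1, 1]),
   (1, 1, [-1, 1, 1, 1, -1, 1, -1, -1, 3, 1, -1, 1, 1, 1, 1, 1, 1, -1, 1, 1, 1, -1, 1, 1]),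
   (1, 2, [-1, 1, 1, 1, -1, 1, 1, 1, -1, -1, 1, 1, 1, 1, 1, -1, 1, -1, 1, -1, 3, 1, 1, 1]),
   (2, 1, [-1, 1, -1, 1, -1, 1, 1, 1, 1, -1, 3, 1, 1, 1, -1, 1, 1, -1, 1, 1, 1, 1, -1, 1]),
   (0, 1, [-1, -1, -1, 1, 3, 1, -1, 1, -1, 1, 1, 1, 1, 1, -1, 1, 1, 1, 1, 1, -1, 1, 1, 1]),
   (3, 2, [-1, 1, -1, 1, -1, 1, 1, 3, -1, 1, 1, -1, 1, 1, 1, 1, 1, 1, 1, -1, 1, 1, -1, 1]),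
   (0, 0, [-1, 1, -1, 1, -1, 1, 1, 1, 1, 1, 3, 1, 1, 1, 1, 1, -1, 1, 1, -1, -1, -1, 1, 1]),
   (0, 1, [-1, -1, 1, 1, 3, 1, 1, -1, 1, -1, 1, 1, 1, 1, 1, 1, 1, 1, 1, 1, -1, -1, -1, 1]),
   (2, 1, [-1, -1, 1, 1, 1, 1, 1, 1, 1, -1, 1, -1, 1, 1, -1, 1, 1, 3, -1, 1, -1, 1, 1, 1])]

/-- A piece of a tree. -/
def tree3_32 : List (Nat × Nat × List Int) :=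
  [(0, 0, [-1, 1, 1, 3, 1, -1, 1, 1, 1, -1, 1, 1, 1, 1, -1, 1, 1, 1, -1, 1, 1, -1, -1, 1]),
   (0, 2, [-1, 1, -1, 1, 1, -1, 1, 1, 1, 1, 1, -1, 1, -1, 1, 1, 1, -1, 3, 1, 1, 1, -1, 1]),
   (2, 2, [-1, -1, 1, 1, -1, -1, 1, 1, 1, 1, -1, 1, 1, -1, 1, 1, 1, -1, 1, 1, 3, 1, 1, 1]),
   (7, 2, [-1, 1, 1, -1, -1, 1, 1, -1, -1, 1, 1, 1, 1, -1, 1, 1, 3, 1, 1, 1, -1, 1, 1, 1]),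
   (0, 0, [-1, 1, -1, 1, -1, 1, 1, 1, -1, 1, -1, 1, 1, 3, 1, -1, 1, 1, -1, 1, 1, 1, 1, 1]),
   (0, 0, [-1, 1, -1, 1, -1, 1, 1, -1, 3, 1, 1, -1, 1, 1, 1, 1, 1, 1, 1, -1, 1, 1, -1, 1]),
   (0, 0, [-1, 1, -1, 1, 3, 1, 1, 1, 1, 1, -1, 1, 1, 1, 1, 1, -1, 1, 1, -1, -1, -1, 1, 1]),
   (0, 0, [-1, 1, 3, 1, 1, 1, 1, -1, 1, 1, 1, 1, -1, -1, 1, 1, -1, 1, -1, -1, 1, 1, 1, 1]),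
   (0, 2, [-1, 1, 1, 1, 1, -1, 1, -1, -1, -1, 1, 1, 1, 1, 1, 1, 3, 1, 1, -1, 1, -1, 1, 1]),
   (0, 0, [-1, 1, 1, 1, -1, 1, -1, 1, 1, 1, -1, 1, -1, 3, -1, 1, -1, 1, 1, 1, 1, 1, 1, 1]),
   (1, 2, [-1, 1, 1, 1, 1, 1, 1, 1, 3, -1, 1, -1, -1, 1, 1, 1, 1, -1, 1, 1, 1, -1, -1, 1]),
   (3, 1, [-1, 3, 1, 1, -1, 1, 1, -1, 1, -1, 1, 1, 1, 1, 1, 1, 1, 1, 1, 1, -1, -1, -1, 1]),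
   (0, 0, [-1, 1, -1, 1, 1, 3, 1, 1, 1, 1, -1, 1, -1, 1, -1, 1, 1, 1, -1, 1, -1, 1, 1, 1]),
   (2, 2, [-1, 1, 1, 1, -1, 1, 1, 1, -1, 1, 1, 1, 1, 1, 3, -1, -1, 1, 1, 1, 1, -1, -1, 1]),
   (0, 0, [-1, 1, -1, 1, -1, 1, 1, 1, 1, 3, 1, -1, -1, -1, 1, 1, 1, 1, 1, 1, -1, 1, 1, 1]),
   (1, 1, [-1, -1, 3, 1, 1, 1, 1, -1, 1, 1, 1, 1, 1, 1, -1, -1, 1, 1, -1, 1, 1, 1, -1, 1]),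
   (0, 2, [-1, 1, -1, -1, 1, -1, 1, 1, 1, -1, -1, 1, 1, -1, 1, 1, 3, 1, 1, 1, 1, 1, 1, 1]),
   (4, 1, [-1, -1, 1, 1, 1, 1, 1, 1, 1, -1, 1, -1, 1, 1, -1, 1, 1, -1, 3, 1, -1, 1, 1, 1]),
   (0, 0, [-1, 1, 1, -1, 1, -1, 1, 1, 1, -1, 1, 1, 1, 1, -1, 1, 1, 1, -1, 1, 1, -1, 3, 1]),
   (0, 1, [-1, 1, -1, 1, 1, -1, -1, 1, 1, 1, 1, 1, 1, 1, 3, 1, -1, 1, 1, -1, 1, 1, -1, 1]),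
   (1, 2, [-1, 1, 3, 1, 1, -1, 1, 1, 1, 1, 1, -1, 1, -1, 1, 1, 1, -1, -1, 1, 1, 1, -1, 1]),
   (0, 1, [-1, 1, 1, 1, 1, 1, 1, 1, -1, 1, 1, -1, -1, 1, -1, 1, -1, 1, 1, -1, 3, 1, 1, 1]),
   (3, 1, [-1, 1, -1, 1, 1, 1, -1, 1, -1, 1, 1, -1, 1, -1, 1, 1, 3, 1, 1, 1, 1, -1, 1, 1]),
   (0, 0, [-1, -1, 1, 1, -1, 1, 1, 1, -1, 1, 1, 1, -1, 3, 1, 1, 1, 1, 1, -1, 1, -1, 1, 1]),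
   (1, 1, [-1, 1, 1, -1, 1, 1, 1, 3, 1, 1, 1, -1, -1, 1, 1, 1, 1, 1, -1, 1, -1, 1, -1, 1]),
   (1, 2, [-1, -1, 1, 1, 1, 1, -1, -1, 3, 1, 1, 1, -1, 1, 1, 1, -1, 1, 1, 1, 1, 1, -1, 1]),
   (0, 0, [-1, -1, 1, 1, 3, -1, 1, 1, 1, 1, -1, 1, 1, -1, 1, 1, 1, -1, 1, 1, -1, 1, 1, 1]),
   (3, 2, [-1, -1, 1, 1, -1, 3, 1, 1, 1, 1, -1, 1, 1, -1, 1, 1, 1, -1, 1, 1, -1, 1, 1, 1]),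
   (0, 0, [-1, 1, -1, -1, 1, -1, 3, -1, -1, 1, 1, 1, 1, 1, 1, 1, 1, 1, -1, 1, 1, 1, 1, 1]),
   (1, 1, [-1, -1, 1, 1, -1, 1, 1, 1, -1, 1, 1, 1, -1, -1, 1, 1, 1, 1, 1, 3, 1, -1, 1, 1])]

/-- A piece of a tree. -/
def tree3_33 : List (Nat × Nat × List Int) :=
  [(1, 2, [-1, 1, 1, 1, -1, 1, 1, -1, 1, 1, -1, 3, 1, 1, -1, -1, 1, 1, 1, 1, -1, 1, 1, 1]),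
   (3, 2, [-1, -1, -1, 1, 1, 1, 1, 1, 1, -1, 1, 1, 3, 1, -1, 1, -1, 1, 1, 1, 1, -1, 1, 1]),
   (0, 0, [-1, 1, 1, 1, 1, -1, 1, 1, 1, -1, 1, 1, -1, -1, -1, 1, 1, 3, 1, -1, 1, 1, 1, 1]),
   (0, 0, [-1, 1, 1, 3, 1, 1, -1, 1, -1, -1, 1, 1, 1, 1, -1, 1, -1, -1, 1, 1, 1, 1, 1, 1]),
   (0, 0, [-1, -1, 1, -1, -1, 1, 1, 1, 1, -1, 1, 1, 1, -1, -1, 3, 1, 1, 1, 1, 1, 1, 1, 1]),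
   (1, 1, [-1, 1, -1, -1, 1, 3, -1, -1, -1, 1, 1, 1, 1, 1, 1, 1, 1, 1, -1, 1, 1, 1, 1, 1]),
   (2, 2, [-1, 1, 1, 1, 1, 1, 1, -1, 1, 1, 1, -1, 1, -1, 1, 1, 1, -1, 1, -1, 3, -1, 1, 1]),
   (2, 1, [-1, 1, -1, 1, 1, 1, -1, -1, 1, 1, 3, 1, 1, -1, 1, 1, 1, 1, 1, 1, -1, 1, -1, 1]),
   (0, 1, [-1, 1, 1, -1, 3, 1, 1, 1, 1, 1, 1, 1, -1, 1, -1, 1, 1, -1, 1, 1, -1, -1, 1, 1]),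
   (0, 2, [-1, 1, 1, 1, -1, 1, 1, 1, 1, 1, 1, 1, 1, -1, 3, 1, 1, 1, -1, -1, -1, 1, -1, 1]),
   (2, 2, [-1, 1, -1, 1, -1, 1, -1, -1, 1, -1, 1, 1, 1, 1, 1, 3, -1, 1, 1, 1, 1, 1, 1, 1]),
   (2, 2, [-1, 1, 1, 1, 1, 1, 1, 1, -1, 1, -1, 1, 1, -1, 1, 1, -1, -1, 1, 3, 1, 1, -1, 1]),
   (0, 1, [-1, 1, 1, 1, -1, 1, 1, -1, -1, 3, 1, 1, -1, 1, -1, 1, 1, 1, -1, 1, 1, 1, 1, 1]),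
   (0, 0, [-1, 1, -1, 1, -1, 1, 1, 1, 1, -1, -1, 1, 1, 1, 3, 1, 1, -1, 1, 1, 1, 1, -1, 1]),
   (0, 0, [-1, 1, -1, -1, 1, 1, 1, -1, 1, 3, 1, 1, 1, 1, -1, 1, 1, 1, 1, -1, -1, 1, 1, 1]),
   (2, 1, [-1, -1, -1, 1, 1, 1, 3, 1, 1, 1, -1, 1, 1, 1, 1, 1, -1, -1, -1, 1, 1, 1, 1, 1]),
   (5, 1, [-1, -1, 1, 1, -1, 1, 1, 1, 1, 1, 1, 1, 3, 1, 1, -1, -1, 1, -1, 1, -1, 1, 1, 1]),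
   (0, 0, [-1, 1, -1, 1, 1, -1, 1, 1, 1, 1, 1, -1, 1, -1, 1, 1, 1, 3, -1, 1, 1, 1, -1, 1]),
   (0, 0, [-1, 1, 1, 3, 1, 1, -1, 1, -1, 1, 1, 1, 1, 1, 1, 1, 1, 1, 1, -1, -1, -1, -1, 1]),
   (0, 0, [-1, -1, 1, 1, -1, 1, 1, 1, 1, 1, 1, 1, -1, 1, 1, 3, -1, 1, -1, 1, -1, 1, 1, 1]),
   (1, 1, [-1, 1, 1, -1, 1, 3, 1, 1, 1, -1, 1, 1, 1, 1, -1, 1, 1, 1, -1, 1, 1, -1, -1, 1]),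
   (0, 1, [-1, 1, -1, 1, 1, -1, -1, 1, 1, 1, 1, 1, 1, 1, -1, 1, -1, 1, 1, 3, 1, 1, -1, 1]),
   (2, 2, [-1, 1, -1, 1, -1, 1, -1, 1, 1, 1, 1, 1, -1, 1, 1, 1, 1, 1, 3, 1, 1, -1, -1, 1]),
   (2, 1, [-1, 1, 1, 1, 1, 1, 1, 1, 3, 1, 1, -1, -1, 1, -1, 1, -1, 1, 1, -1, -1, 1, 1, 1]),
   (0, 0, [-1, 1, 1, 1, 3, 1, 1, 1, 1, -1, 1, 1, 1, -1, 1, 1, -1, -1, -1, 1, 1, -1, 1, 1]),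
   (1, 1, [-1, 1, -1, 1, 1, 1, 1, -1, 1, -1, -1, -1, 1, 1, 1, 1, 1, 1, 3, 1, 1, -1, 1, 1]),
   (0, 0, [-1, 1, 1, 1, 1, 1, 1, -1, 1, 1, -1, 1, -1, 1, -1, 1, 1, 1, 1, -1, 1, -1, 3, 1]),
   (2, 2, [-1, -1, 1, 1, -1, 1, 1, 1, -1, 1, 1, 1, 3, -1, 1, 1, 1, 1, 1, -1, 1, -1, 1, 1]),
   (3, 1, [-1, -1, 1, 1, 1, 1, 1, -1, 1, 1, 3, 1, 1, -1, 1, -1, -1, 1, 1, 1, 1, -1, 1, 1]),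
   (0, 0, [-1, 1, 1, 1, 1, -1, 1, 3, -1, 1, -1, -1, -1, -1, 1, 1, 1, 1, 1, 1, 1, 1, 1, 1])]

/-- A piece of a tree. -/
def tree3_34 : List (Nat × Nat × List Int) :=
  [(0, 0, [-1, 1, 1, 1, -1, 1, -1, -1, -1, 1, 3, 1, 1, 1, 1, 1, 1, -1, 1, 1, 1, -1, 1, 1]),
   (0, 2, [-1, 1, 1, 1, 1, 1, -1, 1, 1, -1, 1, 1, -1, 1, -1, 3, 1, 1, 1, 1, -1, 1, -1, 1]),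
   (2, 2, [-1, -1, 1, 1, 1, 1, 1, -1, 1, 3, 1, -1, -1, 1, 1, -1, 1, 1, 1, -1, 1, 1, 1, 1]),
   (2, 1, [-1, 1, 1, 1, 3, 1, 1, -1, 1, 1, 1, 1, -1, -1, 1, -1, 1, -1, 1, 1, 1, 1, -1, 1]),
   (0, 0, [-1, 1, 3, -1, 1, 1, 1, 1, -1, 1, -1, -1, 1, 1, 1, 1, 1, -1, 1, 1, -1, 1, 1, 1]),
   (1, 1, [-1, 3, 1, 1, 1, 1, 1, 1, -1, 1, -1, 1, -1, 1, -1, -1, 1, -1, 1, 1, 1, 1, 1, 1]),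
   (2, 2, [-1, 1, 1, -1, 1, 1, 1, -1, -1, -1, -1, 1, 1, 1, 1, 3, 1, 1, 1, 1, 1, 1, -1, 1]),
   (0, 1, [-1, 1, 1, 1, -1, -1, -1, 1, 1, 1, 1, 1, 1, 1, -1, 3, 1, -1, -1, 1, 1, 1, 1, 1]),
   (0, 0, [-1, -1, -1, -1, 1, 1, -1, 1, 1, -1, 1, 3, 1, 1, 1, 1, 1, 1, 1, 1, 1, 1, -1, 1]),
   (1, 2, [-1, 1, 1, 3, 1, -1, -1, 1, 1, 1, 1, -1, 1, -1, -1, 1, 1, 1, 1, 1, -1, 1, 1, 1]),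
   (2, 2, [-1, 1, -1, 3, 1, 1, 1, 1, 1, -1, 1, 1, -1, 1, 1, -1, 1, -1, -1, 1, 1, 1, 1, 1]),
   (3, 2, [-1, 1, 1, -1, -1, -1, 1, 1, -1, 1, -1, 1, 1, 1, -1, 1, 1, 1, 1, 3, 1, 1, 1, 1]),
   (0, 0, [-1, 1, -1, 1, -1, 1, -1, -1, 1, -1, 1, 1, 1, 1, 1, -1, 3, 1, 1, 1, 1, 1, 1, 1]),
   (1, 1, [-1, -1, -1, 1, -1, -1, 1, 1, 1, 3, 1, 1, 1, 1, 1, 1, 1, 1, -1, -1, 1, 1, 1, 1]),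
   (0, 1, [-1, -1, 1, 1, 1, 1, 3, 1, 1, -1, 1, 1, 1, -1, 1, 1, -1, 1, 1, -1, -1, 1, 1, 1]),
   (0, 1, [-1, 1, 1, 3, 1, 1, -1, -1, 1, -1, 1, 1, -1, -1, 1, 1, 1, 1, 1, 1, 1, -1, 1, 1]),
   (2, 2, [-1, 1, 1, 1, 1, -1, 1, 1, 1, 1, -1, -1, 1, 1, -1, 1, -1, 3, 1, 1, 1, -1, 1, 1]),
   (2, 2, [-1, 1, 1, 1, 1, 1, 1, 1, 1, 1, 1, -1, -1, -1, -1, -1, 1, 1, -1, 1, 1, 3, 1, 1]),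
   (0, 0, [-1, 1, 1, 1, 1, 1, 1, 1, -1, -1, 1, -1, 3, 1, 1, 1, 1, -1, 1, 1, 1, -1, -1, 1]),
   (0, 2, [-1, -1, -1, 1, 1, 1, 1, 1, 1, 1, 1, 1, -1, 1, 1, 1, 1, -1, 1, 3, -1, 1, -1, 1]),
   (2, 1, [-1, 1, -1, 1, 1, 1, 1, 1, 1, 1, -1, -1, -1, 1, 1, -1, -1, 1, 1, 1, 1, 1, 3, 1]),
   (0, 1, [-1, 1, 1, 1, -1, 1, 1, -1, 1, 1, -1, -1, 1, 1, 3, -1, 1, 1, 1, 1, -1, 1, 1, 1]),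
   (5, 2, [-1, 1, 1, -1, 1, -1, 1, 3, 1, 1, 1, 1, -1, 1, -1, -1, -1, 1, 1, 1, 1, 1, 1, 1]),
   (0, 1, [-1, 1, -1, 1, 1, -1, 1, -1, 1, 1, -1, 1, 1, 1, 1, -1, 1, 3, 1, -1, 1, 1, 1, 1]),
   (0, 1, [-1, 1, 1, 1, -1, 1, 1, 1, 3, -1, 1, 1, 1, 1, 1, -1, 1, -1, 1, -1, -1, 1, 1, 1]),
   (1, 2, [-1, 1, 1, -1, 1, 1, 1, 1, 1, -1, 1, -1, 1, 1, 1, -1, -1, 1, 1, 1, 3, -1, 1, 1]),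
   (0, 0, [-1, 1, 1, 1, 1, 1, 1, 1, 1, 1, 1, -1, -1, -1, -1, -1, 1, 1, 3, 1, 1, -1, 1, 1]),
   (1, 1, [-1, 1, 1, 1, 1, -1, -1, -1, 1, 1, 1, -1, 1, 1, 1, -1, 1, 1, 1, 1, 1, 3, -1, 1]),
   (0, 2, [-1, -1, -1, -1, 1, 1, -1, 1, 1, -1, 1, -1, 1, 1, 1, 1, 1, 1, 1, 1, 1, 1, 3, 1]),
   (4, 2, [-1, 1, 1, -1, 1, 1, 1, 1, -1, 3, 1, -1, 1, -1, 1, 1, 1, 1, -1, -1, 1, 1, 1, 1])]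

/-- A piece of a tree. -/
def tree3_35 : List (Nat × Nat × List Int) :=
  [(3, 1, [-1, -1, 1, 1, 1, -1, 1, 3, 1, 1, 1, 1, -1, 1, 1, 1, 1, -1, -1, 1, 1, -1, 1, 1]),
   (0, 0, [-1, 1, 1, -1, 1, -1, -1, 1, 1, 1, 3, 1, -1, 1, 1, 1, 1, -1, 1, 1, 1, 1, -1, 1]),
   (0, 0, [-1, -1, 1, -1, 1, 1, -1, 3, 1, 1, 1, 1, 1, 1, 1, -1, 1, -1, 1, 1, -1, 1, 1, 1]),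
   (0, 0, [-1, -1, 1, -1, 1, -1, 1, 1, 1, 1, 3, -1, 1, 1, 1, -1, 1, 1, -1, 1, 1, 1, 1, 1]),
   (0, 0, [-1, 1, 1, 1, 1, -1, -1, 3, 1, 1, 1, -1, 1, 1, 1, -1, 1, 1, 1, 1, 1, -1, -1, 1]),
   (0, 1, [-1, 1, 1, -1, 1, 1, 1, 1, 1, 1, 1, -1, 1, 1, -1, -1, 1, 3, 1, -1, 1, 1, -1, 1]),
   (2, 2, [-1, -1, 1, -1, 1, -1, 1, 1, 1, 1, -1, -1, 1, 1, 1, 3, 1, 1, -1, 1, 1, 1, 1, 1]),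
   (0, 0, [-1, 1, 1, 1, 1, -1, -1, -1, 1, 1, 1, 3, 1, 1, 1, -1, 1, 1, 1, 1, 1, -1, -1, 1]),
   (1, 1, [-1, 1, 1, 1, -1, -1, 1, 1, 1, 1, 1, -1, 1, -1, 1, 3, -1, 1, 1, -1, 1, 1, 1, 1]),
   (0, 1, [-1, -1, 1, 1, 1, 1, 1, -1, 1, -1, 1, -1, -1, 1, 1, 3, 1, 1, 1, -1, 1, 1, 1, 1]),
   (4, 1, [-1, 1, 1, -1, 1, -1, 1, 1, -1, 1, 1, 1, 1, -1, 1, -1, 1, 3, 1, 1, 1, -1, 1, 1]),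
   (0, 0, [-1, 1, 1, 3, -1, 1, -1, 1, -1, 1, 1, -1, -1, 1, 1, -1, 1, 1, 1, 1, 1, 1, 1, 1]),
   (1, 1, [-1, 1, 1, 1, 1, -1, 1, 1, 3, 1, 1, 1, -1, 1, 1, -1, 1, 1, -1, -1, 1, 1, -1, 1]),
   (1, 2, [-1, 1, 1, -1, 1, 1, 1, -1, 1, 1, 1, -1, -1, 1, 1, 1, 1, 1, -1, 1, 3, 1, -1, 1]),
   (3, 1, [-1, 1, 1, -1, 3, -1, 1, 1, -1, 1, -1, 1, 1, 1, -1, 1, 1, 1, 1, -1, 1, 1, 1, 1]),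
   (0, 0, [-1, 1, 3, 1, -1, 1, -1, -1, 1, -1, 1, 1, 1, 1, 1, -1, -1, 1, 1, 1, 1, 1, 1, 1]),
   (0, 0, [-1, -1, -1, 1, 1, 1, 1, 1, 1, 1, -1, -1, 1, -1, -1, 1, 1, 1, 1, 3, 1, 1, 1, 1]),
   (0, 2, [-1, -1, 1, 1, 1, 1, 1, -1, 1, 1, -1, 1, 1, -1, 1, -1, -1, 1, 1, 1, 1, 3, 1, 1]),
   (2, 1, [-1, -1, 1, -1, 1, 1, -1, -1, 1, 1, 1, 1, 1, 1, 1, -1, 1, -1, 1, 1, 3, 1, 1, 1]),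
   (1, 2, [-1, 1, 1, -1, 1, 1, -1, 1, -1, -1, 1, 1, 1, 1, -1, 1, 3, -1, 1, 1, 1, 1, 1, 1]),
   (0, 0, [-1, -1, 1, -1, -1, 1, 1, 1, 1, -1, 1, 1, 1, 3, -1, -1, 1, 1, 1, 1, 1, 1, 1, 1]),
   (3, 1, [-1, 3, -1, 1, -1, -1, 1, 1, 1, -1, 1, 1, 1, 1, 1, 1, 1, 1, -1, -1, 1, 1, 1, 1]),
   (0, 0, [-1, 1, -1, 1, 1, 3, -1, 1, 1, 1, 1, 1, 1, 1, -1, 1, -1, 1, 1, -1, 1, 1, -1, 1]),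
   (0, 2, [-1, 1, -1, 1, 1, 1, -1, 1, -1, 1, 1, 3, 1, -1, 1, 1, -1, 1, 1, 1, 1, -1, 1, 1]),
   (3, 2, [-1, 1, 1, 1, 1, 1, 1, 1, 1, 1, 1, -1, -1, -1, 3, -1, 1, 1, -1, 1, 1, -1, 1, 1]),
   (0, 2, [-1, -1, 1, -1, 1, -1, 1, -1, 1, 1, 1, 1, 1, 3, 1, 1, 1, 1, 1, -1, 1, 1, -1, 1]),
   (3, 2, [-1, 1, -1, 1, 1, 1, -1, 1, 1, 1, 1, -1, 1, 1, 1, 3, 1, 1, -1, -1, -1, 1, 1, 1]),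
   (0, 0, [-1, -1, 1, 1, 1, 1, 1, 1, 1, 1, 1, 3, 1, 1, 1, 1, -1, 1, -1, -1, 1, -1, -1, 1]),
   (0, 0, [-1, 1, 1, 1, 1, -1, 1, 1, 1, 1, 1, 1, -1, -1, 1, 1, -1, 1, 1, 1, -1, 3, -1, 1]),
   (1, 1, [-1, 1, 1, 1, 1, 1, 1, -1, 1, -1, 1, 3, 1, -1, -1, 1, -1, 1, 1, 1, 1, 1, -1, 1])]

/-- A piece of a tree. -/
def tree3_36 : List (Nat × Nat × List Int) :=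
  [(0, 0, [-1, 1, 1, 1, 1, 1, 1, 1, -1, -1, -1, 1, 1, -1, -1, 1, 1, 1, 1, 1, -1, 3, 1, 1]),
   (1, 1, [-1, 1, -1, 1, 1, 1, -1, -1, 1, 1, 1, 3, -1, 1, -1, 1, 1, -1, 1, 1, 1, 1, 1, 1]),
   (2, 2, [-1, 3, -1, 1, 1, -1, 1, 1, -1, 1, -1, 1, 1, 1, 1, 1, 1, 1, 1, 1, 1, -1, -1, 1]),
   (0, 0, [-1, 1, 1, 1, -1, 3, -1, -1, 1, 1, 1, 1, -1, 1, 1, 1, 1, 1, 1, -1, -1, 1, 1, 1]),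
   (3, 1, [-1, 1, 1, -1, 1, 1, 1, 1, 1, -1, 1, -1, 1, 1, 1, 3, -1, 1, 1, 1, -1, -1, 1, 1]),
   (0, 0, [-1, 1, 1, 1, 1, 1, 1, 1, 1, 1, 1, 3, -1, -1, -1, -1, 1, 1, -1, 1, 1, -1, 1, 1]),
   (1, 2, [-1, -1, 1, 3, -1, 1, 1, 1, -1, 1, 1, 1, 1, 1, 1, 1, 1, -1, -1, 1, 1, 1, -1, 1]),
   (4, 1, [-1, 1, 1, 1, 1, 1, 1, 1, -1, 1, -1, 1, 1, -1, 1, 1, -1, 3, 1, -1, 1, 1, -1, 1]),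
   (0, 0, [-1, 1, 1, 3, -1, 1, 1, -1, -1, 1, 1, 1, 1, -1, 1, 1, -1, 1, 1, 1, -1, 1, 1, 1]),
   (0, 0, [-1, 1, -1, 1, -1, 1, 1, 1, -1, 1, -1, 1, 1, -1, 1, 3, 1, 1, -1, 1, 1, 1, 1, 1]),
   (0, 0, [-1, 1, -1, 1, -1, 1, 1, -1, -1, 1, 1, 3, 1, 1, 1, 1, 1, 1, 1, -1, 1, 1, -1, 1]),
   (1, 2, [-1, 1, 1, 3, 1, -1, 1, -1, 1, 1, 1, 1, -1, 1, -1, -1, -1, 1, 1, 1, 1, 1, 1, 1]),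
   (0, 0, [-1, 1, 1, 1, 1, 1, -1, 1, 1, -1, -1, -1, 1, -1, 1, 3, 1, -1, 1, 1, 1, 1, 1, 1]),
   (1, 2, [-1, 1, 1, -1, 1, 1, 1, 1, -1, -1, 1, -1, 1, -1, 1, 1, 1, 1, 3, -1, 1, 1, 1, 1]),
   (3, 1, [-1, -1, 1, 1, 1, 3, 1, -1, 1, 1, 1, 1, -1, 1, 1, 1, 1, -1, -1, 1, 1, -1, 1, 1]),
   (0, 2, [-1, 1, 1, 1, 1, -1, 1, 1, 1, -1, -1, 3, 1, 1, 1, 1, 1, 1, 1, -1, -1, 1, -1, 1]),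
   (0, 1, [-1, 1, 1, 1, -1, 1, -1, 1, 1, -1, 1, 3, 1, 1, -1, 1, 1, 1, 1, -1, 1, -1, 1, 1]),
   (1, 2, [-1, 3, -1, 1, -1, 1, 1, 1, 1, 1, 1, -1, 1, 1, 1, -1, 1, -1, 1, 1, 1, -1, 1, 1]),
   (3, 2, [-1, 1, 1, 1, -1, 1, 1, -1, -1, -1, 1, 1, -1, 1, -1, 1, 1, 1, 3, 1, 1, 1, 1, 1]),
   (0, 0, [-1, 1, -1, 1, -1, 1, 1, 1, 1, -1, -1, 1, 1, 1, -1, 1, 1, -1, 1, 1, 1, 1, 3, 1]),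
   (1, 2, [-1, 1, 1, 1, 1, 3, 1, 1, 1, -1, 1, 1, -1, -1, -1, 1, 1, -1, 1, -1, 1, 1, 1, 1]),
   (0, 1, [-1, 1, -1, 1, 1, 1, -1, 1, -1, -1, -1, 1, -1, 1, 1, 1, 1, 1, 1, 3, 1, 1, 1, 1]),
   (5, 2, [-1, 1, 1, 1, 1, -1, 1, 1, 1, 3, -1, -1, 1, 1, 1, 1, 1, 1, 1, -1, -1, 1, -1, 1]),
   (0, 0, [-1, 1, 1, 1, 1, 1, -1, -1, 1, 1, 1, 1, 1, 1, 3, 1, -1, 1, -1, 1, -1, -1, 1, 1]),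
   (0, 0, [-1, -1, 1, 1, 1, 1, 1, 1, 1, 3, -1, 1, -1, -1, 1, 1, 1, 1, -1, 1, 1, 1, -1, 1]),
   (0, 1, [-1, 1, 1, 1, -1, 1, 3, 1, 1, 1, -1, 1, -1, -1, -1, 1, -1, 1, 1, 1, 1, 1, 1, 1]),
   (0, 2, [-1, 1, 1, 1, 1, 1, 3, -1, -1, 1, 1, 1, 1, -1, -1, -1, 1, 1, 1, -1, 1, 1, 1, 1]),
   (3, 1, [-1, 1, 3, -1, 1, 1, 1, -1, 1, 1, 1, 1, 1, 1, 1, 1, -1, -1, 1, 1, 1, -1, -1, 1]),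
   (0, 0, [-1, 1, 1, -1, 1, 1, 1, 1, 1, 1, -1, 1, -1, -1, 1, -1, 1, 1, 1, 3, -1, 1, 1, 1]),
   (1, 1, [-1, 1, 1, 1, 1, -1, 1, -1, -1, 1, 1, 1, 1, 1, -1, 1, 1, -1, 1, 1, 3, 1, -1, 1])]

/-- A piece of a tree. -/
def tree3_37 : List (Nat × Nat × List Int) :=
  [(2, 2, [-1, 1, 1, 1, -1, -1, -1, 1, -1, -1, 1, 1, 1, 3, 1, 1, 1, 1, 1, 1, 1, 1, -1, 1]),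
   (0, 0, [-1, -1, -1, 1, -1, 1, -1, 1, 3, 1, 1, 1, 1, 1, -1, 1, 1, 1, 1, 1, -1, 1, 1, 1]),
   (0, 1, [-1, -1, -1, -1, 1, 1, 1, 1, 1, 1, 1, 1, 1, -1, 1, 1, 1, 1, 3, 1, -1, -1, 1, 1]),
   (1, 2, [-1, 1, 1, 1, -1, 1, -1, 1, 1, 1, -1, 1, 3, -1, -1, 1, -1, 1, 1, 1, 1, 1, 1, 1]),
   (2, 1, [-1, -1, 1, -1, 1, 1, -1, 1, 1, 1, 1, 1, 3, 1, -1, 1, 1, 1, -1, -1, 1, 1, 1, 1]),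
   (0, 0, [-1, -1, 1, 1, 1, -1, 1, 1, 1, -1, 1, 1, 1, 1, 1, -1, -1, 3, 1, 1, 1, 1, -1, 1]),
   (2, 2, [-1, 1, -1, 1, 1, 1, -1, 3, 1, 1, 1, -1, -1, 1, -1, 1, 1, -1, 1, 1, 1, 1, 1, 1]),
   (0, 1, [-1, 1, -1, -1, 1, 1, 1, 1, -1, 1, -1, -1, 1, 1, 1, 1, 1, 3, 1, 1, -1, 1, 1, 1]),
   (4, 1, [-1, 1, 1, 1, -1, 1, 3, 1, 1, -1, 1, -1, 1, 1, -1, 1, 1, 1, 1, -1, 1, -1, 1, 1]),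
   (0, 0, [-1, 3, -1, 1, 1, 1, 1, 1, 1, -1, 1, 1, -1, 1, -1, 1, -1, 1, 1, 1, 1, -1, 1, 1]),
   (1, 1, [-1, -1, -1, 3, 1, 1, -1, 1, 1, -1, 1, -1, 1, 1, 1, 1, 1, 1, 1, 1, 1, 1, -1, 1]),
   (0, 0, [-1, -1, 1, 1, 1, -1, 1, 1, 1, 1, 1, 1, 1, 1, -1, 3, 1, 1, 1, -1, -1, -1, 1, 1]),
   (0, 0, [-1, 1, 1, 1, 1, -1, -1, 1, 1, -1, 1, 3, -1, 1, 1, 1, -1, 1, -1, 1, 1, 1, 1, 1]),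
   (2, 1, [-1, 1, 1, -1, 1, 3, -1, 1, 1, 1, 1, -1, 1, -1, -1, 1, 1, 1, 1, 1, -1, 1, 1, 1]),
   (0, 2, [-1, -1, 1, 1, -1, 1, -1, -1, 1, 1, 1, 3, 1, -1, 1, 1, 1, 1, -1, 1, 1, 1, 1, 1]),
   (0, 0, [-1, -1, -1, 1, 1, -1, 1, 1, -1, 1, -1, 1, 1, 1, 1, 1, 1, 1, 1, 1, 1, 3, -1, 1]),
   (4, 2, [-1, -1, 1, 1, 1, 1, 3, 1, 1, 1, 1, 1, 1, -1, -1, 1, 1, -1, 1, 1, 1, -1, -1, 1]),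
   (0, 0, [-1, 3, 1, -1, 1, -1, 1, 1, -1, -1, 1, 1, -1, 1, 1, 1, 1, 1, 1, 1, -1, 1, 1, 1]),
   (1, 1, [-1, 1, -1, 3, 1, 1, 1, 1, -1, 1, 1, 1, -1, -1, -1, 1, 1, 1, 1, 1, 1, 1, -1, 1]),
   (0, 2, [-1, 1, -1, 1, 1, 1, 1, -1, 1, 1, 1, 1, -1, -1, 1, 1, -1, 1, 3, -1, 1, 1, 1, 1]),
   (4, 2, [-1, -1, -1, 1, -1, 1, 1, 1, 1, 1, 1, -1, 1, 1, 1, -1, 1, 3, 1, 1, 1, -1, 1, 1]),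
   (0, 0, [-1, 1, -1, 3, 1, -1, 1, 1, 1, 1, 1, -1, -1, 1, 1, 1, 1, 1, 1, -1, 1, -1, 1, 1]),
   (1, 1, [-1, -1, 1, 1, 1, 1, 1, 1, 3, 1, 1, -1, 1, -1, 1, -1, 1, 1, 1, 1, -1, 1, -1, 1]),
   (0, 0, [-1, 1, 1, 1, 3, -1, 1, 1, -1, 1, 1, -1, 1, 1, 1, 1, 1, 1, -1, 1, -1, -1, 1, 1]),
   (1, 2, [-1, -1, -1, -1, -1, 1, 1, -1, 1, 1, -1, 1, 3, 1, 1, 1, 1, 1, 1, 1, 1, 1, 1, 1]),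
   (2, 2, [-1, -1, 1, -1, 1, 1, 1, 1, 1, 1, -1, 1, 1, 1, -1, 1, -1, 1, 1, 1, 3, 1, -1, 1]),
   (0, 2, [-1, 1, -1, 1, 3, 1, 1, 1, -1, 1, -1, 1, 1, -1, 1, -1, 1, 1, -1, 1, 1, 1, 1, 1]),
   (0, 1, [-1, 3, 1, 1, -1, 1, 1, 1, 1, 1, 1, 1, -1, 1, 1, -1, -1, 1, -1, 1, -1, 1, 1, 1]),
   (1, 2, [-1, 1, 1, -1, 1, -1, 1, -1, 1, 1, 1, 1, -1, 1, 3, -1, -1, 1, 1, 1, 1, 1, 1, 1]),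
   (6, 2, [-1, 1, 1, 1, -1, 1, 1, -1, 3, -1, 1, 1, -1, 1, -1, 1, 1, 1, -1, 1, 1, 1, 1, 1])]

/-- A piece of a tree. -/
def tree3_38 : List (Nat × Nat × List Int) :=
  [(0, 0, [-1, 1, -1, 1, 3, 1, 1, 1, 1, -1, -1, 1, 1, 1, -1, 1, 1, -1, 1, 1, 1, 1, -1, 1]),
   (0, 0, [-1, 1, 3, -1, 1, 1, 1, -1, 1, -1, 1, 1, 1, 1, -1, 1, 1, 1, 1, -1, -1, 1, 1, 1]),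
   (0, 0, [-1, 1, 1, 1, 1, 1, 1, 1, 1, -1, -1, 1, 1, 1, -1, -1, -1, 1, -1, 3, 1, 1, 1, 1]),
   (0, 1, [-1, 1, -1, 1, -1, 1, -1, -1, 1, 3, 1, 1, 1, 1, 1, -1, -1, 1, 1, 1, 1, 1, 1, 1]),
   (1, 2, [-1, 1, 1, -1, 1, -1, 1, 1, -1, 1, 1, 1, 1, -1, 1, -1, 1, -1, 1, 1, 1, 3, 1, 1]),
   (0, 0, [-1, 1, 1, -1, -1, 1, -1, 1, -1, 1, 1, -1, 3, 1, 1, -1, 1, 1, 1, 1, 1, 1, 1, 1]),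
   (1, 1, [-1, 1, 1, 1, 1, -1, 1, 1, -1, 1, 1, 1, -1, 1, 1, -1, 1, 1, -1, -1, 1, 1, 3, 1]),
   (3, 1, [-1, 1, -1, 1, 1, -1, -1, 1, 1, -1, 1, 1, 1, 1, 1, 1, 1, -1, 1, 1, 3, -1, 1, 1]),
   (0, 0, [-1, -1, 1, -1, 1, 1, -1, 1, 1, 1, 1, 1, -1, 1, -1, 1, 1, 1, 3, -1, 1, 1, 1, 1]),
   (0, 0, [-1, -1, 1, 1, 1, -1, 1, 1, 1, -1, 1, 1, 1, 1, 1, -1, -1, -1, 1, 1, 1, 1, 3, 1]),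
   (1, 2, [-1, 1, 1, 1, 1, 3, -1, 1, 1, 1, -1, 1, 1, -1, 1, 1, 1, 1, -1, -1, 1, -1, 1, 1]),
   (2, 1, [-1, 1, 1, -1, 1, 1, -1, 1, -1, 1, 1, 1, 1, 1, 1, 1, 1, 1, 1, -1, -1, 3, -1, 1]),
   (1, 2, [-1, 1, 1, 1, 3, 1, -1, 1, 1, 1, 1, -1, 1, 1, 1, 1, -1, -1, 1, 1, -1, 1, -1, 1]),
   (2, 2, [-1, 1, 1, 1, -1, 1, 1, 1, 1, -1, 1, 1, 1, -1, 1, 1, 3, -1, -1, 1, 1, -1, 1, 1]),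
   (0, 1, [-1, -1, 1, 1, 1, 1, -1, 3, -1, 1, 1, 1, -1, 1, 1, 1, -1, 1, 1, 1, 1, 1, -1, 1]),
   (1, 2, [-1, 1, 1, 1, 1, -1, 1, -1, 3, 1, 1, 1, 1, 1, -1, 1, 1, -1, 1, 1, -1, 1, -1, 1]),
   (3, 1, [-1, 3, -1, 1, -1, 1, -1, 1, -1, 1, 1, 1, 1, 1, -1, 1, 1, 1, 1, 1, -1, 1, 1, 1]),
   (0, 0, [-1, -1, -1, 1, -1, 3, 1, 1, 1, -1, 1, 1, 1, 1, 1, 1, 1, 1, -1, -1, 1, 1, 1, 1]),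
   (0, 0, [-1, 1, -1, 1, 1, -1, 3, 1, 1, 1, 1, 1, 1, 1, -1, 1, -1, 1, 1, -1, 1, 1, -1, 1]),
   (0, 1, [-1, 1, -1, 3, 1, 1, 1, -1, 1, -1, 1, 1, 1, 1, -1, 1, 1, 1, 1, -1, -1, 1, 1, 1]),
   (2, 1, [-1, -1, 1, 1, 1, 1, -1, 1, 1, -1, 1, 1, 1, -1, 1, 1, -1, 1, 1, 3, -1, 1, 1, 1]),
   (1, 2, [-1, 1, 1, 1, 1, -1, 1, 1, 1, 1, -1, 3, 1, 1, -1, 1, -1, -1, 1, 1, 1, -1, 1, 1]),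
   (0, 0, [-1, 1, 1, -1, 1, 1, -1, -1, 1, -1, 1, 1, -1, -1, 1, 1, 1, 1, 1, 1, 1, 3, 1, 1]),
   (1, 2, [-1, 3, 1, 1, 1, 1, 1, 1, -1, 1, 1, -1, 1, -1, 1, -1, 1, 1, 1, 1, -1, 1, -1, 1]),
   (3, 1, [-1, -1, -1, -1, 1, 1, 1, 1, 1, 1, 1, 1, 1, 3, 1, 1, 1, 1, -1, 1, -1, -1, 1, 1]),
   (0, 2, [-1, 1, 1, 1, -1, -1, 1, 3, 1, 1, -1, 1, 1, 1, 1, 1, -1, 1, -1, 1, 1, 1, -1, 1]),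
   (0, 2, [-1, 1, -1, 1, 1, -1, 1, 1, -1, 3, 1, -1, 1, 1, -1, -1, 1, 1, 1, 1, 1, 1, 1, 1]),
   (3, 2, [-1, 1, 1, 1, -1, 1, -1, 1, 1, 1, 3, 1, -1, -1, -1, 1, -1, 1, 1, 1, 1, 1, 1, 1]),
   (0, 0, [-1, -1, -1, 1, 1, 1, 1, 3, -1, -1, 1, 1, 1, -1, 1, 1, 1, -1, 1, 1, 1, 1, 1, 1]),
   (0, 2, [-1, 1, 1, 1, 1, 1, 1, -1, 1, 3, -1, 1, -1, 1, 1, 1, -1, -1, 1, 1, -1, 1, 1, 1])]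

/-- A piece of a tree. -/
def tree3_39 : List (Nat × Nat × List Int) :=
  [(2, 2, [-1, 1, 1, 1, 1, 1, -1, -1, -1, 1, 1, 1, 1, -1, -1, 3, 1, 1, 1, -1, 1, 1, 1, 1]),
   (0, 0, [-1, -1, 1, 1, -1, 1, 1, 1, -1, -1, -1, 3, 1, 1, 1, 1, -1, 1, 1, 1, 1, 1, 1, 1]),
   (4, 2, [-1, 1, -1, 1, 1, 1, 1, 1, 1, 1, 1, 1, 1, -1, 3, -1, -1, -1, 1, 1, -1, 1, 1, 1]),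
   (0, 2, [-1, 1, 1, -1, -1, 1, 1, -1, -1, 1, 1, 1, 1, 3, 1, 1, -1, 1, 1, 1, -1, 1, 1, 1]),
   (0, 2, [-1, 1, 1, 1, -1, 1, 1, 3, -1, -1, 1, 1, -1, 1, -1, 1, 1, 1, -1, 1, 1, 1, 1, 1]),
   (4, 1, [-1, -1, -1, 1, 1, 1, -1, 1, 1, 1, -1, 1, 1, 1, 1, 1, -1, -1, 3, 1, 1, 1, 1, 1]),
   (0, 0, [-1, -1, 1, -1, 1, -1, 1, -1, 1, 1, 1, 1, 1, -1, 1, 1, 1, 1, 1, -1, 1, 1, 3, 1]),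
   (0, 0, [-1, 1, 1, 1, 1, -1, -1, 1, -1, 1, -1, 1, 1, 1, 1, -1, -1, 1, 1, 1, 3, 1, 1, 1]),
   (0, 0, [-1, -1, 1, 1, -1, 1, -1, -1, 1, 1, 1, -1, 1, -1, 1, 1, 1, 1, 3, 1, 1, 1, 1, 1]),
   (0, 1, [-1, -1, 1, -1, 1, 1, 1, 1, 1, 1, 1, -1, -1, -1, 1, 1, 3, -1, 1, 1, 1, 1, 1, 1]),
   (2, 1, [-1, 1, 1, -1, -1, 1, 1, -1, 1, 1, 1, 1, 1, 1, 1, -1, 1, 1, -1, -1, 1, 3, 1, 1]),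
   (2, 1, [-1, 1, 1, 1, 1, -1, 1, 1, 1, -1, 1, 1, -1, -1, 3, 1, 1, -1, 1, -1, 1, 1, 1, 1]),
   (0, 1, [-1, 1, 3, 1, 1, 1, -1, 1, -1, -1, -1, 1, -1, 1, 1, 1, 1, 1, 1, -1, 1, 1, 1, 1]),
   (0, 0, [-1, -1, 1, 1, -1, 1, 1, -1, 1, 1, 1, 1, 1, 1, -1, 1, -1, -1, 1, 3, 1, 1, 1, 1]),
   (2, 2, [-1, 1, 1, 1, 1, 1, 1, -1, 1, 1, 1, -1, 1, 3, 1, 1, 1, -1, 1, -1, -1, -1, 1, 1]),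
   (2, 2, [-1, 1, 3, 1, 1, 1, 1, -1, 1, -1, -1, -1, 1, 1, 1, 1, 1, 1, -1, 1, 1, -1, 1, 1]),
   (0, 0, [-1, 1, 1, 1, 1, 1, 1, -1, 1, 1, -1, 1, -1, 1, -1, 1, 1, 1, 1, 3, 1, -1, -1, 1]),
   (0, 0, [-1, 1, 1, 1, 1, 1, 1, -1, 1, -1, -1, 1, -1, 1, 1, 1, 3, -1, 1, 1, -1, 1, 1, 1]),
   (2, 1, [-1, 1, 1, 1, -1, 1, -1, 1, 1, 1, 1, -1, 1, 1, 1, 1, -1, -1, 1, 1, 3, 1, -1, 1]),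
   (1, 2, [-1, -1, 1, 1, 1, -1, 1, 1, 1, -1, 1, 1, 1, 1, 1, -1, 3, -1, 1, 1, 1, 1, -1, 1]),
   (3, 2, [-1, 1, 1, 1, 1, 3, -1, 1, -1, 1, -1, 1, 1, 1, 1, -1, -1, 1, 1, 1, -1, 1, 1, 1]),
   (0, 0, [-1, -1, 1, 1, -1, 1, 3, -1, 1, 1, 1, -1, 1, -1, 1, 1, 1, 1, -1, 1, 1, 1, 1, 1]),
   (0, 1, [-1, -1, 1, 3, 1, 1, 1, 1, 1, 1, 1, -1, -1, -1, 1, 1, -1, -1, 1, 1, 1, 1, 1, 1]),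
   (0, 2, [-1, -1, 1, 1, 1, 1, 1, -1, -1, 1, -1, 1, 1, 1, 1, 1, 1, 1, 3, -1, -1, 1, 1, 1]),
   (3, 1, [-1, 1, 1, -1, -1, 1, 1, -1, 1, 1, 1, 1, 1, 1, 1, -1, 1, 1, -1, 3, 1, -1, 1, 1]),
   (0, 0, [-1, 1, -1, 1, 1, 1, 1, 1, 1, 1, -1, -1, -1, 1, 1, -1, 3, 1, 1, 1, 1, 1, -1, 1]),
   (1, 1, [-1, -1, 1, 1, 1, -1, 1, 1, 1, 3, 1, 1, 1, 1, 1, -1, -1, -1, 1, 1, 1, 1, -1, 1]),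
   (1, 2, [-1, 1, 1, -1, 1, -1, 1, 1, 1, -1, 1, 1, 1, 1, -1, 1, 1, 1, -1, 1, 1, 3, -1, 1]),
   (0, 0, [-1, 1, 1, 1, 1, 1, -1, 1, 1, -1, 1, 1, 3, 1, -1, -1, 1, 1, 1, 1, -1, 1, -1, 1]),
   (3, 2, [-1, 1, 1, -1, -1, 1, -1, 1, -1, 1, 1, 3, -1, 1, 1, -1, 1, 1, 1, 1, 1, 1, 1, 1])]

/-- A piece of a tree. -/
def tree3_40 : List (Nat × Nat × List Int) :=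
  [(0, 0, [-1, -1, -1, 1, -1, 1, 1, 1, 1, 1, 1, -1, 1, 1, 1, -1, 1, -1, 1, 1, 1, 3, 1, 1]),
   (4, 2, [-1, 1, 1, 1, 1, -1, 1, 1, 1, -1, 1, 1, 3, -1, -1, 1, 1, -1, 1, -1, 1, 1, 1, 1]),
   (0, 0, [-1, 1, 1, -1, 1, 1, -1, 1, -1, -1, 1, 1, 1, 1, -1, 1, -1, 3, 1, 1, 1, 1, 1, 1]),
   (0, 0, [-1, -1, 1, 3, -1, 1, 1, 1, 1, -1, 1, 1, 1, -1, -1, -1, 1, 1, 1, 1, 1, 1, 1, 1]),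
   (0, 0, [-1, 1, -1, 1, 1, -1, 1, 1, -1, -1, 1, -1, 1, 1, -1, 3, 1, 1, 1, 1, 1, 1, 1, 1]),
   (1, 2, [-1, 1, 1, -1, 1, 1, 1, -1, 1, 1, -1, 1, 1, -1, -1, 1, 1, -1, 3, 1, 1, 1, 1, 1]),
   (0, 0, [-1, 1, 1, -1, 1, 1, 1, -1, -1, -1, -1, 1, 1, 1, 1, -1, 1, 1, 1, 1, 1, 1, 3, 1]),
   (1, 2, [-1, 1, 1, 1, 1, 3, 1, -1, 1, -1, 1, 1, 1, -1, 1, -1, 1, 1, -1, 1, -1, 1, 1, 1]),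
   (3, 1, [-1, 1, -1, -1, 1, -1, -1, -1, 3, 1, 1, 1, 1, 1, 1, 1, 1, 1, -1, 1, 1, 1, 1, 1]),
   (0, 1, [-1, 1, 1, -1, 1, -1, 1, 1, 1, 1, 1, 1, 1, 1, 1, 1, -1, -1, 3, -1, -1, 1, 1, 1]),
   (0, 2, [-1, 1, 1, 1, -1, 3, 1, 1, -1, 1, 1, -1, 1, 1, 1, 1, 1, 1, -1, 1, -1, -1, 1, 1]),
   (2, 2, [-1, 1, 1, 1, 1, -1, -1, 1, 1, -1, 1, -1, 3, 1, 1, 1, -1, 1, -1, 1, 1, 1, 1, 1]),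
   (0, 1, [-1, 1, 1, -1, 1, 1, -1, -1, 1, 1, 3, -1, 1, 1, 1, 1, -1, 1, 1, -1, 1, 1, 1, 1]),
   (3, 2, [-1, 1, 1, 1, 1, 1, -1, 1, -1, 1, 1, 1, -1, -1, 1, 1, 1, -1, -1, 1, 3, 1, 1, 1]),
   (0, 0, [-1, -1, 1, -1, -1, 1, 1, 1, -1, 1, 1, 1, 1, 1, 1, 1, 1, -1, 3, 1, 1, 1, -1, 1]),
   (1, 1, [-1, 1, 1, -1, 1, 1, 1, 1, -1, 1, -1, 1, -1, 1, 1, 1, -1, 1, -1, 1, 1, 3, 1, 1]),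
   (0, 0, [-1, 1, 1, 1, -1, 1, 1, -1, 1, 1, 1, 1, 3, -1, 1, -1, 1, -1, 1, 1, 1, 1, -1, 1]),
   (1, 1, [-1, 1, 1, 1, -1, -1, 1, -1, 1, 1, -1, 1, 1, 1, 1, 1, -1, 1, -1, 1, 1, 1, 3, 1]),
   (4, 1, [-1, 1, -1, 1, 1, 1, -1, 1, -1, -1, 3, 1, -1, 1, 1, 1, 1, 1, 1, -1, 1, 1, 1, 1]),
   (0, 1, [-1, 1, 1, -1, 3, 1, -1, 1, 1, -1, -1, 1, 1, 1, 1, 1, 1, 1, -1, 1, -1, 1, 1, 1]),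
   (1, 2, [-1, 1, 1, 1, 1, 1, -1, 1, 1, 1, 1, 1, -1, 1, 1, 3, -1, -1, 1, -1, 1, -1, 1, 1]),
   (0, 0, [-1, -1, 1, -1, 1, 1, 1, 1, 1, 1, 1, 3, -1, -1, 1, 1, -1, -1, 1, 1, 1, 1, 1, 1]),
   (3, 2, [-1, 1, 1, 1, 1, 1, 1, -1, 1, 1, 1, -1, 1, -1, 1, 1, 1, -1, 1, 3, -1, -1, 1, 1]),
   (0, 0, [-1, 1, 1, -1, 1, 1, 1, 1, -1, 1, -1, 1, -1, 1, 1, 1, 3, 1, -1, 1, 1, -1, 1, 1]),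
   (1, 1, [-1, 1, 1, 1, 1, 1, 1, 1, -1, 3, 1, -1, -1, 1, 1, 1, 1, -1, 1, 1, 1, -1, -1, 1]),
   (0, 1, [-1, 1, 1, 1, 1, 1, 3, 1, -1, 1, -1, -1, 1, 1, -1, 1, 1, 1, -1, 1, 1, 1, -1, 1]),
   (1, 2, [-1, -1, -1, 1, 1, 1, 1, 1, 1, 1, 1, 1, -1, 1, 1, 1, 1, 3, 1, -1, -1, 1, -1, 1]),
   (0, 1, [-1, 1, 1, 1, 1, 1, 1, 1, 3, -1, -1, 1, 1, -1, -1, 1, 1, 1, 1, 1, -1, -1, 1, 1]),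
   (3, 2, [-1, -1, 1, 1, -1, 1, 1, -1, 1, -1, 1, 1, 1, 1, 1, 1, 1, 1, 1, 1, -1, 3, -1, 1]),
   (0, 0, [-1, 1, -1, 1, 1, -1, 1, 1, 1, 1, -1, 1, 3, 1, -1, 1, 1, 1, -1, 1, -1, 1, 1, 1])]

/-- A piece of a tree. -/
def tree3_41 : List (Nat × Nat × List Int) :=
  [(0, 0, [-1, 1, 1, 1, 1, 1, -1, -1, 1, -1, 1, 1, 1, 1, 1, 1, 1, 3, -1, -1, 1, 1, -1, 1])]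

/-- A root. -/
def root3 : List Int := [-1, 1, 3, 1, 1, 1, 1, 1, 1, 1, 1, 1, 1, -1, -1, -1, -1, -1, 1, 1, -1, 1, 1, 1]

/-- A tree. -/
def tree3 : List (Nat × Nat × List Int) :=
  tree3_0 ++ tree3_1 ++ tree3_2 ++ tree3_3 ++ tree3_4 ++ tree3_5 ++ tree3_6 ++ tree3_7 ++ tree3_8 ++ tree3_9 ++ tree3_10 ++ tree3_11 ++ tree3_12 ++ tree3_13 ++ tree3_14 ++ tree3_15 ++ tree3_16 ++ tree3_17 ++ tree3_18 ++ tree3_19 ++ tree3_20 ++ tree3_21 ++ tree3_22 ++ tree3_23 ++ tree3_24 ++ tree3_25 ++ tree3_26 ++ tree3_27 ++ tree3_28 ++ tree3_29 ++ tree3_30 ++ tree3_31 ++ tree3_32 ++ tree3_33 ++ tree3_34 ++ tree3_35 ++ tree3_36 ++ tree3_37 ++ tree3_38 ++ tree3_39 ++ tree3_40 ++ tree3_41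

/-- The orbits. -/
def orbits : List (List Int × List (Nat × Nat × List Int)) :=
  [(root0, tree0), (root1, tree1), (root2, tree2), (root3, tree3)]

/-- The linking steps. -/
def steps : List (Nat × Nat × List Nat) :=
  [(0, 1, [3, 0, 2, 3, 2, 3, 3]), (1, 3, [3, 0, 3, 3, 2, 1]), (3, 2, [2, 1, 3, 2, 0])]

end Cfsg.Agent.Lib.Leech.Config2025Data
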