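import Cfsg.Agent.Lib.Leech.Config
import Cfsg.Agent.Lib.Leech.Config2025Data

/-!
The 2025 minimal vectors attached to two minimal vectors `v, w` with dot product `-8`: those
orthogonal to `v` with dot product 16 with `w`.

Their number comes from counting triples in two ways, so the orbit trees need no separate proof
of completeness.
-/

set_option autoImplicit false
set_option maxRecDepth 20000

namespace Cfsg.Agent.Lib.Leech

open Cfsg
open Cfsg.Agent.Lib

/-- `(4, -4, 0²²)`. -/
def vecX25 : GolayPt → ℤ := fun k => if k = none then 4 else if k = some 0 then -4 else 0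

/-- `(1, -3, 1²²)`. -/
def vecW25 : GolayPt → ℤ := fun k => if k = some 0 then -3 else 1

theorem vec25_check : leechChk vecX25 = true ∧ leechChk vecW25 = true ∧ sqNorm vecX25 = 32 ∧
    sqNorm vecW25 = 32 ∧ dotInt repA vecW25 = -8 ∧ dotInt repA vecX25 = 0 ∧
    dotInt vecW25 vecX25 = 16 := by decide +kernel

/-- The vector `x`. -/
def baseX25 : leechLattice := ⟨vecX25, leechChk_sound vec25_check.1⟩

/-- The vector `w`. -/
def baseW25 : leechLattice := ⟨vecW25, leechChk_sound vec25_check.2.1⟩

theorem baseU_norm : sqNorm (baseU : GolayPt → ℤ) = 32 := sqNorm_repA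

theorem exists_mcl25_frame {v w : leechLattice} (hv : sqNorm (v : GolayPt → ℤ) = 32)
    (hw' : sqNorm (w : GolayPt → ℤ) = 32)
    (hd : dotInt (v : GolayPt → ℤ) (w : GolayPt → ℤ) = -8) :
    ∃ g : Co0, g • baseU = v ∧ g • baseW25 = w :=
  exists_smul_two (fun h h' => connU_neg8 h h')
    (show (baseU, baseW25) ∈ pairSet 32 (-2) from
      ⟨sqNorm_repA, vec25_check.2.2.2.1, vec25_check.2.2.2.2.1.trans (by norm_num)⟩)
    (show (v, w) ∈ pairSet 32 (-2) from ⟨hv, hw', hd.trans (by norm_num)⟩)

theorem dotInt_vecX25 (y : GolayPt → ℤ) : dotInt vecX25 y = 4 * y none - 4 * y (some 0) := by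
  have h : ∀ i, vecX25 i * y i
      = 4 * (if i = none then y i else 0) - 4 * (if i = some 0 then y i else 0) := fun i => by
    by_cases h : i = none
    · subst h; simp [vecX25]
    · by_cases h' : i = some 0 <;> simp [vecX25, h, h']
  rw [dotInt, Finset.sum_congr rfl fun i _ => h i, Finset.sum_sub_distrib, ← Finset.mul_sum,
    ← Finset.mul_sum, Finset.sum_ite_eq', Finset.sum_ite_eq']
  simp

/-- Two double counts: there are 2025 vectors. -/
theorem config2025_base_ncard : (pairConfig baseU baseW25 0 16).ncard = 2025 := by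
  classical
  set A : Set leechLattice := {w | sqNorm (w : GolayPt → ℤ) = 32 ∧
    dotInt (baseU : GolayPt → ℤ) (w : GolayPt → ℤ) = -8} with hA
  set B : Set leechLattice := {x | sqNorm (x : GolayPt → ℤ) = 32 ∧
    dotInt (baseU : GolayPt → ℤ) (x : GolayPt → ℤ) = 0} with hB
  have hAn : A.ncard = 47104 := by
    rw [hA, ncard_subtype (fun w => sqNorm w = 32 ∧ dotInt (baseU : GolayPt → ℤ) w = -8)]
    have h := ncard_dot (n := 8) (by norm_num) (by norm_num) (-2) baseU.2 sqNorm_repA
    rw [lineCount_eval.2.1] at h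
    exact h
  have hBn : B.ncard = 93150 := by
    rw [hB, ncard_subtype (fun w => sqNorm w = 32 ∧ dotInt (baseU : GolayPt → ℤ) w = 0)]
    have h := ncard_dot (n := 8) (by norm_num) (by norm_num) 0 baseU.2 sqNorm_repA
    rw [lineCount_eval.2.2.1] at h
    exact h
  have hW : ∀ x ∈ B, {w : leechLattice | w ∈ A ∧
      dotInt (w : GolayPt → ℤ) (x : GolayPt → ℤ) = 16}.ncard = 1024 := by
    intro x hx
    obtain ⟨g, hg1, hg2⟩ := exists_smul_fix (d := 0) (N := 32) (s := 0) rfl
      (fun h h' => connU_orth h h') (v := baseU) (w := baseX25) (w' := x) sqNorm_repA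
      vec25_check.2.2.1 hx.1 vec25_check.2.2.2.2.2.1 hx.2
    have hbase : {w : leechLattice | w ∈ A ∧
        dotInt (w : GolayPt → ℤ) (baseX25 : GolayPt → ℤ) = 16}.ncard = 1024 := by
      rw [show {w : leechLattice | w ∈ A ∧ dotInt (w : GolayPt → ℤ) (baseX25 : GolayPt → ℤ) = 16}
          = {w : leechLattice | (sqNorm (w : GolayPt → ℤ) = 32 ∧
              dotInt (baseU : GolayPt → ℤ) (w : GolayPt → ℤ) = -8) ∧
              dotInt (w : GolayPt → ℤ) (baseX25 : GolayPt → ℤ) = 16} from rfl,
        ncard_subtype (fun w => (sqNorm w = 32 ∧ dotInt (baseU : GolayPt → ℤ) w = -8) ∧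
          dotInt w (baseX25 : GolayPt → ℤ) = 16)]
      refine Eq.trans (congrArg Set.ncard ?_)
        ((ncard_fixSet (n := 8) (by norm_num) (by norm_num) 1 (-3)).trans
          (show fixCount 8 1 (-3) = 1024 by decide +kernel))
      ext w
      simp only [fixSet, Set.mem_ofPred_eq]
      rw [show (baseU : GolayPt → ℤ) = repA from rfl, dotInt_repA,
        dotInt_comm w, show (baseX25 : GolayPt → ℤ) = vecX25 from rfl, dotInt_vecX25]
      push_cast
      constructor
      · rintro ⟨h1, ⟨h2, h3⟩, h4⟩; exact ⟨h1, h2, by omega, by omega⟩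
      · rintro ⟨h1, h2, h3, h4⟩; exact ⟨h1, ⟨h2, by omega⟩, by omega⟩
    refine Eq.trans ?_ hbase
    rw [← Set.ncard_image_of_injective {w : leechLattice | w ∈ A ∧
      dotInt (w : GolayPt → ℤ) (baseX25 : GolayPt → ℤ) = 16} (MulAction.injective g)]
    congr 1
    ext w
    constructor
    · rintro ⟨⟨h1, h2⟩, h3⟩
      refine ⟨g⁻¹ • w, ⟨⟨(sqNorm_smul _ _).trans h1, ?_⟩, ?_⟩, smul_inv_smul g w⟩
      · rw [← dotInt_smul g, smul_inv_smul, hg1]; exact h2
      · rw [← dotInt_smul g, smul_inv_smul, hg2]; exact h3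
    · rintro ⟨z, ⟨⟨h1, h2⟩, h3⟩, rfl⟩
      refine ⟨⟨(sqNorm_smul g z).trans h1, ?_⟩, ?_⟩
      · rw [← hg1]; exact (dotInt_smul g baseU z).trans h2
      · rw [← hg2]; exact (dotInt_smul g z baseX25).trans h3
  have hX : ∀ w ∈ A, {x : leechLattice | x ∈ B ∧
      dotInt (w : GolayPt → ℤ) (x : GolayPt → ℤ) = 16}.ncard
        = (pairConfig baseU baseW25 0 16).ncard := by
    intro w hw'
    obtain ⟨g, hg1, hg2⟩ := exists_mcl25_frame sqNorm_repA hw'.1 hw'.2
    rw [show {x : leechLattice | x ∈ B ∧ dotInt (w : GolayPt → ℤ) (x : GolayPt → ℤ) = 16}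
        = pairConfig baseU w 0 16 from Set.ext fun x => by
          simp only [hB, pairConfig, Set.mem_ofPred_eq, and_assoc],
      ← hg2, show pairConfig baseU (g • baseW25) 0 16 = pairConfig (g • baseU) (g • baseW25) 0 16 by
        rw [hg1], pairConfig_smul, Set.ncard_image_of_injective _ (MulAction.injective g)]
  have hAf : A.Finite := Set.finite_of_ncard_ne_zero (by rw [hAn]; norm_num)
  have hBf : B.Finite := Set.finite_of_ncard_ne_zero (by rw [hBn]; norm_num)
  set r : leechLattice → leechLattice → Prop := fun w x =>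
    dotInt (w : GolayPt → ℤ) (x : GolayPt → ℤ) = 16 with hr
  have key := Finset.sum_card_bipartiteAbove_eq_sum_card_bipartiteBelow (r := r)
    (s := hAf.toFinset) (t := hBf.toFinset)
  have eA : ∀ w ∈ hAf.toFinset, (hBf.toFinset.bipartiteAbove r w).card
      = (pairConfig baseU baseW25 0 16).ncard := fun w hw' => by
    rw [← hX w (hAf.mem_toFinset.1 hw'), ← Set.ncard_coe_finset]
    congr 1; ext x; simp [Finset.bipartiteAbove, hr]
  have eB : ∀ x ∈ hBf.toFinset, (hAf.toFinset.bipartiteBelow r x).card = 1024 := fun x hx => by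
    rw [← hW x (hBf.mem_toFinset.1 hx), ← Set.ncard_coe_finset]
    congr 1; ext w; simp [Finset.bipartiteBelow, hr]
  replace key := ((Finset.sum_congr rfl eA).symm.trans key).trans (Finset.sum_congr rfl eB)
  simp only [Finset.sum_const, smul_eq_mul] at key
  rw [← Set.ncard_eq_toFinset_card _ hAf, ← Set.ncard_eq_toFinset_card _ hBf, hAn, hBn] at key
  omega

/-- The codes of the 2025 vectors. -/
def codes25 : List (List ℤ) := Config2025Data.orbits.flatMap Orbit.Coding.orbCodes

/-- A key, distinct on the codes. -/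
def key25 (c : List ℤ) : ℕ :=
  (c.foldl (fun acc x => acc * 16 + (x + 8).toNat) 0) % 113921

theorem checks25 :
    Config2025Data.orbits.all (fun o => configOk baseU.1 baseW25.1 0 16 o.1) = true ∧
    (Config2025Data.orbits.map fun o => (dotInt vecX25 (ofList o.1), (Orbit.Coding.orbCodes o).length))
      = [(32, 1), (16, 462), (0, 330), (8, 1232)] ∧
    codes25.length = 2025 ∧
    codeOk Config2025Data.root0 = true ∧ toList vecX25 = Config2025Data.root0 := by
  decide +kernel

theorem codeOk25 : codes25.all codeOk = true := by decide +kernel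

theorem keys25 : Orbit.Coding.keysOk key25 codes25 = true := by decide +kernel

theorem fix25 :
    (pairCoding baseU baseW25).gensFix Config2025Data.gens Config2025Data.root0 = true := by
  decide +kernel

theorem orbs25 :
    (pairCoding baseU baseW25).orbsOk Config2025Data.gens Config2025Data.orbits = true := by
  decide +kernel

theorem links25 : Config2025Data.linkGens.all (pairValid baseU baseW25) = true ∧
    (pairCoding baseU baseW25).linksOk Config2025Data.linkGens Config2025Data.orbits [0]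
      Config2025Data.steps = true := by
  decide +kernel

theorem baseX25_code : denL Config2025Data.root0 = baseX25 := by
  refine Subtype.ext ?_
  rw [denL_coe checks25.2.2.2.1, ← checks25.2.2.2.2, ofList_toList]; rfl

theorem decomp25 : (pairCoding baseU baseW25).Decomp (pairConfig baseU baseW25 0 16)
    Config2025Data.gens Config2025Data.root0 Config2025Data.orbits where
  fix := fix25
  ok := orbs25
  inv g x hx := pairConfig_inv g x hx
  roots o ho := configOk_mem (List.all_eq_true.1 checks25.1 o ho)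
  nodup := nodup_denL codeOk25 (List.Nodup.of_map _ (Orbit.Coding.keysOk_nodup _ _ keys25))
  count := config2025_base_ncard.trans checks25.2.2.1.symm
  fin := Set.finite_of_ncard_ne_zero (by rw [config2025_base_ncard]; norm_num)

theorem transitive25 {x : leechLattice} (hx : x ∈ pairConfig baseU baseW25 0 16) :
    ∃ g : ↥(pairStab baseU baseW25), g • baseX25 = x := by
  rw [← baseX25_code]
  exact Orbit.Coding.Decomp.transitive _ decomp25 (gens' := Config2025Data.linkGens) rfl
    (fun a ha => List.all_eq_true.1 links25.1 a ha) links25.2 hx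

theorem orbit25 {o : List ℤ × Orbit.OrbTree (List ℤ)} (ho : o ∈ Config2025Data.orbits) :
    (MulAction.orbit (MulAction.stabilizer ↥(pairStab baseU baseW25) baseX25) (denL o.1)).ncard
      = (Orbit.Coding.orbCodes o).length := by
  rw [← baseX25_code]
  refine decomp25.ncard_orbit
    (fun z : leechLattice => dotInt vecX25 (z : GolayPt → ℤ)) (fun g hg z => ?_) ?_ ho
  · have hg' : g.1 • baseX25 = baseX25 := by rw [← baseX25_code]; exact hg
    have h := dotInt_smul g.1 baseX25 z
    rw [hg'] at h
    exact h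
  · have e : Config2025Data.orbits.map
        (fun o => dotInt vecX25 ((pairCoding baseU baseW25).den o.1 : GolayPt → ℤ))
        = (Config2025Data.orbits.map fun o =>
            (dotInt vecX25 (ofList o.1), (Orbit.Coding.orbCodes o).length)).map Prod.fst := by
      rw [List.map_map]
      refine List.map_congr_left fun o ho' => ?_
      have h := List.all_eq_true.1 checks25.1 o ho'
      simp only [configOk, Bool.and_eq_true] at h
      show dotInt vecX25 (denL o.1 : GolayPt → ℤ) = dotInt vecX25 (ofList o.1)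
      rw [denL_coe h.1.1.1]
    rw [e, checks25.2.1]; decide

theorem exists_root25 {n : ℕ} (h : n ∈ [1, 462, 330, 1232]) :
    ∃ y ∈ pairConfig baseU baseW25 0 16,
      (MulAction.orbit (MulAction.stabilizer ↥(pairStab baseU baseW25) baseX25) y).ncard = n := by
  have hm : n ∈ (Config2025Data.orbits.map fun o =>
      (dotInt vecX25 (ofList o.1), (Orbit.Coding.orbCodes o).length)).map Prod.snd := by
    rw [checks25.2.1]; exact h
  simp only [List.map_map, List.mem_map] at hm
  obtain ⟨o, ho, rfl⟩ := hm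
  exact ⟨denL o.1, decomp25.roots o ho, orbit25 ho⟩

theorem orbit_triple_smul (g : Co0) (a b c y : leechLattice) :
    MulAction.orbit ↥(MulAction.stabilizer Co0 (g • a) ⊓ MulAction.stabilizer Co0 (g • b) ⊓
        MulAction.stabilizer Co0 (g • c)) (g • y)
      = (fun z : leechLattice => g • z) ''
        MulAction.orbit (MulAction.stabilizer ↥(pairStab a b) c) y := by
  ext z
  constructor
  · rintro ⟨⟨h, ⟨ha, hb⟩, hc⟩, rfl⟩
    have e : ∀ t : leechLattice, h • g • t = g • t → (g⁻¹ * h * g) • t = t := fun t ht => by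
      rw [mul_smul, mul_smul, ht, inv_smul_smul]
    refine ⟨(g⁻¹ * h * g) • y, ⟨⟨⟨g⁻¹ * h * g, e a ha, e b hb⟩, e c hc⟩, rfl⟩, ?_⟩
    show g • (g⁻¹ * h * g) • y = h • g • y
    simp [mul_smul]
  · rintro ⟨_, ⟨⟨⟨h, ha, hb⟩, hc⟩, rfl⟩, rfl⟩
    have e : ∀ t : leechLattice, h • t = t → (g * h * g⁻¹) • g • t = g • t := fun t ht => by
      rw [mul_smul, mul_smul, inv_smul_smul, ht]
    refine ⟨⟨g * h * g⁻¹, ⟨e a ha, e b hb⟩, e c hc⟩, ?_⟩
    show (g * h * g⁻¹) • g • y = g • h • y
    simp [mul_smul]

theorem config2025 {v w : leechLattice} (hv : sqNorm (v : GolayPt → ℤ) = 32)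
    (hw' : sqNorm (w : GolayPt → ℤ) = 32)
    (hd : dotInt (v : GolayPt → ℤ) (w : GolayPt → ℤ) = -8) :
    (pairConfig v w 0 16).ncard = 2025 ∧
    (∀ x ∈ pairConfig v w 0 16, ∀ x' ∈ pairConfig v w 0 16,
      ∃ g : Co0, g • v = v ∧ g • w = w ∧ g • x = x') ∧
    ∀ x ∈ pairConfig v w 0 16, ∀ n ∈ [1, 462, 330, 1232], ∃ y ∈ pairConfig v w 0 16,
      (MulAction.orbit ↥(MulAction.stabilizer Co0 v ⊓ MulAction.stabilizer Co0 w ⊓
        MulAction.stabilizer Co0 x) y).ncard = n := by
  obtain ⟨g, hg1, hg2⟩ := exists_mcl25_frame hv hw' hd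
  subst hg1 hg2
  have hfr : ∀ x ∈ pairConfig (g • baseU) (g • baseW25) 0 16, ∃ f : Co0,
      f • baseU = g • baseU ∧ f • baseW25 = g • baseW25 ∧ f • baseX25 = x := by
    intro x hx
    rw [pairConfig_smul] at hx
    obtain ⟨y, hy, rfl⟩ := hx
    obtain ⟨k, hk⟩ := transitive25 hy
    refine ⟨g * k.1, ?_, ?_, ?_⟩
    · rw [mul_smul, show k.1 • baseU = baseU from k.2.1]
    · rw [mul_smul, show k.1 • baseW25 = baseW25 from k.2.2]
    · rw [mul_smul]; exact congrArg (fun z => g • z) hk
  refine ⟨?_, ?_, ?_⟩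
  · rw [pairConfig_smul, Set.ncard_image_of_injective _ (MulAction.injective g),
      config2025_base_ncard]
  · intro x hx x' hx'
    obtain ⟨f, a, b, c⟩ := hfr x hx
    obtain ⟨f', a', b', c'⟩ := hfr x' hx'
    refine ⟨f' * f⁻¹, ?_, ?_, ?_⟩
    · rw [mul_smul, show f⁻¹ • g • baseU = baseU from inv_smul_eq_iff.2 a.symm, a']
    · rw [mul_smul, show f⁻¹ • g • baseW25 = baseW25 from inv_smul_eq_iff.2 b.symm, b']
    · rw [mul_smul, show f⁻¹ • x = baseX25 from inv_smul_eq_iff.2 c.symm, c']
  · intro x hx n hn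
    obtain ⟨f, a, b, c⟩ := hfr x hx
    obtain ⟨y, hy, hy'⟩ := exists_root25 hn
    refine ⟨f • y, ?_, ?_⟩
    · rw [← a, ← b, pairConfig_smul]; exact ⟨y, hy, rfl⟩
    · rw [← a, ← b, ← c, orbit_triple_smul,
        Set.ncard_image_of_injective _ (MulAction.injective f), hy']

end Cfsg.Agent.Lib.Leech
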