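import Cfsg.Agent.Lib.Leech.Config
import Cfsg.Agent.Lib.Leech.ConfigData

/-!
The 100 minimal vectors attached to two vectors of squared length 48 with dot product `-32`.
-/

set_option autoImplicit false
set_option maxRecDepth 20000

namespace Cfsg.Agent.Lib.Leech

open Cfsg
open Cfsg.Agent.Lib

/-- `(-5, -1²³)`. -/
def hsVecV : GolayPt → ℤ := fun k => if k = none then -5 else -1

/-- `(1, 5, 1²²)`. -/
def hsVecW : GolayPt → ℤ := fun k => if k = some 0 then 5 else 1

theorem hsVec_check : leechChk hsVecV = true ∧ leechChk hsVecW = true ∧ sqNorm hsVecV = 48 ∧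
    sqNorm hsVecW = 48 ∧ dotInt hsVecV hsVecW = -32 := by decide +kernel

/-- The first vector. -/
def hsBaseV : leechLattice := ⟨hsVecV, leechChk_sound hsVec_check.1⟩

/-- The second vector. -/
def hsBaseW : leechLattice := ⟨hsVecW, leechChk_sound hsVec_check.2.1⟩

/-- The codes of the 100 vectors. -/
def hsCodes : List (List ℤ) := ConfigData.hsOrbits.flatMap Orbit.Coding.orbCodes

/-- The base point. -/
def hsRoot : leechLattice := denL ConfigData.hsRoot0

/-- Possible vectors by shape. -/
def hsCand : List (List ℤ) :=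
  [toList fun k => if k = none ∨ k = some 0 then -4 else 0] ++
  ((masksWhere 8 true true).map fun m => toList fun k =>
      if m.testBit (Golay.idx k).val then -2 else 0) ++
  ((List.range' 1 22).map fun j => toList fun k => if k = Golay.ptN j then 3 else -1)

theorem hs_checks :
    hsCand.all (fun c => hsCodes.contains c) = true ∧
    hsCodes.all (configOk hsVecV hsVecW 24 (-24)) = true ∧
    hsCodes.Nodup ∧
    ConfigData.hsOrbits.all (fun o => hsCodes.contains o.1) = true ∧
    hsCodes.length = 100 ∧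
    (hsCodes.filter fun c => decide (dotInt (ofList ConfigData.hsRoot0) (ofList c) = 8)).length
      = 22 ∧
    (hsCodes.filter fun c => decide (c ≠ ConfigData.hsRoot0 ∧
      dotInt (ofList ConfigData.hsRoot0) (ofList c) ≠ 8)).length = 77 ∧
    (ConfigData.hsOrbits.map fun o => dotInt (ofList ConfigData.hsRoot0) (ofList o.1)).Nodup ∧
    codeOk ConfigData.hsRoot0 = true := by
  decide +kernel

theorem hs_fix :
    (pairCoding hsBaseV hsBaseW).gensFix ConfigData.hsGens ConfigData.hsRoot0 = true := by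
  decide +kernel

theorem hs_orbs :
    (pairCoding hsBaseV hsBaseW).orbsOk ConfigData.hsGens ConfigData.hsOrbits = true := by
  decide +kernel

theorem hs_link_valid : (ConfigData.hsLinkGens.all (pairValid hsBaseV hsBaseW)) = true ∧
    (pairCoding hsBaseV hsBaseW).linksOk ConfigData.hsLinkGens ConfigData.hsOrbits [0]
      ConfigData.hsSteps = true := by
  decide +kernel

theorem dotInt_hsVecV (x : GolayPt → ℤ) :
    dotInt hsVecV x = -(∑ k, x k) - 4 * x none := by
  have h : ∀ i, hsVecV i * x i = -x i - 4 * (if i = none then x i else 0) := fun i => by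
    by_cases h : i = none <;> simp [hsVecV, h]; ring
  rw [dotInt, Finset.sum_congr rfl fun i _ => h i, Finset.sum_sub_distrib, ← Finset.mul_sum,
    Finset.sum_ite_eq', Finset.sum_neg_distrib]
  simp

theorem dotInt_hsVecW (x : GolayPt → ℤ) :
    dotInt hsVecW x = (∑ k, x k) + 4 * x (some 0) := by
  have h : ∀ i, hsVecW i * x i = x i + 4 * (if i = some 0 then x i else 0) := fun i => by
    by_cases h : i = some 0 <;> simp [hsVecW, h]; ring
  rw [dotInt, Finset.sum_congr rfl fun i _ => h i, Finset.sum_add_distrib, ← Finset.mul_sum,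
    Finset.sum_ite_eq']
  simp

theorem hs_complete :
    ∀ x ∈ pairConfig hsBaseV hsBaseW 24 (-24), ∃ c ∈ hsCodes, denL c = x := by
  rintro ⟨x, hx⟩ ⟨hn, h1, h2⟩
  change sqNorm x = 32 at hn
  change dotInt hsVecV x = 24 at h1
  change dotInt hsVecW x = -24 at h2
  rw [dotInt_hsVecV] at h1
  rw [dotInt_hsVecW] at h2
  suffices h : toList x ∈ hsCand by
    have hm := List.contains_iff_mem.1 (List.all_eq_true.1 hs_checks.1 _ h)
    refine ⟨_, hm, Subtype.ext ?_⟩
    have hok := List.all_eq_true.1 hs_checks.2.1 _ hm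
    simp only [configOk, Bool.and_eq_true] at hok
    rw [denL_coe hok.1.1.1, ofList_toList]
  rw [hsCand, List.mem_append, List.mem_append]
  rcases shape32 hx hn with ⟨i, j, hij, hk⟩ | ⟨c, hc, h8, hk⟩ | ⟨j, hk⟩
  · refine Or.inl (Or.inl ?_)
    have hv : ∀ p, ((p = i ∨ p = j) ∧ (x p = 4 ∨ x p = -4)) ∨ (¬(p = i ∨ p = j) ∧ x p = 0) := by
      intro p
      by_cases hp : p = i ∨ p = j
      · exact Or.inl ⟨hp, abs_cases (by norm_num) (by rw [hk, if_pos hp])⟩
      · exact Or.inr ⟨hp, abs_eq_zero.1 (by rw [hk, if_neg hp])⟩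
    have hS := sum_two hij fun k hk' => abs_eq_zero.1 (by rw [hk, if_neg hk'])
    have hi := abs_cases (c := 4) (by norm_num) (show |x i| = 4 by rw [hk, if_pos (Or.inl rfl)])
    have hj := abs_cases (c := 4) (by norm_num) (show |x j| = 4 by rw [hk, if_pos (Or.inr rfl)])
    rcases hv none with ⟨a, v1⟩ | ⟨a, v1⟩ <;> rcases hv (some 0) with ⟨b, v2⟩ | ⟨b, v2⟩
    rotate_left
    · exfalso; omega
    · exfalso; omega
    · exfalso; omega
    have hiff : ∀ k, (k = i ∨ k = j) ↔ (k = none ∨ k = some 0) := by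
      intro k
      rcases a with a | a <;> rcases b with b | b
      · exact absurd (b.trans a.symm) (by simp)
      · rw [← a, ← b]
      · rw [← a, ← b, or_comm]
      · exact absurd (b.trans a.symm) (by simp)
    have hsum : x i + x j = x none + x (some 0) := by
      rcases a with a | a <;> rcases b with b | b
      · exact absurd (b.trans a.symm) (by simp)
      · rw [← a, ← b]
      · rw [← a, ← b, add_comm]
      · exact absurd (b.trans a.symm) (by simp)
    rw [List.mem_singleton]
    refine congrArg toList (funext fun k => ?_)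
    by_cases hk' : k = none ∨ k = some 0
    · rw [if_pos hk']; rcases hk' with rfl | rfl <;> omega
    · rw [if_neg hk']
      exact abs_eq_zero.1 (by rw [hk, if_neg (fun h => hk' ((hiff k).1 h))])
  · refine Or.inl (Or.inr ?_)
    have hle : ∀ k ∈ (Finset.univ : Finset GolayPt), (if c k = 1 then -2 else 0) ≤ x k := fun k _ => by
      have := hk k
      split at this <;> rename_i h <;> simp only [h, if_true, if_false] <;>
        rcases abs_choice (x k) with q | q <;> omega
    have hb : ∑ k, (if c k = 1 then (-2 : ℤ) else 0) = -16 := by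
      rw [← Finset.sum_filter, Finset.sum_const,
        show (Finset.univ.filter fun k => c k = 1) = support₂ c from
          Finset.ext fun k => by simp [support₂_iff], h8]
      rw [nsmul_eq_mul]; norm_num
    have hge : -16 ≤ ∑ k, x k := hb ▸ Finset.sum_le_sum hle
    rcases code_at hk (by norm_num) none with ⟨a, v1⟩ | ⟨a, v1⟩ <;>
      rcases code_at hk (by norm_num) (some 0) with ⟨b, v2⟩ | ⟨b, v2⟩
    rotate_left
    · exfalso; omega
    · exfalso; omega
    · exfalso; omega
    refine List.mem_map.2 ⟨Golay.maskOf (support₂ c),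
      maskOf_mem_where hc h8 (by simp [a]) (by simp [b]), congrArg toList (funext fun k => ?_)⟩
    have := (Finset.sum_eq_sum_iff_of_le hle).1 (by omega) k (Finset.mem_univ k)
    rw [← this, show (Golay.maskOf (support₂ c)).testBit (Golay.idx k).val = decide (c k = 1) by
      rw [Bool.eq_iff_iff, decide_eq_true_eq, ← Golay.mem_ptsOf, Golay.ptsOf_maskOf, support₂_iff]]
    simp
  · refine Or.inr ?_
    obtain ⟨hc, hcj, hne, hS⟩ := odd_shape hx hk
    have hv : ∀ p, (p = j ∧ (x p = 3 ∨ x p = -3)) ∨ (p ≠ j ∧ (x p = 1 ∨ x p = -1)) := by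
      intro p
      by_cases hp : p = j
      · exact Or.inl ⟨hp, abs_cases (by norm_num) (by rw [hk, if_pos hp])⟩
      · exact Or.inr ⟨hp, abs_cases (by norm_num) (by rw [hk, if_neg hp])⟩
    have hle24 : (support₂ (hw x)).card ≤ 24 := (Finset.card_le_univ _).trans Golay.card_golayPt.le
    have hw5 := Golay.hammingNorm_cases hc
    rw [Golay.hammingNorm_eq_card] at hw5
    rcases hv none with ⟨a, v1⟩ | ⟨a, v1⟩ <;> rcases hv (some 0) with ⟨b, v2⟩ | ⟨b, v2⟩
    · exact absurd (b.trans a.symm) (by simp)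
    · exfalso; subst a; omega
    · exfalso; subst b; omega
    by_cases h3 : x j = 3
    · rw [if_pos h3] at hS
      have h24 : (support₂ (hw x)).card = 24 := by omega
      have hall : ∀ k, hw x k = 1 := fun k => support₂_iff.1
        ((Finset.eq_univ_of_card _ (h24.trans Golay.card_golayPt.symm)).symm ▸ Finset.mem_univ k)
      refine List.mem_map.2 ⟨(Golay.idx j).val, List.mem_range'_1.2 ?_, congrArg toList (funext fun k => ?_)⟩
      · have := idx_lt_of_ne_none (Ne.symm a)
        have : (Golay.idx j).val ≠ 0 := fun e => b (Golay.ptEquiv.injective (Fin.ext e)).symm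
        omega
      · rw [show Golay.ptN (Golay.idx j).val = j by
          rw [Golay.ptN]; simp [Nat.mod_eq_of_lt (Golay.idx j).isLt, Golay.pt_idx]]
        by_cases hkj : k = j
        · rw [if_pos hkj, hkj, h3]
        · rw [if_neg hkj, hne k hkj, if_pos (hall k)]
    · exfalso
      rw [if_neg h3] at hS
      have hcj0 : hw x j ≠ 1 := fun e => h3 (hcj.1 e)
      have : (support₂ (hw x)).card ≠ 24 := fun e => hcj0 (support₂_iff.1
        ((Finset.eq_univ_of_card _ (e.trans Golay.card_golayPt.symm)).symm ▸ Finset.mem_univ j))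
      omega

theorem hs_decomp : (pairCoding hsBaseV hsBaseW).Decomp (pairConfig hsBaseV hsBaseW 24 (-24))
    ConfigData.hsGens ConfigData.hsRoot0 ConfigData.hsOrbits :=
  pairDecomp hs_fix hs_orbs hs_checks.2.1
    (fun o ho => List.contains_iff_mem.1 (List.all_eq_true.1 hs_checks.2.2.2.1 o ho))
    hs_checks.2.2.1 hs_complete

theorem hs_codeOk : hsCodes.all codeOk = true :=
  List.all_eq_true.2 fun c hc => by
    have := List.all_eq_true.1 hs_checks.2.1 c hc
    simp only [configOk, Bool.and_eq_true] at this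
    exact this.1.1.1

theorem hs_ncard : (pairConfig hsBaseV hsBaseW 24 (-24)).ncard = 100 :=
  hs_decomp.count.trans hs_checks.2.2.2.2.1

theorem hs_transitive {x : leechLattice} (hx : x ∈ pairConfig hsBaseV hsBaseW 24 (-24)) :
    ∃ g : ↥(pairStab hsBaseV hsBaseW), g • hsRoot = x :=
  Orbit.Coding.Decomp.transitive _ hs_decomp (gens' := ConfigData.hsLinkGens) rfl
    (fun a ha => List.all_eq_true.1 hs_link_valid.1 a ha) hs_link_valid.2 hx

theorem hs_dot {c : List ℤ} (hc : c ∈ hsCodes) :
    dotInt (hsRoot : GolayPt → ℤ) (denL c : GolayPt → ℤ)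
      = dotInt (ofList ConfigData.hsRoot0) (ofList c) := by
  rw [hsRoot, denL_coe hs_checks.2.2.2.2.2.2.2.2, denL_coe (List.all_eq_true.1 hs_codeOk _ hc)]

theorem hs_suborbit {x y : leechLattice} (hx : x ∈ pairConfig hsBaseV hsBaseW 24 (-24))
    (hy : y ∈ pairConfig hsBaseV hsBaseW 24 (-24))
    (h : dotInt (hsRoot : GolayPt → ℤ) (x : GolayPt → ℤ)
      = dotInt (hsRoot : GolayPt → ℤ) (y : GolayPt → ℤ)) :
    ∃ g : ↥(pairStab hsBaseV hsBaseW), g • hsRoot = hsRoot ∧ g • x = y := by
  refine hs_decomp.exists_smul_eq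
    (fun z => dotInt (hsRoot : GolayPt → ℤ) (z : GolayPt → ℤ)) (fun g hg z => ?_) ?_ hx hy h
  · have h := dotInt_smul g.1 hsRoot z
    rw [show g.1 • hsRoot = hsRoot from hg] at h
    exact h
  · have e : ConfigData.hsOrbits.map
        (fun o => dotInt (hsRoot : GolayPt → ℤ) ((pairCoding hsBaseV hsBaseW).den o.1 : GolayPt → ℤ))
        = ConfigData.hsOrbits.map
          (fun o => dotInt (ofList ConfigData.hsRoot0) (ofList o.1)) :=
      List.map_congr_left fun o ho =>
        hs_dot (List.contains_iff_mem.1 (List.all_eq_true.1 hs_checks.2.2.2.1 o ho))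
    rw [e]; exact hs_checks.2.2.2.2.2.2.2.1

theorem hs_subdegrees :
    {y : leechLattice | y ∈ pairConfig hsBaseV hsBaseW 24 (-24) ∧
      dotInt (hsRoot : GolayPt → ℤ) (y : GolayPt → ℤ) = 8}.ncard = 22 ∧
    {y : leechLattice | y ∈ pairConfig hsBaseV hsBaseW 24 (-24) ∧ (y ≠ hsRoot ∧
      dotInt (hsRoot : GolayPt → ℤ) (y : GolayPt → ℤ) ≠ 8)}.ncard = 77 := by
  rw [show pairConfig hsBaseV hsBaseW 24 (-24) = {x | ∃ c ∈ hsCodes, denL c = x} from
    hs_decomp.codes_eq]
  constructor
  · refine Eq.trans ?_ hs_checks.2.2.2.2.2.1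
    exact ncard_codes hs_codeOk hs_checks.2.2.1
      (fun y => dotInt (hsRoot : GolayPt → ℤ) (y : GolayPt → ℤ) = 8) _
      fun c hc => by rw [hs_dot hc, decide_eq_true_eq]
  · refine Eq.trans ?_ hs_checks.2.2.2.2.2.2.1
    refine ncard_codes hs_codeOk hs_checks.2.2.1
      (fun y => y ≠ hsRoot ∧ dotInt (hsRoot : GolayPt → ℤ) (y : GolayPt → ℤ) ≠ 8) _
      fun c hc => ?_
    rw [hs_dot hc, decide_eq_true_eq]
    refine and_congr_left fun _ => not_congr ⟨fun e => ?_, fun e => by rw [e]; rfl⟩
    exact denL_inj (List.all_eq_true.1 hs_codeOk _ hc) hs_checks.2.2.2.2.2.2.2.2 e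

end Cfsg.Agent.Lib.Leech
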