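import Cfsg.Agent.Lib.Leech.Config
import Cfsg.Agent.Lib.Leech.ConfigData
import Cfsg.Agent.Lib.Leech.SimplePairs

/-!
The 275 minimal vectors attached to a pair of minimal vectors with dot product `-8`: transitivity
of the joint stabiliser and the two further suborbits of a point stabiliser.
-/

set_option autoImplicit false
set_option maxRecDepth 20000

namespace Cfsg.Agent.Lib.Leech

open Cfsg
open Cfsg.Agent.Lib

/-- The codes of the 275 vectors. -/
def mclCodes : List (List ℤ) := ConfigData.mclOrbits.flatMap Orbit.Coding.orbCodes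

/-- The base point. -/
def mclRoot : leechLattice := denL ConfigData.mclRoot0

/-- Possible vectors by shape. -/
def mclCand : List (List ℤ) :=
  ((List.range' 1 22).map fun j => toList fun k =>
      if k = some 0 ∨ k = Golay.ptN j then 4 else 0) ++
  ((masksWhere 8 true true).map fun m => toList fun k =>
      if m.testBit (Golay.idx k).val then 2 else 0) ++
  ((masksWhere 8 false true).map fun m => toList fun k =>
      if k = some 0 then 3 else if m.testBit (Golay.idx k).val then -1 else 1)

theorem mcl_checks :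
    mclCand.all (fun c => mclCodes.contains c) = true ∧
    mclCodes.all (configOk repA (vec31 none) 16 8) = true ∧
    mclCodes.Nodup ∧
    ConfigData.mclOrbits.all (fun o => mclCodes.contains o.1) = true ∧
    mclCodes.length = 275 ∧
    (mclCodes.filter fun c => decide (dotInt (ofList ConfigData.mclRoot0) (ofList c) = 8)).length
      = 112 ∧
    (mclCodes.filter fun c => decide (c ≠ ConfigData.mclRoot0 ∧
      dotInt (ofList ConfigData.mclRoot0) (ofList c) = 16)).length = 162 ∧
    (ConfigData.mclOrbits.map fun o => dotInt (ofList ConfigData.mclRoot0) (ofList o.1)).Nodup ∧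
    codeOk ConfigData.mclRoot0 = true := by
  decide +kernel

theorem mcl_fix : (pairCoding baseU baseC).gensFix ConfigData.mclGens ConfigData.mclRoot0 = true := by
  decide +kernel

theorem mcl_orbs : (pairCoding baseU baseC).orbsOk ConfigData.mclGens ConfigData.mclOrbits = true := by
  decide +kernel

theorem mcl_link_valid : (ConfigData.mclLinkGens.all (pairValid baseU baseC)) = true ∧
    (pairCoding baseU baseC).linksOk ConfigData.mclLinkGens ConfigData.mclOrbits [0]
      ConfigData.mclSteps = true := by
  decide +kernel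

theorem dotInt_vec31 (x : GolayPt → ℤ) :
    dotInt (vec31 none) x = ∑ k, x k - 4 * x none := by
  have h : ∀ i, vec31 none i * x i = x i - 4 * (if i = none then x i else 0) := fun i => by
    by_cases h : i = none <;> simp [vec31, h]; ring
  rw [dotInt, Finset.sum_congr rfl fun i _ => h i, Finset.sum_sub_distrib, ← Finset.mul_sum,
    Finset.sum_ite_eq']
  simp

theorem mcl_complete : ∀ x ∈ pairConfig baseU baseC 16 8, ∃ c ∈ mclCodes, denL c = x := by
  rintro ⟨x, hx⟩ ⟨hn, h1, h2⟩
  change sqNorm x = 32 at hn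
  change dotInt repA x = 16 at h1
  change dotInt (vec31 none) x = 8 at h2
  rw [dotInt_repA] at h1
  rw [dotInt_vec31] at h2
  suffices h : toList x ∈ mclCand by
    have hm := List.contains_iff_mem.1 (List.all_eq_true.1 mcl_checks.1 _ h)
    refine ⟨_, hm, Subtype.ext ?_⟩
    have hok := List.all_eq_true.1 mcl_checks.2.1 _ hm
    simp only [configOk, Bool.and_eq_true] at hok
    rw [denL_coe hok.1.1.1, ofList_toList]
  rw [mclCand, List.mem_append, List.mem_append]
  rcases shape32 hx hn with ⟨i, j, hij, hk⟩ | ⟨c, hc, h8, hk⟩ | ⟨j, hk⟩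
  · refine Or.inl (Or.inl ?_)
    have hv : ∀ p, ((p = i ∨ p = j) ∧ (x p = 4 ∨ x p = -4)) ∨ (¬(p = i ∨ p = j) ∧ x p = 0) := by
      intro p
      by_cases hp : p = i ∨ p = j
      · exact Or.inl ⟨hp, abs_cases (by norm_num) (by rw [hk, if_pos hp])⟩
      · exact Or.inr ⟨hp, abs_eq_zero.1 (by rw [hk, if_neg hp])⟩
    have hS := sum_two hij fun k hk' => abs_eq_zero.1 (by rw [hk, if_neg hk'])
    have hi := abs_cases (c := 4) (by norm_num) (show |x i| = 4 by rw [hk, if_pos (Or.inl rfl)])
    have hj := abs_cases (c := 4) (by norm_num) (show |x j| = 4 by rw [hk, if_pos (Or.inr rfl)])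
    rcases hv none with ⟨a, v1⟩ | ⟨a, v1⟩ <;> rcases hv (some 0) with ⟨b, v2⟩ | ⟨b, v2⟩
    · exfalso; omega
    · exfalso; omega
    · -- the other point of the pair
      obtain ⟨o, ho, hxo, hiff⟩ : ∃ o, o ≠ none ∧ (x o = 4) ∧
          ∀ k, (k = i ∨ k = j) ↔ (k = some 0 ∨ k = o) := by
        rcases b with b | b
        · refine ⟨j, fun e => a (Or.inr e.symm), ?_, fun k => by rw [b]⟩
          rw [b] at v2; omega
        · refine ⟨i, fun e => a (Or.inl e.symm), ?_, fun k => by rw [b, or_comm]⟩
          rw [b] at v2; omega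
      have ho0 : o ≠ some 0 := by
        intro e
        rcases b with b | b
        · exact hij (b.symm.trans (((hiff j).1 (Or.inr rfl)).elim id (fun h => h.trans e)).symm)
        · exact hij (((hiff i).1 (Or.inl rfl)).elim id (fun h => h.trans e) |>.trans b)
      have hx0 : x (some 0) = 4 := by omega
      refine List.mem_map.2 ⟨(Golay.idx o).val, List.mem_range'_1.2 ?_, congrArg toList (funext fun k => ?_)⟩
      · have := idx_lt_of_ne_none ho
        have : (Golay.idx o).val ≠ 0 := fun e => ho0 (Golay.ptEquiv.injective (Fin.ext e))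
        omega
      · have e : Golay.ptN (Golay.idx o).val = o := by
          rw [Golay.ptN]; simp [Nat.mod_eq_of_lt (Golay.idx o).isLt, Golay.pt_idx]
        rw [e]
        by_cases hk' : k = some 0 ∨ k = o
        · rw [if_pos hk']; rcases hk' with rfl | rfl <;> [exact hx0.symm; exact hxo.symm]
        · rw [if_neg hk']
          exact (abs_eq_zero.1 (by rw [hk, if_neg (fun h => hk' ((hiff k).1 h))])).symm
    · exfalso; omega
  · refine Or.inl (Or.inr ?_)
    rcases code_at hk (by norm_num) none with ⟨a, v1⟩ | ⟨a, v1⟩ <;>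
      rcases code_at hk (by norm_num) (some 0) with ⟨b, v2⟩ | ⟨b, v2⟩
    rotate_left
    · exfalso; omega
    · exfalso; omega
    · exfalso; omega
    refine List.mem_map.2 ⟨Golay.maskOf (support₂ c),
      maskOf_mem_where hc h8 (by simp [a]) (by simp [b]), congrArg toList (funext fun k => ?_)⟩
    have hle : ∀ k ∈ (Finset.univ : Finset GolayPt), x k ≤ if c k = 1 then 2 else 0 := fun k _ =>
      (le_abs_self _).trans (hk k).le
    have hsum : ∑ k, x k = ∑ k, if c k = 1 then (2 : ℤ) else 0 := by
      rw [← Finset.sum_filter, Finset.sum_const,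
        show (Finset.univ.filter fun k => c k = 1) = support₂ c from
          Finset.ext fun k => by simp [support₂_iff], h8]
      rw [nsmul_eq_mul]; push_cast; omega
    have := (Finset.sum_eq_sum_iff_of_le hle).1 hsum k (Finset.mem_univ k)
    rw [this, show (Golay.maskOf (support₂ c)).testBit (Golay.idx k).val = decide (c k = 1) by
      rw [Bool.eq_iff_iff, decide_eq_true_eq, ← Golay.mem_ptsOf, Golay.ptsOf_maskOf, support₂_iff]]
    simp
  · refine Or.inr ?_
    obtain ⟨hc, hcj, hne, hS⟩ := odd_shape hx hk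
    have hv : ∀ p, (p = j ∧ (x p = 3 ∨ x p = -3)) ∨ (p ≠ j ∧ (x p = 1 ∨ x p = -1)) := by
      intro p
      by_cases hp : p = j
      · exact Or.inl ⟨hp, abs_cases (by norm_num) (by rw [hk, if_pos hp])⟩
      · exact Or.inr ⟨hp, abs_cases (by norm_num) (by rw [hk, if_neg hp])⟩
    rcases hv none with ⟨a, v1⟩ | ⟨a, v1⟩ <;> rcases hv (some 0) with ⟨b, v2⟩ | ⟨b, v2⟩
    · exact absurd (b.trans a.symm) (by simp)
    · exfalso
      subst a
      have h3 : x none = 3 := by omega
      have hne0 : hw x ≠ 0 := fun e => by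
        have h' := hcj.2 h3; rw [e] at h'; exact zero_ne_one h'
      have := code_min hc hne0
      rw [if_pos h3] at hS
      omega
    · subst b
      have h3 : x (some 0) = 3 := by omega
      have h1' : x none = 1 := by omega
      rw [if_pos h3] at hS
      have h8 : (support₂ (hw x)).card = 8 := by omega
      have e0 : hw x none = 0 := by
        refine (zmod2_cases _).resolve_right fun e => ?_
        have := hne none a
        rw [if_pos e] at this; omega
      refine List.mem_map.2 ⟨Golay.maskOf (support₂ (hw x)),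
        maskOf_mem_where hc h8 (by simp [e0]) (by simp [hcj.2 h3]), congrArg toList (funext fun k => ?_)⟩
      by_cases hk0 : k = some 0
      · rw [if_pos hk0, hk0, h3]
      · rw [if_neg hk0, hne k hk0]
        refine if_congr ?_ rfl rfl
        rw [← Golay.mem_ptsOf, Golay.ptsOf_maskOf, support₂_iff]
    · exfalso; omega

theorem mcl_decomp : (pairCoding baseU baseC).Decomp (pairConfig baseU baseC 16 8)
    ConfigData.mclGens ConfigData.mclRoot0 ConfigData.mclOrbits :=
  pairDecomp mcl_fix mcl_orbs mcl_checks.2.1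
    (fun o ho => List.contains_iff_mem.1 (List.all_eq_true.1 mcl_checks.2.2.2.1 o ho))
    mcl_checks.2.2.1 mcl_complete

theorem mcl_codeOk : mclCodes.all codeOk = true :=
  List.all_eq_true.2 fun c hc => by
    have := List.all_eq_true.1 mcl_checks.2.1 c hc
    simp only [configOk, Bool.and_eq_true] at this
    exact this.1.1.1

theorem mcl_set : pairConfig baseU baseC 16 8 = {x | ∃ c ∈ mclCodes, denL c = x} :=
  mcl_decomp.codes_eq

theorem mcl_ncard : (pairConfig baseU baseC 16 8).ncard = 275 :=
  mcl_decomp.count.trans mcl_checks.2.2.2.2.1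

theorem mcl_transitive {x : leechLattice} (hx : x ∈ pairConfig baseU baseC 16 8) :
    ∃ g : ↥(pairStab baseU baseC), g • mclRoot = x :=
  Orbit.Coding.Decomp.transitive _ mcl_decomp (gens' := ConfigData.mclLinkGens) rfl
    (fun a ha => List.all_eq_true.1 mcl_link_valid.1 a ha) mcl_link_valid.2 hx

theorem mcl_suborbit {x y : leechLattice} (hx : x ∈ pairConfig baseU baseC 16 8)
    (hy : y ∈ pairConfig baseU baseC 16 8)
    (h : dotInt (mclRoot : GolayPt → ℤ) (x : GolayPt → ℤ)
      = dotInt (mclRoot : GolayPt → ℤ) (y : GolayPt → ℤ)) :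
    ∃ g : ↥(pairStab baseU baseC), g • mclRoot = mclRoot ∧ g • x = y := by
  refine mcl_decomp.exists_smul_eq
    (fun z => dotInt (mclRoot : GolayPt → ℤ) (z : GolayPt → ℤ)) (fun g hg z => ?_) ?_ hx hy h
  · have h := dotInt_smul g.1 mclRoot z
    rw [show g.1 • mclRoot = mclRoot from hg] at h
    exact h
  · have e : ConfigData.mclOrbits.map
        (fun o => dotInt (mclRoot : GolayPt → ℤ) ((pairCoding baseU baseC).den o.1 : GolayPt → ℤ))
        = ConfigData.mclOrbits.map
          (fun o => dotInt (ofList ConfigData.mclRoot0) (ofList o.1)) := by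
      refine List.map_congr_left fun o ho => ?_
      rw [mclRoot, denL_coe mcl_checks.2.2.2.2.2.2.2.2]
      show dotInt _ (denL o.1 : GolayPt → ℤ) = _
      rw [denL_coe (List.all_eq_true.1 mcl_codeOk _
        (List.contains_iff_mem.1 (List.all_eq_true.1 mcl_checks.2.2.2.1 o ho)))]
    rw [e]; exact mcl_checks.2.2.2.2.2.2.2.1

theorem mcl_subdegrees :
    {y : leechLattice | y ∈ pairConfig baseU baseC 16 8 ∧
      dotInt (mclRoot : GolayPt → ℤ) (y : GolayPt → ℤ) = 8}.ncard = 112 ∧
    {y : leechLattice | y ∈ pairConfig baseU baseC 16 8 ∧ (y ≠ mclRoot ∧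
      dotInt (mclRoot : GolayPt → ℤ) (y : GolayPt → ℤ) = 16)}.ncard = 162 := by
  have hr := mcl_checks.2.2.2.2.2.2.2.2
  have hd : ∀ c ∈ mclCodes, dotInt (mclRoot : GolayPt → ℤ) (denL c : GolayPt → ℤ)
      = dotInt (ofList ConfigData.mclRoot0) (ofList c) := fun c hc => by
    rw [mclRoot, denL_coe hr, denL_coe (List.all_eq_true.1 mcl_codeOk _ hc)]
  rw [mcl_set]
  constructor
  · rw [← mcl_checks.2.2.2.2.2.1]
    exact ncard_codes mcl_codeOk mcl_checks.2.2.1
      (fun y => dotInt (mclRoot : GolayPt → ℤ) (y : GolayPt → ℤ) = 8) _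
      fun c hc => by rw [hd c hc, decide_eq_true_eq]
  · rw [← mcl_checks.2.2.2.2.2.2.1]
    refine ncard_codes mcl_codeOk mcl_checks.2.2.1
      (fun y => y ≠ mclRoot ∧ dotInt (mclRoot : GolayPt → ℤ) (y : GolayPt → ℤ) = 16) _
      fun c hc => ?_
    rw [hd c hc, decide_eq_true_eq]
    refine and_congr_left fun _ => not_congr ⟨fun e => ?_, fun e => by rw [e]; rfl⟩
    exact denL_inj (List.all_eq_true.1 mcl_codeOk _ hc) hr e

end Cfsg.Agent.Lib.Leech
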