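import Cfsg.Agent.Lib.Leech.ConfigMcL

/-!
The configuration of 275 for an arbitrary vector of squared length 48 and a minimal summand.
-/

set_option autoImplicit false

namespace Cfsg.Agent.Lib.Leech

open Cfsg
open Cfsg.Agent.Lib

/-- The set of further summands. -/
def mclSet (u v : leechLattice) : Set leechLattice :=
  {x | sqNorm (x : GolayPt → ℤ) = 32 ∧ sqNorm ((u - x) : GolayPt → ℤ) = 32 ∧
    dotInt (v : GolayPt → ℤ) (x : GolayPt → ℤ) = 16}

theorem mclSet_eq (u v : leechLattice) (hu : sqNorm (u : GolayPt → ℤ) = 48) :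
    mclSet u v = pairConfig v (u - v) 16 8 := by
  ext x
  have h := dotInt_sub_self' (u : GolayPt → ℤ) (x : GolayPt → ℤ)
  simp only [mclSet, pairConfig, Set.mem_ofPred_eq, AddSubgroup.coe_sub, dotInt_sub_left']
  constructor
  · rintro ⟨a, b, c⟩; exact ⟨a, c, by omega⟩
  · rintro ⟨a, b, c⟩; exact ⟨a, by omega, b⟩

theorem exists_mcl_frame (u v : leechLattice) (hu : sqNorm (u : GolayPt → ℤ) = 48)
    (hv : sqNorm (v : GolayPt → ℤ) = 32) (huv : sqNorm ((u - v) : GolayPt → ℤ) = 32) :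
    ∃ g : Co0, g • baseU = v ∧ g • baseC = u - v := by
  refine exists_smul_two (fun hx hy => connU_neg8 hx hy) (N := 32) (s := -2) ⟨sqNorm_repA,
    show sqNorm (vec31 none) = 32 by decide +kernel,
    show dotInt repA (vec31 none) = 4 * (-2) by decide +kernel⟩ ⟨hv, by simpa using huv, ?_⟩
  have h := dotInt_sub_self' (u : GolayPt → ℤ) (v : GolayPt → ℤ)
  show dotInt (v : GolayPt → ℤ) ((u - v : leechLattice) : GolayPt → ℤ) = _
  rw [dotInt_comm, AddSubgroup.coe_sub, dotInt_sub_left', dotInt_self]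
  omega

theorem pair_fix_of (u v : leechLattice) {g h : Co0} (hg1 : g • baseU = v)
    (hg2 : g • baseC = u - v) (hh : h ∈ pairStab baseU baseC) :
    (g * h * g⁻¹) • u = u ∧ (g * h * g⁻¹) • v = v := by
  have e1 : (g * h * g⁻¹) • v = v := by
    rw [mul_smul, mul_smul, show g⁻¹ • v = baseU from inv_smul_eq_iff.2 hg1.symm, hh.1, hg1]
  have e2 : (g * h * g⁻¹) • (u - v) = u - v := by
    rw [mul_smul, mul_smul, show g⁻¹ • (u - v) = baseC from inv_smul_eq_iff.2 hg2.symm, hh.2, hg2]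
  refine ⟨?_, e1⟩
  rw [smul_sub', e1] at e2
  exact sub_left_inj.mp e2

theorem mclSet_transitive {u v : leechLattice} (hu : sqNorm (u : GolayPt → ℤ) = 48)
    {g : Co0} (hg1 : g • baseU = v) (hg2 : g • baseC = u - v) {x : leechLattice}
    (hx : x ∈ mclSet u v) :
    ∃ h ∈ pairStab baseU baseC, (g * h) • mclRoot = x := by
  rw [mclSet_eq u v hu, ← hg1, show u - g • baseU = g • baseC by rw [hg1]; exact hg2.symm,
    pairConfig_smul] at hx
  obtain ⟨y, hy, rfl⟩ := hx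
  obtain ⟨k, hk⟩ := mcl_transitive hy
  exact ⟨k.1, k.2, by rw [mul_smul]; exact congrArg (fun z => g • z) hk⟩

theorem mclSet_ncard (u v : leechLattice) (hu : sqNorm (u : GolayPt → ℤ) = 48)
    (hv : sqNorm (v : GolayPt → ℤ) = 32) (huv : sqNorm ((u - v) : GolayPt → ℤ) = 32) :
    (mclSet u v).ncard = 275 := by
  obtain ⟨g, hg1, hg2⟩ := exists_mcl_frame u v hu hv huv
  rw [mclSet_eq u v hu, ← hg1, show u - g • baseU = g • baseC by rw [hg1]; exact hg2.symm,
    pairConfig_smul, Set.ncard_image_of_injective _ (MulAction.injective g), mcl_ncard]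

theorem mclSet_smul_eq {u v : leechLattice} (hu : sqNorm (u : GolayPt → ℤ) = 48)
    (hv : sqNorm (v : GolayPt → ℤ) = 32) (huv : sqNorm ((u - v) : GolayPt → ℤ) = 32)
    {x x' : leechLattice} (hx : x ∈ mclSet u v) (hx' : x' ∈ mclSet u v) :
    ∃ g : Co0, g • u = u ∧ g • v = v ∧ g • x = x' := by
  obtain ⟨g, hg1, hg2⟩ := exists_mcl_frame u v hu hv huv
  obtain ⟨h, hh, e⟩ := mclSet_transitive hu hg1 hg2 hx
  obtain ⟨h', hh', e'⟩ := mclSet_transitive hu hg1 hg2 hx'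
  obtain ⟨f1, f2⟩ := pair_fix_of u v hg1 hg2 (mul_mem hh' (inv_mem hh))
  refine ⟨g * (h' * h⁻¹) * g⁻¹, f1, f2, ?_⟩
  rw [← e, mul_smul, mul_smul, mul_smul g h, inv_smul_smul, mul_smul h', inv_smul_smul,
    ← mul_smul, e']

theorem mclSet_frame {u v x : leechLattice} (hu : sqNorm (u : GolayPt → ℤ) = 48)
    (hv : sqNorm (v : GolayPt → ℤ) = 32) (huv : sqNorm ((u - v) : GolayPt → ℤ) = 32)
    (hx : x ∈ mclSet u v) :
    ∃ f : Co0, f • baseU = v ∧ f • baseC = u - v ∧ f • mclRoot = x := by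
  obtain ⟨g, hg1, hg2⟩ := exists_mcl_frame u v hu hv huv
  obtain ⟨h, hh, e⟩ := mclSet_transitive hu hg1 hg2 hx
  exact ⟨g * h, by rw [mul_smul, hh.1, hg1], by rw [mul_smul, hh.2, hg2], e⟩

theorem mclSet_rank3 {u v x : leechLattice} (hu : sqNorm (u : GolayPt → ℤ) = 48)
    (hv : sqNorm (v : GolayPt → ℤ) = 32) (huv : sqNorm ((u - v) : GolayPt → ℤ) = 32)
    (hx : x ∈ mclSet u v) :
    {y : leechLattice | y ∈ mclSet u v ∧ dotInt (x : GolayPt → ℤ) (y : GolayPt → ℤ) = 8}.ncard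
      = 112 ∧
    {y : leechLattice | y ∈ mclSet u v ∧ y ≠ x ∧
      dotInt (x : GolayPt → ℤ) (y : GolayPt → ℤ) = 16}.ncard = 162 ∧
    ∀ y ∈ mclSet u v, ∀ y' ∈ mclSet u v, y ≠ x → y' ≠ x →
      dotInt (x : GolayPt → ℤ) (y : GolayPt → ℤ) = dotInt (x : GolayPt → ℤ) (y' : GolayPt → ℤ) →
      ∃ g : Co0, g • u = u ∧ g • v = v ∧ g • x = x ∧ g • y = y' := by
  obtain ⟨f, hf1, hf2, hf3⟩ := mclSet_frame hu hv huv hx
  have hset : mclSet u v = pairConfig (f • baseU) (f • baseC) 16 8 := by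
    rw [mclSet_eq u v hu, hf1, hf2]
  refine ⟨?_, ?_, ?_⟩
  · rw [hset, ← hf3]
    exact (ncard_part_smul f baseU baseC mclRoot 16 8 (fun d _ => d = 8)
      fun _ _ => Iff.rfl).trans mcl_subdegrees.1
  · rw [hset, ← hf3]
    have hinj : ∀ y, f • y ≠ f • mclRoot ↔ y ≠ mclRoot := fun y => (MulAction.injective f).ne_iff
    rw [← mcl_subdegrees.2, ← Set.ncard_image_of_injective {y : leechLattice |
      y ∈ pairConfig baseU baseC 16 8 ∧ (y ≠ mclRoot ∧
        dotInt (mclRoot : GolayPt → ℤ) (y : GolayPt → ℤ) = 16)} (MulAction.injective f)]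
    congr 1
    ext y
    constructor
    · rintro ⟨h1, h2, h3⟩
      rw [pairConfig_smul] at h1
      obtain ⟨z, hz, rfl⟩ := h1
      rw [dotInt_smul] at h3
      exact ⟨z, ⟨hz, (hinj z).1 h2, h3⟩, rfl⟩
    · rintro ⟨z, ⟨h1, h2, h3⟩, rfl⟩
      exact ⟨by rw [pairConfig_smul]; exact ⟨z, h1, rfl⟩, (hinj z).2 h2,
        (dotInt_smul f mclRoot z).trans h3⟩
  · intro y hy y' hy' _ _ he
    rw [hset, pairConfig_smul] at hy hy'
    obtain ⟨z, hz, rfl⟩ := hy
    obtain ⟨z', hz', rfl⟩ := hy'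
    rw [← hf3, dotInt_smul, dotInt_smul] at he
    obtain ⟨k, hk0, hk⟩ := mcl_suborbit hz hz' he
    obtain ⟨e1, e2⟩ := pair_fix_of u v hf1 hf2 k.2
    refine ⟨f * k.1 * f⁻¹, e1, e2, ?_, ?_⟩
    · rw [← hf3, mul_smul, mul_smul, inv_smul_smul]
      exact congrArg (fun w => f • w) hk0
    · rw [mul_smul, mul_smul, inv_smul_smul]
      exact congrArg (fun w => f • w) hk

end Cfsg.Agent.Lib.Leech
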