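import Cfsg.Agent.Lib.Leech.Order

/-!
Crosses, and short representatives of the classes of the lattice modulo twice the lattice.
-/

set_option autoImplicit false

namespace Cfsg.Agent.Lib.Leech

open Cfsg
open Cfsg.Agent.Lib

/-- Congruence modulo twice the lattice. -/
def Congr2 (x y : GolayPt → ℤ) : Prop := ∃ z ∈ leechLattice, x - y = (2 : ℤ) • z

theorem congr2_symm {x y : GolayPt → ℤ} : Congr2 x y → Congr2 y x := by
  rintro ⟨z, hz, h⟩
  exact ⟨-z, neg_mem hz, by rw [smul_neg, ← h]; abel⟩

theorem two_smul_eq (z : GolayPt → ℤ) : (2 : ℕ) • z = (2 : ℤ) • z := by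
  rw [two_nsmul, two_smul]

theorem mem_cross_iff {x y : GolayPt → ℤ} :
    y ∈ cross x ↔ y ∈ leechLattice ∧ sqNorm y = sqNorm x ∧ Congr2 x y := by
  refine and_congr_right fun _ => and_congr_right fun _ => ?_
  constructor <;> rintro ⟨z, hz, h⟩
  · exact ⟨z, hz, by rw [h]; first | rfl | exact two_smul_eq z⟩
  · exact ⟨z, hz, by rw [h]; first | rfl | exact (two_smul_eq z).symm⟩

theorem cross_vec8 : cross (vec8 none) = stdCross := by
  ext y
  rw [mem_cross_iff]
  constructor
  · rintro ⟨-, hn, h⟩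
    obtain ⟨z, hz, e⟩ := congr2_symm h
    exact mem_stdCross_of_congr (hn.trans (sqNorm_vec8 none)) hz (by rw [← e]; abel)
  · rw [mem_stdCross_iff]
    rintro ⟨i, rfl | rfl⟩
    · refine ⟨vec8_mem i, by rw [sqNorm_vec8, sqNorm_vec8],
        congr2_symm ⟨vec44 i - vec8 none, sub_mem (vec44_mem i) (vec8_mem none), ?_⟩⟩
      funext k
      simp only [Pi.sub_apply, Pi.smul_apply, smul_eq_mul, vec8, vec44, Pi.single_apply]
      split_ifs <;> ring
    · refine ⟨neg_mem (vec8_mem i), by rw [sqNorm_neg, sqNorm_vec8, sqNorm_vec8],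
        ⟨vec44 i, vec44_mem i, ?_⟩⟩
      funext k
      simp only [Pi.sub_apply, Pi.neg_apply, Pi.smul_apply, smul_eq_mul, vec8, vec44,
        Pi.single_apply]
      split_ifs <;> ring

theorem ncard_stdCross : stdCross.ncard = 48 := by
  have e : stdCross = Set.range (fun p : GolayPt × Bool =>
      (Pi.single p.1 (if p.2 then 8 else -8) : GolayPt → ℤ)) := by
    ext y
    constructor
    · rintro ⟨i, s, rfl | rfl, rfl⟩
      · exact ⟨(i, true), rfl⟩
      · exact ⟨(i, false), rfl⟩
    · rintro ⟨⟨i, b⟩, rfl⟩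
      cases b
      · exact ⟨i, -8, Or.inr rfl, rfl⟩
      · exact ⟨i, 8, Or.inl rfl, rfl⟩
  rw [e, Set.ncard_range_of_injective]
  · rw [Nat.card_prod, Nat.card_eq_fintype_card, Nat.card_eq_fintype_card]; rfl
  · rintro ⟨i, b⟩ ⟨j, c⟩ h
    have h1 := congrFun h i
    simp only [Pi.single_apply] at h1
    by_cases hij : i = j
    · subst hij
      cases b <;> cases c <;> simp_all
    · cases b <;> cases c <;> simp_all

theorem cross_smul (g : Co0) (x : leechLattice) :
    cross ((g • x : leechLattice) : GolayPt → ℤ) =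
      (fun v : leechLattice => ((g • v : leechLattice) : GolayPt → ℤ)) ''
        {v : leechLattice | (v : GolayPt → ℤ) ∈ cross x} := by
  have sm : ∀ (h : Co0) (a v : leechLattice), Congr2 (a : GolayPt → ℤ) v →
      Congr2 ((h • a : leechLattice) : GolayPt → ℤ) ((h • v : leechLattice) : GolayPt → ℤ) := by
    rintro h a v ⟨z, hz, e⟩
    refine ⟨_, (h • (⟨z, hz⟩ : leechLattice)).2, ?_⟩
    have e' : a - v = (2 : ℤ) • (⟨z, hz⟩ : leechLattice) := Subtype.ext (by simpa using e)
    have := congrArg (fun w : leechLattice => ((h • w : leechLattice) : GolayPt → ℤ)) e'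
    simpa only [smul_sub', smul_zsmul', AddSubgroup.coe_sub, AddSubgroup.coe_zsmul] using this
  ext y
  rw [mem_cross_iff]
  constructor
  · rintro ⟨hy, hn, hc⟩
    refine ⟨g⁻¹ • ⟨y, hy⟩, ?_, congrArg Subtype.val (smul_inv_smul g (⟨y, hy⟩ : leechLattice))⟩
    show ((g⁻¹ • (⟨y, hy⟩ : leechLattice) : leechLattice) : GolayPt → ℤ) ∈ cross x
    rw [mem_cross_iff]
    refine ⟨SetLike.coe_mem _, (sqNorm_smul _ _).trans (hn.trans (sqNorm_smul g x)), ?_⟩
    simpa [inv_smul_smul] using sm g⁻¹ (g • x) ⟨y, hy⟩ hc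
  · rintro ⟨v, hv, rfl⟩
    obtain ⟨-, hn, hc⟩ := mem_cross_iff.1 hv
    exact ⟨SetLike.coe_mem _, by rw [sqNorm_smul, sqNorm_smul, hn], sm g x v hc⟩

theorem ncard_cross {x : GolayPt → ℤ} (hx : x ∈ leechLattice) (hn : sqNorm x = 64) :
    (cross x).ncard = 48 := by
  obtain ⟨g, hg⟩ := exists_smul64 (pt8 none) ⟨x, hx⟩ (sqNorm_vec8 none) hn
  have h := cross_smul g (pt8 none)
  rw [hg] at h
  have hinj : Function.Injective (fun v : leechLattice =>
      ((g • v : leechLattice) : GolayPt → ℤ)) :=
    Subtype.val_injective.comp (MulAction.injective g)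
  rw [h, Set.ncard_image_of_injective _ hinj,
    ← Set.ncard_image_of_injective _ Subtype.val_injective]
  rw [← ncard_stdCross, ← cross_vec8]
  congr 1
  ext y
  exact ⟨by rintro ⟨v, hv, rfl⟩; exact hv, fun hy => ⟨⟨y, (mem_cross_iff.1 hy).1⟩, hy, rfl⟩⟩

/-- Two short vectors in one class: equal up to sign, or the norms add up to at least 128. -/
theorem congr2_short {x y : GolayPt → ℤ} (hx : x ∈ leechLattice) (hy : y ∈ leechLattice)
    (h : Congr2 x y) : y = x ∨ y = -x ∨ 128 ≤ sqNorm x + sqNorm y := by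
  obtain ⟨z, hz, e⟩ := h
  by_cases h1 : z = 0
  · left; rw [h1, smul_zero, sub_eq_zero] at e; exact e.symm
  by_cases h2 : x - z = 0
  · right; left
    rw [sub_eq_zero] at h2
    rw [← h2] at e
    funext k
    have := congrFun e k
    simp only [Pi.sub_apply, Pi.smul_apply, smul_eq_mul] at this
    rw [Pi.neg_apply]; omega
  right; right
  have a := sqNorm_min hz h1
  have b := sqNorm_min (sub_mem hx hz) h2
  have key : sqNorm x + sqNorm y = 2 * (sqNorm z + sqNorm (x - z)) := by
    simp only [sqNorm, Finset.mul_sum, ← Finset.sum_add_distrib]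
    refine Finset.sum_congr rfl fun i _ => ?_
    have := congrFun e i
    simp only [Pi.sub_apply, Pi.smul_apply, smul_eq_mul] at this
    rw [show y i = x i - 2 * z i by omega, Pi.sub_apply]
    ring
  omega

/-- The classes modulo twice the lattice are separated by a map to at most `2 ^ 24` values. -/
theorem exists_classMap : ∃ (r : ℕ) (f : (GolayPt → ℤ) → (Fin r → ZMod 2)), r ≤ 24 ∧
    ∀ x ∈ leechLattice, ∀ y ∈ leechLattice, f x = f y → Congr2 x y := by
  classical
  let N : Submodule ℤ (GolayPt → ℤ) := AddSubgroup.toIntSubmodule leechLattice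
  let b := Module.Free.chooseBasis ℤ N
  have hcard : Fintype.card (Module.Free.ChooseBasisIndex ℤ N) ≤ 24 := by
    rw [← Module.finrank_eq_card_chooseBasisIndex]
    exact (Submodule.finrank_le N).trans (by rw [Module.finrank_pi]; rfl)
  let b' := b.reindex (Fintype.equivFin _)
  refine ⟨_, fun x => if hx : x ∈ leechLattice then fun i => ((b'.repr ⟨x, hx⟩ i : ℤ) : ZMod 2)
    else 0, hcard, fun x hx y hy h => ?_⟩
  simp only [dif_pos hx, dif_pos hy] at h
  choose c hc using fun i =>
    (ZMod.intCast_eq_intCast_iff_dvd_sub _ _ 2).1 (congrFun h i).symm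
  refine ⟨((∑ i, c i • b' i : N) : GolayPt → ℤ), SetLike.coe_mem _, ?_⟩
  have e : (⟨x, hx⟩ : N) - ⟨y, hy⟩ = (2 : ℤ) • ∑ i, c i • b' i := by
    conv_lhs => rw [← b'.sum_repr ⟨x, hx⟩, ← b'.sum_repr ⟨y, hy⟩]
    rw [Finset.smul_sum, ← Finset.sum_sub_distrib]
    exact Finset.sum_congr rfl fun i _ => by
      rw [← sub_smul, hc i, mul_smul]; norm_num
  exact congrArg Subtype.val e

/-- Every class contains a vector of squared length at most 64. -/
theorem exists_short {x : GolayPt → ℤ} (hx : x ∈ leechLattice) :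
    ∃ y ∈ leechLattice, sqNorm y ≤ 64 ∧ Congr2 x y := by
  classical
  obtain ⟨r, f, hr, hf⟩ := exists_classMap
  let A : ℤ → Set (GolayPt → ℤ) := fun n => {y | y ∈ leechLattice ∧ sqNorm y = n}
  have fin : ∀ {n : ℤ} {c : ℕ}, c ≠ 0 → (A n).ncard = c → (A n).Finite := fun hc h =>
    Set.finite_of_ncard_ne_zero (h ▸ hc)
  have f32 := fin (by norm_num) ncard_norm32
  have f48 := fin (by norm_num) ncard_norm48
  have f64 := fin (by norm_num) ncard_norm64
  have hsmall : ∀ {n : ℤ}, n < 64 → ∀ (hfi : (A n).Finite),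
      hfi.toFinset.card ≤ 2 * (hfi.toFinset.image f).card := by
    intro n hn hfi
    refine Finset.card_le_mul_card_image _ 2 fun b hb => ?_
    obtain ⟨a, ha, rfl⟩ := Finset.mem_image.1 hb
    rw [Set.Finite.mem_toFinset] at ha
    refine (Finset.card_le_card (t := {a, -a}) fun y hy => ?_).trans Finset.card_le_two
    rw [Finset.mem_filter, Set.Finite.mem_toFinset] at hy
    rcases congr2_short ha.1 hy.1.1 (hf a ha.1 y hy.1.1 hy.2.symm) with h | h | h
    · simp [h]
    · simp [h]
    · exfalso; rw [ha.2, hy.1.2] at h; omega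
  have h64 : f64.toFinset.card ≤ 48 * (f64.toFinset.image f).card := by
    refine Finset.card_le_mul_card_image _ 48 fun b hb => ?_
    obtain ⟨a, ha, rfl⟩ := Finset.mem_image.1 hb
    rw [Set.Finite.mem_toFinset] at ha
    rw [← ncard_cross ha.1 ha.2, ← Set.ncard_coe_finset]
    refine Set.ncard_le_ncard (fun y hy => ?_)
      (Set.finite_of_ncard_ne_zero (by rw [ncard_cross ha.1 ha.2]; norm_num))
    simp only [Finset.coe_filter, Set.Finite.mem_toFinset, Set.mem_ofPred_eq] at hy
    exact mem_cross_iff.2 ⟨hy.1.1, hy.1.2.trans ha.2.symm, hf a ha.1 y hy.1.1 hy.2.symm⟩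
  have hdis : ∀ {n m : ℤ}, n ≠ m → n + m < 128 → ∀ (h1 : (A n).Finite) (h2 : (A m).Finite),
      Disjoint (h1.toFinset.image f) (h2.toFinset.image f) := by
    intro n m hne hlt h1 h2
    rw [Finset.disjoint_left]
    intro b hb hb'
    obtain ⟨a, ha, rfl⟩ := Finset.mem_image.1 hb
    obtain ⟨a', ha', e⟩ := Finset.mem_image.1 hb'
    rw [Set.Finite.mem_toFinset] at ha ha'
    rcases congr2_short ha.1 ha'.1 (hf a ha.1 a' ha'.1 e.symm) with h | h | h
    · exact hne (ha.2.symm.trans (by rw [← ha'.2, h]))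
    · exact hne (ha.2.symm.trans (by rw [← ha'.2, h, sqNorm_neg]))
    · rw [ha.2, ha'.2] at h; omega
  have fz : (A 0).Finite := (Set.finite_singleton 0).subset fun y hy => sqNorm_eq_zero hy.2
  set U := fz.toFinset.image f ∪ f32.toFinset.image f ∪ f48.toFinset.image f ∪ f64.toFinset.image f
    with hU
  have hz : 1 ≤ (fz.toFinset.image f).card :=
    Finset.card_pos.2 ⟨f 0, Finset.mem_image_of_mem f
      (fz.mem_toFinset.2 ⟨zero_mem _, sqNorm_zero⟩)⟩
  have hcardU : U.card = (fz.toFinset.image f).card + (f32.toFinset.image f).card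
      + (f48.toFinset.image f).card + (f64.toFinset.image f).card := by
    rw [hU, Finset.card_union_of_disjoint, Finset.card_union_of_disjoint,
      Finset.card_union_of_disjoint]
    · exact hdis (by norm_num) (by norm_num) fz f32
    · exact Finset.disjoint_union_left.2
        ⟨hdis (by norm_num) (by norm_num) fz f48, hdis (by norm_num) (by norm_num) f32 f48⟩
    · exact Finset.disjoint_union_left.2 ⟨Finset.disjoint_union_left.2
        ⟨hdis (by norm_num) (by norm_num) fz f64, hdis (by norm_num) (by norm_num) f32 f64⟩,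
        hdis (by norm_num) (by norm_num) f48 f64⟩
  have c32 : f32.toFinset.card = 196560 := by rw [← Set.ncard_eq_toFinset_card (A 32) f32]; exact ncard_norm32
  have c48 : f48.toFinset.card = 16773120 := by rw [← Set.ncard_eq_toFinset_card (A 48) f48]; exact ncard_norm48
  have c64 : f64.toFinset.card = 398034000 := by rw [← Set.ncard_eq_toFinset_card (A 64) f64]; exact ncard_norm64
  have a32 := hsmall (by norm_num) f32
  have a48 := hsmall (by norm_num) f48
  have huniv : Fintype.card (Fin r → ZMod 2) ≤ 16777216 := by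
    rw [Fintype.card_fun, ZMod.card, Fintype.card_fin]
    calc 2 ^ r ≤ 2 ^ 24 := Nat.pow_le_pow_right (by norm_num) hr
      _ = 16777216 := by norm_num
  have htop : U = Finset.univ := Finset.eq_univ_of_card _ (le_antisymm (Finset.card_le_univ _)
    (by omega))
  have hmem : f x ∈ U := by rw [htop]; exact Finset.mem_univ _
  simp only [hU, Finset.mem_union, Finset.mem_image, Set.Finite.mem_toFinset] at hmem
  rcases hmem with ((⟨y, hy, e⟩ | ⟨y, hy, e⟩) | ⟨y, hy, e⟩) | ⟨y, hy, e⟩ <;>
    exact ⟨y, hy.1, le_of_eq_of_le hy.2 (by norm_num), congr2_symm (hf y hy.1 x hx e)⟩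

end Cfsg.Agent.Lib.Leech

namespace Cfsg.Agent.Lib.Leech

open Cfsg
open Cfsg.Agent.Lib

/-- The lattice is generated by its shortest vectors. -/
theorem closure_norm32 :
    AddSubgroup.closure {x : GolayPt → ℤ | x ∈ leechLattice ∧ sqNorm x = 32} = leechLattice := by
  set M := AddSubgroup.closure {x : GolayPt → ℤ | x ∈ leechLattice ∧ sqNorm x = 32} with hM
  have hle : M ≤ leechLattice := (AddSubgroup.closure_le _).2 fun x hx => hx.1
  refine le_antisymm hle ?_
  have h32 : ∀ v : leechLattice, sqNorm (v : GolayPt → ℤ) = 32 → (v : GolayPt → ℤ) ∈ M :=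
    fun v h => AddSubgroup.subset_closure ⟨v.2, h⟩
  have hsum : ∀ (g : Co0) (a b : leechLattice), sqNorm (a : GolayPt → ℤ) = 32 →
      sqNorm (b : GolayPt → ℤ) = 32 → ((g • (a + b) : leechLattice) : GolayPt → ℤ) ∈ M := by
    intro g a b ha hb
    rw [smul_add', AddSubgroup.coe_add]
    exact add_mem (h32 _ ((sqNorm_smul g a).trans ha)) (h32 _ ((sqNorm_smul g b).trans hb))
  have h48 : ∀ x ∈ leechLattice, sqNorm x = 48 → x ∈ M := by
    intro x hx hn
    have hc := ncard_pairSet (n := 8) (by norm_num) (by norm_num) (-2)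
    rw [lineCount_eval.2.1] at hc
    obtain ⟨⟨a, b⟩, ha, hb, hab⟩ := Set.nonempty_of_ncard_ne_zero (hc.trans_ne (by norm_num))
    norm_num at ha hb hab
    obtain ⟨g, hg⟩ := exists_smul48 (a + b) ⟨x, hx⟩
      (by rw [AddSubgroup.coe_add, dotInt_add_self, ha, hb, hab]; norm_num) hn
    simpa [hg] using hsum g a b ha hb
  have h64 : ∀ x ∈ leechLattice, sqNorm x = 64 → x ∈ M := by
    intro x hx hn
    have e : pt8 none = baseU + ⟨vecPM, vecPM_line.1⟩ := Subtype.ext (funext fun k => by
      simp only [pt8, vec8, baseU, repA, vecPM, AddSubgroup.coe_add, Pi.add_apply, Pi.single_apply]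
      by_cases h : k = none
      · simp [h]
      · by_cases h' : k = some 0 <;> simp [h, h'])
    obtain ⟨g, hg⟩ := exists_smul64 (pt8 none) ⟨x, hx⟩ (sqNorm_vec8 none) hn
    have := hsum g baseU ⟨vecPM, vecPM_line.1⟩ sqNorm_repA vecPM_line.2.1
    rw [← e, hg] at this
    exact this
  have main : ∀ n : ℕ, ∀ x ∈ leechLattice, (sqNorm x).toNat ≤ n → x ∈ M := by
    intro n
    induction n using Nat.strong_induction_on with
    | _ n ih =>
      intro x hx hn
      have small : ∀ y ∈ leechLattice, sqNorm y ≤ 64 → y ∈ M := by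
        intro y hy hle'
        by_cases h0 : y = 0
        · rw [h0]; exact zero_mem M
        have := sqNorm_min hy h0
        have hd := sqNorm_dvd hy
        rcases (by omega : sqNorm y = 32 ∨ sqNorm y = 48 ∨ sqNorm y = 64) with h | h | h
        · exact h32 ⟨y, hy⟩ h
        · exact h48 y hy h
        · exact h64 y hy h
      by_cases hbig : sqNorm x ≤ 64
      · exact small x hx hbig
      obtain ⟨y, hy, hy64, z, hz, e⟩ := exists_short hx
      have key : 4 * sqNorm z ≤ 2 * sqNorm x + 2 * sqNorm y := by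
        simp only [sqNorm, Finset.mul_sum, ← Finset.sum_add_distrib]
        refine Finset.sum_le_sum fun i _ => ?_
        have := congrFun e i
        simp only [Pi.sub_apply, Pi.smul_apply, smul_eq_mul] at this
        have h2 : 4 * z i ^ 2 = (x i - y i) ^ 2 := by rw [this]; ring
        rw [h2]
        nlinarith [sq_nonneg (x i + y i)]
      have hz' : z ∈ M := ih (sqNorm z).toNat (by omega) z hz le_rfl
      rw [show x = y + (2 : ℤ) • z by rw [← e]; abel]
      exact add_mem (small y hy hy64) (AddSubgroup.zsmul_mem M hz' 2)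
  exact fun x hx => main _ x hx le_rfl

end Cfsg.Agent.Lib.Leech
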