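import Cfsg.Agent.Lib.Leech.SimplePairs

/-!
An involution of the stabiliser of two vectors of squared length 48 with dot product -32 fixing
none of the hundred vectors of squared length 32 attached to the pair: in coordinates, `x ↦ -1/x`
on two vectors supported on one dodecad.
-/

set_option autoImplicit false

namespace Cfsg.Agent.Lib.Leech

open Cfsg
open Cfsg.Agent.Lib
open scoped Pointwise

/-- Representatives of the twelve pairs `{x, -1/x}`: five on the dodecad, one further pair on it,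
six outside. -/
def pairRep : Fin 12 → GolayPt :=
  ![some 1, some 3, some 4, some 6, some 7, some 14, some 0, some 2, some 5, some 8, some 10, some 12]

/-- The first vector. -/
def hsV : GolayPt → ℤ := fun p =>
  if ∃ i : Fin 12, i.val < 6 ∧ (p = pairRep i ∨ p = projInv (pairRep i)) then 2 else 0

/-- The second vector. -/
def hsW : GolayPt → ℤ := fun p =>
  if p = some 14 ∨ p = some 18 then 2
  else if ∃ i : Fin 12, i.val < 5 ∧ (p = pairRep i ∨ p = projInv (pairRep i)) then -2 else 0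

theorem hs_vec_check : leechChk hsV = true ∧ leechChk hsW = true ∧ sqNorm hsV = 48 ∧
    sqNorm hsW = 48 ∧ dotInt hsV hsW = -32 ∧ (∀ i, hsV (projInv i) = hsV i) ∧
    (∀ i, hsW (projInv i) = hsW i) ∧ (∀ i, hsV (pairRep i) = if i.val < 6 then 2 else 0) ∧
    (∀ i, hsW (pairRep i) = if i.val < 5 then -2 else if i.val = 5 then 2 else 0) := by
  decide +kernel

theorem pairRep_bijective : Function.Bijective
    (Sum.elim pairRep (fun i => projInv (pairRep i)) : Fin 12 ⊕ Fin 12 → GolayPt) := by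
  decide +kernel

theorem sum_pairs (f : GolayPt → ℤ) :
    ∑ i, f i = ∑ i : Fin 12, (f (pairRep i) + f (projInv (pairRep i))) := by
  rw [← Fintype.sum_bijective _ pairRep_bijective (fun x => f (Sum.elim pairRep _ x)) f fun _ => rfl,
    Fintype.sum_sum_type, Finset.sum_add_distrib]
  rfl

theorem sum_twelve (f : Fin 12 → ℤ) : ∑ i, f i =
    f 0 + f 1 + f 2 + f 3 + f 4 + f 5 + f 6 + f 7 + f 8 + f 9 + f 10 + f 11 := by
  simp only [Fin.sum_univ_succ, Fin.sum_univ_zero, add_zero, add_assoc]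
  rfl

theorem five_check : ∀ a b c d e : Fin 5,
    ((a.val : ℤ) - 2) + ((b.val : ℤ) - 2) + ((c.val : ℤ) - 2) + ((d.val : ℤ) - 2) + ((e.val : ℤ) - 2) = 3 →
    ((a.val : ℤ) - 2) ^ 2 + ((b.val : ℤ) - 2) ^ 2 + ((c.val : ℤ) - 2) ^ 2 + ((d.val : ℤ) - 2) ^ 2 +
      ((e.val : ℤ) - 2) ^ 2 ≤ 4 →
    ((a.val : ℤ) - 2) ^ 2 + ((b.val : ℤ) - 2) ^ 2 + ((c.val : ℤ) - 2) ^ 2 + ((d.val : ℤ) - 2) ^ 2 +
      ((e.val : ℤ) - 2) ^ 2 = 3 ∧
    ([a, b, c, d, e].countP fun x : Fin 5 => x.val % 2 == 1) = 3 := by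
  decide +kernel

/-- The word of an invariant pattern. -/
def patternDot (p : Fin 12 → Bool) (t : ZMod 23) : ZMod 2 :=
  ∑ i : Fin 12, if p i then qrWord t (pairRep i) + qrWord t (projInv (pairRep i)) else 0

/-- The pattern with five parts on the dodecad and at most one outside. -/
def mkPattern (a b c d e : Bool) (j : Fin 7) : Fin 12 → Bool := fun i =>
  match i.val with
  | 0 => a | 1 => b | 2 => c | 3 => d | 4 => e | 5 => false
  | n + 6 => n == j.val

theorem pattern_check : ∀ (a b c d e : Bool) (j : Fin 7),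
    ([a, b, c, d, e].countP fun x : Bool => x) = 3 →
      ∃ t : Fin 23, patternDot (mkPattern a b c d e j) (t.val : ZMod 23) ≠ 0 := by
  decide +kernel

theorem no_fixed {y : GolayPt → ℤ} (hy : y ∈ leechLattice) (hinv : ∀ i, y (projInv i) = y i)
    (hn : sqNorm y = 32) (hv : dotInt hsV y = 24) (hw' : dotInt hsW y = -24) : False := by
  obtain ⟨-, -, -, -, -, hVi, hWi, hVr, hWr⟩ := hs_vec_check
  set h : Fin 12 → ℤ := fun i => y (pairRep i) with hh
  have e1 : ∑ i : Fin 12, (h i ^ 2 + h i ^ 2) = 32 := by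
    rw [← hn, sqNorm, sum_pairs fun i => y i ^ 2]
    exact Finset.sum_congr rfl fun i _ => by rw [hinv]
  have e2 : ∑ i : Fin 12, (hsV (pairRep i) * h i + hsV (pairRep i) * h i) = 24 := by
    rw [← hv, dotInt, sum_pairs fun i => hsV i * y i]
    exact Finset.sum_congr rfl fun i _ => by rw [hinv, hVi]
  have e3 : ∑ i : Fin 12, (hsW (pairRep i) * h i + hsW (pairRep i) * h i) = -24 := by
    rw [← hw', dotInt, sum_pairs fun i => hsW i * y i]
    exact Finset.sum_congr rfl fun i _ => by rw [hinv, hWi]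
  simp only [sum_twelve, hVr, hWr] at e2 e3
  simp at e2 e3
  simp only [sum_twelve] at e1
  have h5 : h 5 = 0 := by omega
  obtain ⟨heven, -, hcode⟩ : (∀ i, y i % 2 = 0) ∧ (∑ i, y i) % 8 = 0 ∧ hw y ∈ golayCode := by
    rcases mem_leech_iff.1 hy with h' | ⟨h', -, -⟩
    · exact h'
    · have := h' (pairRep 5)
      change h 5 % 2 = 1 at this
      omega
  have hk : ∀ i, ∃ k : ℤ, h i = 2 * k := fun i =>
    ⟨h i / 2, by have := heven (pairRep i); simp only [hh]; omega⟩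
  choose k hk using hk
  have hk5 : k 5 = 0 := by have := hk 5; omega
  have s2 : k 0 ^ 2 + k 1 ^ 2 + k 2 ^ 2 + k 3 ^ 2 + k 4 ^ 2 +
      (k 6 ^ 2 + k 7 ^ 2 + k 8 ^ 2 + k 9 ^ 2 + k 10 ^ 2 + k 11 ^ 2) = 4 := by
    simp only [hk, mul_pow] at e1
    have : k 5 ^ 2 = 0 := by rw [hk5]; norm_num
    linarith
  have s1 : k 0 + k 1 + k 2 + k 3 + k 4 = 3 := by
    simp only [hk] at e2
    omega
  have hb : ∀ z : ℤ, z ^ 2 ≤ 4 → ∃ f : Fin 5, z = (f.val : ℤ) - 2 := fun z hz => by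
    have : -2 ≤ z ∧ z ≤ 2 := ⟨by nlinarith, by nlinarith⟩
    exact ⟨⟨(z + 2).toNat, by omega⟩, by simp only; omega⟩
  have pos : ∀ i, 0 ≤ k i ^ 2 := fun i => sq_nonneg _
  obtain ⟨a, ha⟩ := hb (k 0) (by linarith [pos 1, pos 2, pos 3, pos 4, pos 6, pos 7, pos 8, pos 9, pos 10, pos 11])
  obtain ⟨b, hb1⟩ := hb (k 1) (by linarith [pos 0, pos 2, pos 3, pos 4, pos 6, pos 7, pos 8, pos 9, pos 10, pos 11])
  obtain ⟨c, hc⟩ := hb (k 2) (by linarith [pos 1, pos 0, pos 3, pos 4, pos 6, pos 7, pos 8, pos 9, pos 10, pos 11])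
  obtain ⟨d, hd⟩ := hb (k 3) (by linarith [pos 1, pos 2, pos 0, pos 4, pos 6, pos 7, pos 8, pos 9, pos 10, pos 11])
  obtain ⟨e, he⟩ := hb (k 4) (by linarith [pos 1, pos 2, pos 3, pos 0, pos 6, pos 7, pos 8, pos 9, pos 10, pos 11])
  rw [ha, hb1, hc, hd, he] at s1 s2
  obtain ⟨h3, hcnt⟩ := five_check a b c d e s1 (by linarith [pos 6, pos 7, pos 8, pos 9, pos 10, pos 11])
  have hout : k 6 ^ 2 + k 7 ^ 2 + k 8 ^ 2 + k 9 ^ 2 + k 10 ^ 2 + k 11 ^ 2 = 1 := by linarith
  have hu : ∀ i, k i ^ 2 ≤ 1 → k i = 0 ∨ k i = 1 ∨ k i = -1 := fun i hi => by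
    have : -1 ≤ k i ∧ k i ≤ 1 := ⟨by nlinarith, by nlinarith⟩
    omega
  let p : Fin 12 → Bool := fun i => decide (k i % 2 = 1)
  obtain ⟨j, hj⟩ : ∃ j : Fin 7, p = mkPattern (decide (k 0 % 2 = 1)) (decide (k 1 % 2 = 1))
      (decide (k 2 % 2 = 1)) (decide (k 3 % 2 = 1)) (decide (k 4 % 2 = 1)) j := by
    have h6 := hu 6 (by linarith [pos 7, pos 8, pos 9, pos 10, pos 11])
    have h7 := hu 7 (by linarith [pos 6, pos 8, pos 9, pos 10, pos 11])
    have h8 := hu 8 (by linarith [pos 7, pos 6, pos 9, pos 10, pos 11])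
    have h9 := hu 9 (by linarith [pos 7, pos 8, pos 6, pos 10, pos 11])
    have h10 := hu 10 (by linarith [pos 7, pos 8, pos 9, pos 6, pos 11])
    have h11 := hu 11 (by linarith [pos 7, pos 8, pos 9, pos 10, pos 6])
    refine ⟨if k 6 ≠ 0 then 0 else if k 7 ≠ 0 then 1 else if k 8 ≠ 0 then 2 else if k 9 ≠ 0 then 3
      else if k 10 ≠ 0 then 4 else 5, funext fun i => ?_⟩
    rcases h6 with u6 | u6 | u6 <;> rcases h7 with u7 | u7 | u7 <;> rcases h8 with u8 | u8 | u8 <;>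
      rcases h9 with u9 | u9 | u9 <;> rcases h10 with u10 | u10 | u10 <;>
      rcases h11 with u11 | u11 | u11 <;> rw [u6, u7, u8, u9, u10, u11] at hout <;>
      norm_num at hout <;>
      (fin_cases i <;> simp [p, mkPattern, u6, u7, u8, u9, u10, u11, hk5])
  have hodd : ∀ f : Fin 5, (decide (((f.val : ℤ) - 2) % 2 = 1)) = (f.val % 2 == 1) := by decide
  obtain ⟨t, ht⟩ := pattern_check (decide (k 0 % 2 = 1)) (decide (k 1 % 2 = 1))
    (decide (k 2 % 2 = 1)) (decide (k 3 % 2 = 1)) (decide (k 4 % 2 = 1)) j (by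
      rw [ha, hb1, hc, hd, he, hodd, hodd, hodd, hodd, hodd, ← hcnt]
      simp [List.countP_cons])
  refine ht ?_
  rw [← hj]
  have hdot := code_dot hcode
    (w := qrWord (t.val : ZMod 23)) (Submodule.subset_span (Set.mem_union_left _ ⟨_, rfl⟩))
  rw [← Fintype.sum_bijective _ pairRep_bijective
    (fun x => hw y (Sum.elim pairRep _ x) * qrWord (t.val : ZMod 23) (Sum.elim pairRep _ x))
    (fun i => hw y i * qrWord (t.val : ZMod 23) i) fun _ => rfl,
    Fintype.sum_sum_type, ← Finset.sum_add_distrib] at hdot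
  rw [patternDot]
  refine (Finset.sum_congr rfl fun i _ => ?_).trans hdot
  have hi : y (pairRep i) / 2 = k i := by
    have := hk i; simp only [hh] at this; omega
  simp only [Sum.elim_inl, Sum.elim_inr, hw, hinv, hi, p, decide_eq_true_eq]
  have hcast : ((k i : ℤ) : ZMod 2) = if k i % 2 = 1 then 1 else 0 := by
    split
    · rename_i h'
      exact (zmod2_cases _).resolve_left fun h0 => by
        rw [ZMod.intCast_zmod_eq_zero_iff_dvd] at h0; omega
    · rename_i h'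
      rw [ZMod.intCast_zmod_eq_zero_iff_dvd]; omega
  rw [hcast]
  split <;> simp

theorem exists_involution {v w : leechLattice} (hv : sqNorm (v : GolayPt → ℤ) = 48)
    (hw' : sqNorm (w : GolayPt → ℤ) = 48)
    (hd : dotInt (v : GolayPt → ℤ) (w : GolayPt → ℤ) = -32) :
    ∃ g : Co0, g • v = v ∧ g • w = w ∧ orderOf g = 2 ∧
      ∀ x : leechLattice, sqNorm (x : GolayPt → ℤ) = 32 →
        dotInt (v : GolayPt → ℤ) (x : GolayPt → ℤ) = 24 →
        dotInt (w : GolayPt → ℤ) (x : GolayPt → ℤ) = -24 → g • x ≠ x := by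
  obtain ⟨hV, hW, hV48, hW48, hVW, hVi, hWi, -, -⟩ := hs_vec_check
  let v0 : leechLattice := ⟨hsV, leechChk_sound hV⟩
  let w0 : leechLattice := ⟨hsW, leechChk_sound hW⟩
  have hpair : ∀ a b : leechLattice, sqNorm (a : GolayPt → ℤ) = 48 → sqNorm (b : GolayPt → ℤ) = 48 →
      dotInt (a : GolayPt → ℤ) (b : GolayPt → ℤ) = -32 → (-(a + b), a) ∈ pairSet 48 (-4) := by
    intro a b ha hb hab
    refine ⟨?_, ha, ?_⟩
    · show sqNorm ((-(a + b) : leechLattice) : GolayPt → ℤ) = 32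
      rw [AddSubgroup.coe_neg, sqNorm_neg, AddSubgroup.coe_add, dotInt_add_self, ha, hb, hab]; rfl
    · show dotInt ((-(a + b) : leechLattice) : GolayPt → ℤ) (a : GolayPt → ℤ) = 4 * (-4)
      have : dotInt ((-(a + b) : leechLattice) : GolayPt → ℤ) (a : GolayPt → ℤ)
          = -(sqNorm (a : GolayPt → ℤ) + dotInt (a : GolayPt → ℤ) (b : GolayPt → ℤ)) := by
        simp only [dotInt, sqNorm, AddSubgroup.coe_neg, AddSubgroup.coe_add, Pi.neg_apply,
          Pi.add_apply, ← Finset.sum_add_distrib, ← Finset.sum_neg_distrib]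
        exact Finset.sum_congr rfl fun i _ => by ring
      rw [this, ha, hab]; rfl
  obtain ⟨g0, hg0⟩ := exists_smul_pair connU_line48 (hpair v0 w0 hV48 hW48 hVW) (hpair v w hv hw' hd)
  rw [Prod.smul_mk, Prod.mk.injEq, smul_neg', neg_inj, smul_add'] at hg0
  obtain ⟨hsum, hg0v⟩ := hg0
  have hg0w : g0 • w0 = w := by rw [hg0v] at hsum; exact add_left_cancel hsum
  let π : M24 := ⟨projInv, Golay.projInv_mem_M24⟩
  have hπv : monoHom π • v0 = v0 := monoHom_fix_of hVi
  have hπw : monoHom π • w0 = w0 := monoHom_fix_of hWi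
  refine ⟨MulAut.conj g0 (monoHom π), ?_, ?_, ?_, fun x hx1 hx2 hx3 hfix => ?_⟩
  · rw [MulAut.conj_apply, ← hg0v, mul_smul, mul_smul, inv_smul_smul, hπv]
  · rw [MulAut.conj_apply, ← hg0w, mul_smul, mul_smul, inv_smul_smul, hπw]
  · rw [MulEquiv.orderOf_eq,
      orderOf_injective _ monoHom_injective, ← Subgroup.orderOf_coe]
    haveI : Fact (Nat.Prime 2) := ⟨Nat.prime_two⟩
    exact orderOf_eq_prime (by decide +kernel) (by decide +kernel)
  · rw [MulAut.conj_apply, mul_smul, mul_smul, ← eq_inv_smul_iff] at hfix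
    set y := g0⁻¹ • x with hy
    have hgy : g0 • y = x := smul_inv_smul g0 x
    refine no_fixed (y := (y : GolayPt → ℤ)) y.2 (apply_of_fixed hfix) ?_ ?_ ?_
    · rw [← sqNorm_smul g0 y, hgy, hx1]
    · rw [← hx2, ← hg0v, ← hgy, dotInt_smul]
    · rw [← hx3, ← hg0w, ← hgy, dotInt_smul]

end Cfsg.Agent.Lib.Leech
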