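import Cfsg.Agent.Lib.Leech.Orbits

/-!
The index of the lattice in the integer vectors: `2 ^ 36`, through the chain
`ℤ²⁴ ⊇ even vectors ⊇ code condition ⊇ even part of the lattice`.
-/

set_option autoImplicit false

namespace Cfsg.Agent.Lib.Leech

open Cfsg
open Cfsg.Agent.Lib

/-- Reduction modulo 2 of the coordinates. -/
def redTwo : (GolayPt → ℤ) →+ (GolayPt → ZMod 2) where
  toFun x := fun i => (x i : ZMod 2)
  map_zero' := funext fun i => by simp
  map_add' x y := funext fun i => by simp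

/-- The even vectors. -/
def evenVecs : AddSubgroup (GolayPt → ℤ) := redTwo.ker

theorem mem_evenVecs {x : GolayPt → ℤ} : x ∈ evenVecs ↔ ∀ i, x i % 2 = 0 := by
  simp only [evenVecs, AddMonoidHom.mem_ker, redTwo, AddMonoidHom.coe_mk, ZeroHom.coe_mk,
    funext_iff, Pi.zero_apply]
  refine forall_congr' fun i => ?_
  rw [ZMod.intCast_zmod_eq_zero_iff_dvd]
  omega

theorem redTwo_surjective : Function.Surjective redTwo := fun c =>
  ⟨fun i => ((c i).val : ℤ), funext fun i => by
    show (((c i).val : ℤ) : ZMod 2) = c i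
    rw [Int.cast_natCast, ZMod.natCast_zmod_val]⟩

theorem evenVecs_index : evenVecs.index = 2 ^ 24 := by
  rw [evenVecs, AddSubgroup.index_ker, AddMonoidHom.range_eq_top.2 redTwo_surjective,
    AddSubgroup.card_top, Nat.card_fun, Nat.card_zmod, Nat.card_eq_fintype_card,
    Golay.card_golayPt]

/-- The half word modulo the code. -/
def halfHom : evenVecs →+ (GolayPt → ZMod 2) ⧸ golayCode.toAddSubgroup :=
  (QuotientAddGroup.mk' _).comp
    { toFun := fun x => hw (x : GolayPt → ℤ)
      map_zero' := funext fun i => by simp [hw]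
      map_add' := fun x y => funext fun i => by
        have hx := mem_evenVecs.1 x.2 i
        have hy := mem_evenVecs.1 y.2 i
        simp only [hw, AddSubgroup.coe_add, Pi.add_apply]
        rw [← Int.cast_add]
        congr 1
        omega }

theorem halfHom_surjective : Function.Surjective halfHom := by
  intro q
  obtain ⟨c, rfl⟩ := QuotientAddGroup.mk'_surjective _ q
  refine ⟨⟨fun i => 2 * ((c i).val : ℤ), mem_evenVecs.2 fun i => by omega⟩, ?_⟩
  show QuotientAddGroup.mk' _ (hw fun i => 2 * ((c i).val : ℤ)) = _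
  congr 1
  funext i
  simp [hw]

/-- Even vectors with the code condition. -/
def codeVecs : AddSubgroup (GolayPt → ℤ) := halfHom.ker.map evenVecs.subtype

theorem mem_codeVecs {x : GolayPt → ℤ} :
    x ∈ codeVecs ↔ (∀ i, x i % 2 = 0) ∧ hw x ∈ golayCode := by
  constructor
  · rintro ⟨y, hy, rfl⟩
    exact ⟨mem_evenVecs.1 y.2, (QuotientAddGroup.eq_zero_iff _).1 hy⟩
  · rintro ⟨h1, h2⟩
    exact ⟨⟨x, mem_evenVecs.2 h1⟩, (QuotientAddGroup.eq_zero_iff _).2 h2, rfl⟩

theorem card_code_quot :
    Nat.card ((GolayPt → ZMod 2) ⧸ golayCode.toAddSubgroup) = 4096 := by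
  have h := AddSubgroup.card_eq_card_quotient_mul_card_addSubgroup golayCode.toAddSubgroup
  have e1 : Nat.card golayCode.toAddSubgroup = 4096 := Golay.card_golayCode
  have e2 : Nat.card (GolayPt → ZMod 2) = 16777216 := by
    rw [Nat.card_fun, Nat.card_zmod, Nat.card_eq_fintype_card, Golay.card_golayPt]; norm_num
  rw [e1, e2] at h
  omega

theorem codeVecs_index : codeVecs.index = 2 ^ 36 := by
  rw [codeVecs, AddSubgroup.index_map_subtype, evenVecs_index, AddSubgroup.index_ker,
    AddMonoidHom.range_eq_top.2 halfHom_surjective, AddSubgroup.card_top, card_code_quot]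
  norm_num

theorem codeVecs_sum {x : GolayPt → ℤ} (hx : x ∈ codeVecs) : (4 : ℤ) ∣ ∑ i, x i := by
  obtain ⟨h1, h2⟩ := mem_codeVecs.1 hx
  obtain ⟨k, hk⟩ := code_weight_dvd h2
  change (support₂ (hw x)).card = _ at hk
  have e : ∀ i, x i = 4 * ((x i / 2) / 2) + 2 * (if i ∈ support₂ (hw x) then 1 else 0) := by
    intro i
    have := h1 i
    simp only [support₂_iff]
    have hh : hw x i = 1 ↔ x i / 2 % 2 = 1 := by
      rw [← intCast_zmod2_ne_zero]
      simp only [hw]
      rcases zmod2_cases ((x i / 2 : ℤ) : ZMod 2) with e | e <;> rw [e] <;> decide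
    simp only [hh]
    split <;> omega
  rw [Finset.sum_congr rfl fun i _ => e i, Finset.sum_add_distrib, ← Finset.mul_sum,
    ← Finset.mul_sum, Finset.sum_boole, Finset.filter_mem_eq_inter, Finset.univ_inter, hk]
  refine dvd_add (dvd_mul_right _ _) ⟨2 * (k : ℤ), ?_⟩
  push_cast; ring

/-- A quarter of the coordinate sum, modulo 2. -/
def sumHom : codeVecs →+ ZMod 2 where
  toFun x := (((∑ i, (x : GolayPt → ℤ) i) / 4 : ℤ) : ZMod 2)
  map_zero' := by simp
  map_add' x y := by
    rw [← Int.cast_add]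
    congr 1
    obtain ⟨a, ha⟩ := codeVecs_sum x.2
    obtain ⟨b, hb⟩ := codeVecs_sum y.2
    simp only [AddSubgroup.coe_add, Pi.add_apply, Finset.sum_add_distrib, ha, hb]
    omega

theorem sumHom_surjective : Function.Surjective sumHom := by
  intro z
  rcases zmod2_cases z with rfl | rfl
  · exact ⟨0, map_zero _⟩
  · refine ⟨⟨Pi.single none 4, mem_codeVecs.2 ⟨fun i => by rw [Pi.single_apply]; split <;> rfl,
      ?_⟩⟩, ?_⟩
    · rw [show hw (Pi.single none 4) = 0 from funext fun i => by
        simp only [hw, Pi.single_apply, Pi.zero_apply]; split <;> decide]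
      exact zero_mem _
    · show (((∑ i, (Pi.single none 4 : GolayPt → ℤ) i) / 4 : ℤ) : ZMod 2) = 1
      simp

/-- The even part of the lattice. -/
def evenPart : AddSubgroup (GolayPt → ℤ) := sumHom.ker.map codeVecs.subtype

theorem evenPart_index : evenPart.index = 2 ^ 37 := by
  rw [evenPart, AddSubgroup.index_map_subtype, codeVecs_index, AddSubgroup.index_ker,
    AddMonoidHom.range_eq_top.2 sumHom_surjective, AddSubgroup.card_top, Nat.card_zmod]
  norm_num

/-- The parity of the lattice vectors. -/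
def parityHom : leechLattice →+ ZMod 2 :=
  (Pi.evalAddMonoidHom (fun _ : GolayPt => ZMod 2) none).comp (redTwo.comp leechLattice.subtype)

theorem evenPart_eq : evenPart = parityHom.ker.map leechLattice.subtype := by
  ext x
  constructor
  · rintro ⟨y, hy, rfl⟩
    obtain ⟨h1, h2⟩ := mem_codeVecs.1 y.2
    obtain ⟨a, ha⟩ := codeVecs_sum y.2
    have hy' : (((∑ i, (y : GolayPt → ℤ) i) / 4 : ℤ) : ZMod 2) = 0 := hy
    rw [ZMod.intCast_zmod_eq_zero_iff_dvd] at hy'
    refine ⟨⟨_, mem_leech_iff.2 (Or.inl ⟨h1, by omega, h2⟩)⟩, ?_, rfl⟩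
    show (((y : GolayPt → ℤ) none : ℤ) : ZMod 2) = 0
    rw [ZMod.intCast_zmod_eq_zero_iff_dvd]
    have := h1 none
    omega
  · rintro ⟨y, hy, rfl⟩
    have hy' : (((y : GolayPt → ℤ) none : ℤ) : ZMod 2) = 0 := hy
    rw [ZMod.intCast_zmod_eq_zero_iff_dvd] at hy'
    rcases mem_leech_iff.1 y.2 with ⟨h1, h2, h3⟩ | ⟨h1, -, -⟩
    · refine ⟨⟨_, mem_codeVecs.2 ⟨h1, h3⟩⟩, ?_, rfl⟩
      show (((∑ i, (y : GolayPt → ℤ) i) / 4 : ℤ) : ZMod 2) = 0
      rw [ZMod.intCast_zmod_eq_zero_iff_dvd]
      omega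
    · have := h1 none
      omega

theorem leech_index : leechLattice.index = 2 ^ 36 := by
  have hs : Function.Surjective parityHom := fun z => by
    rcases zmod2_cases z with rfl | rfl
    · exact ⟨0, map_zero _⟩
    · exact ⟨⟨vec31 none, vec31_mem none⟩, by
        show ((vec31 none none : ℤ) : ZMod 2) = 1
        decide⟩
  have h := evenPart_index
  rw [evenPart_eq, AddSubgroup.index_map_subtype, AddSubgroup.index_ker,
    AddMonoidHom.range_eq_top.2 hs, AddSubgroup.card_top, Nat.card_zmod] at h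
  omega

end Cfsg.Agent.Lib.Leech
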