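import Cfsg.Agent.Lib.Leech.ConfigHSGen
import Cfsg.Agent.Lib.Leech.Line48Data

/-!
The minimal vectors with dot product `-16` with a vector of squared length 48: there are 11178,
the stabiliser is transitive on them, and its point stabiliser has four further orbits, of sizes
352, 1100, 4125 and 5600.

Each of the four orbits is bounded below by double counting against the 100 vectors of the
configuration: every one of the 100 is moved to the base point, above which part of the orbit is
given by a tree. The bounds add up to 11177, so all of them are equalities.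
-/

set_option autoImplicit false
set_option maxRecDepth 20000

namespace Cfsg.Agent.Lib.Leech

open Cfsg
open Cfsg.Agent.Lib

/-- The minimal vectors with dot product `-16` with `u`. -/
def line48Set (u : leechLattice) : Set leechLattice :=
  {y | sqNorm (y : GolayPt → ℤ) = 32 ∧ dotInt (u : GolayPt → ℤ) (y : GolayPt → ℤ) = -16}

theorem exists_line48_frame {u x u' x' : leechLattice} (hu : sqNorm (u : GolayPt → ℤ) = 48)
    (hx : x ∈ line48Set u) (hu' : sqNorm (u' : GolayPt → ℤ) = 48) (hx' : x' ∈ line48Set u') :
    ∃ g : Co0, g • x = x' ∧ g • u = u' := by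
  have key : ∀ a b : leechLattice, sqNorm (a : GolayPt → ℤ) = 48 → b ∈ line48Set a →
      (b, a) ∈ pairSet 48 (-4) := fun a b ha hb =>
    ⟨hb.1, ha, (dotInt_comm _ _).trans (hb.2.trans (by norm_num))⟩
  exact exists_smul_two (fun h h' => connU_line48 h h') (key u x hu hx) (key u' x' hu' hx')

theorem line48_transitive {u x x' : leechLattice} (hu : sqNorm (u : GolayPt → ℤ) = 48)
    (hx : x ∈ line48Set u) (hx' : x' ∈ line48Set u) : ∃ g : Co0, g • u = u ∧ g • x = x' := by
  obtain ⟨g, h1, h2⟩ := exists_line48_frame hu hx hu hx'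
  exact ⟨g, h2, h1⟩

/-- `(4, -4, 0²²)`. -/
noncomputable def hsBaseX : leechLattice := -(hsBaseV + hsBaseW)

theorem hsBaseX_mem : hsBaseX ∈ line48Set hsBaseV := by
  have h : sqNorm (-(hsVecV + hsVecW)) = 32 ∧ dotInt hsVecV (-(hsVecV + hsVecW)) = -16 := by
    decide +kernel
  exact h

theorem exists_mem_line48 (u : leechLattice) (hu : sqNorm (u : GolayPt → ℤ) = 48) :
    ∃ x, x ∈ line48Set u := by
  obtain ⟨g, hg⟩ := exists_smul48 hsBaseV u hsVec_check.2.2.1 hu
  refine ⟨g • hsBaseX, (sqNorm_smul g _).trans hsBaseX_mem.1, ?_⟩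
  rw [← hg, dotInt_smul]; exact hsBaseX_mem.2

theorem pairStab_line48 : pairStab hsBaseV hsBaseX = pairStab hsBaseV hsBaseW := by
  refine Eq.trans ?_ (stab_sum_eq hsBaseV hsBaseW).symm
  exact inf_comm _ _

theorem ncard_line48 (u : leechLattice) (hu : sqNorm (u : GolayPt → ℤ) = 48) :
    (line48Set u).ncard = 11178 := by
  obtain ⟨x, hx⟩ := exists_mem_line48 u hu
  have horb : MulAction.orbit (MulAction.stabilizer Co0 u) x = line48Set u := by
    ext y
    constructor
    · rintro ⟨g, rfl⟩
      refine ⟨(sqNorm_smul g.1 x).trans hx.1, ?_⟩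
      have h := dotInt_smul g.1 u x
      rw [show g.1 • u = u from g.2] at h
      exact h.trans hx.2
    · intro hy
      obtain ⟨g, h1, h2⟩ := line48_transitive hu hx hy
      exact ⟨⟨g, h1⟩, h2⟩
  obtain ⟨g, hg1, hg2⟩ := exists_line48_frame hsVec_check.2.2.1 hsBaseX_mem hu hx
  have hh : Nat.card ↥(MulAction.stabilizer Co0 u ⊓ MulAction.stabilizer Co0 x) = 44352000 := by
    have e := card_stab_HS (v := u) (w := g • hsBaseW) hu
      ((sqNorm_smul g _).trans hsVec_check.2.2.2.1)
      (by rw [← hg2, dotInt_smul]; exact hsVec_check.2.2.2.2)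
    rw [stab_sum_eq] at e
    rw [inf_comm]
    have : x = -(u + g • hsBaseW) := by
      rw [← hg1, hsBaseX, smul_neg', smul_add', hg2]
    rw [this]
    exact e
  have h := ncard_stab_orbit u x
  rw [horb, hh, card_stab48 hu] at h
  omega

theorem finite_line48 (u : leechLattice) (hu : sqNorm (u : GolayPt → ℤ) = 48) :
    (line48Set u).Finite :=
  Set.finite_of_ncard_ne_zero (by rw [ncard_line48 u hu]; norm_num)

/-- The orbit of a coded vector under the stabiliser of the base pair. -/
def line48Orbit (root : List ℤ) : Set leechLattice :=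
  MulAction.orbit ↥(pairStab hsBaseV hsBaseX) (denL root)

/-- A small key, distinct on the nodes of each tree. -/
def line48Key (c : List ℤ) : ℕ :=
  (c.foldl (fun acc x => acc * 16 + (x + 8).toNat) 0) % 23243

/-- The checks for one orbit. -/
def line48Ok (root : List ℤ) (t : Orbit.OrbTree (List ℤ)) (d e : ℤ) (k A : ℕ) : Bool :=
  (root :: t.nodes).all (fun c => codeOk c &&
    decide (dotInt (ofList ConfigData.hsRoot0) (ofList c) = e)) &&
  Orbit.Coding.keysOk line48Key (root :: t.nodes) && decide ((root :: t.nodes).length = A) &&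
  decide ((hsCodes.filter fun c => decide (dotInt (ofList c) (ofList root) = e)).length = k) &&
  decide (sqNorm (ofList root) = 32) && decide (dotInt hsVecV (ofList root) = -16) &&
  decide (dotInt (-(hsVecV + hsVecW)) (ofList root) = d)

theorem line48Orbit_lower {root : List ℤ} {t : Orbit.OrbTree (List ℤ)} {d e : ℤ} {k A : ℕ}
    (hok : line48Ok root t d e k A = true)
    (htree : (pairCoding hsBaseV hsBaseW).treeOk ConfigData.hsGens root t = true) :
    100 * A ≤ k * (line48Orbit root).ncard := by
  classical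
  simp only [line48Ok, Bool.and_eq_true, decide_eq_true_eq] at hok
  obtain ⟨⟨⟨⟨⟨⟨hcodes, hnd⟩, hlen⟩, hk⟩, -⟩, -⟩, -⟩ := hok
  replace hnd := List.Nodup.of_map _ (Orbit.Coding.keysOk_nodup _ _ hnd)
  rw [List.all_eq_true] at hcodes
  simp only [Bool.and_eq_true, decide_eq_true_eq] at hcodes
  have hroot := (hcodes root List.mem_cons_self).1
  have hfinH : Finite ↥(pairStab hsBaseV hsBaseW) :=
    haveI := finite_co0; Subtype.finite
  set O : Set leechLattice := MulAction.orbit ↥(pairStab hsBaseV hsBaseW) (denL root) with hO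
  have hOeq : line48Orbit root = O := by rw [line48Orbit, pairStab_line48]
  have hOfin : O.Finite := Set.finite_range _
  have hPfin := hs_decomp.fin
  -- every point of the orbit meets exactly `k` of the 100
  have hbelow : ∀ y ∈ O, {p : leechLattice | p ∈ pairConfig hsBaseV hsBaseW 24 (-24) ∧
      dotInt (y : GolayPt → ℤ) (p : GolayPt → ℤ) = e}.ncard = k := by
    rintro y ⟨h, rfl⟩
    have h1 := ncard_part_smul h.1 hsBaseV hsBaseW (denL root) 24 (-24) (fun z _ => z = e)
      fun _ _ => Iff.rfl
    rw [show h.1 • hsBaseV = hsBaseV from h.2.1, show h.1 • hsBaseW = hsBaseW from h.2.2] at h1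
    refine h1.trans ?_
    rw [hs_decomp.codes_eq]
    refine Eq.trans ?_ hk
    exact ncard_codes hs_codeOk hs_checks.2.2.1
      (fun p => dotInt (denL root : GolayPt → ℤ) (p : GolayPt → ℤ) = e) _
      fun c hc => by
        rw [decide_eq_true_eq, denL_coe hroot, denL_coe (List.all_eq_true.1 hs_codeOk _ hc),
          dotInt_comm]
  -- above each of the 100 there are at least `A` points of the orbit
  have habove : ∀ p ∈ pairConfig hsBaseV hsBaseW 24 (-24),
      A ≤ {y : leechLattice | y ∈ O ∧ dotInt (p : GolayPt → ℤ) (y : GolayPt → ℤ) = e}.ncard := by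
    intro p hp
    obtain ⟨g, rfl⟩ := hs_transitive hp
    have hall : (root :: t.nodes).all codeOk = true :=
      List.all_eq_true.2 fun c hc => (hcodes c hc).1
    calc A = (((root :: t.nodes).map denL).toFinset : Set leechLattice).ncard := by
          rw [Set.ncard_coe_finset, List.toFinset_card_of_nodup (nodup_denL hall hnd),
            List.length_map, hlen]
      _ = ((fun y : leechLattice => g • y) ''
            (((root :: t.nodes).map denL).toFinset : Set leechLattice)).ncard :=
          (Set.ncard_image_of_injective _ (MulAction.injective g)).symm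
      _ ≤ _ := by
          refine Set.ncard_le_ncard ?_ (hOfin.subset fun y hy => hy.1)
          rintro _ ⟨y, hy, rfl⟩
          simp only [Finset.mem_coe, List.mem_toFinset, List.mem_map] at hy
          obtain ⟨c, hc, rfl⟩ := hy
          refine ⟨?_, ?_⟩
          · rcases List.mem_cons.1 hc with hcr | hcn
            · exact hcr ▸ ⟨g, rfl⟩
            · obtain ⟨h, -, e'⟩ := (pairCoding hsBaseV hsBaseW).treeOk_mem _
                ((pairCoding hsBaseV hsBaseW).gensFix_valid hs_fix) _
                ((pairCoding hsBaseV hsBaseW).gensFix_mem hs_fix) t root htree c hcn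
              refine ⟨g * h, ?_⟩
              show (g * h) • denL root = g • denL c
              rw [mul_smul]
              exact congrArg (fun z => g • z) e'
          · have h1 := dotInt_smul g.1 hsRoot (denL c)
            refine h1.trans ?_
            rw [hsRoot, denL_coe hs_checks.2.2.2.2.2.2.2.2, denL_coe (hcodes c hc).1]
            exact (hcodes c hc).2
  rw [hOeq]
  set r : leechLattice → leechLattice → Prop := fun p y =>
    dotInt (p : GolayPt → ℤ) (y : GolayPt → ℤ) = e with hr
  have key := Finset.sum_card_bipartiteAbove_eq_sum_card_bipartiteBelow (r := r)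
    (s := hPfin.toFinset) (t := hOfin.toFinset)
  have hleft : ∑ _p ∈ hPfin.toFinset, A
      ≤ ∑ p ∈ hPfin.toFinset, (hOfin.toFinset.bipartiteAbove r p).card := by
    refine Finset.sum_le_sum fun p hp => ?_
    refine (habove p (hPfin.mem_toFinset.1 hp)).trans (le_of_eq ?_)
    rw [← Set.ncard_coe_finset]
    congr 1
    ext y
    simp [Finset.bipartiteAbove, hr]
  have hright : ∑ y ∈ hOfin.toFinset, (hPfin.toFinset.bipartiteBelow r y).card
      = ∑ _y ∈ hOfin.toFinset, k := by
    refine Finset.sum_congr rfl fun y hy => ?_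
    rw [← hbelow y (hOfin.mem_toFinset.1 hy), ← Set.ncard_coe_finset]
    congr 1
    ext p
    simp [Finset.bipartiteBelow, hr, dotInt_comm]
  rw [key, hright] at hleft
  simp only [Finset.sum_const, smul_eq_mul] at hleft
  rw [← Set.ncard_eq_toFinset_card _ hPfin, ← Set.ncard_eq_toFinset_card _ hOfin, hs_ncard,
    mul_comm (O.ncard)] at hleft
  exact hleft

theorem line48_check0 : line48Ok Line48Data.root0 Line48Data.tree0 (-8) (-16) 50 176 = true := by
  decide +kernel

theorem line48_tree0 : (pairCoding hsBaseV hsBaseW).treeOk ConfigData.hsGens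
    Line48Data.root0 Line48Data.tree0 = true := by
  decide +kernel

theorem line48_check1 : line48Ok Line48Data.root1 Line48Data.tree1 16 (-16) 2 22 = true := by
  decide +kernel

theorem line48_tree1 : (pairCoding hsBaseV hsBaseW).treeOk ConfigData.hsGens
    Line48Data.root1 Line48Data.tree1 = true := by
  decide +kernel

theorem line48_check2 : line48Ok Line48Data.root2 Line48Data.tree2 0 0 8 330 = true := by
  decide +kernel

theorem line48_tree2 : (pairCoding hsBaseV hsBaseW).treeOk ConfigData.hsGens
    Line48Data.root2 Line48Data.tree2 = true := by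
  decide +kernel

theorem line48_check3 : line48Ok Line48Data.root3 Line48Data.tree3 8 (-16) 12 672 = true := by
  decide +kernel

theorem line48_tree3 : (pairCoding hsBaseV hsBaseW).treeOk ConfigData.hsGens
    Line48Data.root3 Line48Data.tree3 = true := by
  decide +kernel

theorem line48Orbit_sub {root : List ℤ} {t : Orbit.OrbTree (List ℤ)} {d e : ℤ} {k A : ℕ}
    (hok : line48Ok root t d e k A = true) :
    ∀ y ∈ line48Orbit root, y ∈ line48Set hsBaseV ∧
      dotInt (hsBaseX : GolayPt → ℤ) (y : GolayPt → ℤ) = d := by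
  simp only [line48Ok, Bool.and_eq_true, decide_eq_true_eq] at hok
  obtain ⟨⟨⟨⟨⟨⟨hcodes, -⟩, -⟩, -⟩, h1⟩, h2⟩, h3⟩ := hok
  rw [List.all_eq_true] at hcodes
  have hroot : codeOk root = true := by
    have := hcodes root List.mem_cons_self
    simp only [Bool.and_eq_true] at this
    exact this.1
  rintro y ⟨h, rfl⟩
  have hv := dotInt_smul h.1 hsBaseV (denL root)
  rw [show h.1 • hsBaseV = hsBaseV from h.2.1] at hv
  have hx := dotInt_smul h.1 hsBaseX (denL root)
  rw [show h.1 • hsBaseX = hsBaseX from h.2.2] at hx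
  refine ⟨⟨(sqNorm_smul h.1 _).trans ?_, hv.trans ?_⟩, hx.trans ?_⟩
  · rw [denL_coe hroot]; exact h1
  · rw [denL_coe hroot]; exact h2
  · rw [denL_coe hroot]; exact h3

theorem line48_suborbits_base :
    (line48Orbit Line48Data.root0).ncard = 352 ∧ (line48Orbit Line48Data.root1).ncard = 1100 ∧
    (line48Orbit Line48Data.root2).ncard = 4125 ∧ (line48Orbit Line48Data.root3).ncard = 5600 ∧
    line48Set hsBaseV = {hsBaseX} ∪ line48Orbit Line48Data.root0 ∪ line48Orbit Line48Data.root1 ∪
      line48Orbit Line48Data.root2 ∪ line48Orbit Line48Data.root3 := by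
  have c0 := line48_check0
  have c1 := line48_check1
  have c2 := line48_check2
  have c3 := line48_check3
  have t0 := line48_tree0
  have t1 := line48_tree1
  have t2 := line48_tree2
  have t3 := line48_tree3
  have l0 := line48Orbit_lower c0 t0
  have l1 := line48Orbit_lower c1 t1
  have l2 := line48Orbit_lower c2 t2
  have l3 := line48Orbit_lower c3 t3
  have s0 := line48Orbit_sub c0
  have s1 := line48Orbit_sub c1
  have s2 := line48Orbit_sub c2
  have s3 := line48Orbit_sub c3
  set O0 := line48Orbit Line48Data.root0 with h0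
  set O1 := line48Orbit Line48Data.root1 with h1
  set O2 := line48Orbit Line48Data.root2 with h2
  set O3 := line48Orbit Line48Data.root3 with h3
  have hS := finite_line48 hsBaseV hsVec_check.2.2.1
  have f0 : O0.Finite := hS.subset fun y hy => (s0 y hy).1
  have f1 : O1.Finite := hS.subset fun y hy => (s1 y hy).1
  have f2 : O2.Finite := hS.subset fun y hy => (s2 y hy).1
  have f3 : O3.Finite := hS.subset fun y hy => (s3 y hy).1
  have hxx : dotInt (hsBaseX : GolayPt → ℤ) (hsBaseX : GolayPt → ℤ) = 32 := by
    rw [dotInt_self]; exact hsBaseX_mem.1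
  have hsub : {hsBaseX} ∪ O0 ∪ O1 ∪ O2 ∪ O3 ⊆ line48Set hsBaseV := by
    rintro y ((((hy | hy) | hy) | hy) | hy)
    · rw [Set.mem_singleton_iff.1 hy]; exact hsBaseX_mem
    · exact (s0 y hy).1
    · exact (s1 y hy).1
    · exact (s2 y hy).1
    · exact (s3 y hy).1
  have hcard : ({hsBaseX} ∪ O0 ∪ O1 ∪ O2 ∪ O3).ncard
      = 1 + O0.ncard + O1.ncard + O2.ncard + O3.ncard := by
    rw [Set.ncard_union_eq ?_ (((Set.finite_singleton _).union f0 |>.union f1).union f2) f3,
      Set.ncard_union_eq ?_ ((Set.finite_singleton _).union f0 |>.union f1) f2,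
      Set.ncard_union_eq ?_ ((Set.finite_singleton _).union f0) f1,
      Set.ncard_union_eq ?_ (Set.finite_singleton _) f0, Set.ncard_singleton]
    · rw [Set.disjoint_left]
      intro y hy hy'
      rw [Set.mem_singleton_iff.1 hy] at hy'
      have := (s0 _ hy').2
      omega
    · rw [Set.disjoint_left]
      rintro y (hy | hy) hy' <;> have := (s1 _ hy').2
      · rw [Set.mem_singleton_iff.1 hy] at this; omega
      · have := (s0 _ hy).2; omega
    · rw [Set.disjoint_left]
      rintro y ((hy | hy) | hy) hy' <;> have := (s2 _ hy').2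
      · rw [Set.mem_singleton_iff.1 hy] at this; omega
      · have := (s0 _ hy).2; omega
      · have := (s1 _ hy).2; omega
    · rw [Set.disjoint_left]
      rintro y (((hy | hy) | hy) | hy) hy' <;> have := (s3 _ hy').2
      · rw [Set.mem_singleton_iff.1 hy] at this; omega
      · have := (s0 _ hy).2; omega
      · have := (s1 _ hy).2; omega
      · have := (s2 _ hy).2; omega
  have hle := Set.ncard_le_ncard hsub hS
  rw [ncard_line48 _ hsVec_check.2.2.1, hcard] at hle
  refine ⟨by omega, by omega, by omega, by omega, ?_⟩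
  refine (Set.eq_of_subset_of_ncard_le hsub ?_ hS).symm
  rw [ncard_line48 _ hsVec_check.2.2.1, hcard]
  omega

theorem orbit_pairStab_smul (g : Co0) (a b y : leechLattice) :
    MulAction.orbit ↥(pairStab (g • a) (g • b)) (g • y)
      = (fun z : leechLattice => g • z) '' MulAction.orbit ↥(pairStab a b) y := by
  ext z
  constructor
  · rintro ⟨⟨h, ha, hb⟩, rfl⟩
    refine ⟨(g⁻¹ * h * g) • y, ⟨⟨g⁻¹ * h * g, ?_, ?_⟩, rfl⟩, ?_⟩
    · show (g⁻¹ * h * g) • a = a
      rw [mul_smul, mul_smul, show h • g • a = g • a from ha, inv_smul_smul]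
    · show (g⁻¹ * h * g) • b = b
      rw [mul_smul, mul_smul, show h • g • b = g • b from hb, inv_smul_smul]
    · show g • (g⁻¹ * h * g) • y = h • g • y
      simp [mul_smul]
  · rintro ⟨_, ⟨⟨h, ha, hb⟩, rfl⟩, rfl⟩
    refine ⟨⟨g * h * g⁻¹, ?_, ?_⟩, ?_⟩
    · show (g * h * g⁻¹) • g • a = g • a
      rw [mul_smul, mul_smul, inv_smul_smul, show h • a = a from ha]
    · show (g * h * g⁻¹) • g • b = g • b
      rw [mul_smul, mul_smul, inv_smul_smul, show h • b = b from hb]
    · show (g * h * g⁻¹) • g • y = g • h • y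
      simp [mul_smul]

theorem line48Set_smul (g : Co0) (u : leechLattice) :
    line48Set (g • u) = (fun z : leechLattice => g • z) '' line48Set u := by
  ext y
  constructor
  · rintro ⟨h1, h2⟩
    refine ⟨g⁻¹ • y, ⟨(sqNorm_smul _ _).trans h1, ?_⟩, smul_inv_smul g y⟩
    rw [← dotInt_smul g, smul_inv_smul]; exact h2
  · rintro ⟨z, ⟨h1, h2⟩, rfl⟩
    exact ⟨(sqNorm_smul g z).trans h1, (dotInt_smul g u z).trans h2⟩

theorem line48_rank_five {u x : leechLattice} (hu : sqNorm (u : GolayPt → ℤ) = 48)
    (hx : x ∈ line48Set u) :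
    ∃ y₁ ∈ line48Set u, ∃ y₂ ∈ line48Set u, ∃ y₃ ∈ line48Set u, ∃ y₄ ∈ line48Set u,
      (MulAction.orbit ↥(pairStab u x) y₁).ncard = 352 ∧
      (MulAction.orbit ↥(pairStab u x) y₂).ncard = 1100 ∧
      (MulAction.orbit ↥(pairStab u x) y₃).ncard = 4125 ∧
      (MulAction.orbit ↥(pairStab u x) y₄).ncard = 5600 ∧
      line48Set u = {x} ∪ MulAction.orbit ↥(pairStab u x) y₁ ∪
        MulAction.orbit ↥(pairStab u x) y₂ ∪ MulAction.orbit ↥(pairStab u x) y₃ ∪
        MulAction.orbit ↥(pairStab u x) y₄ := by
  obtain ⟨g, hg1, hg2⟩ := exists_line48_frame hsVec_check.2.2.1 hsBaseX_mem hu hx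
  obtain ⟨n0, n1, n2, n3, heq⟩ := line48_suborbits_base
  subst hg1 hg2
  have hset := line48Set_smul g hsBaseV
  have himg : ∀ root, MulAction.orbit ↥(pairStab (g • hsBaseV) (g • hsBaseX)) (g • denL root)
      = (fun z : leechLattice => g • z) '' line48Orbit root :=
    fun root => orbit_pairStab_smul g hsBaseV hsBaseX (denL root)
  have hmem : ∀ root, line48Orbit root ⊆ line48Set hsBaseV →
      g • denL root ∈ line48Set (g • hsBaseV) := fun root h => by
    rw [hset]; exact ⟨_, h (MulAction.mem_orbit_self _), rfl⟩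
  refine ⟨g • denL Line48Data.root0, hmem _ ?_, g • denL Line48Data.root1, hmem _ ?_,
    g • denL Line48Data.root2, hmem _ ?_, g • denL Line48Data.root3, hmem _ ?_, ?_, ?_, ?_, ?_, ?_⟩
  · exact fun y hy => heq ▸ Or.inl (Or.inl (Or.inl (Or.inr hy)))
  · exact fun y hy => heq ▸ Or.inl (Or.inl (Or.inr hy))
  · exact fun y hy => heq ▸ Or.inl (Or.inr hy)
  · exact fun y hy => heq ▸ Or.inr hy
  · rw [himg, Set.ncard_image_of_injective _ (MulAction.injective g), n0]
  · rw [himg, Set.ncard_image_of_injective _ (MulAction.injective g), n1]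
  · rw [himg, Set.ncard_image_of_injective _ (MulAction.injective g), n2]
  · rw [himg, Set.ncard_image_of_injective _ (MulAction.injective g), n3]
  · rw [hset, himg, himg, himg, himg, heq]
    simp only [Set.image_union, Set.image_singleton]

end Cfsg.Agent.Lib.Leech
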