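import Cfsg.Agent.Lib.Leech.MonoStab
import Cfsg.Agent.Lib.Leech.Order

/-!
The classes of short vectors under the monomial elements, and their sizes.
-/

set_option autoImplicit false

namespace Cfsg.Agent.Lib.Leech

open Cfsg
open Cfsg.Agent.Lib
open scoped Pointwise

/-- The shell of squared length 32. -/
def shell32 : Set (GolayPt → ℤ) := {x | x ∈ leechLattice ∧ sqNorm x = 32}

/-- Pairs of fours. -/
def shell32A : Set (GolayPt → ℤ) := {x | x ∈ shell32 ∧ ∃ k, |x k| = 4}

/-- Odd vectors. -/
def shell32C : Set (GolayPt → ℤ) := {x | x ∈ shell32 ∧ ∀ k, x k % 2 = 1}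

theorem shell32_finite : shell32.Finite :=
  Set.finite_of_ncard_ne_zero (by rw [shell32, ncard_norm32]; norm_num)

theorem shell32_cases {K : Subgroup Co0} (hK : HasMono K) {x : GolayPt → ℤ} (hx : x ∈ shell32) :
    (x ∈ shell32A ∧ x ∉ shell32C ∧ ConnIn K x repA) ∨
    (x ∉ shell32A ∧ x ∉ shell32C ∧ ConnIn K x repB) ∨
    (x ∉ shell32A ∧ x ∈ shell32C ∧ ConnIn K x (vec31 none)) := by
  rcases shape32 hx.1 hx.2 with ⟨i, j, hij, hk⟩ | ⟨c, hc, h8, hk⟩ | ⟨j, hk⟩
  · refine Or.inl ⟨⟨hx, i, by rw [hk, if_pos (Or.inl rfl)]⟩, fun h => ?_, connIn_A hK hx.1 hij hk⟩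
    have := h.2 i
    have h4 := abs_cases (c := 4) (by norm_num) (show |x i| = 4 by rw [hk, if_pos (Or.inl rfl)])
    omega
  · refine Or.inr (Or.inl ⟨fun h => ?_, fun h => ?_, connIn_B hK hx.1 hc h8 hk⟩)
    · obtain ⟨k, h4⟩ := h.2
      rw [hk] at h4; split at h4 <;> omega
    · obtain ⟨k, hk'⟩ : ∃ k, c k = 1 := by
        obtain ⟨k, hk'⟩ := Finset.card_pos.1 (by omega : 0 < (support₂ c).card)
        exact ⟨k, support₂_iff.1 hk'⟩
      have := h.2 k
      have h2 := abs_cases (c := 2) (by norm_num) (show |x k| = 2 by rw [hk, if_pos hk'])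
      omega
  · refine Or.inr (Or.inr ⟨fun h => ?_, ⟨hx, fun k => ?_⟩, connIn_C hK hx.1 hk⟩)
    · obtain ⟨k, h4⟩ := h.2
      rw [hk] at h4; split at h4 <;> omega
    · have := hk k
      split at this
      · rcases abs_cases (by norm_num) this with e | e <;> rw [e] <;> norm_num
      · rcases abs_cases (by norm_num) this with e | e <;> rw [e] <;> norm_num

theorem ncard_shell32A : shell32A.ncard = 1104 := by
  have e : shell32A = (fun (y : GolayPt → ℤ) i => 2 * y i) '' halfSet 0 8 := by
    ext x
    constructor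
    · rintro ⟨⟨hx, hn⟩, k, h4⟩
      rcases shape32 hx hn with ⟨i, j, hij, hk⟩ | ⟨c, hc, h8, hk⟩ | ⟨j, hk⟩
      · have hev : ∀ k, x k = 4 ∨ x k = -4 ∨ x k = 0 := fun k => by
          have := hk k
          split at this
          · rcases abs_cases (by norm_num) this with q | q <;> simp [q]
          · simp [abs_eq_zero.1 this]
        refine ⟨fun i => x i / 2, ⟨⟨fun i => ?_, ?_⟩, ?_⟩,
          funext fun i => by show 2 * (x i / 2) = x i; have := hev i; omega⟩
        · rw [Pi.zero_apply, intCast_zmod2_eq_zero]; show x i / 2 % 2 = 0; have := hev i; omega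
        · have : sqNorm x = 4 * ∑ i, (x i / 2) ^ 2 := by
            rw [sqNorm, Finset.mul_sum]
            exact Finset.sum_congr rfl fun i _ => by
              conv_lhs => rw [show x i = 2 * (x i / 2) by have := hev i; omega]
              ring
          push_cast
          omega
        · have hs : ∑ i, x i = 2 * ∑ i, x i / 2 := by
            rw [Finset.mul_sum]; exact Finset.sum_congr rfl fun i _ => by have := hev i; omega
          rcases mem_leech_iff.1 hx with ⟨-, s, -⟩ | ⟨p, -, -⟩
          · show (∑ i, x i / 2) % 4 = 0; omega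
          · have := p none; have := hev none; omega
      · exfalso; rw [hk] at h4; split at h4 <;> omega
      · exfalso; rw [hk] at h4; split at h4 <;> omega
    · rintro ⟨y, ⟨⟨hp, hs⟩, h4⟩, rfl⟩
      have hmem : (fun i => 2 * y i) ∈ leechLattice :=
        two_mul_mem_leech h4 (by rw [show (fun i => (y i : ZMod 2)) = 0 from funext hp]; exact zero_mem _)
      have hn : sqNorm (fun i => 2 * y i) = 32 := by
        simp only [sqNorm, mul_pow, ← Finset.mul_sum, hs]; norm_num
      refine ⟨⟨hmem, hn⟩, ?_⟩
      have he : ∀ i, y i % 2 = 0 := fun i => intCast_zmod2_eq_zero.1 (hp i)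
      rcases shape32 hmem hn with ⟨i, j, hij, hk⟩ | ⟨c, hc, h8, hk⟩ | ⟨j, hk⟩
      · exact ⟨i, by rw [hk, if_pos (Or.inl rfl)]⟩
      · exfalso
        obtain ⟨k, hk'⟩ := Finset.card_pos.1 (by omega : 0 < (support₂ c).card)
        have := hk k
        rw [if_pos (support₂_iff.1 hk')] at this
        rcases abs_cases (by norm_num) this with q | q <;> have := he k <;> omega
      · exfalso
        have := hk j
        rw [if_pos rfl] at this
        rcases abs_cases (by norm_num) this with q | q <;> omega
  have h0 : evenCount 8 0 = 1104 := by decide +kernel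
  rw [e, Set.ncard_image_of_injective _
    (fun y y' h => funext fun i => by simpa using congrFun h i),
    ncard_halfSet (zero_mem _) (by norm_num) (by norm_num)]
  rw [show (support₂ (0 : GolayPt → ZMod 2)).card = 0 by simp [support₂]]
  exact h0

theorem vec31_chk : ∀ j : GolayPt, sqNorm (vec31 j) = 32 := by decide +kernel

theorem ncard_shell32C : shell32C.ncard = 98304 := by
  classical
  have himg : shell32C = (fun p : (GolayPt → ZMod 2) × GolayPt =>
      flipSign (support₂ p.1) (vec31 p.2)) ''
      ((golayCode : Set (GolayPt → ZMod 2)) ×ˢ Set.univ) := by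
    ext x
    constructor
    · rintro ⟨⟨hxm, hn⟩, h1⟩
      have hc : hw x ∈ golayCode := by
        rcases mem_leech_iff.1 hxm with ⟨p, -, -⟩ | ⟨-, -, c⟩
        · have := p none; have := h1 none; omega
        · exact c
      rcases shape32 hxm hn with ⟨i, j, hij, hk⟩ | ⟨c, -, h8, hk⟩ | ⟨j, hk⟩
      · exfalso
        have := h1 i
        rcases abs_cases (c := 4) (by norm_num) (show |x i| = 4 by rw [hk, if_pos (Or.inl rfl)])
          with q | q <;> omega
      · exfalso
        have := h1 none; have h := hk none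
        split at h <;> rcases abs_cases (by norm_num) h with q | q <;> omega
      refine ⟨(hw x, j), ⟨hc, trivial⟩, funext fun k => ?_⟩
      have hk' := hk k
      simp only [flipSign, support₂, Finset.mem_filter, Finset.mem_univ, true_and, hw,
        intCast_zmod2_ne_zero, vec31]
      split at hk' <;> rename_i hki <;> first | rw [if_pos hki] | rw [if_neg hki]
      all_goals rcases abs_choice (x k) with q | q <;> split <;> omega
    · rintro ⟨⟨c, j⟩, ⟨hc, -⟩, rfl⟩
      refine ⟨⟨flip_mem_leech hc (vec31_mem j), ?_⟩, fun k => ?_⟩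
      · exact Eq.trans (Finset.sum_congr rfl fun i _ => by simp only [flipSign]; split <;> ring)
          (vec31_chk j)
      · simp only [flipSign, vec31]; split <;> split <;> norm_num
  have hinj : Set.InjOn (fun p : (GolayPt → ZMod 2) × GolayPt => flipSign (support₂ p.1) (vec31 p.2))
      ((golayCode : Set (GolayPt → ZMod 2)) ×ˢ Set.univ) := by
    rintro ⟨c, j⟩ - ⟨c', j'⟩ - h
    have key : ∀ i, (i ∈ support₂ c ↔ i ∈ support₂ c') ∧ (i = j → i = j') := fun i => by
      have h' := congrFun h i
      simp only [flipSign, vec31] at h'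
      by_cases p : i ∈ support₂ c <;> by_cases q : i ∈ support₂ c'
      · rw [if_pos p, if_pos q] at h'
        refine ⟨iff_of_true p q, fun e => by_contra fun u' => ?_⟩
        rw [if_pos e, if_neg u'] at h'; omega
      · exfalso; rw [if_pos p, if_neg q] at h'; split_ifs at h' <;> omega
      · exfalso; rw [if_neg p, if_pos q] at h'; split_ifs at h' <;> omega
      · rw [if_neg p, if_neg q] at h'
        refine ⟨iff_of_false p q, fun e => by_contra fun u' => ?_⟩
        rw [if_pos e, if_neg u'] at h'; omega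
    exact Prod.ext (support₂_injective (Finset.ext fun i => (key i).1)) ((key j).2 rfl)
  rw [himg, hinj.ncard_image, Set.ncard_prod, Set.ncard_univ, ← Nat.card_coe_set_eq]
  rw [show Nat.card ↥(golayCode : Set (GolayPt → ZMod 2)) = 4096 from Cfsg.Agent.Lib.Golay.card_golayCode,
    Nat.card_eq_fintype_card]
  rfl

/-- Orbit lengths of a subgroup divide its order. -/
theorem ncard_orbit_dvd {X : Type*} [MulAction Co0 X] (K : Subgroup Co0) (x : X) :
    (MulAction.orbit K x).ncard ∣ Nat.card K := by
  rw [← Nat.card_coe_set_eq, Nat.card_congr (MulAction.orbitEquivQuotientStabilizer K x)]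
  exact Subgroup.card_quotient_dvd_card _

/-- Class sizes inside the line orthogonal to `(4, 4, 0²²)`. -/
def lineClassSize : List ℕ := [1, 1, 924, 2464, 2464, 42240, 22528, 22528]

theorem keys_orth :
    StabData.repsOrth.length = 8 ∧
    (∀ i j : Fin 8, keyVal (repVec StabData.repsOrth i.val) = keyVal (repVec StabData.repsOrth j.val)
      → i = j) ∧
    (List.range 8).map (fun i => keyVal (repVec StabData.repsOrth i)) =
      [(4, -4, true), (-4, 4, true), (0, 0, true), (2, -2, false), (-2, 2, false), (0, 0, false),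
        (1, -1, false), (-1, 1, false)] := by
  decide +kernel

/-- A class of the line. -/
def lineClass (i : ℕ) : Set (GolayPt → ℤ) :=
  {x | onLine 32 0 x ∧ keyVal x = keyVal (repVec StabData.repsOrth i)}

theorem lineClass_finite (i : ℕ) : (lineClass i).Finite :=
  shell32_finite.subset fun _ h => ⟨h.1.1, h.1.2.1⟩

theorem fixCount_vals : fixCount 8 4 (-4) = 1 ∧ fixCount 8 (-4) 4 = 1 ∧
    fixCount 8 2 (-2) = 2464 ∧ fixCount 8 (-2) 2 = 2464 ∧ fixCount 8 0 0 = 43164 ∧
    fixCount 8 1 (-1) = 22528 ∧ fixCount 8 (-1) 1 = 22528 ∧ halfFixCount 8 0 0 0 = 924 := by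
  decide +kernel

theorem line_keys {x : GolayPt → ℤ} (hx : onLine 32 0 x) :
    keyVal x ∈ (List.range 8).map (fun i => keyVal (repVec StabData.repsOrth i)) := by
  obtain ⟨i, hi, hs, -⟩ := class_orth x hx
  rw [keys_orth.1] at hi
  exact List.mem_map.2 ⟨i, List.mem_range.2 hi, (keyVal_eq_iff.2 hs).symm⟩

theorem line_fix {x : GolayPt → ℤ} (a b : ℤ) (flag : Bool) (hx : x ∈ fixSet 8 a b) (hab : a + b = 0)
    (huniq : ∀ k ∈ (List.range 8).map (fun i => keyVal (repVec StabData.repsOrth i)),
      k.1 = a → k.2.1 = b → k = (a, b, flag)) :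
    onLine 32 0 x ∧ keyVal x = (a, b, flag) := by
  obtain ⟨h1, h2, h3, h4⟩ := hx
  have hl : onLine 32 0 x := ⟨h1, h2, by omega⟩
  exact ⟨hl, huniq _ (line_keys hl) h3 h4⟩

theorem lineClass_eq_fixSet {i : ℕ} {a b : ℤ} {flag : Bool} (hab : a + b = 0)
    (hkey : keyVal (repVec StabData.repsOrth i) = (a, b, flag))
    (huniq : ∀ k ∈ (List.range 8).map (fun i => keyVal (repVec StabData.repsOrth i)),
      k.1 = a → k.2.1 = b → k = (a, b, flag)) :
    lineClass i = fixSet 8 a b := by
  ext x
  constructor
  · rintro ⟨⟨h1, h2, h3⟩, h4⟩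
    rw [hkey] at h4
    simp only [keyVal, Prod.mk.injEq] at h4
    exact ⟨h1, h2, h4.1, h4.2.1⟩
  · intro hx
    obtain ⟨h1, h2⟩ := line_fix a b flag hx hab huniq
    exact ⟨h1, h2.trans hkey.symm⟩

theorem ncard_lineClass2 : (lineClass 2).ncard = 924 := by
  have hkey : keyVal (repVec StabData.repsOrth 2) = (0, 0, true) := by decide +kernel
  have e : lineClass 2 = (fun (y : GolayPt → ℤ) i => 2 * y i) '' halfFix 0 8 0 0 := by
    ext x
    constructor
    · rintro ⟨⟨hx, hn, -⟩, hk⟩
      rw [hkey] at hk
      simp only [keyVal, Prod.mk.injEq, decide_eq_true_eq] at hk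
      obtain ⟨k1, k2, hk4⟩ := hk
      have hA : x ∈ shell32A := ⟨⟨hx, hn⟩, hk4⟩
      obtain ⟨k, h4⟩ := hk4
      rcases shape32 hx hn with ⟨i, j, hij, hk⟩ | ⟨c, hc, h8, hk⟩ | ⟨j, hk⟩
      · have hev : ∀ k, x k = 4 ∨ x k = -4 ∨ x k = 0 := fun k => by
          have := hk k
          split at this
          · rcases abs_cases (by norm_num) this with q | q <;> simp [q]
          · simp [abs_eq_zero.1 this]
        refine ⟨fun i => x i / 2, ⟨⟨⟨fun i => ?_, ?_⟩, ?_, ?_⟩, ?_⟩,
          funext fun i => by show 2 * (x i / 2) = x i; have := hev i; omega⟩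
        · rw [Pi.zero_apply, intCast_zmod2_eq_zero]; show x i / 2 % 2 = 0; have := hev i; omega
        · have : sqNorm x = 4 * ∑ i, (x i / 2) ^ 2 := by
            rw [sqNorm, Finset.mul_sum]
            exact Finset.sum_congr rfl fun i _ => by
              conv_lhs => rw [show x i = 2 * (x i / 2) by have := hev i; omega]
              ring
          push_cast
          omega
        · show x none / 2 = 0; omega
        · show x (some 0) / 2 = 0; omega
        · have hs : ∑ i, x i = 2 * ∑ i, x i / 2 := by
            rw [Finset.mul_sum]; exact Finset.sum_congr rfl fun i _ => by have := hev i; omega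
          rcases mem_leech_iff.1 hx with ⟨-, s, -⟩ | ⟨p, -, -⟩
          · show (∑ i, x i / 2) % 4 = 0; omega
          · have := p none; have := hev none; omega
      · exfalso; rw [hk] at h4; split at h4 <;> omega
      · exfalso; rw [hk] at h4; split at h4 <;> omega
    · rintro ⟨y, ⟨⟨hpar, h1, h2⟩, h4⟩, rfl⟩
      have hA : (fun i => 2 * y i) ∈ shell32A := by
        have : (fun i => 2 * y i) ∈ (fun (y : GolayPt → ℤ) i => 2 * y i) '' halfSet 0 8 :=
          ⟨y, ⟨hpar, h4⟩, rfl⟩
        obtain ⟨⟨hp, hs⟩, h4'⟩ := (show y ∈ halfSet 0 8 from ⟨hpar, h4⟩)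
        have hmem : (fun i => 2 * y i) ∈ leechLattice :=
          two_mul_mem_leech h4' (by
            rw [show (fun i => (y i : ZMod 2)) = 0 from funext hp]; exact zero_mem _)
        have hn : sqNorm (fun i => 2 * y i) = 32 := by
          simp only [sqNorm, mul_pow, ← Finset.mul_sum, hs]; norm_num
        have he : ∀ i, y i % 2 = 0 := fun i => intCast_zmod2_eq_zero.1 (hp i)
        refine ⟨⟨hmem, hn⟩, ?_⟩
        rcases shape32 hmem hn with ⟨i, j, hij, hk⟩ | ⟨c, hc, h8, hk⟩ | ⟨j, hk⟩
        · exact ⟨i, by rw [hk, if_pos (Or.inl rfl)]⟩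
        · exfalso
          obtain ⟨k, hk'⟩ := Finset.card_pos.1 (by omega : 0 < (support₂ c).card)
          have := hk k
          rw [if_pos (support₂_iff.1 hk')] at this
          rcases abs_cases (by norm_num) this with q | q <;> have := he k <;> omega
        · exfalso
          have := hk j
          rw [if_pos rfl] at this
          rcases abs_cases (by norm_num) this with q | q <;> omega
      refine ⟨⟨hA.1.1, hA.1.2, by show 2 * y none + 2 * y (some 0) = 0; omega⟩, ?_⟩
      rw [hkey]
      simp only [keyVal, Prod.mk.injEq, decide_eq_true_eq]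
      exact ⟨by omega, by omega, hA.2⟩
  rw [e, Set.ncard_image_of_injective _
    (fun y y' h => funext fun i => by simpa using congrFun h i),
    ncard_halfFix (zero_mem _) (by norm_num) (by simp) (by simp)]
  rw [show (restPts.filter fun i => (0 : GolayPt → ZMod 2) i = 1).card = 0 by simp]
  exact fixCount_vals.2.2.2.2.2.2.2

theorem ncard_lineClass : ∀ i < 8, (lineClass i).ncard = lineClassSize.getD i 0 := by
  obtain ⟨c0, c1, c3, c4, c5, c6, c7, -⟩ := fixCount_vals
  have hf : ∀ (i : ℕ) (a b : ℤ) (flag : Bool), a + b = 0 →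
      keyVal (repVec StabData.repsOrth i) = (a, b, flag) →
      (∀ k ∈ (List.range 8).map (fun i => keyVal (repVec StabData.repsOrth i)),
        k.1 = a → k.2.1 = b → k = (a, b, flag)) →
      (lineClass i).ncard = fixCount 8 a b := fun i a b flag h1 h2 h3 => by
    rw [lineClass_eq_fixSet h1 h2 h3, ncard_fixSet (by norm_num) (by norm_num)]
  intro i hi
  interval_cases i
  · exact (hf 0 4 (-4) true rfl (by decide +kernel) (by decide +kernel)).trans c0 |>.trans rfl
  · exact (hf 1 (-4) 4 true rfl (by decide +kernel) (by decide +kernel)).trans c1 |>.trans rfl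
  · exact ncard_lineClass2.trans rfl
  · exact (hf 3 2 (-2) false rfl (by decide +kernel) (by decide +kernel)).trans c3 |>.trans rfl
  · exact (hf 4 (-2) 2 false rfl (by decide +kernel) (by decide +kernel)).trans c4 |>.trans rfl
  · have hu : fixSet 8 0 0 = lineClass 2 ∪ lineClass 5 := by
      ext x
      constructor
      · intro hx
        have hl : onLine 32 0 x := ⟨hx.1, hx.2.1, by rw [hx.2.2.1, hx.2.2.2]; rfl⟩
        have e2 : keyVal (repVec StabData.repsOrth 2) = (0, 0, true) := by decide +kernel
        have e5 : keyVal (repVec StabData.repsOrth 5) = (0, 0, false) := by decide +kernel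
        by_cases h4 : ∃ k, |x k| = 4
        · left
          refine ⟨hl, ?_⟩
          rw [e2]
          simp only [keyVal, Prod.mk.injEq, decide_eq_true_eq]
          exact ⟨hx.2.2.1, hx.2.2.2, h4⟩
        · right
          refine ⟨hl, ?_⟩
          rw [e5]
          simp only [keyVal, Prod.mk.injEq, decide_eq_false_iff_not]
          exact ⟨hx.2.2.1, hx.2.2.2, h4⟩
      · have e2 : keyVal (repVec StabData.repsOrth 2) = (0, 0, true) := by decide +kernel
        have e5 : keyVal (repVec StabData.repsOrth 5) = (0, 0, false) := by decide +kernel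
        rintro (⟨⟨h1, h2, -⟩, hk⟩ | ⟨⟨h1, h2, -⟩, hk⟩) <;> [rw [e2] at hk; rw [e5] at hk] <;>
          simp only [keyVal, Prod.mk.injEq] at hk <;> exact ⟨h1, h2, hk.1, hk.2.1⟩
    have hd : Disjoint (lineClass 2) (lineClass 5) := Set.disjoint_left.2 fun x a b =>
      absurd (a.2.symm.trans b.2) (by decide +kernel)
    have h := ncard_fixSet (n := 8) (by norm_num) (by norm_num) 0 0
    rw [hu, Set.ncard_union_eq hd (lineClass_finite 2) (lineClass_finite 5), ncard_lineClass2, c5] at h
    show _ = 42240
    omega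
  · exact (hf 6 1 (-1) false rfl (by decide +kernel) (by decide +kernel)).trans c6 |>.trans rfl
  · exact (hf 7 (-1) 1 false rfl (by decide +kernel) (by decide +kernel)).trans c7 |>.trans rfl

end Cfsg.Agent.Lib.Leech
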