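import Cfsg.Agent.Lib.Leech.MonoClasses

/-!
The monomial group is a maximal subgroup of the automorphism group of the lattice.
-/

set_option autoImplicit false

namespace Cfsg.Agent.Lib.Leech

open Cfsg
open Cfsg.Agent.Lib
open scoped Pointwise

variable {K : Subgroup Co0}

theorem connIn_smul {g : Co0} (hg : g ∈ K) (v : leechLattice) :
    ConnIn K (v : GolayPt → ℤ) ((g • v : leechLattice) : GolayPt → ℤ) :=
  ⟨v, g • v, rfl, rfl, g, hg, rfl⟩

/-- The orbit of `(4, 4, 0²²)` as vectors. -/
def orbitA (K : Subgroup Co0) : Set (GolayPt → ℤ) :=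
  Subtype.val '' MulAction.orbit K baseU

theorem mem_orbitA {x : GolayPt → ℤ} : x ∈ orbitA K ↔ ConnIn K repA x := by
  constructor
  · rintro ⟨_, ⟨g, rfl⟩, rfl⟩; exact connIn_smul g.2 baseU
  · rintro ⟨v, w, hv, hw', g, hg, rfl⟩
    obtain rfl : v = baseU := Subtype.ext hv
    exact ⟨_, ⟨⟨g, hg⟩, rfl⟩, hw'⟩

theorem ncard_orbitA : (orbitA K).ncard ∣ Nat.card Co0 := by
  rw [orbitA, Set.ncard_image_of_injective _ Subtype.val_injective]
  exact (ncard_orbit_dvd K baseU).trans (Subgroup.card_subgroup_dvd_card K)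

theorem orbitA_cases (hK : HasMono K) :
    orbitA K = shell32A ∨ orbitA K = shell32 := by
  classical
  have hsub : orbitA K ⊆ shell32 := by
    rintro x ⟨_, ⟨g, rfl⟩, rfl⟩
    exact ⟨SetLike.coe_mem _, (sqNorm_smul g.1 baseU).trans sqNorm_repA⟩
  have hmem : ∀ {x r}, ConnIn K x r → (x ∈ orbitA K ↔ r ∈ orbitA K) := fun h => by
    rw [mem_orbitA, mem_orbitA]; exact ⟨fun h' => h'.trans h, fun h' => h'.trans h.symm⟩
  have hA : repA ∈ orbitA K := ⟨baseU, MulAction.mem_orbit_self _, rfl⟩
  have key : ∀ x ∈ shell32,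
      (x ∈ shell32A → x ∈ orbitA K) ∧
      (x ∉ shell32A → x ∉ shell32C → (x ∈ orbitA K ↔ repB ∈ orbitA K)) ∧
      (x ∈ shell32C → (x ∈ orbitA K ↔ vec31 none ∈ orbitA K)) := by
    intro x hx
    rcases shell32_cases hK hx with ⟨a, c, h⟩ | ⟨a, c, h⟩ | ⟨a, c, h⟩
    · exact ⟨fun _ => (hmem h).2 hA, fun a' => absurd a a', fun c' => absurd c' c⟩
    · exact ⟨fun a' => absurd a' a, fun _ _ => hmem h, fun c' => absurd c' c⟩
    · exact ⟨fun a' => absurd a' a, fun _ c' => absurd c c', fun _ => hmem h⟩
  have hd : (orbitA K).ncard ∣ 8315553613086720000 := card_Co0 ▸ ncard_orbitA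
  have hAC : Disjoint shell32A shell32C := Set.disjoint_left.2 fun x ha hc => by
    rcases shell32_cases hK ha.1 with ⟨-, c, -⟩ | ⟨a, -, -⟩ | ⟨a, -, -⟩
    exacts [c hc, a ha, a ha]
  by_cases hB : repB ∈ orbitA K <;> by_cases hC : vec31 none ∈ orbitA K
  · right
    refine subset_antisymm hsub fun x hx => ?_
    by_cases a : x ∈ shell32A
    · exact (key x hx).1 a
    by_cases c : x ∈ shell32C
    · exact ((key x hx).2.2 c).2 hC
    · exact ((key x hx).2.1 a c).2 hB
  · exfalso
    have e : orbitA K = shell32 \ shell32C := by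
      ext x
      constructor
      · intro h; exact ⟨hsub h, fun c => hC (((key x (hsub h)).2.2 c).1 h)⟩
      · rintro ⟨hx, c⟩
        by_cases a : x ∈ shell32A
        · exact (key x hx).1 a
        · exact ((key x hx).2.1 a c).2 hB
    rw [e, Set.ncard_diff (fun x h => h.1) (shell32_finite.subset fun x h => h.1),
      ncard_shell32C, show shell32.ncard = 196560 from ncard_norm32] at hd
    exact absurd hd (by decide +kernel)
  · exfalso
    have e : orbitA K = shell32A ∪ shell32C := by
      ext x
      constructor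
      · intro h
        by_cases a : x ∈ shell32A
        · exact Or.inl a
        by_cases c : x ∈ shell32C
        · exact Or.inr c
        exact absurd (((key x (hsub h)).2.1 a c).1 h) hB
      · rintro (a | c)
        · exact (key x a.1).1 a
        · exact ((key x c.1).2.2 c).2 hC
    rw [e, Set.ncard_union_eq hAC (shell32_finite.subset fun x h => h.1)
      (shell32_finite.subset fun x h => h.1), ncard_shell32A, ncard_shell32C] at hd
    exact absurd hd (by decide +kernel)
  · left
    refine subset_antisymm (fun x h => ?_) fun x a => (key x a.1).1 a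
    by_contra a
    by_cases c : x ∈ shell32C
    · exact hC (((key x (hsub h)).2.2 c).1 h)
    · exact hB (((key x (hsub h)).2.1 a c).1 h)

/-! ### Preserving the pairs of fours -/

/-- `4 e p + 4 e q` or `4 e p - 4 e q`. -/
def vecFours (p q : GolayPt) (s : ℤ) : GolayPt → ℤ :=
  fun k => if k = p then 4 else if k = q then s else 0

theorem vecFours_mem {p q : GolayPt} (h : p ≠ q) {s : ℤ} (hs : s = 4 ∨ s = -4) :
    vecFours p q s ∈ shell32A := by
  have hchk : ∀ a b : GolayPt, a ≠ b →
      (leechChk (vecFours a b 4) = true ∧ sqNorm (vecFours a b 4) = 32) ∧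
      (leechChk (vecFours a b (-4)) = true ∧ sqNorm (vecFours a b (-4)) = 32) := by decide +kernel
  have h4 : |vecFours p q s p| = 4 := by simp [vecFours]
  rcases hs with rfl | rfl
  · exact ⟨⟨leechChk_sound (hchk p q h).1.1, (hchk p q h).1.2⟩, p, h4⟩
  · exact ⟨⟨leechChk_sound (hchk p q h).2.1, (hchk p q h).2.2⟩, p, h4⟩

theorem dot_vecFours {p q : GolayPt} (h : p ≠ q) (s : ℤ) (x : GolayPt → ℤ) :
    dotInt (vecFours p q s) x = 4 * x p + s * x q := by
  rw [dotInt, sum_two h (fun k hk => by
    push Not at hk; simp [vecFours, hk.1, hk.2])]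
  simp [vecFours, h.symm]
where
  sum_two {x : GolayPt → ℤ} {i j : GolayPt} (hij : i ≠ j)
      (h : ∀ k, ¬(k = i ∨ k = j) → x k = 0) : ∑ k, x k = x i + x j := by
    rw [← Finset.sum_pair hij]
    refine (Finset.sum_subset (Finset.subset_univ _) fun k _ hk => h k ?_).symm
    simpa using hk

theorem shell32A_support {x : GolayPt → ℤ} (hx : x ∈ shell32A) :
    ∃ i j, i ≠ j ∧ ∀ k, |x k| = if k = i ∨ k = j then 4 else 0 := by
  obtain ⟨⟨hm, hn⟩, k, h4⟩ := hx
  rcases shape32 hm hn with h | ⟨c, -, h8, hk⟩ | ⟨j, hk⟩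
  · exact h
  · rw [hk] at h4; split at h4 <;> omega
  · rw [hk] at h4; split at h4 <;> omega

/-- Two orthogonal pairs of fours not separated by a third add up to a member of the cross. -/
theorem add_mem_stdCross {a b : GolayPt → ℤ} (ha : a ∈ shell32A) (hb : b ∈ shell32A)
    (hab : dotInt a b = 0)
    (h : ∀ c ∈ shell32A, ¬(dotInt c a = 16 ∧ dotInt c b = 0)) : a + b ∈ stdCross := by
  obtain ⟨i, j, hij, hk⟩ := shell32A_support ha
  obtain ⟨p, q, hpq, hl⟩ := shell32A_support hb
  have ai := abs_cases (c := 4) (by norm_num) (show |a i| = 4 by rw [hk, if_pos (Or.inl rfl)])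
  have aj := abs_cases (c := 4) (by norm_num) (show |a j| = 4 by rw [hk, if_pos (Or.inr rfl)])
  have ao : ∀ k, k ≠ i → k ≠ j → a k = 0 := fun k h1 h2 =>
    abs_eq_zero.1 (by rw [hk, if_neg (by tauto)])
  have bv : ∀ k, b k = 4 ∨ b k = -4 ∨ b k = 0 := fun k => by
    have := hl k
    split at this
    · rcases abs_cases (by norm_num) this with e | e <;> simp [e]
    · simp [abs_eq_zero.1 this]
  have hd : a i * b i + a j * b j = 0 := by
    rw [← hab, dotInt, dot_vecFours.sum_two hij fun k hk' => by
      push Not at hk'; rw [ao k hk'.1 hk'.2, zero_mul]]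
  by_cases hbi : b i = 0
  · exfalso
    have hbj : b j = 0 := by
      rw [hbi, mul_zero, zero_add] at hd
      rcases mul_eq_zero.1 hd with e | e
      · omega
      · exact e
    -- a third pair meeting `a` only
    obtain ⟨o, ho1, ho2, ho3⟩ : ∃ o, o ≠ i ∧ o ≠ j ∧ b o = 0 := by
      by_contra hcon
      push Not at hcon
      have hsub : (Finset.univ : Finset GolayPt) ⊆ {i, j, p, q} := fun o _ => by
        simp only [Finset.mem_insert, Finset.mem_singleton]
        by_contra h4
        push Not at h4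
        exact hcon o h4.1 h4.2.1 (abs_eq_zero.1 (by rw [hl, if_neg (by tauto)]))
      have h4 : ({i, j, p, q} : Finset GolayPt).card ≤ 4 := Finset.card_le_four
      have := (Finset.card_le_card hsub).trans h4
      rw [Finset.card_univ, Golay.card_golayPt] at this
      omega
    rcases ai with e | e
    · exact h _ (vecFours_mem ho1.symm (Or.inl rfl))
        ⟨by rw [dot_vecFours ho1.symm, e, ao o ho1 ho2]; rfl,
          by rw [dot_vecFours ho1.symm, hbi, ho3]; rfl⟩
    · exact h _ (vecFours_mem ho1 (Or.inr rfl))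
        ⟨by rw [dot_vecFours ho1, e, ao o ho1 ho2]; rfl,
          by rw [dot_vecFours ho1, hbi, ho3]; rfl⟩
  · -- same support, opposite signs at one point
    have hbj : b j ≠ 0 := by
      intro e; rw [e, mul_zero, add_zero] at hd
      rcases mul_eq_zero.1 hd with e' | e'
      · omega
      · exact hbi e'
    have hip : i = p ∨ i = q := by
      by_contra h4; exact hbi (abs_eq_zero.1 (by rw [hl, if_neg h4]))
    have hjp : j = p ∨ j = q := by
      by_contra h4; exact hbj (abs_eq_zero.1 (by rw [hl, if_neg h4]))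
    have bo : ∀ k, k ≠ i → k ≠ j → b k = 0 := fun k h1 h2 => abs_eq_zero.1 (by
      rw [hl, if_neg]
      rintro (rfl | rfl)
      · rcases hip with rfl | rfl
        · exact h1 rfl
        · rcases hjp with rfl | rfl
          · exact h2 rfl
          · exact hij rfl
      · rcases hip with rfl | rfl
        · rcases hjp with rfl | rfl
          · exact hij rfl
          · exact h2 rfl
        · exact h1 rfl)
    have hbi' := (bv i).elim Or.inl fun e => e.elim Or.inr fun e => absurd e hbi
    have hbj' := (bv j).elim Or.inl fun e => e.elim Or.inr fun e => absurd e hbj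
    by_cases hs : a i + b i = 0
    · refine ⟨j, a j + b j, ?_, funext fun k => ?_⟩
      · rcases ai with e | e <;> rcases aj with e' | e' <;> rcases hbi' with f | f <;>
          rcases hbj' with f' | f' <;> rw [e, e', f, f'] at hd <;> first | (exfalso; omega) | omega
      · by_cases k1 : k = j
        · subst k1; simp
        · rw [Pi.single_eq_of_ne k1]
          by_cases k2 : k = i
          · subst k2; exact hs
          · rw [Pi.add_apply, ao k k2 k1, bo k k2 k1, add_zero]
    · refine ⟨i, a i + b i, ?_, funext fun k => ?_⟩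
      · rcases ai with e | e <;> rcases hbi' with f | f <;> omega
      · by_cases k1 : k = i
        · subst k1; simp
        · rw [Pi.single_eq_of_ne k1]
          by_cases k2 : k = j
          · subst k2
            rcases ai with e | e <;> rcases aj with e' | e' <;> rcases hbi' with f | f <;>
              rcases hbj' with f' | f' <;> rw [e, e', f, f'] at hd <;> rw [Pi.add_apply] <;> omega
          · rw [Pi.add_apply, ao k k1 k2, bo k k1 k2, add_zero]

theorem mem_stdCross_of_orbitA (horb : orbitA K = shell32A) {g : Co0} (hg : g ∈ K)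
    (i : GolayPt) : ((g • pt8 i : leechLattice) : GolayPt → ℤ) ∈ stdCross := by
  obtain ⟨o, ho⟩ : ∃ o : GolayPt, i ≠ o := ⟨if i = none then some 0 else none, by split <;> simp_all⟩
  let a : leechLattice := ⟨vecFours i o 4, (vecFours_mem ho (Or.inl rfl)).1.1⟩
  let b : leechLattice := ⟨vecFours i o (-4), (vecFours_mem ho (Or.inr rfl)).1.1⟩
  have e : pt8 i = a + b := Subtype.ext (funext fun k => by
    simp only [pt8, vec8, a, b, AddSubgroup.coe_add, Pi.add_apply, vecFours, Pi.single_apply]
    split_ifs <;> norm_num)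
  have hmove : ∀ {h : Co0}, h ∈ K → ∀ v : leechLattice, (v : GolayPt → ℤ) ∈ shell32A →
      ((h • v : leechLattice) : GolayPt → ℤ) ∈ shell32A := by
    intro h hh v hv
    rw [← horb] at hv ⊢
    exact mem_orbitA.2 ((mem_orbitA.1 hv).trans (connIn_smul hh v))
  rw [e, smul_add', AddSubgroup.coe_add]
  refine add_mem_stdCross (hmove hg a (vecFours_mem ho (Or.inl rfl)))
    (hmove hg b (vecFours_mem ho (Or.inr rfl))) ?_ ?_
  · rw [dotInt_smul]; show dotInt (vecFours i o 4) (vecFours i o (-4)) = 0
    rw [dot_vecFours ho]; simp [vecFours, ho.symm]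
  · rintro c hc ⟨h1, h2⟩
    have hc' := hmove (inv_mem hg) ⟨c, hc.1.1⟩ hc
    have d1 := dotInt_smul g (g⁻¹ • ⟨c, hc.1.1⟩) a
    have d2 := dotInt_smul g (g⁻¹ • ⟨c, hc.1.1⟩) b
    rw [smul_inv_smul] at d1 d2
    have e1 : dotInt ((g⁻¹ • (⟨c, hc.1.1⟩ : leechLattice) : leechLattice) : GolayPt → ℤ)
        (vecFours i o 4) = 16 := d1.symm.trans h1
    have e2 : dotInt ((g⁻¹ • (⟨c, hc.1.1⟩ : leechLattice) : leechLattice) : GolayPt → ℤ)
        (vecFours i o (-4)) = 0 := d2.symm.trans h2
    obtain ⟨p, q, -, hk⟩ := shell32A_support hc'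
    rw [dotInt_comm, dot_vecFours ho] at e1 e2
    have := hk i
    split at this
    · rcases abs_cases (by norm_num) this with f | f <;> omega
    · rw [abs_eq_zero] at this; omega

/-! ### The orthogonal line -/

/-- The orbit of `4 e∞ - 4 e0` under the elements of `K` fixing `(4, 4, 0²²)`. -/
def orbitP (K : Subgroup Co0) : Set (GolayPt → ℤ) :=
  Subtype.val '' MulAction.orbit ↥(K ⊓ MulAction.stabilizer Co0 baseU)
    (⟨vecPM, vecPM_line.1⟩ : leechLattice)

theorem mem_orbitP {x : GolayPt → ℤ} : x ∈ orbitP K ↔ ConnFix K vecPM x := by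
  constructor
  · rintro ⟨_, ⟨g, rfl⟩, rfl⟩; exact ⟨_, _, rfl, rfl, g.1, g.2.1, g.2.2, rfl⟩
  · rintro ⟨v, w, hv, hw', g, hg, hgu, rfl⟩
    obtain rfl : v = ⟨vecPM, vecPM_line.1⟩ := Subtype.ext hv
    exact ⟨_, ⟨⟨g, hg, hgu⟩, rfl⟩, hw'⟩

theorem sum_choice : ∀ f : Fin 8 → Bool, f 1 = true → f 0 = f 1 → f 3 = f 4 → f 6 = f 7 →
    (∑ i : Fin 8, if f i then lineClassSize.getD i.val 0 else 0) ∣ 42305421312000 →
    (∀ i, f i = true) ∨ ∀ i : Fin 8, f i = true → i = 0 ∨ i = 1 := by
  decide +kernel

theorem orbitP_cases (hK : HasMono K) :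
    (∀ x, onLine 32 0 x → x ∈ orbitP K) ∨ ∀ x ∈ orbitP K, x = vecPM ∨ x = -vecPM := by
  classical
  have hsub : ∀ x ∈ orbitP K, onLine 32 0 x := by
    rintro x ⟨_, ⟨g, rfl⟩, rfl⟩
    refine line_iff.2 ⟨SetLike.coe_mem _, (sqNorm_smul g.1 _).trans vecPM_line.2.1, ?_⟩
    have h := dotInt_smul g.1 baseU (⟨vecPM, vecPM_line.1⟩ : leechLattice)
    rw [show g.1 • baseU = baseU from g.2.2] at h
    exact h.trans (line_iff.1 vecPM_line).2.2
  let f : Fin 8 → Bool := fun i => decide (repVec StabData.repsOrth i.val ∈ orbitP K)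
  have hclass : ∀ (i : Fin 8), ∀ x ∈ lineClass i.val, (x ∈ orbitP K ↔ f i = true) := by
    intro i x hx
    obtain ⟨j, hj, hs, hc⟩ := class_orthFix hK x hx.1
    have hj8 : j < 8 := keys_orth.1 ▸ hj
    have hji : (⟨j, hj8⟩ : Fin 8) = i :=
      keys_orth.2.1 _ _ ((keyVal_eq_iff.2 hs).symm.trans hx.2)
    have e : repVec StabData.repsOrth j = repVec StabData.repsOrth i.val := by rw [← hji]
    rw [e] at hc
    simp only [f, decide_eq_true_eq, mem_orbitP]
    exact ⟨fun h => h.trans hc, fun h => h.trans hc.symm⟩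
  have hrep : ∀ i : Fin 8, leechChk (repVec StabData.repsOrth i.val) = true ∧
      sqNorm (repVec StabData.repsOrth i.val) = 32 ∧
      repVec StabData.repsOrth i.val none + repVec StabData.repsOrth i.val (some 0) = 0 := by
    decide +kernel
  have hrepmem : ∀ i : Fin 8, repVec StabData.repsOrth i.val ∈ lineClass i.val := fun i =>
    ⟨⟨leechChk_sound (hrep i).1, (hrep i).2.1, (hrep i).2.2⟩, rfl⟩
  -- vecPM lies in class 0
  have hpm : keyVal vecPM = keyVal (repVec StabData.repsOrth 0) ∧
      keyVal (-vecPM) = keyVal (repVec StabData.repsOrth 1) := by decide +kernel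
  have hf0 : f 0 = true :=
    (hclass 0 vecPM ⟨vecPM_line, hpm.1⟩).1 (mem_orbitP.2
      ⟨⟨vecPM, vecPM_line.1⟩, _, rfl, rfl, 1, one_mem _, one_smul _ _, one_smul _ _⟩)
  -- the swap of the two points
  have hswap : ∀ i j : Fin 8, (keyVal (repVec StabData.repsOrth i.val)).1
        = (keyVal (repVec StabData.repsOrth j.val)).2.1 →
      (keyVal (repVec StabData.repsOrth i.val)).2.1
        = (keyVal (repVec StabData.repsOrth j.val)).1 →
      (keyVal (repVec StabData.repsOrth i.val)).2.2
        = (keyVal (repVec StabData.repsOrth j.val)).2.2 → f i = f j := by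
    intro i j h1 h2 h3
    have hx := (hrepmem i).1
    have hc := connFix_mono hK Golay.projInv_mem_M24 (zero_mem _) (by
      funext k
      rw [show signedPerm projInv (support₂ (0 : GolayPt → ZMod 2)) repA k = repA (projInv.symm k) by
        simp [signedPerm, support₂]]
      revert k; decide +kernel) hx.1
    set y := signedPerm projInv (support₂ (0 : GolayPt → ZMod 2)) (repVec StabData.repsOrth i.val)
      with hy
    have hyv : ∀ k, y k = repVec StabData.repsOrth i.val (projInv.symm k) := fun k => by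
      simp [hy, signedPerm, support₂]
    have hp : projInv.symm none = some 0 ∧ projInv.symm (some 0) = none := by decide +kernel
    have hyl : y ∈ lineClass j.val := by
      obtain ⟨v, w, hv, hw', g, -, hgu, hgv⟩ := hc
      refine ⟨⟨hw' ▸ w.2, ?_, ?_⟩, ?_⟩
      · rw [← hw', ← hgv, sqNorm_smul, hv]; exact hx.2.1
      · rw [hyv, hyv, hp.1, hp.2, add_comm]; exact hx.2.2
      · simp only [keyVal, Prod.mk.injEq] at h1 h2 h3 ⊢
        refine ⟨by rw [hyv, hp.1]; exact h2, by rw [hyv, hp.2]; exact h1, ?_⟩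
        rw [← h3, decide_eq_decide]
        exact ⟨fun ⟨k, hk⟩ => ⟨_, by rw [← hyv]; exact hk⟩,
          fun ⟨k, hk⟩ => ⟨projInv k, by rw [hyv, Equiv.symm_apply_apply]; exact hk⟩⟩
    rw [Bool.eq_iff_iff, ← hclass i _ (hrepmem i), ← hclass j y hyl, mem_orbitP, mem_orbitP]
    exact ⟨fun h => h.trans hc, fun h => h.trans hc.symm⟩
  have h01 : f 0 = f 1 := hswap 0 1 (by decide +kernel) (by decide +kernel) (by decide +kernel)
  have h34 : f 3 = f 4 := hswap 3 4 (by decide +kernel) (by decide +kernel) (by decide +kernel)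
  have h67 : f 6 = f 7 := hswap 6 7 (by decide +kernel) (by decide +kernel) (by decide +kernel)
  -- the orbit length
  have hcls : ∀ x, onLine 32 0 x → ∃ i : Fin 8, x ∈ lineClass i.val := fun x hx => by
    obtain ⟨i, hi, hs, -⟩ := class_orth x hx
    exact ⟨⟨i, keys_orth.1 ▸ hi⟩, hx, keyVal_eq_iff.2 hs⟩
  have hfin : (orbitP K).Finite :=
    shell32_finite.subset fun x hx => ⟨(hsub x hx).1, (hsub x hx).2.1⟩
  have hunion : hfin.toFinset = (Finset.univ.filter fun i => f i = true).biUnion
      fun i : Fin 8 => (lineClass_finite i.val).toFinset := by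
    ext x
    simp only [Set.Finite.mem_toFinset, Finset.mem_biUnion, Finset.mem_filter, Finset.mem_univ,
      true_and]
    constructor
    · intro hx
      obtain ⟨i, hi⟩ := hcls x (hsub x hx)
      exact ⟨i, (hclass i x hi).1 hx, hi⟩
    · rintro ⟨i, hfi, hi⟩; exact (hclass i x hi).2 hfi
  have hcount : (orbitP K).ncard = ∑ i : Fin 8, if f i then lineClassSize.getD i.val 0 else 0 := by
    rw [Set.ncard_eq_toFinset_card _ hfin, hunion, Finset.card_biUnion, Finset.sum_filter]
    · refine Finset.sum_congr rfl fun i _ => if_congr Iff.rfl ?_ rfl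
      rw [← Set.ncard_eq_toFinset_card (lineClass i.val) (lineClass_finite i.val)]
      exact ncard_lineClass i.val i.2
    · intro i _ j _ hne
      simp only [Function.onFun, Finset.disjoint_left, Set.Finite.mem_toFinset]
      exact fun x a b => hne (keys_orth.2.1 i j (a.2.symm.trans b.2))
  have hd : (orbitP K).ncard ∣ 42305421312000 := by
    rw [orbitP, Set.ncard_image_of_injective _ Subtype.val_injective]
    exact (ncard_orbit_dvd _ _).trans
      ((Subgroup.card_dvd_of_le inf_le_right).trans (card_stab32 sqNorm_repA).dvd)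
  rcases sum_choice f (h01 ▸ hf0) h01 h34 h67 (hcount ▸ hd) with hall | htwo
  · left
    intro x hx
    obtain ⟨i, hi⟩ := hcls x hx
    exact (hclass i x hi).2 (hall i)
  · right
    intro x hx
    obtain ⟨i, hi⟩ := hcls x (hsub x hx)
    have one : ∀ m : ℕ, m < 8 → (lineClass m).ncard = 1 → ∀ y ∈ lineClass m, ∀ z ∈ lineClass m,
        y = z := fun m _ h y hy z hz => by
      obtain ⟨a, ha⟩ := Set.ncard_eq_one.1 h
      rw [ha] at hy hz
      exact hy.trans hz.symm
    rcases htwo i ((hclass i x hi).1 hx) with rfl | rfl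
    · exact Or.inl (one 0 (by norm_num) (ncard_lineClass 0 (by norm_num)) x hi vecPM
        ⟨vecPM_line, hpm.1⟩)
    · refine Or.inr (one 1 (by norm_num) (ncard_lineClass 1 (by norm_num)) x hi (-vecPM)
        ⟨⟨neg_mem vecPM_line.1, by rw [sqNorm_neg]; exact vecPM_line.2.1, ?_⟩, hpm.2⟩)
      have := vecPM_line.2.2
      simp only [Pi.neg_apply]; omega

/-! ### No invariant pair at the vector of shape `2⁸` -/

theorem octad0_sep : ∀ i j : GolayPt, i ∉ octad0 → j ∉ octad0 → i ≠ j →
    (masksOfWeight 8).any (fun m => m &&& 4845570 == 0 && m.testBit (Golay.idx i).val &&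
      !m.testBit (Golay.idx j).val) = true := by
  decide +kernel

theorem octad0_pair : ∀ i j : GolayPt, i ∈ octad0 → j ∈ octad0 → i ≠ j →
    MoveData.gensOctad.any (fun l => !((Golay.listFun l i == i || Golay.listFun l i == j) &&
      (Golay.listFun l j == i || Golay.listFun l j == j))) = true := by
  decide +kernel

theorem octad0_split : ((subMasks 4845570).filter fun m => Golay.popCount m == 4).all (fun m =>
    MoveData.gensOctad.any fun l => decide (Golay.imageMask l m < 2 ^ 24) &&
      Golay.imageMask l m != m && Golay.imageMask l m != 4845570 ^^^ m) = true := by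
  decide +kernel

theorem octad0_code : Golay.isCodeMask 4845570 = true ∧
    (masksOfWeight 8).all (fun m => Golay.isCodeMask m) = true := by
  decide +kernel

theorem repB_ne {p : GolayPt} (h : repB p ≠ 0) : p ∈ octad0 := by
  by_contra hp; exact h (if_neg hp)

/-- The contradiction: no vector orthogonal to `repB` is fixed up to sign by all monomial
elements fixing `repB`. -/
theorem no_partner {x : GolayPt → ℤ} (hx : x ∈ leechLattice) (hn : sqNorm x = 32)
    (hd : dotInt repB x = 0)
    (hfix : ∀ σ ∈ M24, ∀ w ∈ golayCode, signedPerm σ (support₂ w) repB = repB →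
      signedPerm σ (support₂ w) x = x ∨ signedPerm σ (support₂ w) x = -x) : False := by
  obtain ⟨hO, hmasks⟩ := octad0_code
  have hsplit := octad0_split
  have hsep : ∀ i j : GolayPt, i ∉ octad0 → j ∉ octad0 → i ≠ j → ∃ m ∈ masksOfWeight 8,
      m &&& 4845570 = 0 ∧ m.testBit (Golay.idx i).val = true ∧
        m.testBit (Golay.idx j).val = false := fun i j h1 h2 h3 => by
    obtain ⟨m, hm, h⟩ := List.any_eq_true.1 (octad0_sep i j h1 h2 h3)
    simp only [Bool.and_eq_true, beq_iff_eq, Bool.not_eq_true'] at h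
    exact ⟨m, hm, h.1.1, h.1.2, h.2⟩
  have hpair : ∀ i j : GolayPt, i ∈ octad0 → j ∈ octad0 → i ≠ j → ∃ l ∈ MoveData.gensOctad,
      ¬((Golay.listFun l i = i ∨ Golay.listFun l i = j) ∧
        (Golay.listFun l j = i ∨ Golay.listFun l j = j)) := fun i j h1 h2 h3 => by
    obtain ⟨l, hl, h⟩ := List.any_eq_true.1 (octad0_pair i j h1 h2 h3)
    refine ⟨l, hl, fun hh => ?_⟩
    simp only [Bool.not_eq_true', ← Bool.not_eq_true, Bool.and_eq_true, Bool.or_eq_true,
      beq_iff_eq] at h
    exact h hh
  have hflip : ∀ w ∈ golayCode, (∀ p ∈ octad0, w p = 0) →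
      flipSign (support₂ w) x = x ∨ flipSign (support₂ w) x = -x := by
    intro w hw' h0
    refine hfix 1 (one_mem _) w hw' (funext fun p => ?_)
    show (if p ∈ support₂ w then -repB p else repB p) = repB p
    split
    · rename_i hp
      rw [support₂_iff] at hp
      have hp0 : p ∉ octad0 := fun h => by rw [h0 p h] at hp; exact zero_ne_one hp
      simp [repB, hp0]
    · rfl
  have two : ∀ w ∈ golayCode, (∀ p ∈ octad0, w p = 0) → ∀ p q, w p = 1 → w q = 0 →
      x p = 0 ∨ x q = 0 := by
    intro w hw' h0 p q hp hq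
    rcases hflip w hw' h0 with e | e
    · left
      have := congrFun e p
      simp only [flipSign, support₂_iff, hp, if_true] at this; omega
    · right
      have := congrFun e q
      simp only [flipSign, support₂_iff, hq, Pi.neg_apply] at this
      rw [if_neg (by decide)] at this; omega
  have hcomp : (Golay.word octad0 + 1 : GolayPt → ZMod 2) ∈ golayCode := by
    refine add_mem (Golay.isCodeSet_of_isCodeMask hO) ?_
    rw [← Golay.word_univ]; exact Golay.isCodeSet_univ
  have hOzero : ∀ p ∈ octad0, (Golay.word octad0 + 1 : GolayPt → ZMod 2) p = 0 := fun p hp => by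
    simp only [Pi.add_apply, Pi.one_apply, Golay.word, if_pos hp]; decide
  have hin : ∀ p, x p ≠ 0 → p ∈ octad0 := by
    intro i hi
    by_contra hiO
    have hnone : ∀ p, p ≠ i → x p = 0 := by
      intro j hji
      by_cases hjO : j ∈ octad0
      · exact (two _ hcomp hOzero i j
          (by simp [Golay.word, hiO]) (hOzero j hjO)).resolve_left hi
      · obtain ⟨m, hm, hm0, hmi, hmj⟩ := hsep i j hiO hjO hji.symm
        refine (two (Golay.word (Golay.ptsOf m))
          (Golay.isCodeSet_of_isCodeMask (List.all_eq_true.1 hmasks m hm)) (fun p hp => ?_) i j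
          (by simp [Golay.word, Golay.mem_ptsOf, hmi])
          (by simp [Golay.word, Golay.mem_ptsOf, hmj])).resolve_left hi
        have : p ∉ Golay.ptsOf m := fun hpm => by
          have h' : p ∈ Golay.ptsOf (m &&& 4845570) := by
            rw [Golay.ptsOf_land]; exact Finset.mem_inter.2 ⟨hpm, hp⟩
          rw [hm0, Golay.ptsOf_zero] at h'; simp at h'
        simp [Golay.word, this]
    rcases shape32 hx hn with ⟨a, b, hab, hk⟩ | ⟨c, hc, h8, hk⟩ | ⟨j, hk⟩
    · have ha : a = i := by
        by_contra h; have := hk a; rw [hnone a h, if_pos (Or.inl rfl)] at this; norm_num at this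
      have hb : b = i := by
        by_contra h; have := hk b; rw [hnone b h, if_pos (Or.inr rfl)] at this; norm_num at this
      exact hab (ha.trans hb.symm)
    · have hsub : support₂ c ⊆ {i} := fun k hkc => by
        rw [Finset.mem_singleton]
        by_contra h; have := hk k
        rw [hnone k h, if_pos (support₂_iff.1 hkc)] at this; norm_num at this
      have := Finset.card_le_card hsub; rw [h8, Finset.card_singleton] at this; omega
    · obtain ⟨k, hki⟩ : ∃ k, k ≠ i := by
        rcases eq_or_ne i none with h | h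
        · exact ⟨some 0, by simp [h]⟩
        · exact ⟨none, h.symm⟩
      have := hk k; rw [hnone k hki] at this; split at this <;> norm_num at this
  have hperm : ∀ l ∈ MoveData.gensOctad,
      (∀ k, x ((Golay.toPerm l).symm k) = x k) ∨ ∀ k, x ((Golay.toPerm l).symm k) = -x k := by
    intro l hl
    obtain ⟨hv, hm24, hO'⟩ := gensOctad_mem l hl
    have e : ∀ z : GolayPt → ℤ,
        signedPerm (Golay.toPerm l) (support₂ (0 : GolayPt → ZMod 2)) z
          = fun k => z ((Golay.toPerm l).symm k) := fun z =>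
      funext fun k => by simp [signedPerm, support₂]
    have hfix' := hfix _ hm24 0 (zero_mem _) (by
      rw [e]; funext k
      simp only [repB]
      exact if_congr (smul_finset_iff hO' k).symm rfl rfl)
    rw [e] at hfix'
    exact hfix'.imp (fun h k => congrFun h k) fun h k => congrFun h k
  rcases shape32 hx hn with ⟨a, b, hab, hk⟩ | ⟨c, hc, h8, hk⟩ | ⟨j, hk⟩
  · have ha : x a ≠ 0 := fun h => by
      have := hk a; rw [h, if_pos (Or.inl rfl)] at this; norm_num at this
    have hb : x b ≠ 0 := fun h => by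
      have := hk b; rw [h, if_pos (Or.inr rfl)] at this; norm_num at this
    obtain ⟨l, hl, hne⟩ := hpair a b (hin a ha) (hin b hb) hab
    have hv := (gensOctad_mem l hl).1
    have key : ∀ k, x k ≠ 0 → Golay.listFun l k = a ∨ Golay.listFun l k = b := by
      intro k hk0
      rw [← Golay.toPerm_apply hv]
      by_contra hcon
      have hz : x (Golay.toPerm l k) = 0 := abs_eq_zero.1 (by rw [hk, if_neg hcon])
      rcases hperm l hl with h | h <;>
        (have := h (Golay.toPerm l k); rw [Equiv.symm_apply_apply, hz] at this; omega)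
    exact hne ⟨key a ha, key b hb⟩
  · have hcO : support₂ c = octad0 := by
      have h0 : octad0.card = 8 := by decide +kernel
      refine Finset.eq_of_subset_of_card_le (fun k hkc => hin k fun h => ?_) (by rw [h8, h0])
      have := hk k; rw [h, if_pos (support₂_iff.1 hkc)] at this; norm_num at this
    set T := octad0.filter fun k => x k = 2 with hT
    have hxk : ∀ k ∈ octad0, x k = 2 ∨ x k = -2 := fun k hk' => by
      rw [← hcO, support₂_iff] at hk'
      exact abs_cases (by norm_num) (by rw [hk, if_pos hk'])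
    have hsum : dotInt repB x = ∑ k ∈ octad0, 2 * x k := by
      rw [dotInt, ← Finset.sum_filter_add_sum_filter_not Finset.univ (fun k => k ∈ octad0),
        Finset.filter_mem_eq_inter, Finset.univ_inter,
        Finset.sum_eq_zero (s := Finset.univ.filter fun k => k ∉ octad0) fun k hk' => by
          simp [repB, (Finset.mem_filter.1 hk').2], add_zero]
      exact Finset.sum_congr rfl fun k hk' => by simp [repB, hk']
    have hTc : T.card = 4 := by
      have h0 : octad0.card = 8 := by decide +kernel
      have h1 : ∀ k ∈ octad0, 2 * x k = (if x k = 2 then 8 else 0) - 4 := fun k hk' => by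
        rcases hxk k hk' with e | e <;> simp [e]
      rw [hsum, Finset.sum_congr rfl h1, Finset.sum_sub_distrib, Finset.sum_const, h0,
        ← Finset.sum_filter, Finset.sum_const, ← hT, nsmul_eq_mul, nsmul_eq_mul] at hd
      push_cast at hd; omega
    have hmem : Golay.maskOf T ∈ (subMasks 4845570).filter fun m => Golay.popCount m == 4 := by
      have hsubset : T ⊆ octad0 := Finset.filter_subset _ _
      refine List.mem_filter.2 ⟨mem_subMasks_aux 4845570 24 _ ?_ (Golay.maskOf_lt T), by
        rw [beq_iff_eq, ← Golay.card_ptsOf, Golay.ptsOf_maskOf, hTc]⟩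
      exact Golay.ptsOf_injective (lt_of_le_of_lt Nat.and_le_left (Golay.maskOf_lt T))
        (Golay.maskOf_lt T) (by
          rw [Golay.ptsOf_land, Golay.ptsOf_maskOf]
          exact Finset.inter_eq_left.2 hsubset)
    obtain ⟨l, hl, hne⟩ := List.any_eq_true.1 (List.all_eq_true.1 hsplit _ hmem)
    simp only [Bool.and_eq_true, bne_iff_ne, decide_eq_true_eq] at hne
    obtain ⟨⟨hlt, hne1⟩, hne2⟩ := hne
    obtain ⟨hv, -, hO'⟩ := gensOctad_mem l hl
    have him := Golay.toPerm_smul_ptsOf hv (Golay.maskOf T)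
    rw [Golay.ptsOf_maskOf] at him
    rcases hperm l hl with h | h
    · refine hne1 ?_
      have e : Golay.toPerm l • T = T := by
        ext k
        rw [smul_finset_iff (rfl : Golay.toPerm l • T = _), hT, Finset.mem_filter, Finset.mem_filter,
          h k, ← smul_finset_iff hO' k]
      rw [him] at e
      exact Golay.ptsOf_injective hlt (Golay.maskOf_lt _) (e.trans (Golay.ptsOf_maskOf T).symm)
    · refine hne2 ?_
      have e : Golay.toPerm l • T = octad0 \ T := by
        ext k
        rw [smul_finset_iff (rfl : Golay.toPerm l • T = _), hT, Finset.mem_filter, Finset.mem_sdiff,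
          Finset.mem_filter, h k, ← smul_finset_iff hO' k]
        constructor
        · rintro ⟨hk', e⟩; exact ⟨hk', fun he => by omega⟩
        · rintro ⟨hk', he⟩
          rcases hxk k hk' with q | q
          · exact absurd ⟨hk', q⟩ he
          · exact ⟨hk', by omega⟩
      rw [him] at e
      refine Golay.ptsOf_injective hlt (Nat.xor_lt_two_pow (by norm_num) (Golay.maskOf_lt _)) ?_
      rw [e, Golay.ptsOf_xor, Golay.ptsOf_maskOf]
      show octad0 \ T = symmDiff octad0 T
      rw [symmDiff_def, Finset.sdiff_eq_empty_iff_subset.2 (Finset.filter_subset _ _)]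
      simp
  · obtain ⟨k, hkO⟩ : ∃ k, k ∉ octad0 := ⟨some 0, by decide +kernel⟩
    refine hkO (hin k fun h => ?_)
    have := hk k; rw [h] at this; split at this <;> norm_num at this

/-! ### Maximality -/

theorem top_of_mono_lt (hK : HasMono K)
    (hout : ∃ g ∈ K, ¬ ∀ i, ((g • pt8 i : leechLattice) : GolayPt → ℤ) ∈ stdCross) : K = ⊤ := by
  rcases orbitA_cases hK with hA | hAll
  · obtain ⟨g, hg, h⟩ := hout
    exact absurd (fun i => mem_stdCross_of_orbitA hA hg i) h
  have htrans : ∀ v : leechLattice, sqNorm (v : GolayPt → ℤ) = 32 → ∃ k ∈ K, k • baseU = v := by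
    intro v hv
    obtain ⟨v', w', hv', hw', k, hk, hkv⟩ :=
      mem_orbitA.1 (hAll ▸ (show (v : GolayPt → ℤ) ∈ shell32 from ⟨v.2, hv⟩))
    obtain rfl : v' = baseU := Subtype.ext hv'
    exact ⟨k, hk, hkv.trans (Subtype.ext hw')⟩
  let P : leechLattice := ⟨vecPM, vecPM_line.1⟩
  rcases orbitP_cases hK with hall | htwo
  · rw [eq_top_iff]
    intro g _
    have e : pt8 none = baseU + P := Subtype.ext (funext fun k => by
      simp only [pt8, vec8, baseU, repA, vecPM, P, AddSubgroup.coe_add, Pi.add_apply, Pi.single_apply]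
      by_cases h : k = none
      · simp [h]
      · by_cases h' : k = some 0 <;> simp [h, h'])
    obtain ⟨k, hk, hku⟩ := htrans (g • baseU) ((sqNorm_smul g _).trans sqNorm_repA)
    have hline : onLine 32 0 ((k⁻¹ • (g • P) : leechLattice) : GolayPt → ℤ) := by
      refine line_iff.2 ⟨SetLike.coe_mem _, ?_, ?_⟩
      · rw [sqNorm_smul, sqNorm_smul]; exact vecPM_line.2.1
      · show dotInt (baseU : GolayPt → ℤ) _ = _
        rw [← dotInt_smul k, smul_inv_smul, hku, dotInt_smul]
        exact (line_iff.1 vecPM_line).2.2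
    obtain ⟨_, ⟨m, rfl⟩, hm⟩ := hall _ hline
    have hm' : (m : Co0) • P = k⁻¹ • (g • P) := Subtype.ext hm
    have hfix : ((k * m.1)⁻¹ * g) • pt8 none = pt8 none := by
      rw [mul_smul, inv_smul_eq_iff, e, smul_add', smul_add', mul_smul, mul_smul,
        show (m : Co0) • baseU = baseU from m.2.2, hku, hm', smul_inv_smul]
    obtain ⟨σ, hσ, w, hw', hmono, -, -⟩ := exists_mono_of_fix hfix
    rw [show g = (k * m.1) * ((k * m.1)⁻¹ * g) by group, hmono]
    exact mul_mem (mul_mem hk m.2.1) (hK _ _ _ _)
  · exfalso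
    have hB : leechChk repB = true ∧ sqNorm repB = 32 := by decide +kernel
    obtain ⟨k, hk, hku⟩ := htrans ⟨repB, leechChk_sound hB.1⟩ hB.2
    refine no_partner (k • P).2 ((sqNorm_smul k P).trans vecPM_line.2.1) ?_ ?_
    · rw [show repB = ((⟨repB, leechChk_sound hB.1⟩ : leechLattice) : GolayPt → ℤ) from rfl, ← hku,
        dotInt_smul]
      exact (line_iff.1 vecPM_line).2.2
    · intro σ hσ w hw' hy
      let n := monoCo σ hσ w hw'
      have hn : n • (k • baseU) = k • baseU := by
        rw [hku]; exact Subtype.ext ((monoCo_smul ..).trans hy)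
      have hz : ((k⁻¹ * n * k) • P : leechLattice).1 ∈ orbitP K :=
        ⟨_, ⟨⟨k⁻¹ * n * k, K.mul_mem (K.mul_mem (K.inv_mem hk) (hK σ hσ w hw')) hk,
          show (k⁻¹ * n * k) • baseU = baseU by rw [mul_smul, mul_smul, hn, inv_smul_smul]⟩, rfl⟩, rfl⟩
      have hcase : (k⁻¹ * n * k) • P = P ∨ (k⁻¹ * n * k) • P = -P :=
        (htwo _ hz).imp (fun h => Subtype.ext h) fun h => Subtype.ext h
      rw [← monoCo_smul σ hσ w hw' (k • P)]
      rcases hcase with h | h
      · left
        rw [mul_smul, mul_smul, inv_smul_eq_iff] at h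
        exact congrArg Subtype.val h
      · right
        rw [mul_smul, mul_smul, inv_smul_eq_iff, smul_neg'] at h
        exact congrArg Subtype.val h

theorem hasMono_of_stdCross {H : Subgroup Co0}
    (hH : ∀ g : Co0, g ∈ H ↔ ∀ v : leechLattice, (v : GolayPt → ℤ) ∈ stdCross →
      ((g • v : leechLattice) : GolayPt → ℤ) ∈ stdCross) : HasMono H := by
  intro σ hσ w hw'
  rw [hH]
  intro v hv
  obtain ⟨i, e | e⟩ := mem_stdCross_iff.1 hv
  · rw [monoCo_smul, e, signedPerm_vec8]
    refine mem_stdCross_iff.2 ⟨σ i, ?_⟩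
    split
    · exact Or.inr rfl
    · exact Or.inl rfl
  · have hneg : signedPerm σ (support₂ w) (-vec8 i) = -signedPerm σ (support₂ w) (vec8 i) := by
      funext k; simp only [signedPerm, Pi.neg_apply]; split <;> rfl
    rw [monoCo_smul, e, hneg, signedPerm_vec8]
    refine mem_stdCross_iff.2 ⟨σ i, ?_⟩
    split
    · exact Or.inl (neg_neg _)
    · exact Or.inr rfl

theorem isCoatom_cross_stab {H : Subgroup Co0}
    (hH : ∀ g : Co0, g ∈ H ↔ ∀ v : leechLattice, (v : GolayPt → ℤ) ∈ stdCross →
      ((g • v : leechLattice) : GolayPt → ℤ) ∈ stdCross) : IsCoatom H := by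
  constructor
  · intro htop
    have hx : xiCo ∈ H := htop ▸ Subgroup.mem_top _
    have h := (hH _).1 hx (pt8 none) (mem_stdCross_iff.2 ⟨none, Or.inl rfl⟩)
    rw [xiCo_smul, mem_stdCross_iff] at h
    have hneg : ∀ i, xiMap (vec8 none) ≠ vec8 i ∧ xiMap (vec8 none) ≠ -vec8 i := by decide +kernel
    obtain ⟨i, e | e⟩ := h
    · exact (hneg i).1 e
    · exact (hneg i).2 e
  · intro K hlt
    obtain ⟨hle, g, hgK, hgH⟩ := Set.ssubset_iff_exists.1 hlt
    refine top_of_mono_lt (fun σ hσ w hw' => hle (hasMono_of_stdCross hH σ hσ w hw'))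
      ⟨g, hgK, fun hall => hgH ?_⟩
    obtain ⟨σ, hσ, w, hw', rfl⟩ := exists_mono hall
    exact hasMono_of_stdCross hH σ hσ w hw'

end Cfsg.Agent.Lib.Leech
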