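import Cfsg.Agent.Lib.Leech.StabOrbits

/-!
Orbits on short vectors of a subgroup containing all monomial elements.
-/

set_option autoImplicit false

namespace Cfsg.Agent.Lib.Leech

open Cfsg
open Cfsg.Agent.Lib
open scoped Pointwise

/-- A subgroup contains every monomial element. -/
def HasMono (K : Subgroup Co0) : Prop :=
  ∀ σ hσ w hw', monoCo σ hσ w hw' ∈ K

/-- Two integer vectors are related by an element of `K`. -/
def ConnIn (K : Subgroup Co0) (x y : GolayPt → ℤ) : Prop :=
  ∃ v w : leechLattice, (v : GolayPt → ℤ) = x ∧ (w : GolayPt → ℤ) = y ∧ ∃ g ∈ K, g • v = w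

variable {K : Subgroup Co0}

theorem ConnIn.symm {x y : GolayPt → ℤ} : ConnIn K x y → ConnIn K y x := by
  rintro ⟨v, w, hv, hw', g, hg, rfl⟩
  exact ⟨_, v, hw', hv, g⁻¹, inv_mem hg, inv_smul_smul g v⟩

theorem ConnIn.trans {x y z : GolayPt → ℤ} : ConnIn K x y → ConnIn K y z → ConnIn K x z := by
  rintro ⟨v, w, hv, hw', g, hg, rfl⟩ ⟨w', u, hw'', hu, h, hh, rfl⟩
  obtain rfl : g • v = w' := Subtype.ext (hw'.trans hw''.symm)
  exact ⟨v, _, hv, hu, h * g, mul_mem hh hg, mul_smul h g v⟩

variable (hK : HasMono K)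
include hK

theorem connIn_perm {σ : Equiv.Perm GolayPt} (hσ : σ ∈ M24) {x : GolayPt → ℤ}
    (hx : x ∈ leechLattice) : ConnIn K x fun i => x (σ.symm i) := by
  refine ⟨⟨x, hx⟩, monoCo σ hσ 0 (zero_mem _) • ⟨x, hx⟩, rfl, ?_, _, hK _ _ _ _, rfl⟩
  rw [monoCo_smul]
  funext i
  simp [signedPerm, support₂]

theorem connIn_flip {c : GolayPt → ZMod 2} (hc : c ∈ golayCode) {x : GolayPt → ℤ}
    (hx : x ∈ leechLattice) : ConnIn K x (flipSign (support₂ c) x) := by
  refine ⟨⟨x, hx⟩, monoCo 1 (one_mem _) c hc • ⟨x, hx⟩, rfl, ?_, _, hK _ _ _ _, rfl⟩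
  rw [monoCo_smul]
  rfl

/-- Vectors with equal absolute values connect when a code word flips the differing signs. -/
theorem connIn_of_abs {x y : GolayPt → ℤ} (hx : x ∈ leechLattice) (habs : ∀ i, |x i| = |y i|)
    {S : Finset GolayPt} (hS : ∀ i ∉ S, y i = 0)
    (hD : ∃ c ∈ golayCode, ∀ i ∈ S, (c i = 1 ↔ i ∈ S.filter fun i => x i ≠ y i)) : ConnIn K x y := by
  obtain ⟨c, hc, h⟩ := hD
  convert connIn_flip hK hc hx using 1
  funext i
  simp only [flipSign, support₂, Finset.mem_filter, Finset.mem_univ, true_and]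
  by_cases hi : i ∈ S
  · have h' := h i hi
    simp only [Finset.mem_filter, hi, true_and] at h'
    rcases abs_eq_abs.1 (habs i) with e | e
    · rcases zmod2_cases (c i) with ec | ec
      · simp [ec, e]
      · exact absurd e (h'.1 ec)
    · rcases zmod2_cases (c i) with ec | ec
      · have : ¬ x i ≠ y i := fun hne => by rw [h'.2 hne] at ec; exact one_ne_zero ec
        simp [ec, not_not.1 this]
      · simp [ec, e]
  · have := habs i
    rw [hS i hi, abs_zero, abs_eq_zero] at this
    simp [this, hS i hi]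

theorem connIn_A {x : GolayPt → ℤ} (hx : x ∈ leechLattice) {i j : GolayPt} (hij : i ≠ j)
    (h : ∀ k, |x k| = if k = i ∨ k = j then 4 else 0) : ConnIn K x repA := by
  obtain ⟨σ, hσ, hi, hj⟩ := exists_move_pair hij
  refine (connIn_perm hK hσ hx).trans (connIn_of_abs hK (perm_mem_leech (inv_mem hσ) hx) (fun k => ?_)
    (S := Golay.ptsOf 8388609) (fun k hk => ?_) (exists_trace trace_pair (Finset.filter_subset _ _) rfl))
  · rw [h]
    simp only [repA, ← hi, ← hj, Equiv.symm_apply_eq]
    split <;> norm_num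
  · refine if_neg fun hh => hk ?_
    rcases hh with rfl | rfl <;> decide +kernel

theorem connIn_two {S : ℕ} {wit : List ℕ} (hchk : traceCheck S (evenOn S) wit = true)
    {x : GolayPt → ℤ} (hx : x ∈ leechLattice) {c : GolayPt → ZMod 2}
    {σ : Equiv.Perm GolayPt} (hσ : σ ∈ M24) (hs : σ • support₂ c = Golay.ptsOf S)
    (h : ∀ k, |x k| = if c k = 1 then 2 else 0) {y : GolayPt → ℤ}
    (hy : y ∈ leechLattice) (hy' : ∀ p, y p = if p ∈ Golay.ptsOf S then 2 else 0) : ConnIn K x y := by
  have hx' := perm_mem_leech (inv_mem hσ) hx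
  have habs : ∀ k, |x (σ.symm k)| = |y k| := fun k => by
    rw [h, hy']
    simp only [← support₂_iff, ← smul_finset_iff hs]
    split <;> norm_num
  refine (connIn_perm hK hσ hx).trans (connIn_of_abs hK hx' habs (S := Golay.ptsOf S)
    (fun k hk => by rw [hy', if_neg hk]) (exists_trace hchk (Finset.filter_subset _ _) ?_))
  refine good_of_even subset_rfl (even_flips hx' hy (fun i => ?_) habs (fun i hi => ?_) (fun i hi => ?_))
  · have := h (σ.symm i)
    show x (σ.symm i) % 2 = 0
    split at this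
    · rcases (abs_eq (by norm_num)).1 this with e | e <;> rw [e] <;> norm_num
    · rw [abs_eq_zero] at this; rw [this]; norm_num
  · rw [hy', if_pos hi]; norm_num
  · rw [hy', if_neg hi]; exact dvd_zero _

theorem connIn_B {x : GolayPt → ℤ} (hx : x ∈ leechLattice) {c : GolayPt → ZMod 2} (hc : c ∈ golayCode)
    (h8 : (support₂ c).card = 8) (h : ∀ k, |x k| = if c k = 1 then 2 else 0) : ConnIn K x repB := by
  obtain ⟨σ, hσ, hs⟩ := exists_move_octad hc h8
  exact connIn_two hK trace_octad hx hσ hs h (leechChk_sound reps_check.2.1) fun _ => rfl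

theorem connIn_odd {x : GolayPt → ℤ} (hx : x ∈ leechLattice) {r : GolayPt → ℤ}
    (hr : ∀ i, r i % 4 = 1) {σ : Equiv.Perm GolayPt} (hσ : σ ∈ M24)
    (habs : ∀ k, |x (σ.symm k)| = |r k|) : ConnIn K x r := by
  have hx' : (fun i => x (σ.symm i)) ∈ leechLattice := perm_mem_leech (inv_mem hσ) hx
  refine (connIn_perm hK hσ hx).trans ?_
  have hodd : ∀ i, x (σ.symm i) % 2 = 1 := fun i => by
    have := hr i
    rcases abs_eq_abs.1 (habs i) with e | e <;> omega
  rcases mem_leech_iff.1 hx' with ⟨p, -, -⟩ | ⟨-, -, c⟩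
  · exact absurd (p none) (by have := hodd none; show ¬ x (σ.symm none) % 2 = 0; omega)
  · convert connIn_flip hK c hx' using 1
    funext i
    have h1 := hr i
    have h2 := hodd i
    simp only [flipSign, support₂, Finset.mem_filter, Finset.mem_univ, true_and, hw,
      intCast_zmod2_ne_zero]
    show r i = if x (σ.symm i) / 2 % 2 = 1 then -x (σ.symm i) else x (σ.symm i)
    rcases abs_eq_abs.1 (habs i) with e | e <;> split <;> omega

theorem connIn_C {x : GolayPt → ℤ} (hx : x ∈ leechLattice) {j : GolayPt}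
    (h : ∀ k, |x k| = if k = j then 3 else 1) : ConnIn K x (vec31 none) := by
  obtain ⟨σ, hσ, hj⟩ := exists_move_point j
  refine connIn_odd hK hx (fun i => by simp only [vec31]; split <;> norm_num) hσ fun k => ?_
  rw [h]; simp only [vec31, Equiv.symm_apply_eq, hj]; split <;> norm_num

end Cfsg.Agent.Lib.Leech
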