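import Cfsg.Agent.Lib.Leech.MonoOrbits

/-!
Classes of the vectors orthogonal to `(4, 4, 0²²)` under the monomial elements fixing it.
-/

set_option autoImplicit false

namespace Cfsg.Agent.Lib.Leech

open Cfsg
open Cfsg.Agent.Lib
open scoped Pointwise

/-- Related by an element of `K` fixing `(4, 4, 0²²)`. -/
def ConnFix (K : Subgroup Co0) (x y : GolayPt → ℤ) : Prop :=
  ∃ v w : leechLattice, (v : GolayPt → ℤ) = x ∧ (w : GolayPt → ℤ) = y ∧
    ∃ g ∈ K, g • baseU = baseU ∧ g • v = w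

/-- `x` has a representative with its key related to it. -/
def FoundFix (K : Subgroup Co0) (L : List (List Int)) (x : GolayPt → ℤ) : Prop :=
  ∃ i < L.length, SameKey x (repVec L i) ∧ ConnFix K x (repVec L i)

variable {K : Subgroup Co0}

theorem ConnFix.symm {x y : GolayPt → ℤ} : ConnFix K x y → ConnFix K y x := by
  rintro ⟨v, w, hv, hw', g, hg, hgu, rfl⟩
  exact ⟨_, v, hw', hv, g⁻¹, inv_mem hg, by rw [inv_smul_eq_iff, hgu], inv_smul_smul g v⟩

theorem ConnFix.trans {x y z : GolayPt → ℤ} : ConnFix K x y → ConnFix K y z → ConnFix K x z := by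
  rintro ⟨v, w, hv, hw', g, hg, hgu, rfl⟩ ⟨w', u, hw'', hu, h, hh, hhu, rfl⟩
  obtain rfl : g • v = w' := Subtype.ext (hw'.trans hw''.symm)
  exact ⟨v, _, hv, hu, h * g, mul_mem hh hg, by rw [mul_smul, hgu, hhu], mul_smul h g v⟩

variable (hK : HasMono K)
include hK

theorem connFix_mono {σ : Equiv.Perm GolayPt} (hσ : σ ∈ M24) {c : GolayPt → ZMod 2}
    (hc : c ∈ golayCode) (hu : signedPerm σ (support₂ c) repA = repA) {x : GolayPt → ℤ}
    (hx : x ∈ leechLattice) : ConnFix K x (signedPerm σ (support₂ c) x) :=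
  ⟨⟨x, hx⟩, monoCo σ hσ c hc • ⟨x, hx⟩, rfl, monoCo_smul .., _, hK _ _ _ _,
    Subtype.ext ((monoCo_smul ..).trans hu), rfl⟩

theorem connFix_perm {σ : Equiv.Perm GolayPt} (hσ : σ ∈ Spor.M22) {x : GolayPt → ℤ}
    (hx : x ∈ leechLattice) : ConnFix K x fun i => x (σ.symm i) := by
  have e : ∀ z : GolayPt → ℤ, signedPerm σ (support₂ (0 : GolayPt → ZMod 2)) z = fun i => z (σ.symm i) :=
    fun z => funext fun i => by simp [signedPerm, support₂]
  rw [← e]
  refine connFix_mono hK hσ.1.1 (zero_mem _) ?_ hx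
  rw [e]
  funext i
  have h1 : σ none = none := hσ.1.2
  have h2 : σ (some 0) = some 0 := hσ.2
  simp only [repA, Equiv.symm_apply_eq, h1, h2]

theorem connFix_flip {c : GolayPt → ZMod 2} (hc : c ∈ golayCode) (h1 : c none = 0)
    (h2 : c (some 0) = 0) {x : GolayPt → ℤ} (hx : x ∈ leechLattice) :
    ConnFix K x (flipSign (support₂ c) x) := by
  have e : ∀ z : GolayPt → ℤ, signedPerm 1 (support₂ c) z = flipSign (support₂ c) z := fun z => rfl
  rw [← e]
  refine connFix_mono hK (one_mem _) hc ?_ hx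
  rw [e]
  funext i
  simp only [flipSign, support₂_iff]
  split
  · rename_i h
    have : ¬ (i = none ∨ i = some 0) := by
      rintro (rfl | rfl)
      · exact zero_ne_one (h1.symm.trans h)
      · exact zero_ne_one (h2.symm.trans h)
    simp [repA, this]
  · rfl

theorem connFix_even {σ : Equiv.Perm GolayPt} (hσ : σ ∈ Spor.M22) {x r : GolayPt → ℤ}
    (hx : x ∈ leechLattice) (hr : r ∈ leechLattice) (hr0 : ∀ i, r i % 2 = 0)
    (habs : ∀ k, |x (σ.symm k)| = |r k|) (h1 : x none = r none) (h2 : x (some 0) = r (some 0))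
    {S E : ℕ} {wit : List ℕ}
    (hchk : traceCheck S (fun m => evenOn E m && !m.testBit 23 && !m.testBit 0) wit = true)
    (hS : ∀ i ∉ Golay.ptsOf S, r i = 0) (hS' : none ∈ Golay.ptsOf S ∧ some 0 ∈ Golay.ptsOf S)
    (hES : Golay.ptsOf E ⊆ Golay.ptsOf S) (hE : ∀ i ∈ Golay.ptsOf E, |r i| = 2)
    (hE' : ∀ i ∉ Golay.ptsOf E, (4 : ℤ) ∣ r i) : ConnFix K x r := by
  have hx' : (fun i => x (σ.symm i)) ∈ leechLattice := perm_mem_leech (inv_mem hσ.1.1) hx
  have f1 : σ.symm none = none := (Equiv.symm_apply_eq σ).2 (Eq.symm hσ.1.2)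
  have f2 : σ.symm (some 0) = some 0 := (Equiv.symm_apply_eq σ).2 (Eq.symm hσ.2)
  set D := (Golay.ptsOf S).filter fun i => x (σ.symm i) ≠ r i with hDdef
  have hnD : none ∉ D ∧ some 0 ∉ D := by simp [hDdef, f1, f2, h1, h2]
  have hgood : (evenOn E (Golay.maskOf D) && !(Golay.maskOf D).testBit 23 &&
      !(Golay.maskOf D).testBit 0) = true := by
    have hbit : ∀ p : GolayPt, p ∉ D → (Golay.maskOf D).testBit (Golay.idx p).val = false := by
      intro p hp
      rw [Bool.eq_false_iff]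
      intro h
      exact hp (by rwa [← Golay.mem_ptsOf, Golay.ptsOf_maskOf] at h)
    have hev : evenOn E (Golay.maskOf D) = true := by
      refine good_of_even hES (even_flips hx' hr (fun i => ?_) habs hE hE')
      have := hr0 i
      show x (σ.symm i) % 2 = 0
      rcases abs_eq_abs.1 (habs i) with e | e <;> omega
    rw [hev, show (Golay.maskOf D).testBit 23 = false from hbit none hnD.1,
      show (Golay.maskOf D).testBit 0 = false from hbit (some 0) hnD.2]
    rfl
  obtain ⟨c, hc, hcD⟩ := exists_trace hchk (Finset.filter_subset _ _) hgood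
  have c1 : c none = 0 := (zmod2_cases _).resolve_right fun e => hnD.1 ((hcD none hS'.1).1 e)
  have c2 : c (some 0) = 0 := (zmod2_cases _).resolve_right fun e => hnD.2 ((hcD _ hS'.2).1 e)
  refine (connFix_perm hK hσ hx).trans ?_
  convert connFix_flip hK hc c1 c2 hx' using 1
  funext i
  simp only [flipSign, support₂_iff]
  by_cases hi : i ∈ Golay.ptsOf S
  · have h := hcD i hi
    simp only [hDdef, Finset.mem_filter, hi, true_and] at h
    rcases abs_eq_abs.1 (habs i) with e | e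
    · rw [if_neg (fun hh => h.1 hh e), e]
    · by_cases hne : x (σ.symm i) ≠ r i
      · rw [if_pos (h.2 hne), e, neg_neg]
      · rw [if_neg (fun hh => hne (h.1 hh))]; exact (not_not.1 hne).symm
  · have := habs i
    rw [hS i hi, abs_zero, abs_eq_zero] at this
    simp [this, hS i hi]

theorem connFix_odd {σ : Equiv.Perm GolayPt} (hσ : σ ∈ Spor.M22) {x r : GolayPt → ℤ}
    (hx : x ∈ leechLattice) (hr : r ∈ leechLattice) (hr1 : ∀ i, r i % 2 = 1)
    (habs : ∀ k, |x (σ.symm k)| = |r k|) (h1 : x none = r none) (h2 : x (some 0) = r (some 0)) :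
    ConnFix K x r := by
  have hx' : (fun i => x (σ.symm i)) ∈ leechLattice := perm_mem_leech (inv_mem hσ.1.1) hx
  have f1 : σ.symm none = none := (Equiv.symm_apply_eq σ).2 (Eq.symm hσ.1.2)
  have f2 : σ.symm (some 0) = some 0 := (Equiv.symm_apply_eq σ).2 (Eq.symm hσ.2)
  have hodd : ∀ i, x (σ.symm i) % 2 = 1 := fun i => by
    have := hr1 i
    rcases abs_eq_abs.1 (habs i) with e | e <;> omega
  have hcx : hw (fun i => x (σ.symm i)) ∈ golayCode := by
    rcases mem_leech_iff.1 hx' with ⟨-, -, c⟩ | ⟨-, -, c⟩ <;> exact c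
  have hcr : hw r ∈ golayCode := by rcases mem_leech_iff.1 hr with ⟨-, -, c⟩ | ⟨-, -, c⟩ <;> exact c
  refine (connFix_perm hK hσ hx).trans ?_
  convert connFix_flip hK (add_mem hcx hcr) ?_ ?_ hx' using 1
  · funext i
    simp only [flipSign, support₂_iff, Pi.add_apply, hw, ← Int.cast_add, intCast_zmod2_eq_one']
    have := hodd i
    rcases abs_eq_abs.1 (habs i) with e | e <;> split <;> omega
  · simp only [Pi.add_apply, hw, f1, h1]; exact CharTwo.add_self_eq_zero _
  · simp only [Pi.add_apply, hw, f2, h2]; exact CharTwo.add_self_eq_zero _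
where
  intCast_zmod2_eq_one' {a : ℤ} : (a : ZMod 2) = 1 ↔ a % 2 = 1 := by
    rw [show (1 : ZMod 2) = ((1 : ℤ) : ZMod 2) by simp, ZMod.intCast_eq_intCast_iff]; exact Iff.rfl

theorem foundFix_even {L : List (List Int)} {i : ℕ} (hi : i < L.length) {σ : Equiv.Perm GolayPt}
    (hσ : σ ∈ Spor.M22) {x : GolayPt → ℤ} (hx : x ∈ leechLattice)
    (habs : ∀ k, |x (σ.symm k)| = |repVec L i k|) (h1 : x none = repVec L i none)
    (h2 : x (some 0) = repVec L i (some 0)) {S E : ℕ} {wit : List ℕ}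
    (hchk : traceCheck S (goodU E) wit = true) (hr : EvenRep (repVec L i) S E) : FoundFix K L x := by
  obtain ⟨r1, r2, r3, r4, r5, r6, r7, r8⟩ := hr
  exact ⟨i, hi, sameKey_of_abs habs h1 h2, connFix_even hK hσ hx (leechChk_sound r1) r2 habs h1 h2 hchk r3
    ⟨r4, r5⟩ r6 r7 fun k hk => Int.dvd_of_emod_eq_zero (r8 k hk)⟩

theorem foundFix_odd {L : List (List Int)} {i : ℕ} (hi : i < L.length) {σ : Equiv.Perm GolayPt}
    (hσ : σ ∈ Spor.M22) {x : GolayPt → ℤ} (hx : x ∈ leechLattice)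
    (habs : ∀ k, |x (σ.symm k)| = |repVec L i k|) (h1 : x none = repVec L i none)
    (h2 : x (some 0) = repVec L i (some 0)) (hr : OddRep (repVec L i)) : FoundFix K L x :=
  ⟨i, hi, sameKey_of_abs habs h1 h2, connFix_odd hK hσ hx (leechChk_sound hr.1) hr.2 habs h1 h2⟩

theorem class_orthFix (x : GolayPt → ℤ) (hx : onLine 32 0 x) : FoundFix K StabData.repsOrth x := by
  obtain ⟨hx, hn, hs⟩ := hx
  obtain ⟨e0, e1, e2, e3, e4, e5, e6, e7, ⟨a0, b0, a1, b1, a2, b2, a3, b3, a4, b4, a5, b5, a6, b6, a7, b7⟩,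
    p0, p1, p2, p3, p4, p5, p6, p7⟩ := repsOrth_ok
  rcases shape32 hx hn with ⟨i, j, hij, hk⟩ | ⟨c, hc, h8, hk⟩ | ⟨j, hk⟩
  · have hv : ∀ p, ((p = i ∨ p = j) ∧ (x p = 4 ∨ x p = -4)) ∨ (¬(p = i ∨ p = j) ∧ x p = 0) := by
      intro p
      by_cases hp : p = i ∨ p = j
      · exact Or.inl ⟨hp, abs_cases (by norm_num) (by rw [hk, if_pos hp])⟩
      · exact Or.inr ⟨hp, abs_eq_zero.1 (by rw [hk, if_neg hp])⟩
    rcases hv none with ⟨hi, v1⟩ | ⟨hi, v1⟩ <;> rcases hv (some 0) with ⟨hj, v2⟩ | ⟨hj, v2⟩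
    · have hpat : ∀ r : GolayPt → ℤ, (∀ k, |r k| = pat 8388609 4 0 0 0 k) → ∀ k, |x ((1 : Equiv.Perm GolayPt).symm k)| = |r k| := by
        intro r hr k
        rw [hk, hr]
        simp only [pat, not_mem_ptsOf_empty, if_false, mem_ptsOf_ends]
        show (if k = i ∨ k = j then (4 : ℤ) else 0) = _
        refine if_congr ?_ rfl rfl
        rcases hi with q | q <;> rcases hj with q' | q'
        · exact absurd (q'.trans q.symm) (by simp)
        · rw [← q, ← q']
        · rw [← q, ← q', or_comm]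
        · exact absurd (q'.trans q.symm) (by simp)
      rcases v1 with v1 | v1
      · exact foundFix_even hK (i := 0) (by decide) (one_mem _) hx (hpat _ p0) (by rw [a0, v1]) (by rw [b0]; omega) tracesU_ok.1 e0
      · exact foundFix_even hK (i := 1) (by decide) (one_mem _) hx (hpat _ p1) (by rw [a1, v1]) (by rw [b1]; omega) tracesU_ok.1 e1
    · exfalso; omega
    · exfalso; omega
    · push Not at hi hj
      obtain ⟨σ, hσ, hpr⟩ := move_pairRest hij hi.1.symm hi.2.symm hj.1.symm hj.2.symm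
      refine foundFix_even hK (i := 2) (by decide) hσ hx (fun k => ?_) (by rw [a2, v1]) (by rw [b2, v2]) tracesU_ok.1 e2
      rw [hk, p2]
      simp only [pat, not_mem_ptsOf_empty, if_false, smul_finset_iff hpr, Finset.mem_insert,
        Finset.mem_singleton]
  · rcases code_at hk (by norm_num) none with ⟨hi, v1⟩ | ⟨hi, v1⟩ <;>
      rcases code_at hk (by norm_num) (some 0) with ⟨hj, v2⟩ | ⟨hj, v2⟩
    · obtain ⟨σ, hσ, hm⟩ := move_code hc h8 coversTwo_ok.2.2.1 (code_ends hi) (code_ends hj)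
      rcases v1 with v1 | v1
      · exact foundFix_even hK (i := 3) (by decide) hσ hx (habs_code hm hk p3) (by rw [a3, v1]) (by rw [b3]; omega) tracesU_ok.2.2.1 e3
      · exact foundFix_even hK (i := 4) (by decide) hσ hx (habs_code hm hk p4) (by rw [a4, v1]) (by rw [b4]; omega) tracesU_ok.2.2.1 e4
    · exfalso; omega
    · exfalso; omega
    · obtain ⟨σ, hσ, hm⟩ := move_code hc h8 coversTwo_ok.2.1 (code_ends hi) (code_ends hj)
      exact foundFix_even hK (i := 5) (by decide) hσ hx (habs_code hm hk p5) (by rw [a5, v1]) (by rw [b5, v2]) tracesU_ok.2.1 e5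
  · have hv : ∀ p, (p = j ∧ (x p = 3 ∨ x p = -3)) ∨ (p ≠ j ∧ (x p = 1 ∨ x p = -1)) := by
      intro p
      by_cases hp : p = j
      · exact Or.inl ⟨hp, abs_cases (by norm_num) (by rw [hk, if_pos hp])⟩
      · exact Or.inr ⟨hp, abs_cases (by norm_num) (by rw [hk, if_neg hp])⟩
    rcases hv none with ⟨hi, v1⟩ | ⟨hi, v1⟩ <;> rcases hv (some 0) with ⟨hj, v2⟩ | ⟨hj, v2⟩
    · exact absurd (hj.trans hi.symm) (by simp)
    · exfalso; omega
    · exfalso; omega
    · obtain ⟨σ, hσ, hm⟩ := exists_move_fix_two (p := j) hi.symm hj.symm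
      have hmem : ∀ k, k ∈ Golay.ptsOf 2 ↔ k = σ j := fun k => by rw [mem_ptsOf_two, hm]
      rcases v1 with v1 | v1
      · exact foundFix_odd hK (i := 6) (by decide) hσ hx (habs_point hmem hk p6) (by rw [a6, v1]) (by rw [b6]; omega) e6
      · exact foundFix_odd hK (i := 7) (by decide) hσ hx (habs_point hmem hk p7) (by rw [a7, v1]) (by rw [b7]; omega) e7

end Cfsg.Agent.Lib.Leech
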