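/-
Certificate data: code-preserving permutations and words for orbit coverings.
-/
import Mathlib.Init

set_option autoImplicit false

namespace Cfsg.Agent.Lib.Leech.MoveData

/-- Certificate data. -/
def gensAll : List (List Nat) :=
  [[1, 2, 3, 4, 5, 6, 7, 8, 9, 10, 11, 12, 13, 14, 15, 16, 17, 18, 19, 20, 21, 22, 0, 23],
   [23, 22, 11, 15, 17, 9, 19, 13, 20, 5, 16, 2, 21, 7, 18, 3, 10, 4, 14, 6, 8, 12, 1, 0],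
   [0, 18, 6, 3, 2, 21, 1, 5, 16, 12, 7, 19, 8, 9, 17, 15, 13, 11, 4, 22, 10, 20, 14, 23],
   [0, 2, 4, 6, 8, 10, 12, 14, 16, 18, 20, 22, 1, 3, 5, 7, 9, 11, 13, 15, 17, 19, 21, 23]]

/-- Certificate data. -/
def gensFixInf : List (List Nat) :=
  [[0, 7, 22, 17, 15, 1, 3, 4, 8, 2, 12, 21, 13, 19, 10, 5, 20, 11, 18, 14, 9, 6, 16, 23],
   [19, 16, 3, 15, 6, 12, 21, 14, 9, 5, 4, 10, 20, 1, 18, 7, 17, 11, 8, 13, 2, 0, 22, 23],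
   [17, 2, 6, 13, 8, 20, 4, 14, 9, 19, 5, 3, 10, 15, 11, 12, 22, 1, 7, 16, 18, 21, 0, 23],
   [6, 3, 4, 21, 9, 10, 8, 17, 7, 18, 15, 14, 22, 16, 19, 2, 11, 12, 0, 20, 1, 5, 13, 23]]

/-- Certificate data. -/
def gensFixTwo : List (List Nat) :=
  [[0, 21, 15, 17, 2, 7, 3, 1, 6, 8, 11, 13, 4, 18, 14, 19, 16, 9, 20, 12, 10, 22, 5, 23],
   [0, 11, 1, 17, 6, 7, 2, 8, 9, 4, 19, 21, 5, 16, 22, 20, 14, 10, 13, 18, 3, 12, 15, 23],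
   [0, 1, 10, 17, 3, 22, 18, 21, 15, 16, 19, 2, 9, 13, 11, 12, 8, 7, 20, 14, 5, 4, 6, 23],
   [0, 4, 21, 18, 19, 1, 2, 3, 20, 12, 7, 6, 15, 17, 10, 11, 5, 14, 13, 8, 16, 9, 22, 23]]

/-- Certificate data. -/
def gensOctad : List (List Nat) :=
  [[20, 14, 0, 4, 5, 17, 2, 23, 18, 8, 9, 6, 16, 15, 12, 13, 19, 3, 7, 22, 10, 11, 1, 21],
   [20, 15, 6, 4, 8, 0, 9, 18, 3, 5, 7, 11, 22, 12, 13, 14, 19, 21, 10, 16, 2, 17, 1, 23],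
   [9, 13, 3, 8, 2, 7, 17, 20, 21, 4, 6, 10, 15, 19, 14, 16, 1, 5, 18, 22, 11, 0, 12, 23],
   [17, 16, 7, 6, 18, 8, 21, 4, 10, 11, 3, 9, 12, 13, 19, 14, 22, 2, 0, 15, 23, 5, 1, 20]]

/-- Certificate data. -/
def wordsPoint : List (List Nat) :=
  [[1],
   [0, 1],
   [0, 0, 1],
   [0, 0, 0, 1],
   [3, 0, 0, 1],
   [0, 3, 0, 0, 1],
   [2, 0, 0, 1],
   [0, 2, 0, 0, 1],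
   [3, 3, 0, 0, 1],
   [2, 3, 2, 0, 1],
   [3, 0, 3, 0, 0, 1],
   [1, 0, 0, 1],
   [0, 1, 0, 0, 1],
   [3, 2, 0, 1],
   [2, 1, 0, 1],
   [1, 0, 0, 0, 1],
   [0, 1, 0, 0, 0, 1],
   [1, 3, 0, 0, 1],
   [2, 0, 1],
   [0, 2, 0, 1],
   [2, 3, 1, 0, 1],
   [3, 1, 0, 1],
   [1, 0, 1],
   []]

/-- Certificate data. -/
def wordsFixInf : List (List Nat) :=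
  [[],
   [2, 2],
   [1, 3, 1],
   [0, 3],
   [2, 3],
   [3, 1, 3],
   [3],
   [0, 2, 2],
   [3, 3],
   [0, 3, 1],
   [0, 0, 1],
   [0, 2],
   [3, 2],
   [1, 1],
   [0, 1],
   [2, 1, 1],
   [2, 1],
   [2],
   [1, 0, 1],
   [1],
   [3, 1],
   [1, 3],
   [2, 2, 1]]

/-- Certificate data. -/
def wordsFixTwo : List (List Nat) :=
  [[],
   [2, 1],
   [2, 3],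
   [3],
   [0, 0, 0],
   [3, 1],
   [0, 0, 0, 0],
   [0, 3, 0],
   [3, 0],
   [2, 2, 1],
   [1],
   [1, 0],
   [0, 1],
   [2, 3, 3],
   [1, 0, 0],
   [2, 3, 0],
   [3, 0, 1],
   [0, 0, 1],
   [3, 3],
   [1, 1, 0, 0],
   [0],
   [0, 0]]

/-- Certificate data. -/
def wordsOctPoint : List (List Nat) :=
  [[],
   [1, 0],
   [0, 3],
   [2, 2],
   [1, 2],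
   [2, 0, 0],
   [1, 0, 0],
   [0, 2],
   [2],
   [0, 0],
   [2, 0],
   [3],
   [0, 0, 2],
   [0],
   [1, 3],
   [3, 0]]

/-- Certificate data. -/
def wordsOctad : List (List Nat) :=
  [[1, 0, 0, 2, 0, 1, 0],
   [],
   [1, 0, 2, 2, 1, 0],
   [3, 2, 1, 0, 1],
   [0],
   [1, 3, 3, 0],
   [3, 2, 1, 0, 1, 0],
   [0, 3, 2, 3, 1],
   [0, 3, 2, 1, 0, 1],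
   [0, 0],
   [3, 2, 0, 3, 0, 1, 0],
   [0, 1, 3, 3, 0],
   [1, 3, 0, 1, 0, 2],
   [1, 0, 0, 0, 2, 1],
   [3, 0, 2, 3, 1],
   [3, 0, 2, 1, 0, 1],
   [3, 0, 3, 2, 2],
   [0, 0, 0],
   [0, 1, 3, 2, 2, 0],
   [3, 2, 0, 0, 0, 1],
   [1, 3, 2, 0, 3, 1, 0],
   [0, 0, 1, 3, 3, 0],
   [3, 0, 2, 3, 0, 0],
   [0, 3, 3, 2, 3],
   [2, 0, 2, 2, 1],
   [1, 0, 3, 2, 0, 0],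
   [3, 3, 3, 0],
   [0, 3, 0, 2, 3, 1],
   [2, 2, 2, 0, 0, 2],
   [2, 1, 0, 2, 0, 1, 0],
   [2, 3, 2, 1, 0, 0],
   [3, 0, 0, 0, 1, 0],
   [0, 0, 0, 0],
   [1, 3, 0, 1, 0, 0],
   [1, 0, 3, 2, 1],
   [0, 1, 3, 1, 0, 1],
   [2, 0, 2, 2, 1, 0],
   [0, 2, 0, 0],
   [2, 3, 0, 3, 1, 0],
   [2, 1, 3, 3, 2],
   [2, 0, 0, 2, 1, 0],
   [3, 0, 3, 2, 3],
   [1, 0, 3, 1, 0],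
   [3, 3, 1],
   [0, 2, 0, 2, 2, 1],
   [2, 2, 0, 1, 0, 2],
   [3, 2, 2, 3, 0],
   [0, 2, 0, 3, 1, 0],
   [3, 3, 2, 0],
   [3, 1],
   [2, 0, 2, 1],
   [2, 0, 1, 3, 2, 0],
   [2, 0, 3, 2, 2, 0],
   [1, 3, 2, 3, 0],
   [0, 2, 2, 3, 3, 0],
   [3, 3, 0, 2, 2],
   [0, 2, 0, 1, 0, 2],
   [0, 3, 0, 0, 0, 1, 0],
   [1, 0, 3, 2],
   [1, 3, 1, 0, 1, 0],
   [0, 2, 3, 0, 3, 1],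
   [2, 2, 3, 3, 1],
   [0, 2, 3, 0],
   [1, 0, 1, 0, 2],
   [1, 0, 1, 0, 2, 0],
   [0, 0, 2, 0, 0],
   [0, 0, 1, 0, 0],
   [3, 2, 0, 2, 0, 1, 0],
   [3, 2, 2, 2, 1, 0],
   [2, 0, 1],
   [0, 0, 2, 0, 0, 0, 0],
   [2, 3],
   [2, 2, 1, 0],
   [1, 3, 3, 3, 3, 0],
   [2, 3, 2, 2, 0],
   [3, 0, 1, 0, 1],
   [0, 3, 3, 1],
   [2, 0, 2, 3, 3],
   [0, 1, 3, 3],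
   [1, 3, 1, 0, 3, 1, 0],
   [2, 0, 3, 0, 2],
   [2, 0, 1, 0, 0, 1],
   [2, 1, 3, 0, 0, 1],
   [1, 0, 0, 0, 1, 0],
   [2, 3, 2, 1, 0],
   [3, 2, 2, 0],
   [0, 3, 1],
   [1, 3, 0, 2, 2, 1],
   [0, 1, 0, 1],
   [2, 2, 3, 2, 0],
   [2, 3, 0, 1, 0],
   [2, 0, 2],
   [1, 3, 3, 2, 0],
   [2, 3, 3, 0],
   [3, 3, 3, 3, 1],
   [0, 1, 3, 2, 3, 0],
   [1, 3, 2, 0, 0],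
   [3, 2, 0, 1, 0, 0],
   [2, 1, 0, 2],
   [2, 0, 3, 2, 1, 0],
   [3, 3, 0, 1, 0, 2],
   [0, 0, 2, 0, 3, 3],
   [0, 1, 0, 3, 2],
   [3, 3, 1, 0, 1, 3],
   [0, 2, 0, 0, 0],
   [3, 1, 0, 1, 0, 1],
   [1, 3, 0, 0, 0],
   [1, 3, 0, 3, 3, 1],
   [3, 3, 2, 2, 0],
   [2, 1],
   [2, 1, 0],
   [1, 0, 3, 2, 0],
   [3, 3, 0, 1, 0, 0],
   [0, 0, 0, 1, 0, 0],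
   [2, 1, 0, 3, 0, 1, 0],
   [2, 2, 0, 2, 1, 0],
   [0, 2, 0, 1],
   [2, 2, 2, 0, 0],
   [2, 0, 3],
   [0, 2, 3],
   [3, 2, 2, 2, 0, 0],
   [3, 1, 0, 3, 3],
   [0, 2, 2, 1, 0],
   [3, 0, 3, 2, 1],
   [0, 1, 3, 3, 3, 3, 0],
   [1, 3, 3, 2],
   [0, 3, 0, 1, 0, 1],
   [3, 0, 3, 1],
   [0, 0, 2, 2, 1],
   [2, 3, 3],
   [1, 0, 3, 0, 0],
   [2, 2, 3, 0, 0],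
   [2, 3, 0, 2, 2, 1, 0],
   [2, 0, 1, 0],
   [3, 0, 2, 2, 3, 0],
   [1, 3, 2, 0],
   [2, 2, 1, 3],
   [0, 2, 1, 3, 0, 0, 1],
   [1, 3, 2, 2, 0, 0],
   [1, 0, 3, 3, 2],
   [3, 2, 3, 0, 0, 1],
   [0, 3, 2, 2, 0],
   [1, 3, 0, 2, 3, 0, 0],
   [3, 0, 1],
   [0, 3, 2, 0],
   [2, 0, 2, 0, 0],
   [0, 0, 1, 0, 1],
   [1, 0, 1, 0, 3, 0],
   [0, 2, 2, 3, 2, 0],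
   [3, 0, 0, 0, 1],
   [0, 2, 3, 0, 1, 0],
   [2, 2, 2, 0],
   [1, 0, 2, 2, 3, 0],
   [0, 2, 0, 2],
   [0, 1, 3, 3, 2, 0],
   [0, 2, 3, 3, 0],
   [2, 0, 2, 0, 0, 0],
   [2, 2, 1, 0, 1, 0, 0],
   [2, 3, 2, 0, 0, 0],
   [3, 3, 3],
   [2, 1, 3, 1],
   [0, 2, 1, 0, 2],
   [0, 3, 2, 2, 2],
   [3, 1, 0],
   [0, 1, 0, 0, 0, 1],
   [2, 2, 1, 3, 0],
   [0, 0, 0, 1, 3],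
   [2, 0, 1, 3, 2, 2, 0],
   [3, 2, 2, 2, 0, 3],
   [2, 2, 3, 0],
   [3, 0, 2, 3, 0],
   [0, 3, 2],
   [3, 2, 1, 0, 3, 1, 0],
   [0, 0, 2, 0, 0, 0],
   [1, 0, 1, 0, 1, 3],
   [1, 0, 1, 3, 3],
   [3, 1, 0, 2, 3, 3, 0],
   [3, 0, 2, 2, 1, 0],
   [0, 0, 1, 0, 0, 0],
   [2, 2, 2, 2, 0, 0],
   [0, 2, 1],
   [0, 2, 1, 0],
   [2, 0, 3, 0, 0, 0],
   [0, 1, 0, 3, 2, 0],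
   [1, 0, 2, 3, 0],
   [3, 3, 2, 3, 0],
   [3, 3, 0, 0, 0],
   [2, 2, 0, 2, 0, 1, 0],
   [1, 0, 3, 1],
   [2, 3, 2, 2, 1, 0],
   [0, 2, 2, 0, 2, 1, 0],
   [2, 0, 3, 0],
   [2, 2, 0, 0, 1],
   [2, 1, 0, 0],
   [3, 3, 2, 1, 0],
   [0, 0, 2, 3],
   [2, 3, 0, 2, 1],
   [0, 2, 3, 0, 0, 1],
   [2, 0, 2, 0],
   [1, 0, 2, 0, 1, 0],
   [3, 2, 0, 0, 0],
   [0, 3, 0, 3, 2, 1],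
   [1, 3, 0, 2, 3, 1],
   [2, 0, 3, 2, 2],
   [3, 2, 2, 3],
   [3, 0, 0, 1, 0, 1],
   [3, 2, 2, 0, 0],
   [0, 2, 1, 0, 1, 0, 0],
   [3, 1, 0, 0],
   [0, 2, 3, 3],
   [1, 0, 3, 0],
   [3, 0, 1, 0, 0, 1],
   [2, 0, 3, 3, 3],
   [2, 0, 1, 0, 0],
   [2, 3, 0, 1, 0, 1],
   [3, 2, 0, 3, 2, 2],
   [0, 2, 2, 2],
   [0, 2, 0, 1, 0],
   [2, 2, 2, 2, 1, 0, 0],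
   [0, 1, 3, 2, 0],
   [0, 2, 0, 3, 2],
   [1, 0, 0, 2, 3, 2],
   [0, 2, 3, 3, 1, 0],
   [2, 0, 2, 0, 2],
   [3, 2, 0, 1, 0],
   [3, 2, 3, 2, 2, 1],
   [3, 3, 3, 0, 1, 0],
   [0, 2, 3, 3, 1],
   [3, 1, 0, 0, 0, 1, 0],
   [3, 0, 2, 2, 0],
   [1, 3, 0, 2, 0, 0, 0],
   [1, 0, 0, 2, 1, 0],
   [1, 0, 2, 0, 2, 0, 0],
   [0, 3, 0, 1],
   [2, 3, 0, 0, 0],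
   [3, 0, 2, 0],
   [3, 3, 1, 0],
   [0, 2, 0, 2, 0, 0],
   [0, 0, 2, 2, 2, 3],
   [0, 0, 0, 1, 0, 1],
   [1, 3, 0],
   [2, 2, 3, 0, 0, 1],
   [2, 3, 2],
   [2, 1, 3, 2, 0],
   [2, 2, 0, 1, 0, 0],
   [0, 2, 2, 2, 0],
   [0, 3, 0, 3, 2],
   [1, 3, 0, 3, 1, 0],
   [2, 2, 0, 0, 0],
   [2, 2, 2, 1, 0],
   [0, 0, 2, 3, 3, 0],
   [1, 3, 0, 3, 1],
   [3, 0, 3, 3, 3, 1],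
   [2, 1, 3, 0, 3, 1, 0],
   [3, 2, 0, 2, 1, 0],
   [1, 3, 3, 1],
   [0, 3, 3, 3],
   [2, 3, 0, 0],
   [1, 0, 1, 0],
   [0, 0, 2, 1, 0, 2],
   [2, 2, 0, 3],
   [3, 2, 0, 3],
   [3, 2, 2, 2, 2],
   [0, 3, 1, 0],
   [2, 0, 3, 2, 0, 1],
   [3, 3, 0, 1, 0],
   [2, 0, 1, 3, 2],
   [2, 3, 3, 2],
   [2, 3, 1, 0, 3, 1, 0],
   [2, 2, 0, 0, 0, 0],
   [0, 2, 2, 3, 0],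
   [3, 2, 0, 2, 1],
   [0, 2, 3, 1, 0, 1],
   [1, 0, 0, 1, 3],
   [3, 0, 2],
   [2, 0, 0, 0, 1, 0],
   [3, 3, 3, 0, 2, 1],
   [0, 3, 3, 1, 0, 1],
   [3],
   [2, 2, 0, 0, 2],
   [1, 0, 3, 0, 3],
   [2, 0, 2, 0, 0, 1, 0],
   [1, 3, 0, 1, 0, 1],
   [0, 3, 0, 2, 2, 1, 0],
   [2, 0, 0, 0, 1],
   [0, 3, 1, 0, 0, 0],
   [2, 1, 0, 2, 0],
   [3, 0, 3, 2, 2, 0],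
   [0, 0, 2, 1],
   [0, 0, 2, 1, 0],
   [2],
   [0, 3, 0, 1, 0, 2],
   [3, 3, 0, 3],
   [2, 2, 0, 3, 0, 1, 0],
   [0, 1, 0, 2, 3, 0, 0],
   [2, 0, 3, 2, 0],
   [2, 1, 3],
   [0, 3, 3, 2, 3, 0],
   [1, 0, 2, 1, 0],
   [1, 0, 0, 2, 3],
   [3, 2, 0, 3, 0],
   [0, 3, 2, 0, 2],
   [2, 1, 0, 3, 1, 0],
   [1, 0, 0, 1],
   [1, 0, 3, 2, 2, 1],
   [0, 0, 1],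
   [0, 2, 0, 3, 0],
   [0, 2, 2, 0, 0, 1],
   [0, 2, 1, 0, 0],
   [0, 3, 3, 2, 1, 0],
   [0, 0, 0, 2, 3],
   [0, 1, 3, 3, 0, 0, 1],
   [3, 2, 2, 0, 0, 1],
   [1, 0, 3, 3],
   [3, 0, 3],
   [0, 2, 0, 2, 0],
   [0, 1, 0, 2, 0, 1, 0],
   [0, 3, 2, 0, 0, 0],
   [0, 1, 3, 1],
   [3, 3, 0, 2, 1],
   [3, 3, 2, 0, 1, 0],
   [2, 0, 1, 3],
   [1, 3, 3, 3],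
   [2, 3, 0, 0, 2, 1, 0],
   [0, 3, 2, 0, 0],
   [3, 3, 0, 1],
   [1, 3, 0, 2],
   [0, 3, 1, 0, 0],
   [0, 0, 2, 3, 3],
   [2, 1, 3, 2],
   [2, 1, 0, 0, 1],
   [0, 1, 0, 3, 0],
   [2, 1, 0, 3, 2, 2],
   [1, 0, 2, 0],
   [0, 3, 3, 0, 2, 1, 0],
   [3, 2, 3, 0, 0],
   [0, 3, 2, 3, 2, 1],
   [1, 3, 0, 1],
   [1, 3, 0, 1, 0],
   [3, 3, 1, 0, 0],
   [0, 2, 3, 0, 1, 0, 1],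
   [1, 3, 2, 2, 2],
   [0, 0, 2, 2, 2],
   [3, 3, 1, 0, 0, 0],
   [0, 0, 2, 0, 1, 0],
   [1, 3, 0, 2, 1, 0],
   [1, 0, 0],
   [0, 0, 1, 3, 2, 0],
   [1, 3, 0, 3, 3],
   [1, 0, 3, 0, 3, 3],
   [0, 2, 2],
   [3, 3, 0, 3, 1, 0],
   [3, 0, 3, 2, 2, 1],
   [1, 0, 1, 0, 0, 1],
   [0, 3, 2, 0, 1, 0],
   [0, 2, 1, 3, 3],
   [2, 0, 3, 3],
   [2, 0, 0, 2, 1],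
   [0, 3, 3, 3, 0, 1, 0],
   [0, 0, 2, 3, 3, 1],
   [2, 1, 3, 2, 1],
   [2, 3, 2, 2, 0, 0],
   [2, 2, 1],
   [1, 0, 3, 0, 2],
   [0, 1, 3, 0, 2, 0, 0, 0],
   [2, 2, 0, 2, 1],
   [1, 3, 2, 0, 2, 0, 0, 0],
   [3, 2, 1, 0, 1, 0, 0],
   [3, 0, 0, 1],
   [1, 3, 0, 2, 1],
   [0, 3, 0, 2, 0],
   [0, 3, 3, 1, 0],
   [0, 1, 3],
   [3, 2, 3, 0],
   [0, 2, 3, 2, 0, 0],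
   [3, 2, 2, 1, 0],
   [2, 0, 3, 2, 3, 0],
   [1, 0, 2, 3, 3, 1],
   [1, 0, 2],
   [0, 0, 2, 2, 3],
   [2, 2, 2, 2, 1],
   [0, 2, 3, 2],
   [1, 0, 1, 3],
   [3, 0, 0, 2, 3, 2],
   [3, 2, 2, 2, 0],
   [2, 0, 2, 3, 2],
   [0, 2, 1, 3, 0],
   [3, 3, 0, 2],
   [3, 2, 0, 3, 2, 1, 0],
   [2, 2, 2, 3],
   [0, 1, 0, 2, 1],
   [0, 2, 2, 2, 1, 0],
   [2, 3, 0, 3, 0, 3],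
   [2, 0, 0, 2, 0, 3, 0],
   [2, 1, 0, 2, 2, 0],
   [3, 3, 3, 0, 3, 1],
   [2, 0, 3, 3, 2],
   [1, 0, 3, 0, 2, 2, 1],
   [0, 3, 2, 0, 2, 1, 0],
   [2, 1, 0, 2, 0, 2],
   [2, 1, 3, 1, 0],
   [3, 0, 3, 3],
   [1, 0, 3, 2, 1, 0, 1],
   [3, 2, 3],
   [0, 2, 3, 0, 0],
   [1],
   [3, 3, 3, 0, 1, 0, 1],
   [3, 3],
   [0, 0, 2, 3, 2, 0],
   [0, 3, 2, 0, 3],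
   [3, 0, 0, 2, 1, 0],
   [2, 0, 2, 0, 0, 2],
   [3, 0, 1, 0],
   [3, 0, 0, 2, 2, 1],
   [2, 2, 3, 1, 0, 3, 0],
   [0, 2, 2, 0],
   [0, 3, 3, 0, 1, 0],
   [2, 0, 0, 1],
   [2, 2, 2, 3, 0, 0],
   [3, 1, 0, 3, 0, 1, 0],
   [0, 2, 3, 3, 2],
   [1, 0, 2, 0, 3, 3],
   [2, 2, 3],
   [1, 3, 0, 3],
   [0, 0, 2, 2, 3, 0],
   [0, 3, 2, 0, 2, 1],
   [3, 3, 0, 1, 0, 1],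
   [2, 3, 3, 2, 1, 0],
   [2, 3, 2, 0],
   [3, 0, 2, 2, 1],
   [0, 3, 0, 2],
   [3, 1, 0, 3, 0, 1],
   [3, 2, 3, 2],
   [3, 1, 0, 3, 1, 0],
   [0, 3],
   [3, 2, 3, 2, 0],
   [3, 2, 1],
   [0, 3, 0],
   [2, 2, 1, 0, 0, 1],
   [1, 3, 1, 0],
   [0, 2, 3, 2, 1],
   [3, 1, 0, 2, 0, 1, 0],
   [2, 3, 3, 2, 1],
   [3, 0, 2, 1],
   [3, 0, 1, 0, 0, 0],
   [1, 0, 2, 2, 2],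
   [3, 3, 3, 3],
   [0, 3, 0, 0],
   [0, 0, 0, 2, 1],
   [0, 0, 0, 2, 1, 0],
   [3, 1, 0, 3, 2, 2],
   [0, 2],
   [2, 3, 1, 0],
   [2, 0, 2, 2, 2, 0],
   [0, 3, 3, 0, 3],
   [3, 1, 0, 1, 0, 0, 1],
   [1, 0, 2, 0, 0, 0],
   [3, 3, 3, 3, 0],
   [2, 2, 3, 2],
   [0, 2, 1, 3],
   [2, 0, 1, 3, 0, 3],
   [1, 0, 0, 2, 1, 3],
   [3, 0, 3, 2, 3, 0],
   [2, 3, 1, 0, 0],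
   [2, 2, 1, 0, 1, 3],
   [2, 0, 3, 1],
   [3, 0, 2, 0, 2],
   [3, 2, 0, 1],
   [1, 0, 3, 0, 1],
   [1, 0, 2, 0, 0],
   [0, 1, 0, 0, 1],
   [3, 3, 2],
   [0, 2, 2, 0, 2],
   [0, 0, 0, 1],
   [0, 0, 2, 0, 3, 0],
   [0, 0, 1, 0],
   [2, 1, 3, 2, 0, 0],
   [2, 0, 3, 2, 3],
   [1, 0, 2, 0, 2],
   [0, 2, 2, 2, 2],
   [1, 3, 2],
   [2, 3, 2, 2, 1],
   [3, 2, 1, 0, 2, 0, 1, 0],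
   [3, 2, 3, 0, 0, 0],
   [1, 0, 2, 2],
   [0, 3, 0, 3],
   [2, 3, 0, 2, 2],
   [3, 2, 0, 3, 3],
   [1, 0, 1, 0, 0],
   [3, 0, 2, 0, 0, 0],
   [2, 3, 3, 3, 0],
   [2, 3, 3, 3],
   [2, 2, 3, 3, 1, 0],
   [2, 0, 2, 3, 0],
   [3, 0, 2, 2, 3],
   [3, 0, 3, 3, 1],
   [0, 3, 0, 0, 0],
   [2, 2, 0, 1, 0, 0, 1],
   [3, 0, 2, 0, 0],
   [2, 3, 1],
   [0, 3, 2, 2],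
   [3, 2, 1, 0],
   [2, 0, 0, 1, 0],
   [3, 0, 1, 0, 0],
   [2, 0, 1, 0, 2, 1],
   [2, 0, 2, 2, 0],
   [0, 2, 1, 0, 0, 1],
   [1, 0, 1, 0, 1],
   [3, 1, 0, 3, 2, 0],
   [0, 0, 1, 0, 3, 0],
   [3, 2, 3, 1],
   [3, 3, 2, 0, 3, 1, 0],
   [0, 0, 2, 3, 1, 0],
   [0, 1, 0, 2, 0],
   [1, 3, 2, 2, 0],
   [0, 2, 1, 0, 2, 1, 0],
   [1, 3, 3, 3, 1],
   [3, 3, 2, 3],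
   [2, 3, 1, 0, 3, 0],
   [1, 0, 2, 3, 2, 1],
   [0, 1, 3, 0, 1],
   [1, 3, 1, 0, 1],
   [2, 0, 0],
   [2, 3, 0, 2, 0, 1, 0],
   [3, 1, 0, 1],
   [3, 2, 0, 1, 3],
   [2, 1, 0, 2, 3, 0],
   [2, 0, 3, 1, 0],
   [2, 2, 3, 2, 1],
   [1, 0, 2, 3, 1],
   [2, 2, 3, 3, 0],
   [2, 0, 1, 0, 2],
   [2, 3, 0, 3, 1],
   [2, 3, 0],
   [0, 1, 0, 0],
   [0, 0, 0, 1, 3, 2, 0],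
   [0, 2, 0, 0, 0, 0],
   [2, 3, 3, 0, 0, 2],
   [1, 0, 2, 0, 3, 2],
   [1, 3, 3],
   [2, 0, 3, 0, 1, 0],
   [3, 1, 0, 2, 1],
   [0, 3, 3, 0, 3, 1, 0],
   [3, 3, 3, 3, 3, 0],
   [1, 0, 1],
   [3, 3, 2, 0, 0],
   [3, 0, 2, 0, 1, 0],
   [2, 2, 2, 1, 0, 0],
   [3, 1, 0, 1, 0, 0],
   [0, 2, 0, 3, 3],
   [2, 0, 0, 0],
   [3, 3, 0, 2, 3, 0],
   [1, 0, 3, 2, 2],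
   [2, 2, 3, 3],
   [3, 3, 3, 0, 2],
   [2, 2, 1, 0, 0],
   [0, 3, 3, 2, 1],
   [0, 2, 2, 1],
   [3, 0, 1, 0, 3, 0],
   [1, 3, 2, 3, 0, 0, 1],
   [3, 1, 0, 2, 3, 0],
   [0, 2, 1, 0, 1, 0],
   [1, 0, 2, 3, 3, 2],
   [3, 2, 0],
   [3, 1, 0, 2, 2, 1, 0],
   [2, 1, 0, 0, 0],
   [3, 3, 0, 0, 2],
   [0, 1, 0, 3, 2, 2, 0],
   [0, 3, 2, 2, 0, 3],
   [3, 2, 2, 2],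
   [1, 0, 0, 0, 1],
   [3, 0, 3, 1, 0],
   [0, 0, 1, 3],
   [0, 3, 2, 3, 0],
   [3, 2],
   [2, 1, 0, 1, 3],
   [0, 1, 0, 0, 0],
   [3, 3, 2, 3, 2],
   [3, 2, 2, 0, 3, 1],
   [0, 1, 0, 2, 3, 3, 1],
   [3, 0, 2, 0, 1],
   [0, 1, 0, 2],
   [2, 3, 0, 0, 1],
   [2, 2, 2, 1],
   [0, 0, 2, 3, 2],
   [2, 1, 0, 1, 0, 0],
   [0, 1, 0, 1, 3],
   [0, 2, 0, 0, 2],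
   [3, 3, 1, 0, 1, 0],
   [2, 2, 2],
   [2, 0, 3, 2],
   [0, 3, 2, 0, 3, 1, 0],
   [2, 3, 3, 1, 0],
   [2, 3, 3, 1],
   [2, 3, 3, 0, 3],
   [0, 0, 2, 1, 3, 0],
   [0, 3, 3, 0, 2],
   [1, 0, 2, 3, 2, 2, 1],
   [0, 2, 2, 2, 3],
   [2, 1, 0, 0, 0, 1],
   [3, 0, 3, 2],
   [2, 2, 3, 3, 2],
   [0, 0, 2, 2, 2, 1, 0],
   [3, 3, 0, 3, 2, 3, 0],
   [1, 3, 0, 0, 2],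
   [1, 3, 0, 0, 0, 1],
   [1, 0, 2, 1, 0, 1],
   [2, 3, 0, 2, 3, 0],
   [2, 3, 1, 0, 1],
   [3, 3, 1, 0, 1],
   [1, 0, 1, 3, 3, 0],
   [2, 2, 3, 2, 1, 0],
   [0, 2, 1, 3, 1, 0],
   [3, 1, 0, 0, 0],
   [3, 0, 1, 0, 2],
   [0, 3, 0, 3, 3],
   [1, 0, 2, 3, 0, 0],
   [0, 3, 2, 3],
   [3, 2, 0, 2],
   [2, 1, 0, 2, 0, 0],
   [0, 1],
   [1, 3, 3, 0, 0, 1],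
   [0, 3, 3],
   [1, 3, 1],
   [3, 2, 0, 0],
   [3, 2, 1, 0, 0],
   [3, 1, 0, 1, 3],
   [3, 3, 0, 2, 1, 0],
   [2, 3, 3, 2, 0],
   [3, 2, 3, 2, 1],
   [0, 3, 0, 1, 0],
   [3, 3, 3, 0, 3],
   [2, 2, 0, 2, 0, 0, 0],
   [0, 0, 2, 2, 0],
   [2, 2],
   [3, 0, 3, 0, 1, 0],
   [2, 1, 3, 3],
   [3, 3, 0, 0, 1],
   [2, 2, 2, 0, 3],
   [3, 1, 0, 3, 0],
   [1, 0, 3, 3, 1, 0, 1],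
   [1, 3],
   [2, 3, 2, 0, 0],
   [3, 2, 3, 1, 0],
   [0, 2, 2, 3],
   [0, 1, 3, 0, 3],
   [2, 1, 3, 0],
   [1, 0, 2, 1],
   [2, 1, 0, 1, 0, 2],
   [3, 2, 2, 3, 2, 0],
   [2, 1, 0, 3, 3, 2],
   [0, 2, 3, 3, 2, 1, 0],
   [2, 2, 0, 1, 3],
   [0, 2, 3, 2, 0],
   [2, 2, 3, 1, 0],
   [0, 3, 0, 2, 2, 1],
   [2, 2, 0],
   [3, 0, 0, 2],
   [3, 0, 2, 1, 0, 0, 1],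
   [1, 3, 2, 1],
   [3, 2, 3, 2, 1, 0],
   [0, 3, 2, 2, 1],
   [3, 0],
   [2, 3, 2, 1],
   [0, 3, 2, 1],
   [3, 0, 0],
   [1, 0, 2, 1, 3, 3],
   [0, 1, 0, 2, 2, 0],
   [0, 1, 3, 1, 0],
   [0, 0, 2, 3, 2, 1],
   [2, 2, 0, 1, 3, 2, 0],
   [1, 0, 2, 3, 3, 0],
   [0, 3, 0, 2, 1],
   [2, 2, 0, 2],
   [0, 1, 0],
   [2, 2, 2, 2],
   [1, 0, 1, 0, 3, 2],
   [0, 3, 3, 3, 3],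
   [0, 3, 3, 3, 1],
   [3, 0, 0, 0],
   [3, 2, 2],
   [0, 0, 0, 0, 2, 1, 0],
   [2, 1, 0, 3, 0],
   [0, 3, 1, 0, 3, 2, 2],
   [0, 0, 2],
   [0, 2, 3, 1, 0],
   [2, 1, 0, 2, 1, 0],
   [2, 0, 2, 0, 3, 3],
   [3, 0, 3, 0, 3],
   [2, 0, 2, 1, 0],
   [1, 3, 0, 0, 1],
   [3, 1, 0, 1, 0],
   [2, 2, 1, 3, 2, 0],
   [2, 1, 0, 3, 2],
   [2, 0, 0, 0, 0],
   [2, 2, 0, 0, 0, 1, 0],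
   [0, 0, 2, 1, 3],
   [1, 0, 3, 3, 3, 1],
   [3, 1, 0, 3, 2, 0, 0],
   [2, 0, 2, 0, 1],
   [3, 3, 2, 1],
   [2, 1, 0, 1, 0],
   [0, 2, 3, 1, 0, 0],
   [1, 0, 3, 2, 2, 0],
   [3, 2, 2, 0, 3],
   [0, 2, 0, 3, 1],
   [1, 0, 0, 0],
   [3, 3, 0, 3, 1],
   [0, 3, 2, 0, 1],
   [1, 0, 3, 0, 1, 0],
   [2, 0, 0, 2],
   [0, 2, 0],
   [3, 2, 0, 3, 1, 0],
   [0, 2, 1, 0, 1],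
   [2, 2, 0, 3, 1],
   [0, 3, 3, 2],
   [3, 0, 2, 3, 3, 0],
   [0, 0, 0, 0, 1],
   [2, 3, 2, 0, 3, 1],
   [0, 0, 0, 1, 0],
   [3, 2, 0, 2, 0, 0, 0],
   [3, 2, 0, 3, 1],
   [2, 2, 0, 3, 1, 0],
   [2, 0, 0, 1, 0, 0],
   [0, 1, 3, 2],
   [2, 1, 0, 2, 1],
   [0, 2, 3, 2, 2, 1],
   [3, 2, 3, 3],
   [2, 1, 0, 3, 2, 0],
   [1, 3, 3, 3, 3, 3],
   [0, 1, 0, 2, 2],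
   [3, 0, 2, 1, 0],
   [3, 3, 0],
   [3, 2, 2, 1],
   [1, 0, 2, 2, 0],
   [1, 0],
   [1, 3, 3, 0, 1, 0],
   [3, 3, 3, 1],
   [2, 0, 3, 0, 2, 1],
   [2, 0, 0, 2, 0, 0],
   [0, 2, 3, 3, 3],
   [2, 0, 2, 0, 1, 0],
   [1, 0, 3, 2, 2, 2],
   [2, 2, 0, 0],
   [3, 0, 0, 2, 1, 3],
   [1, 0, 2, 2, 3],
   [0, 3, 0, 3, 3, 1],
   [2, 0],
   [2, 1, 0, 1],
   [3, 3, 3, 3, 3],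
   [0, 2, 3, 1],
   [3, 0, 2, 2],
   [0, 3, 2, 1, 0],
   [3, 2, 2, 1, 0, 0],
   [0, 1, 0, 3, 3, 1],
   [0, 2, 0, 0, 1, 0],
   [0, 3, 0, 1, 0, 0],
   [2, 1, 3, 0, 0, 0],
   [1, 0, 3, 3, 1]]

/-- Certificate data. -/
def wordsDodecad : List (List Nat) :=
  [[],
   [3, 0, 2, 1, 0, 1, 0],
   [0, 1, 0, 0, 2, 0, 1, 0],
   [0],
   [0, 3, 0, 2, 1, 0, 1, 0],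
   [3, 2, 2, 0, 1, 0],
   [2, 0, 0, 1, 3],
   [0, 3, 3, 3, 0, 0, 1],
   [1, 3, 0, 1],
   [2, 1, 0, 3, 3, 1, 0],
   [2, 0, 0, 0, 1, 3, 0],
   [3, 2, 2, 0, 2, 3, 1, 0],
   [2, 0, 2],
   [0, 0],
   [1, 3, 2, 2, 0, 0, 1],
   [2, 3, 0, 1],
   [2, 3, 0, 3, 1, 0],
   [2, 0, 1, 0, 3, 3],
   [0, 2, 0, 0, 1, 3],
   [3, 1, 0, 3, 0, 2, 3, 1],
   [3, 2, 2, 2, 2, 0, 3, 0],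
   [3, 2, 3, 0, 0, 1],
   [2, 1, 0, 3, 0, 0],
   [0, 2, 1, 0, 2, 1, 3],
   [2, 2, 1, 0, 0, 2, 3],
   [0, 1, 3, 0, 1],
   [3, 0, 2, 3, 1, 0, 2, 0],
   [2, 1, 3, 2, 1, 0, 1, 0],
   [0, 3, 1, 0, 3, 2, 0],
   [0, 2, 2, 3, 3],
   [0, 3, 0, 2, 3, 1, 0],
   [3, 1, 0, 1, 0, 3, 2],
   [1, 3, 2, 0, 1, 0],
   [0, 2, 0, 2],
   [2, 1, 0, 1, 0, 0],
   [0, 0, 0, 2, 0],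
   [1, 0, 2, 1, 0, 3, 2],
   [0, 0, 0],
   [0, 1, 3, 3, 1],
   [0, 1, 3, 2, 3, 0],
   [3, 0, 2, 0, 2, 3, 0],
   [2, 0, 0, 2, 0, 1, 0],
   [2, 2, 1, 0],
   [2, 2, 3, 2, 0, 2],
   [1, 3, 2, 3, 0, 0],
   [0, 0, 2, 2, 0, 0, 0],
   [3, 0, 2, 2, 0, 1, 0],
   [3, 2, 1, 0, 0, 2],
   [2, 2, 3, 0, 1, 0, 2],
   [1, 0, 0, 2, 0, 2, 1],
   [1, 3, 2, 2, 2],
   [2, 2, 2, 0, 2, 0],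
   [0, 1, 3, 3],
   [2, 2, 0, 2, 2, 2, 0, 0],
   [3, 1, 0, 3, 0, 0, 0],
   [0, 3, 1, 0, 2, 0, 0, 0],
   [0, 3, 0, 2, 3, 0, 0],
   [0, 3, 2, 3, 0, 0, 1],
   [0, 2, 1, 0, 3, 0, 0],
   [2, 0, 3, 2, 2, 1],
   [3, 1, 0, 2, 0, 2],
   [3, 3, 2, 1, 0, 1, 0],
   [2, 3, 2, 0, 3, 2, 1],
   [2, 3, 0, 2, 0, 0, 2, 1],
   [0, 0, 1, 3, 0, 1],
   [2, 2, 0, 3, 3, 1, 0],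
   [3, 0, 2, 3, 1],
   [1, 0, 3, 2],
   [2, 1, 0, 2, 2, 3, 2, 1],
   [3, 1, 0, 3, 2, 3],
   [1, 3, 0, 0, 0, 2],
   [0, 2, 0, 0, 0],
   [3, 2, 0, 0, 2, 0],
   [3, 0, 1, 0, 3, 2, 0],
   [0, 3, 2, 0, 2, 2, 1],
   [1, 0, 0, 0, 1],
   [1, 0, 0, 0, 2, 2, 3],
   [3, 0, 2, 3, 3, 2],
   [3, 0, 0, 2, 3, 1, 0],
   [3, 0, 2, 1, 0, 3, 2],
   [2, 0, 3, 0, 1],
   [0, 2, 0, 3, 3, 3],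
   [2, 2, 3, 2, 0, 0],
   [2, 2, 1, 3, 0],
   [1, 0, 1, 0, 2],
   [0, 3, 2, 0, 3, 1, 0, 0],
   [0, 1, 0, 2, 0, 2, 3],
   [0, 1, 3, 2, 0, 1, 0],
   [1, 3, 3, 2, 0],
   [0, 0, 2, 0, 2],
   [2, 1, 3, 3, 2],
   [0, 2, 3, 0],
   [0, 0, 0, 0, 2, 0],
   [0, 2, 2, 0, 1, 0, 2],
   [1, 3, 2, 0, 2],
   [1, 0, 0, 2, 3, 2, 1],
   [0, 1, 0, 2, 3, 1],
   [0, 0, 0, 0],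
   [2, 0, 2, 3, 1],
   [3, 0, 3, 0, 2],
   [3, 1],
   [2, 3, 2, 2, 2, 0],
   [3, 3, 0, 1, 0, 2, 0],
   [0, 3, 2, 3, 1, 0, 1],
   [1, 0, 2, 3, 3, 1, 0],
   [3, 2, 2, 3, 0],
   [3, 2, 1, 0, 3, 2, 2],
   [3, 3, 2, 2, 2],
   [0, 2, 2, 1, 0],
   [0, 0, 2, 2, 1],
   [3, 3, 3],
   [1, 3, 3, 1, 0, 3],
   [0, 1, 3, 2, 3, 0, 0],
   [3, 2, 0, 2, 1, 3],
   [0, 1, 3, 0],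
   [3, 2, 0],
   [0, 3, 0, 2, 2, 0, 1, 0],
   [0, 3, 2, 1, 0, 0, 2],
   [2, 2, 3, 0, 1, 0, 0],
   [3, 1, 0, 2, 0, 0],
   [3, 0, 0, 0, 2, 1],
   [2, 1, 0, 0, 2, 1],
   [0, 2, 0, 3, 0, 1, 0],
   [2, 1, 0, 0, 0],
   [2, 3, 2, 1, 0, 2],
   [0, 3, 3, 0, 0, 2, 1],
   [3, 0, 2, 1, 0, 1],
   [2, 1, 0, 3, 1, 0, 0],
   [3, 2, 2, 0, 2, 3, 3],
   [0, 1, 3, 2, 2, 2],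
   [0, 2, 2, 2, 0, 2, 0],
   [2, 0, 2, 0, 1, 3, 3],
   [2, 1, 3, 0, 3, 0, 0],
   [2, 2, 0, 1, 0, 0],
   [0, 0, 0, 0, 1, 0, 0],
   [2, 3, 3, 2, 0, 2, 0],
   [2, 3, 2, 0, 3, 0, 1],
   [0, 3, 3, 2, 3, 0],
   [0, 0, 1, 3, 3],
   [0, 0, 1, 0, 2, 0],
   [2, 3, 0, 2, 1, 0],
   [2, 3, 3, 0],
   [2, 0, 2, 0, 0],
   [0, 0, 1, 3, 3, 0],
   [0, 2, 2, 1, 3, 0, 1],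
   [3, 0, 1, 0, 2, 0, 0, 0],
   [2, 3, 3, 2, 1],
   [2, 3, 3, 0, 0, 0, 0],
   [2, 3, 2, 2, 2, 1],
   [0, 0, 0, 2, 3],
   [3, 3, 3, 0, 3, 2, 3],
   [1, 0, 0, 0, 2, 1],
   [2, 2, 1, 3],
   [1, 3, 3, 0, 0, 0],
   [1, 0, 0, 2, 3, 1, 0],
   [3, 0, 2, 2, 3, 2, 0],
   [3, 2, 1, 0, 2, 3, 1],
   [1, 3, 2, 1, 0, 1, 0],
   [0, 0, 2, 0, 2, 1],
   [3, 2, 3, 1, 0, 2],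
   [0, 0, 2, 0, 0],
   [1, 0, 2, 2, 3, 2],
   [0, 3, 1, 0, 0, 0, 0],
   [3, 2, 0, 0, 2, 2],
   [2, 2, 2, 0, 1, 0, 2],
   [2, 3, 2, 2, 2, 1, 0, 0],
   [2, 0, 0, 0, 2, 3],
   [2, 1, 0, 1, 0, 3],
   [0, 2, 2, 2, 2, 3, 0, 0],
   [0, 3, 0, 2, 3, 1],
   [0, 0, 0, 1, 0, 2],
   [0, 1, 0, 3, 2],
   [3, 2, 0, 0, 2, 1],
   [0, 3, 0, 1, 0, 3],
   [3, 3, 0, 2, 2, 0, 1],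
   [2, 2, 0, 2, 1, 3],
   [1, 0, 3, 0, 2],
   [1, 3, 3, 3, 1, 0, 0],
   [2, 3, 2, 0, 2, 1, 0],
   [0, 0, 2, 0, 0, 0],
   [2, 3, 2, 2, 0, 1],
   [0, 3, 2, 0, 0, 2, 0],
   [2, 3, 1, 0, 0, 0],
   [3, 3, 1, 0, 1],
   [3, 0, 1, 0, 1],
   [3, 0, 2, 0, 2, 2, 1],
   [1, 0, 1, 0, 1, 3],
   [0, 1, 0, 0, 0, 1],
   [3, 1, 0, 2, 0, 3],
   [2, 2, 3, 2, 0, 1, 0],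
   [2, 0, 1, 0, 1],
   [2, 0, 0, 2, 0, 1, 3],
   [3, 2, 0, 1, 0, 0],
   [3, 2, 3, 0, 0, 2, 1],
   [1, 0, 3, 0, 3, 0, 3],
   [1, 0, 2, 1, 0, 1, 0],
   [3, 1, 0, 3, 1],
   [2, 2, 0, 2, 1, 0, 0],
   [2, 0, 2, 0],
   [0, 0, 2, 3, 0, 2, 0],
   [3, 2, 2, 0, 2],
   [1, 0, 2, 3, 0, 0],
   [2, 2, 3, 0, 2, 0],
   [2, 3, 0, 0, 2, 2, 0],
   [0, 2, 2, 1, 3, 0],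
   [2, 3, 1, 0, 1, 0, 0],
   [0, 1, 3, 0, 0, 0],
   [2, 1],
   [3, 3, 0, 0, 0],
   [2, 3, 2, 0, 1, 0],
   [2, 3, 2, 2, 0, 3, 0],
   [3, 1, 0, 2, 0, 2, 1],
   [2, 1, 0, 2, 3],
   [0, 3, 3, 0],
   [0, 1, 3, 2, 3],
   [2, 2, 3, 3, 0, 0, 1],
   [0, 1, 3, 3, 2, 0],
   [2, 0, 2, 2, 0, 2],
   [2, 1, 0, 3, 2, 2, 0, 0],
   [2, 0, 3, 2, 2],
   [2, 1, 3, 1, 0, 3],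
   [0, 2, 1, 3, 3, 2],
   [0, 0, 2, 3, 0],
   [3, 0, 0, 2, 0, 2, 1],
   [3, 0, 0, 2, 0, 1, 0],
   [0, 3, 2, 0, 2, 0],
   [0, 3, 0, 3, 1, 0],
   [3, 0, 2, 0, 2, 3],
   [1, 0, 2, 3, 2, 0, 3],
   [2, 2, 2, 0, 2, 3, 0],
   [0, 1, 3, 2, 0, 2],
   [1, 0, 0, 0, 2, 2, 0],
   [2, 3, 2, 0, 1],
   [0, 0, 0, 0, 0],
   [3, 3, 3, 3, 1, 0, 0],
   [3, 2, 0, 3, 3, 1, 0],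
   [1, 0, 2, 2, 3, 2, 0],
   [3, 3, 2, 0, 1, 0],
   [3, 0, 0, 2, 2, 0, 3],
   [0, 2, 2, 0, 1, 3],
   [0, 3, 0, 3, 0, 2],
   [3, 3, 0, 0, 2, 2],
   [0, 3, 1],
   [2, 0, 2, 3, 2, 0],
   [3, 1, 0, 0, 0, 0, 0, 1],
   [0, 2, 2, 2],
   [0, 3, 3, 0, 1, 0, 2, 0],
   [3, 0, 2, 3, 1, 0, 1],
   [2, 2, 2, 0, 0, 0, 1],
   [3, 3, 0, 2, 3],
   [0, 2, 1, 0, 0, 2, 0],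
   [0, 3, 2, 2, 3, 0],
   [3, 0, 2, 1, 3],
   [3, 2, 2, 2, 1, 0],
   [1, 3, 0, 0, 2, 1],
   [0, 3, 3, 2, 2, 2],
   [0, 3, 0, 3, 0, 3, 0],
   [0, 0, 2, 2, 1, 0],
   [3, 3, 0, 1],
   [3, 2, 0, 0, 0],
   [3, 1, 0, 0, 0],
   [0, 3, 3, 3],
   [1, 3, 2, 0, 2, 2, 0],
   [3, 0, 1, 0, 2],
   [3, 2, 3, 1, 0, 3],
   [3, 0, 2, 3, 3, 1, 0, 0],
   [3, 2, 1, 0, 2, 0],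
   [1, 0, 0, 2, 2, 0, 3],
   [0, 0, 1, 3, 0],
   [2, 1, 0, 1, 3, 2],
   [2, 0, 3, 2, 3, 0, 1],
   [0, 3, 2, 0],
   [2, 0, 2, 0, 0, 0, 2, 0],
   [2, 0, 2, 1, 3, 3, 0],
   [3, 2, 2, 2, 1],
   [2, 3, 3],
   [0, 2, 2, 3, 0, 1, 0, 0],
   [1, 0, 2, 2, 1, 3],
   [2, 2, 3, 3, 0, 3],
   [0, 0, 2, 0, 0, 0, 0],
   [0, 3, 0, 0, 0, 2, 1],
   [2, 3, 2, 1, 0, 0],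
   [2, 3, 0, 1, 0, 2, 0],
   [0, 2, 1, 0, 0, 2, 1],
   [3, 2, 3, 0, 0],
   [1, 0, 0, 2, 1, 3, 0],
   [2, 3, 3, 3, 0, 2, 2],
   [3, 3, 3, 0, 2, 2, 1],
   [2, 2, 2, 0, 2, 1, 0],
   [0, 3, 0, 3, 2],
   [0, 2, 1, 0, 0, 0],
   [0, 2, 0, 2, 2, 1],
   [1, 3, 2, 3, 0, 1, 0],
   [1, 0, 3, 2, 2, 1],
   [3, 2, 0, 1, 0, 0, 1],
   [0, 3, 2, 2, 0, 0],
   [3, 1, 0, 3],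
   [0, 3, 0, 3, 0, 0, 1],
   [0, 0, 2, 0, 3, 0, 2],
   [1, 3, 0, 2, 2, 1],
   [2, 2, 0, 0, 2],
   [2, 0, 1, 0, 2, 0, 2, 0],
   [2, 1, 0, 2, 0, 1, 0],
   [3, 3, 1, 0],
   [0, 3, 3, 2, 3],
   [3, 0, 2, 2, 3, 2, 1],
   [3, 2, 2, 2, 1, 0, 0],
   [2, 2, 2, 0, 3, 0, 2],
   [3, 3, 3, 0, 2, 1, 0],
   [2, 2, 0, 3, 2, 3, 0],
   [1, 0, 3, 2, 0],
   [1, 3, 0, 2, 0, 2, 1],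
   [1, 0, 3, 2, 2],
   [3, 2, 2, 3, 2],
   [1, 3, 0, 3, 1, 0, 2],
   [0, 3, 1, 0, 0],
   [1, 0, 2, 0, 0],
   [0, 2, 2, 0, 1, 0, 0],
   [0, 0, 0, 0, 0, 1, 0, 0],
   [3, 0, 3, 0, 2, 0],
   [2, 2, 2, 3, 0, 2, 1, 0],
   [2, 0, 1, 3, 0, 1],
   [0, 2, 0, 1, 3, 3],
   [3, 3, 3, 0, 0, 2, 2],
   [2, 1, 0, 2, 3, 1],
   [0, 2, 2, 1, 0, 2],
   [3, 0, 3, 2, 3, 0],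
   [3, 0, 2, 3],
   [3, 3, 2, 0, 0, 1],
   [0, 0, 0, 1, 3, 3],
   [1, 3, 2, 3, 0, 2],
   [2, 3, 2, 1, 0, 0, 0],
   [1, 3, 3, 2, 0, 0, 2],
   [2, 0, 3, 1, 0, 0, 0],
   [2, 1, 0, 3, 3, 2],
   [1, 0, 0, 1, 3],
   [2, 2, 2, 2, 1],
   [0, 2, 3, 3, 0],
   [0, 2, 2, 0, 0, 1, 0],
   [1, 0, 0, 1, 0],
   [2, 3, 3, 0, 1],
   [0, 3, 2, 0, 0],
   [3, 0, 0, 2, 1, 3, 1],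
   [2, 0, 1, 0],
   [0, 0, 2, 3, 3, 0, 0],
   [2, 0, 1, 3, 2, 3, 0, 0],
   [0, 2, 3, 3, 2, 1],
   [2, 3, 1, 0, 2, 0, 1, 0],
   [3, 2, 2, 0, 2, 3, 3, 1],
   [2, 0, 3, 0, 3, 0, 0],
   [1, 0, 3, 0, 1, 0],
   [2, 2, 0, 2, 2],
   [2, 0, 0, 2, 1, 0, 2],
   [0, 2, 0, 0, 2, 2, 0],
   [3, 1, 0, 2, 3],
   [2, 3, 1, 0, 0, 0, 1],
   [0, 2, 3, 3, 1, 0],
   [0, 1, 3, 1, 0, 1],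
   [2, 3, 3, 0, 0, 0, 1],
   [3, 2, 2, 3, 0, 0, 0, 0],
   [0, 2, 2, 1, 3],
   [1, 0, 1, 3, 0, 0],
   [2, 2, 3, 1],
   [0, 1, 3, 3, 0, 0, 0],
   [0, 1, 0, 0, 2, 3, 1, 0],
   [1, 0, 2, 0, 2, 1],
   [2, 2, 2, 3, 0],
   [1, 0, 2, 3, 0, 2],
   [1, 0, 0, 1, 3, 0],
   [2, 3, 0, 1, 0],
   [1, 0, 3, 0, 3],
   [2, 0, 1, 0, 2],
   [0, 2, 2, 1, 3, 2, 0],
   [2, 1, 3, 1],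
   [3, 0, 0, 2, 1, 0, 3],
   [3, 3, 2, 0, 1, 0, 0],
   [0, 3, 2, 3, 1, 0, 2],
   [0, 3, 1, 0, 0, 2, 0],
   [1, 3, 3, 3, 0],
   [0, 0, 0, 2, 0, 0],
   [3, 2, 0, 0, 2],
   [2, 0, 0, 2, 1, 3],
   [0, 2, 2, 1, 0, 0, 0],
   [3, 0, 1, 0, 0, 0, 0],
   [2, 2, 2, 3, 1, 0],
   [1, 3, 2, 3, 0, 1],
   [2, 2, 3, 0, 0, 1, 0],
   [3, 2, 2, 2, 0, 2],
   [2, 0, 3, 0, 0, 0, 0],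
   [2, 1, 0, 2, 0, 1],
   [3, 1, 0, 2, 2, 0, 0],
   [3, 2, 0, 3, 0, 1],
   [3, 1, 0, 3, 2, 3, 0],
   [3, 0, 3, 3, 3, 0],
   [2, 0, 3, 3, 3, 0],
   [2, 3, 1, 0, 2, 3, 2],
   [0, 3, 2, 1, 0, 2],
   [3, 0, 0, 2, 3, 1],
   [3, 3, 3, 0, 2, 1],
   [3, 1, 0, 3, 2, 2],
   [0, 0, 1, 0, 3, 2],
   [0, 3, 2, 0, 3, 0, 0],
   [0, 3, 2, 0, 0, 2, 1],
   [3, 0, 0, 1, 0, 3],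
   [0, 1, 3, 0, 2, 3],
   [2, 2, 0, 0, 2, 0],
   [3, 0, 1, 0, 3, 2, 3],
   [0, 0, 0, 1, 0, 0, 0],
   [2, 0, 2, 0, 2, 0, 1],
   [0, 3, 3, 0, 0, 0, 2],
   [0, 3, 2, 0, 2, 0, 2],
   [1, 0, 3, 3, 2, 1],
   [3, 2, 0, 3, 3],
   [2, 2, 2, 1],
   [3, 2, 0, 2, 1, 0],
   [2, 2, 0, 0, 0, 0],
   [3, 0, 0, 0, 2, 2, 2],
   [0, 2, 3, 2, 2, 0, 1],
   [2, 3, 0, 2, 0, 0],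
   [2, 2, 0, 1, 0, 0, 0],
   [2, 1, 0, 0, 0, 2],
   [1, 0, 2, 2, 2, 3, 1],
   [2, 3, 2, 1, 0],
   [0, 3, 3, 1, 0, 1],
   [3, 0, 2, 0, 1],
   [0, 1, 0, 2, 3, 1, 0],
   [3, 2, 2, 0, 2, 1, 0],
   [2, 2, 3, 3, 0, 0],
   [1, 0, 3, 3, 2, 2],
   [1, 0, 3, 3, 2, 1, 0],
   [2, 3, 0, 2],
   [3],
   [2, 2, 0, 2, 2, 0],
   [1, 0, 1, 3, 0, 3],
   [1, 3],
   [2, 0, 3, 2, 3, 0],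
   [2, 0, 2, 3, 2, 1, 0],
   [0, 3, 0, 0, 2, 3],
   [1, 0, 2, 0, 3, 0],
   [2, 0, 2, 2, 2, 2, 1],
   [0, 3, 2, 0, 1, 0, 0],
   [0, 2, 3, 3, 2],
   [3, 0, 0, 0, 2, 3, 1, 0],
   [1, 3, 0, 2, 3, 1],
   [1, 3, 2, 2, 0],
   [3, 3, 0, 1, 0, 0, 2, 0],
   [0, 2, 0, 0, 1, 3, 2],
   [2, 2, 2, 3, 2, 0, 2],
   [2, 2, 2, 3, 2, 1],
   [0, 0, 1, 3, 0, 3, 2],
   [0, 2, 0, 0, 1, 0],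
   [1, 3, 1, 0, 1, 0],
   [3, 3, 3, 3, 3, 1, 0],
   [2, 0, 3, 2, 2, 0, 0],
   [3, 2, 0, 2, 1],
   [0, 2, 0, 2, 0],
   [3, 3, 0, 2, 2],
   [2, 2, 3, 0, 3, 3],
   [2, 3, 3, 3, 0],
   [0, 1, 0, 3, 1],
   [0, 3, 2, 2, 0, 2],
   [0, 1, 0, 2, 3, 0, 0],
   [1, 0, 3, 0, 0],
   [2, 2, 0, 2, 2, 0, 1],
   [0, 2, 1, 0, 0],
   [1, 3, 3, 3, 3, 0, 1],
   [3, 0, 3, 2, 2, 1, 0],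
   [0, 1, 0, 0, 2, 3],
   [3, 0, 2, 2, 2],
   [0, 2, 3, 1, 0, 1, 0, 0],
   [3, 3, 1, 0, 0, 2, 0],
   [1, 3, 0, 2, 0, 1],
   [3, 2, 0, 2, 0, 0, 1, 0],
   [0, 2, 1],
   [3, 3, 2, 2, 2, 0],
   [0, 3, 3, 0, 0, 0],
   [0, 1, 0, 3, 3, 2],
   [3, 3, 3, 0, 3, 3],
   [0, 2, 3, 2, 0, 1, 0],
   [2, 0, 2, 3, 3, 1],
   [3, 3, 1, 0, 1, 3, 2],
   [3, 3, 3, 1, 0, 0, 0],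
   [3, 0, 1, 0, 3, 3],
   [2, 2, 0, 1],
   [3, 1, 0, 0, 2],
   [0, 2, 1, 0, 2, 3],
   [3, 0, 3, 0],
   [2, 2, 0, 1, 0],
   [2, 2, 0, 2, 1, 0],
   [3, 1, 0, 1, 3, 0, 2],
   [2, 2, 0, 0, 2, 2],
   [3, 2, 3, 3, 0, 1, 0],
   [3, 0, 2, 1, 3, 0],
   [3, 2, 3, 3, 0, 3],
   [2, 2, 3, 0, 2, 1, 0],
   [3, 0, 0, 0, 0],
   [3, 3, 2, 0, 2, 1, 0],
   [0, 2, 0, 3, 2, 2],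
   [2, 3, 0, 3, 2],
   [0, 3, 0, 0, 0, 1],
   [2, 1, 0, 2, 0, 0],
   [3, 0, 3, 2, 3, 2, 1],
   [0, 2, 1, 0],
   [0, 0, 0, 2, 3, 0],
   [1, 3, 0, 1, 0, 3],
   [0, 2, 2, 2, 0],
   [2, 2, 2, 1, 0, 1, 3],
   [2, 0, 3, 2, 2, 0],
   [2, 2, 0, 3, 0, 1],
   [2, 0, 1],
   [3, 0, 2, 0, 2, 0],
   [0, 3, 3, 2, 2, 0, 0],
   [2, 3, 2, 0, 0, 2],
   [3, 3, 0, 1, 0],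
   [0, 3, 0, 2, 0, 2, 3],
   [3, 1, 0, 2, 3, 0, 2],
   [2, 0, 0, 1, 0, 1],
   [2, 0, 0, 2, 3, 2, 0],
   [0, 2, 0, 3, 2, 1],
   [0, 0, 1, 3, 2, 0, 2],
   [1, 0, 0, 2, 1],
   [1, 3, 3, 0, 3],
   [2, 1, 0, 2, 0, 2, 1],
   [1, 3, 1, 0, 2, 2],
   [2, 3, 0, 0, 0, 1],
   [0, 2, 2, 0, 3, 0, 0],
   [2, 3, 2, 2, 0, 2, 1, 0],
   [0, 0, 0, 0, 0, 0],
   [1, 0, 1, 3],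
   [0, 2, 0, 2, 2, 3, 1, 0],
   [0, 2, 0, 0, 2],
   [3, 3, 0, 2, 1, 0],
   [2, 2, 2, 2, 0, 0, 1],
   [1, 3, 0, 1, 0, 2],
   [0, 3, 1, 0],
   [3, 1, 0, 2, 0, 1, 0],
   [3, 1, 0, 2, 3, 0, 0],
   [2, 2, 0, 0, 0, 2],
   [1, 3, 2, 0],
   [1, 0, 2, 0, 1, 0],
   [3, 0, 2, 3, 2, 2, 2],
   [0, 0, 2, 2, 0, 1, 3],
   [3, 3, 0, 0, 2],
   [1, 3, 3, 1, 0, 1, 0],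
   [0, 2, 3, 3, 1],
   [1, 0, 0, 2, 2, 1],
   [3, 0, 1],
   [3, 0, 0, 2, 0, 0],
   [0, 2, 0, 2, 3, 2, 0],
   [0, 0, 2, 2, 2, 0, 0],
   [1, 0, 3, 2, 0, 0],
   [2, 2, 2, 1, 3, 2],
   [3, 3, 3, 0],
   [0, 0, 2, 2, 2],
   [3, 2, 3, 1, 0, 0, 2],
   [1, 0, 1, 0, 2, 3, 0],
   [1, 3, 0, 0, 0, 0, 1],
   [2, 3, 2, 2, 1, 0],
   [2, 3, 2, 2, 2],
   [1, 3, 2, 1, 0, 3],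
   [2, 0, 2, 3, 3, 1, 0, 0],
   [0, 3, 3, 0, 2, 3],
   [2, 0, 3, 3, 2, 3, 2],
   [0, 3, 2, 2, 3, 0, 1],
   [2, 0, 1, 0, 2, 1],
   [0, 2, 1, 0, 2, 0],
   [3, 0, 2, 2, 3, 0],
   [0, 3, 0, 2, 1, 3],
   [0, 2, 0, 2, 2],
   [2, 2, 3, 0, 0, 1],
   [0, 1, 3, 0, 0, 2, 1],
   [0, 0, 1, 0, 1],
   [2, 0, 2, 2, 3, 0, 1, 0],
   [3, 0, 3, 2, 2, 2],
   [2, 3, 3, 2, 1, 0, 2],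
   [3, 3, 3, 0, 0],
   [2, 2, 1, 3, 0, 0],
   [2, 1, 3, 2, 2, 0, 1],
   [0, 2, 0, 1, 3, 0, 2],
   [0, 3, 2, 2, 0],
   [0, 3, 3, 0, 1],
   [0, 0, 2, 0, 3],
   [2, 2, 2, 0, 2, 3, 3, 1],
   [2, 0, 2, 3],
   [3, 3, 2, 0, 3, 3],
   [0, 3, 1, 0, 0, 0],
   [3, 0, 3, 3],
   [2, 0, 2, 1, 3],
   [1, 0, 0, 0, 2, 2],
   [2, 0, 1, 0, 0],
   [0, 3, 2],
   [0, 3, 0, 1, 0, 2],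
   [2, 2, 0, 2, 3, 3],
   [1, 3, 2, 0, 0],
   [3, 2, 0, 2, 2],
   [3, 0, 2, 1, 0, 0, 0],
   [1, 0, 2, 1, 0, 3],
   [3, 3, 3, 0, 3, 2, 0, 0],
   [0, 0, 0, 1, 3, 0],
   [2, 0, 0, 1, 0, 2, 1],
   [2, 0, 3, 0, 2, 2, 1],
   [2, 3, 3, 1, 0, 0, 0],
   [3, 3, 0, 0, 1, 0, 1],
   [3, 0, 2, 0],
   [1, 0, 1, 0, 2, 3, 1, 0],
   [3, 3, 2, 0, 2, 2],
   [2, 2, 0, 2, 1, 3, 0],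
   [0, 3, 3, 3, 1],
   [0, 3, 2, 2, 2, 1],
   [1, 0, 3, 2, 2, 0, 2],
   [0, 2, 3, 3],
   [2, 2, 2, 3, 0, 3, 0],
   [2, 0, 1, 0, 2, 0, 0, 0],
   [3, 1, 0, 3, 0, 3],
   [1, 0, 2, 1, 0, 0],
   [2, 2, 0, 3, 0],
   [2, 2, 3, 2, 0, 0, 0],
   [3, 2, 2, 1, 0, 1, 0],
   [0, 2, 3, 2, 1, 0, 0],
   [3, 2, 0, 3, 0, 2, 2, 1],
   [1, 3, 3, 0, 1, 0, 2],
   [0, 2, 0, 0, 1, 0, 0, 0],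
   [2, 2, 3, 1, 0, 0, 0],
   [3, 2, 2, 2, 0, 0],
   [2, 3, 2, 0, 0, 1],
   [2, 0, 2, 0, 2, 0],
   [1, 3, 3, 2, 0, 0],
   [2, 2, 0, 0, 0],
   [1, 0, 1, 0, 3, 3],
   [0, 3, 2, 3, 0, 0],
   [1, 0, 2, 0, 1, 3, 3],
   [3, 0, 1, 0, 2, 3, 0],
   [3, 2, 3, 1],
   [1, 3, 0, 2, 1, 0],
   [3, 1, 0, 3, 3, 1, 0, 1],
   [3, 2, 2, 3, 0, 0],
   [3, 2, 0, 1, 0, 0, 2],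
   [2, 2, 2, 1, 3, 0, 0],
   [0, 2, 2, 2, 0, 2, 1, 0],
   [0, 3, 0, 1, 0, 2, 3],
   [1, 3, 0, 0, 2, 0, 0],
   [3, 3, 0, 2],
   [0, 0, 2, 1, 0, 0, 0],
   [2, 2, 1, 0, 1],
   [0, 2, 2, 2, 1, 0],
   [0, 0, 2, 0, 2, 2, 1],
   [2, 0, 2, 1, 0, 2, 3],
   [3, 2, 1, 0, 1],
   [1, 3, 2, 0, 1, 0, 0],
   [3, 3, 0, 3, 0, 3],
   [3, 2, 2, 2, 0, 0, 1],
   [1, 0, 2, 0],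
   [1, 3, 3, 0],
   [0, 2, 3],
   [3, 0, 3, 3, 3, 1],
   [1, 0, 0, 2, 2, 0, 1],
   [3, 0, 2, 2, 0, 0],
   [2, 1, 0, 2, 2, 3, 1, 0],
   [0, 3, 1, 0, 3],
   [3, 3, 0, 0, 0, 1],
   [1, 0, 1, 3, 3],
   [2, 0, 2, 2, 0, 0, 0],
   [3, 1, 0, 2, 2, 3],
   [0, 1, 3, 0, 2, 2, 1],
   [0, 1, 3, 3, 3, 3],
   [2, 3, 0, 2, 0],
   [0, 2, 2, 0, 0, 2],
   [3, 3, 0, 2, 0, 2, 1],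
   [3, 0, 3, 0, 0],
   [2, 2, 0, 2, 1, 3, 3, 0],
   [2, 2, 2, 2, 3, 0, 1],
   [2, 3, 3, 2, 0, 2],
   [2, 0, 2, 0, 2, 3, 2, 0],
   [0, 3, 3, 1, 0],
   [1, 0, 3, 3, 0, 2, 1],
   [3, 0, 2, 2, 0, 3],
   [1, 3, 3, 3, 3, 0, 0],
   [3, 0, 3, 2, 3],
   [1, 3, 3, 2],
   [2, 3, 2, 2],
   [0, 0, 0, 2, 2],
   [3, 1, 0, 1, 0, 0, 0, 0],
   [3, 3, 2, 0, 3],
   [0, 2, 0, 1, 0, 2, 0],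
   [2, 0, 1, 3, 3, 0],
   [1, 0, 0, 1, 3, 2, 0],
   [2, 1, 0, 2, 1, 0, 3],
   [2, 0, 0, 0, 0],
   [2, 3, 0, 0, 0, 0, 1, 0],
   [0, 0, 0, 2, 1, 0, 3],
   [0, 1, 0, 3, 2, 0],
   [3, 3, 0, 2, 2, 1],
   [2, 0, 3, 0, 2],
   [0, 2, 2, 2, 1, 0, 0],
   [2, 1, 0, 0, 2],
   [3, 3, 3, 1, 0, 1, 0, 0],
   [0, 1, 0, 3, 2, 2],
   [0, 3, 2, 2, 3, 2],
   [0, 3, 2, 0, 0, 1],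
   [3, 3, 0, 2, 0],
   [3, 3, 1, 0, 0, 0],
   [3, 2, 3],
   [3, 2, 0, 1, 0, 0, 0],
   [3, 2, 3, 0, 0, 2],
   [3, 0, 1, 0, 0],
   [1, 3, 2, 0, 2, 0],
   [2, 3, 3, 0, 0],
   [1, 0, 1, 3, 2, 0, 1],
   [0, 2, 1, 3, 2, 2],
   [1, 3, 0, 1, 0],
   [0, 0, 0, 0, 1],
   [3, 3, 2, 2, 0],
   [2, 3, 3, 0, 2, 0, 3],
   [1, 3, 2, 0, 2, 2],
   [2, 0, 2, 2, 2, 1],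
   [0, 0, 2, 3, 2],
   [0, 1, 0, 2, 2, 3, 1, 0],
   [3, 3, 3, 3, 0],
   [0, 0, 2, 0, 1, 3, 3],
   [0, 3, 0, 0, 0, 2],
   [2, 0, 3, 2, 2, 3, 2],
   [0, 1, 0, 0, 0],
   [2, 2, 3, 0, 3, 0, 0],
   [2, 0, 0, 0, 2, 1],
   [2, 1, 0, 3, 3, 3, 0],
   [3, 0, 1, 0, 3, 2],
   [3, 2, 0, 1],
   [0, 3, 0, 3, 2, 3, 0],
   [3, 3, 0, 2, 0, 0],
   [0, 3, 0, 2, 3],
   [0, 3, 3, 2, 0, 0, 1],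
   [0, 2, 3, 2, 1],
   [1, 0, 0, 0, 2, 3, 2],
   [2, 2, 2, 0, 2],
   [2, 0, 0, 2, 0, 2, 3],
   [0, 1, 3, 2, 3, 0, 2],
   [3, 3, 0, 1, 0, 2],
   [2, 0, 2, 3, 1, 0, 2],
   [2, 2, 3, 2, 0],
   [2, 2, 2, 3, 2, 0, 1],
   [2, 3, 0, 1, 0, 0, 1],
   [3, 2, 1, 0, 3, 1, 0],
   [2, 1, 3, 2, 1, 0, 2],
   [2, 3, 2, 0, 1, 3],
   [2, 0, 2, 3, 2, 2, 2],
   [1, 0, 1, 0, 2, 0],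
   [0, 2, 1, 0, 3, 3, 2],
   [2, 2, 1, 0, 3, 1, 0],
   [3, 0, 0, 2, 3, 2],
   [3, 0, 2, 3, 2, 2],
   [0, 2, 2, 2, 2, 1],
   [0, 0, 2, 3, 3, 0],
   [3, 1, 0, 2, 3, 3, 0],
   [1, 0, 2, 3, 3, 1],
   [1, 3, 0, 1, 0, 3, 3],
   [0, 1, 0, 0, 1, 0],
   [0, 2, 3, 3, 0, 1],
   [3, 0, 2, 0, 0],
   [2, 0, 3, 3, 2, 0, 1],
   [2, 2, 1, 0, 2, 1, 0],
   [0, 2, 0, 1, 0],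
   [2, 0, 3, 0, 2, 0],
   [3, 3, 2, 1, 0, 3],
   [2, 0, 2, 1, 3, 0],
   [3, 0, 1, 0, 2, 3, 1, 0],
   [2, 1, 0, 0, 0, 0, 0, 1],
   [0, 3, 1, 0, 2, 2, 0],
   [2, 3, 0, 3, 0, 1, 0],
   [2, 0, 3],
   [3, 2, 2, 0, 1, 0, 2],
   [2, 0, 2, 1, 3, 3],
   [0, 2, 0, 3, 0, 3, 0, 0],
   [1, 0, 2, 3, 3, 3, 0],
   [0, 1, 0, 3, 0, 1, 0],
   [2, 2, 3, 1, 0, 2],
   [1, 3, 0, 2, 1],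
   [0, 2, 1, 0, 0, 0, 0],
   [3, 3, 0, 3, 2, 1, 0, 0],
   [2, 2, 0, 3, 1, 0],
   [2, 2, 3, 0],
   [2, 0, 3, 3, 2, 3],
   [1, 0, 0, 2, 3, 1],
   [2, 0, 1, 3, 2, 1],
   [1, 0, 0, 2, 3, 1, 0, 0],
   [3, 2, 2, 2, 0, 3],
   [0, 0, 2, 3, 3, 1, 0],
   [3, 3, 3, 3, 1],
   [0, 0, 0, 0, 2, 2, 3],
   [0, 0, 2, 0, 2, 3, 2],
   [0, 0, 1, 3, 1, 0, 1],
   [1, 3, 3, 3, 3, 0, 2],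
   [3, 0, 2, 2, 1, 0, 1],
   [1, 3, 2, 0, 1, 0, 3],
   [2, 1, 0, 1, 0, 1, 3],
   [3, 0, 3, 2, 2, 1],
   [1, 0, 3, 0],
   [3, 3, 1, 0, 1, 0, 0],
   [0, 2, 2, 3, 1],
   [3, 0, 3, 2, 0],
   [2, 1, 0, 3, 2, 2, 0, 2],
   [0, 0, 1],
   [2, 2, 3, 0, 2, 0, 2],
   [3, 0, 1, 0, 3, 3, 3],
   [2, 3, 3, 0, 0, 0],
   [2, 3, 2, 2, 3, 0, 1],
   [3, 0, 3, 2, 0, 0],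
   [3, 3, 2, 2],
   [3, 0, 3, 1, 0, 2],
   [2, 3, 2, 2, 0],
   [0, 2, 0, 3, 0, 3],
   [2, 3, 0, 2, 3, 1],
   [2, 0, 1, 0, 2, 1, 0],
   [0, 0, 1, 3, 3, 0, 0],
   [0, 2, 3, 0, 1, 0],
   [2, 0, 0, 2, 0, 3],
   [0, 1, 0, 3, 0, 3],
   [3, 0, 2, 0, 0, 0, 2],
   [0, 2, 0, 1, 0, 2],
   [2, 2, 2, 0, 1, 0, 0],
   [0, 2, 3, 3, 0, 2, 3, 1],
   [0, 0, 2, 2, 3],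
   [0, 2, 1, 3, 1],
   [0, 3, 2, 1, 0, 0, 0, 0],
   [2, 2, 2, 0, 0, 2, 2],
   [3, 3, 1, 0, 2],
   [2, 0, 2, 1, 0, 2, 1, 0],
   [1, 3, 3, 0, 0],
   [2, 3, 0, 2, 3],
   [3, 0, 2, 3, 1, 0, 2],
   [2, 2, 3],
   [0, 2, 2, 0, 0, 1],
   [3, 0, 1, 0, 0, 2, 0],
   [2, 2, 0, 3, 2],
   [0, 1, 3, 3, 3, 0],
   [1, 3, 2, 3, 0, 3],
   [1, 3, 3, 3, 1, 0, 1, 0],
   [0, 0, 0, 2, 0, 2, 0, 1],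
   [2],
   [3, 2, 0, 0, 2, 1, 0],
   [0, 2, 3, 2, 0, 2],
   [0, 3, 2, 2, 2, 0, 1],
   [3, 3, 1, 0, 2, 0, 0],
   [1, 0, 2, 0, 2, 0],
   [2, 3, 1, 0],
   [2, 2, 3, 0, 0],
   [3, 3, 2, 3, 0, 1, 0],
   [0, 0, 2],
   [1, 3, 2, 0, 0, 1],
   [1, 0, 0, 2, 0, 3],
   [2, 0, 3, 3, 3, 1],
   [2, 3, 3, 2, 2, 2],
   [0, 2, 2, 0, 3],
   [0, 2, 2, 3, 0, 0, 1, 0],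
   [1, 0, 2, 0, 0, 2, 0],
   [0, 2, 0, 3, 0, 0, 0, 0],
   [0, 3, 3, 2, 1],
   [0, 2, 1, 0, 2, 0, 1],
   [2, 2, 2, 1, 3, 0, 2],
   [3, 2, 3, 2, 0],
   [2, 1, 3, 3, 2, 0],
   [2, 1, 3, 2, 1, 0, 3],
   [3, 2, 0, 1, 0, 2, 0],
   [2, 2, 1, 0, 0, 2, 0],
   [3, 2, 0, 0, 0, 0],
   [3, 2, 0, 3, 3, 2],
   [1, 3, 0, 1, 0, 0, 2, 0],
   [0, 2, 0, 3, 3, 3, 0],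
   [3, 1, 0, 3, 1, 0, 0],
   [0, 0, 2, 3, 1, 0],
   [3, 3, 0, 2, 0, 2, 0, 2],
   [3, 0, 2, 1, 0, 2],
   [0, 2, 3, 0, 0],
   [1, 0, 0, 1, 0, 3],
   [0, 3, 0, 0, 2, 3, 1],
   [2, 3, 2, 1, 0, 1, 0],
   [2, 2, 2, 2, 0, 1, 0],
   [3, 3, 3, 3, 1, 0],
   [0, 1, 3, 0, 2, 0, 0],
   [3, 2, 0, 0, 0, 1, 0],
   [2, 2, 2, 3],
   [3, 0, 2, 0, 3, 0, 0],
   [0, 2, 3, 3, 1, 0, 0],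
   [2, 0, 3, 0, 0],
   [3, 0, 2, 0, 0, 2, 1],
   [2, 3, 3, 2, 1, 0],
   [2, 2, 2, 1, 0, 1],
   [2, 1, 3, 3, 0, 1, 0],
   [0, 3, 3, 2, 3, 2],
   [3, 3, 0, 2, 3, 1],
   [0, 3, 1, 0, 2, 0],
   [1, 0, 3, 2, 2, 1, 0],
   [3, 3, 0, 3, 1, 0, 2],
   [1, 3, 2, 0, 3, 3],
   [1, 0, 2, 0, 1],
   [3, 2, 0, 2, 2, 0, 1],
   [2, 2, 0, 0, 2, 1],
   [3, 3, 1, 0, 0, 0, 1],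
   [1, 3, 3, 0, 2, 1],
   [3, 0, 2, 0, 2, 0, 2],
   [0, 1, 0, 3, 3, 2, 1],
   [2, 3, 2, 2, 0, 2, 0],
   [2, 1, 3, 0, 3, 0],
   [0, 2, 1, 3, 3, 0],
   [2, 0, 0, 2, 0, 3, 0],
   [0, 2, 2, 2, 1],
   [3, 3, 3, 3, 3, 3, 0],
   [1, 3, 3, 3, 0, 0],
   [2, 0, 3, 0],
   [0, 3, 2, 0, 2, 1, 0],
   [0, 2, 2, 0, 0, 0, 0],
   [1, 0, 2, 2, 2],
   [0, 0, 0, 0, 0, 2, 1, 0],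
   [2, 0, 3, 3, 3, 0, 2, 0],
   [1, 0, 2, 0, 3, 0, 1, 0],
   [0, 1, 3, 0, 2],
   [3, 2, 2, 2, 2],
   [0, 2, 2, 0, 1, 0, 0, 0],
   [2, 0, 2, 2, 2, 2],
   [0, 2, 1, 0, 0, 0, 2],
   [0, 1, 0, 2, 2, 2, 3, 1],
   [0, 2, 3, 2, 1, 0],
   [3, 0, 1, 0, 0, 0, 1],
   [1, 0, 2, 0, 2, 2, 3],
   [2, 3, 1, 0, 1],
   [2, 2, 3, 1, 0, 2, 0],
   [2, 3, 0, 0, 1, 0],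
   [2, 0, 2, 0, 3, 0, 3],
   [0, 2, 1, 0, 1],
   [3, 2, 3, 2, 0, 1],
   [2, 0, 3, 0, 3, 3, 0, 0],
   [1, 0],
   [3, 0, 0, 1, 0, 1],
   [1, 0, 0, 0, 0, 0, 1],
   [3, 0, 3, 0, 2, 3, 0],
   [2, 0, 1, 3, 1],
   [2, 2, 1, 3, 2],
   [0, 2, 3, 0, 2],
   [2, 3, 0, 0, 2],
   [0, 3],
   [2, 0, 1, 3, 0, 2, 0],
   [0, 1, 3, 0, 0],
   [0, 2, 2, 0, 2, 2, 0],
   [0, 3, 2, 2],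
   [1, 0, 3, 3],
   [0, 1, 3, 0, 2, 0, 2],
   [0, 1, 3],
   [2, 1, 3, 0, 3, 2],
   [1, 0, 2, 0, 3, 3],
   [3, 0, 2, 0, 0, 0, 0],
   [3, 0, 0, 0, 2, 3],
   [2, 0, 2, 2, 0, 0],
   [2, 2, 2, 3, 1, 0, 2],
   [0, 2, 2, 3, 2, 1],
   [3, 2, 2, 3, 0, 3],
   [1, 3, 2, 0, 1],
   [2, 1, 3, 0, 2, 0],
   [3, 0, 2, 0, 1, 0, 0],
   [0, 0, 2, 3, 3, 2],
   [1, 0, 1, 3, 2, 0, 2],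
   [1, 0, 2, 1, 0, 2, 0, 1],
   [3, 3, 2, 2, 0, 1],
   [3, 0, 3, 0, 1, 0, 3],
   [2, 3, 2, 1, 0, 3],
   [0, 1, 3, 2, 2, 0],
   [2, 0, 2, 0, 2],
   [2, 3, 3, 0, 1, 0],
   [3, 3, 1, 0, 0],
   [0, 3, 2, 3, 0, 3, 0],
   [3, 3, 1],
   [2, 0, 1, 0, 0, 0, 1],
   [2, 0, 2, 2, 3],
   [3, 3, 0, 3, 2, 2, 1],
   [3, 3, 0, 3, 2, 1, 0],
   [3, 2, 3, 2, 0, 0, 0],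
   [3, 3, 2, 1, 0, 2],
   [2, 3, 3, 3],
   [2, 1, 3, 0, 1, 0, 2],
   [2, 2, 0, 3, 0, 0, 2],
   [0, 0, 2, 0, 0, 1, 0],
   [1, 0, 2],
   [2, 2, 1, 0, 2, 0],
   [0, 0, 0, 2, 3, 0, 0],
   [2, 2, 1, 0, 2, 3],
   [2, 1, 3, 0, 2],
   [1, 3, 2, 0, 3, 1, 0],
   [3, 0, 3],
   [0, 3, 2, 0, 2, 1],
   [0, 0, 2, 0, 2, 0],
   [3, 3, 3, 0, 1],
   [0, 3, 3, 0, 2, 2],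
   [2, 2, 0, 2, 3],
   [2, 0, 2, 2, 3, 2, 0],
   [2, 3, 0, 2, 2, 0, 1],
   [0, 3, 0, 2, 3, 0],
   [0, 2, 3, 3, 3, 0],
   [0, 0, 1, 0, 2, 3, 0],
   [0, 0, 1, 0, 3, 1],
   [2, 0, 3, 3, 0, 0, 0],
   [3, 2, 0, 3, 3, 3, 1],
   [1, 3, 2, 1, 0, 2],
   [3, 3, 3, 0, 1, 0],
   [3, 2, 2, 0, 0, 1],
   [0, 1, 3, 2, 2],
   [3, 2, 3, 2],
   [2, 2, 1, 0, 1, 0, 3],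
   [3, 2, 0, 3, 0, 2, 0],
   [2, 3, 1, 0, 0],
   [3, 2, 0, 0, 0, 0, 0],
   [3, 0, 3, 3, 3, 1, 0],
   [2, 0, 1, 0, 3, 2],
   [0, 3, 2, 1, 0, 3],
   [1, 0, 2, 2, 1],
   [2, 1, 3, 2, 2, 0],
   [2, 1, 3, 3],
   [0, 3, 0, 2, 2, 2],
   [0, 2, 1, 3],
   [1, 0, 3, 3, 0, 2],
   [2, 2, 3, 2, 2, 0, 1, 0],
   [3, 2, 0, 2, 3, 0, 0],
   [3, 0, 0, 0, 0, 1, 0],
   [0, 2, 2, 3, 3, 2],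
   [0, 3, 2, 1, 0, 0],
   [2, 3, 0, 2, 2],
   [0, 3, 2, 0, 2, 0, 0, 1, 0],
   [0, 0, 2, 1],
   [0, 0, 2, 0, 3, 0, 0],
   [2, 3, 2, 2, 3, 0],
   [3, 0, 2, 0, 2],
   [3, 0, 3, 0, 0, 0],
   [3, 2, 0, 3, 1, 0, 0, 0],
   [3, 1, 0, 1, 0, 0],
   [3, 2, 1, 0, 0, 2, 0],
   [2, 3, 3, 2, 0, 1, 0],
   [3, 3, 3, 3, 3, 0],
   [3, 2, 3, 2, 2, 1],
   [0, 2, 2, 2, 2],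
   [2, 0, 3, 3, 0, 2, 3],
   [0, 2, 0, 2, 3, 3, 1],
   [3, 3, 2, 0, 0, 2],
   [2, 2, 3, 2, 0, 1],
   [2, 0, 1, 3, 3, 0, 1, 0],
   [2, 0, 2, 0, 2, 2, 3],
   [0, 2, 2, 0, 1],
   [3, 2, 2, 0, 1, 0, 0, 0],
   [2, 0, 1, 3, 2],
   [2, 2, 3, 2],
   [3, 1, 0, 3, 0, 2, 0],
   [0, 1, 3, 3, 3, 1],
   [0, 3, 0, 3, 0],
   [0, 1, 0, 3, 2, 3],
   [2, 3, 2, 0, 3, 0],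
   [0, 2, 2, 0, 1, 0],
   [2, 1, 0, 3],
   [0, 3, 0, 1, 0, 2, 0],
   [0, 2, 2, 0, 2, 1, 0],
   [1, 0, 0, 1, 0, 0, 0],
   [2, 2, 3, 1, 0, 0],
   [3, 1, 0, 1, 3, 2],
   [0, 2, 2, 3, 3, 2, 1],
   [0, 0, 1, 3, 0, 2, 2],
   [2, 3, 3, 0, 2],
   [2, 3, 1, 0, 2],
   [0, 1, 0, 0, 0, 0, 0],
   [0, 3, 0, 3, 0, 3, 3],
   [0, 3, 0, 2, 1, 3, 0],
   [0, 2, 2, 3, 3, 1, 0],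
   [3, 2, 2, 0, 1, 0, 3],
   [3, 2, 3, 0, 2, 0],
   [2, 1, 3, 3, 2, 0, 1, 0],
   [0, 3, 0, 0, 0, 0],
   [2, 0, 2, 0, 1],
   [2, 3, 0, 2, 2, 3, 1],
   [2, 3, 2, 2, 1],
   [1, 3, 2, 1, 0, 0],
   [0, 3, 3, 3, 1, 0, 0],
   [0, 2, 3, 0, 3, 2],
   [3, 0, 0, 0, 0, 1],
   [2, 0, 2, 2, 0],
   [0, 2, 0, 0, 0, 2, 0],
   [2, 0, 1, 3],
   [0, 0, 2, 1, 0],
   [2, 2, 2, 3, 2],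
   [3, 3, 0, 3, 2, 0],
   [3, 3, 2, 0, 3, 0, 0],
   [2, 3, 0, 1, 0, 0],
   [0, 0, 2, 2, 2, 0],
   [3, 3, 0, 2, 0, 3, 0],
   [1, 3, 0, 0, 2, 0, 1, 0],
   [2, 0, 3, 2, 0, 1, 0],
   [3, 2, 0, 3, 2, 2],
   [3, 2, 3, 2, 2, 1, 0],
   [3, 2, 3, 0],
   [0, 0, 0, 2, 2, 0],
   [0, 2, 0, 1],
   [0, 3, 0, 2, 0, 2, 0],
   [1, 0, 3, 0, 2, 3, 1],
   [0, 3, 3, 2, 3, 0, 3],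
   [3, 0, 3, 2, 2, 0, 0],
   [0, 2, 0, 3, 1, 0],
   [3, 2, 3, 2, 0, 2],
   [0, 3, 3, 0, 1, 0],
   [2, 2, 0, 2, 3, 0],
   [3, 0, 0, 2, 0, 2, 3],
   [0, 1, 3, 0, 2, 0],
   [3, 2, 2, 0, 3, 2, 1],
   [2, 2, 0],
   [0, 2, 2, 3, 0, 1, 0],
   [0, 2, 0, 0, 1, 0, 1],
   [1, 3, 2, 0, 2, 0, 0],
   [1, 0, 3, 3, 0, 2, 0],
   [2, 1, 0, 3, 2, 3, 0],
   [3, 2, 2, 2, 2, 0],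
   [3, 2, 0, 3, 1, 0],
   [3, 2, 1, 0, 3, 3],
   [3, 2, 3, 0, 1, 0, 2],
   [0, 1, 0, 0, 2, 1],
   [1, 0, 3, 2, 2, 0, 0],
   [1, 3, 3, 3, 0, 1],
   [1, 3, 2, 2, 2, 2, 0],
   [2, 0, 3, 0, 2, 3],
   [0, 0, 2, 0, 3, 0],
   [2, 0, 1, 0, 3, 2, 0],
   [0, 0, 2, 2, 0, 3, 0, 0],
   [3, 2, 1, 0],
   [3, 0, 2, 3, 3, 0],
   [2, 0, 0, 0, 1, 0],
   [2, 2, 0, 3, 0, 2, 3],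
   [2, 1, 3, 2, 1],
   [2, 0, 1, 0, 3, 1],
   [0, 1, 0, 1, 3],
   [2, 0, 1, 3, 0, 3, 0],
   [0, 3, 2, 0, 1, 0, 1, 3],
   [1, 0, 1, 0, 2, 1, 0],
   [1, 3, 0, 3, 2, 1, 0],
   [2, 0, 1, 3, 1, 0],
   [2, 1, 0, 3, 2, 2],
   [1, 0, 2, 2, 2, 1],
   [2, 0, 3, 3],
   [0, 3, 3, 0, 2, 1, 0],
   [2, 0, 3, 0, 0, 0, 1],
   [0, 3, 3, 0, 2, 1],
   [2, 2, 0, 3, 2, 2, 0],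
   [2, 0, 3, 0, 2, 3, 1, 0],
   [1, 3, 2],
   [1, 3, 1, 0, 2, 1],
   [2, 0, 3, 2, 0, 0],
   [3, 0, 1, 0],
   [1, 3, 3, 2, 0, 3],
   [3, 2, 0, 1, 0],
   [1, 0, 2, 3, 3, 0, 0],
   [0, 1, 0, 2, 3, 2, 2],
   [3, 2, 0, 2, 3, 3],
   [0, 1, 3, 2, 0],
   [3, 3, 3, 3, 3, 3],
   [2, 3, 1, 0, 2, 0],
   [0, 1, 0, 2, 0, 1, 0],
   [2, 0, 3, 0, 0, 0],
   [2, 2, 2, 0, 0, 1],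
   [0, 2, 3, 3, 2, 2],
   [2, 3, 0, 1, 0, 2],
   [2, 1, 0, 3, 1, 0],
   [2, 0, 1, 3, 0],
   [1, 0, 2, 3, 3],
   [3, 1, 0, 3, 0, 2, 1],
   [0, 1, 0, 3, 3, 1, 0],
   [3, 3, 0, 3, 3, 3],
   [2, 0, 3, 3, 2, 0],
   [0, 3, 0, 1],
   [2, 0, 2, 2, 2],
   [3, 3, 2, 0, 2, 1, 3],
   [3, 3, 2, 1, 0],
   [2, 2, 0, 2, 2, 0, 2],
   [2, 3, 2, 0, 0, 2, 0],
   [3, 3, 0, 1, 0, 1],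
   [2, 1, 0, 2, 2, 0, 0],
   [0, 1, 0, 3, 2, 0, 0],
   [2, 2, 2, 0, 1, 0],
   [1, 3, 3, 3, 3, 3],
   [0, 1, 0, 3, 2, 0, 2, 1],
   [0, 3, 3, 3, 0],
   [0, 0, 0, 2, 2, 2],
   [0, 2, 1, 0, 2, 3, 0],
   [2, 2, 2, 2, 0, 3, 0],
   [2, 2, 0, 2, 3, 3, 1],
   [1, 0, 0, 1, 0, 2],
   [2, 1, 3, 0],
   [2, 0, 2, 3, 3, 2],
   [3, 1, 0, 1, 0, 3],
   [1, 0, 2, 2, 1, 0],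
   [3, 3, 3, 0, 2, 2, 2],
   [0, 2, 3, 2, 2, 1, 0],
   [0, 2, 3, 2, 2, 2],
   [0, 1, 3, 2, 1, 0, 3],
   [3, 2, 0, 2, 3, 3, 1],
   [2, 1, 0, 0, 1, 3],
   [3, 0, 3, 0, 2, 3],
   [3, 2, 3, 0, 0, 0, 1],
   [0, 2, 0, 3, 3, 2, 3, 2],
   [2, 3, 1],
   [0, 2, 1, 0, 1, 3, 0],
   [2, 2, 1, 3, 0, 3],
   [0, 3, 3, 3, 0, 2, 0],
   [3, 2, 2, 0, 0, 1, 0],
   [0, 2, 2, 1, 0, 3],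
   [0, 0, 1, 0],
   [2, 0, 2, 2, 2, 0, 0],
   [3, 3, 2, 0, 3, 0],
   [3, 0, 0, 2, 1, 3],
   [0, 0, 2, 0, 2, 2],
   [2, 2, 2, 0, 1, 3],
   [1, 0, 3, 3, 0, 0],
   [1, 0, 3, 0, 2, 1],
   [3, 3, 0, 0, 2, 3, 0],
   [3, 2, 0, 3, 0],
   [3, 3, 3, 3, 0, 2, 1, 0],
   [0, 3, 0, 3, 2, 2, 2],
   [2, 1, 0, 3, 0, 2, 0],
   [1, 0, 1, 3, 0],
   [2, 2, 2, 3, 0, 0],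
   [0, 0, 2, 0, 1, 3, 1],
   [0, 2, 2, 1, 3, 0, 0],
   [1, 0, 3, 0, 0, 0],
   [0, 3, 2, 1],
   [1, 3, 3, 3],
   [3, 2, 1, 0, 1, 3, 2],
   [1, 0, 2, 2, 0],
   [2, 2, 3, 3, 0, 1, 0],
   [2, 2, 3, 1, 0, 3],
   [2, 2, 0, 2, 2, 3],
   [1, 0, 0, 1],
   [0, 0, 0, 2, 0, 3],
   [2, 2, 2, 2, 1, 3, 0, 0],
   [3, 3, 3, 0, 2, 3, 0],
   [0, 2, 0, 2, 3],
   [3, 2, 0, 2, 2, 0],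
   [0, 3, 0],
   [3, 0, 1, 0, 0, 0],
   [2, 1, 0, 3, 3, 3],
   [0, 3, 0, 3, 3],
   [0, 2, 0, 2, 1, 3],
   [1, 3, 2, 0, 3, 0],
   [1, 3, 3, 0, 1, 0],
   [3, 0, 0, 2, 0, 3, 0],
   [0, 2, 0, 1, 0, 0],
   [0, 3, 0, 2, 1, 0],
   [3, 0, 2],
   [3, 0, 0, 1, 0, 2],
   [1, 0, 1, 3, 2],
   [0, 3, 0, 0, 2, 3, 3, 0],
   [3, 3, 0, 2, 0, 3],
   [3, 3, 2, 1, 0, 0],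
   [3, 3, 3, 3],
   [0, 2, 1, 0, 2],
   [1, 0, 0, 2, 1, 0],
   [2, 0, 2, 1, 0, 1, 0],
   [2, 1, 3, 3, 0, 1],
   [0, 1, 0, 2, 1, 0, 3],
   [2, 2, 0, 3, 0, 2, 0],
   [2, 0, 2, 2, 3, 2, 1],
   [1, 0, 2, 0, 2],
   [0, 0, 0, 0, 1, 3, 0],
   [2, 1, 3, 2],
   [2, 3, 2, 2, 2, 0, 0],
   [3, 3, 2, 0, 1],
   [2, 3, 2, 0, 3],
   [3, 2, 1, 0, 2, 0, 1],
   [1, 3, 2, 0, 0, 2, 0],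
   [0, 3, 0, 2, 0],
   [3, 2, 2, 3, 2, 0, 1],
   [2, 1, 3, 1, 0],
   [0, 3, 3, 2, 0, 2, 0],
   [3, 0, 2, 2, 0, 0, 0],
   [1, 3, 2, 1, 0, 3, 2],
   [0, 2, 2, 0, 2, 1, 3, 0],
   [3, 2, 2, 1],
   [3, 2, 2, 0, 2, 2],
   [3, 0, 2, 2, 2, 1],
   [3, 2, 2, 0, 2, 0],
   [2, 0, 1, 0, 0, 0],
   [0, 0, 2, 3, 3],
   [3, 3, 3, 0, 2],
   [3, 3, 3, 3, 0, 1],
   [0, 3, 1, 0, 3, 0, 3],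
   [1, 0, 2, 2, 3],
   [0, 1, 0, 0, 2, 2, 2],
   [2, 2, 3, 0, 0, 2],
   [0, 2, 2, 0, 3, 0],
   [3, 2, 2, 3, 2, 0, 1, 0],
   [1, 0, 1, 0, 1],
   [0, 3, 2, 1, 0, 1, 0],
   [1, 0, 0, 2, 0, 1, 0],
   [0, 3, 2, 2, 1, 0, 1, 0],
   [2, 2, 2, 0, 2, 3, 1],
   [3, 3, 3, 0, 0, 1],
   [1, 0, 3, 0, 0, 1],
   [0, 2, 1, 3, 2, 0, 1, 0],
   [3, 0, 3, 2, 0, 3, 1, 0],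
   [3, 2, 3, 0, 3],
   [2, 2, 2, 1, 0, 0, 0],
   [3, 0, 3, 1, 0, 2, 1],
   [2, 2, 0, 2, 2, 3, 1, 0],
   [1, 0, 2, 0, 1, 3, 0],
   [3, 1, 0, 2, 2, 2],
   [2, 1, 0, 2, 1, 3],
   [0, 0, 2, 1, 3, 0, 2, 0],
   [0, 2, 2, 3, 1, 0, 0, 0],
   [3, 1, 0, 3, 2, 0],
   [2, 2, 3, 3],
   [3, 0, 2, 3, 1, 0],
   [0, 1, 0, 2, 2, 3, 3],
   [0, 0, 2, 0],
   [0, 2, 3, 2, 0, 0, 1],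
   [1, 3, 3, 1],
   [1, 3, 2, 3, 0],
   [0, 2, 0, 2, 0, 2, 0],
   [0, 3, 3, 0, 3, 0, 0],
   [0, 1, 3, 3, 2, 0, 0],
   [0, 2, 2, 0, 0, 0],
   [3, 1, 0, 0, 2, 0, 0],
   [2, 0, 2, 0, 3, 2, 2],
   [1, 3, 3],
   [0, 2, 3, 1, 0, 2, 2],
   [3, 1, 0, 2, 0, 0, 0],
   [3, 0, 2, 3, 0, 0],
   [2, 1, 3, 1, 0, 1],
   [3, 2, 2, 3, 2, 0],
   [2, 1, 3, 1, 0, 1, 0],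
   [0, 3, 0, 1, 0, 2, 3, 0],
   [0, 3, 2, 3, 1],
   [1, 0, 1, 3, 0, 2],
   [3, 3, 3, 1, 0, 2],
   [2, 0, 0, 0],
   [3, 3, 0, 0, 1, 0, 3],
   [3, 2, 0, 2, 2, 1],
   [2, 2, 0, 1, 0, 1],
   [2, 1, 0, 3, 0, 1, 0],
   [0, 3, 2, 1, 0, 3, 2],
   [3, 1, 0, 1, 3, 0, 1],
   [2, 0, 3, 3, 3],
   [1, 0, 2, 0, 2, 3, 0],
   [1, 0, 0, 2, 0, 1, 3],
   [3, 2, 0, 3, 1, 0, 0],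
   [1, 0, 2, 0, 2, 3],
   [3, 2, 0, 1, 3, 2],
   [2, 3, 0],
   [2, 2, 0, 1, 0, 2],
   [0, 2, 0, 2, 3, 3],
   [1, 0, 2, 3, 1],
   [0, 1, 3, 0, 0, 2, 0, 0],
   [0, 3, 3, 0, 2],
   [1, 0, 3, 1, 0, 0],
   [1, 3, 0, 2, 3, 0],
   [3, 2, 3, 1, 0, 1],
   [0, 2, 2, 1, 0, 1],
   [0, 2, 2, 1],
   [2, 3, 0, 3, 3],
   [2, 1, 0, 1, 0, 2],
   [1, 3, 0],
   [1, 3, 0, 3, 3, 0, 0],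
   [2, 2, 2, 0, 0, 0, 0],
   [2, 0, 1, 0, 0, 1],
   [3, 2, 0, 1, 0, 3],
   [2, 0, 3, 0, 1, 0],
   [1, 0, 1, 0, 2, 0, 0, 0],
   [3, 3, 0, 0, 2, 1],
   [2, 3, 3, 2, 0, 0],
   [3, 0, 2, 0, 1, 3, 1],
   [3, 2, 0, 3, 2, 1, 0, 0],
   [3, 3, 1, 0, 0, 2],
   [3, 2, 0, 3, 0, 1, 0],
   [0, 0, 0, 1, 0, 0],
   [2, 2, 3, 2, 2, 0],
   [2, 0, 0, 0, 2, 1, 0],
   [3, 3, 2, 3, 0],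
   [0, 1, 0, 2, 0],
   [2, 3, 2, 2, 0, 0, 1],
   [0, 1, 3, 3, 0],
   [2, 2, 1, 3, 0, 1],
   [1, 3, 3, 0, 1, 0, 3],
   [0, 0, 2, 3],
   [0, 0, 0, 1, 3, 2],
   [2, 0, 0, 2, 0, 1],
   [2, 2, 0, 2, 1, 0, 3],
   [1, 0, 0, 2, 3, 0, 0],
   [0, 2, 0, 2, 1],
   [0, 2, 0, 0],
   [1, 0, 2, 1, 3],
   [3, 1, 0, 0, 0, 0],
   [0, 3, 0, 2, 2, 0, 0],
   [2, 3, 2, 0, 1, 3, 3],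
   [2, 2, 2, 2, 3, 0, 0],
   [0, 0, 1, 0, 2],
   [3, 0, 1, 0, 3],
   [0, 3, 3, 0, 0, 0, 1],
   [0, 1, 0, 1, 3, 3],
   [0, 3, 2, 2, 3, 0, 1, 0],
   [1, 3, 0, 0, 0, 0],
   [3, 3, 3, 0, 1, 0, 3],
   [1, 0, 3, 1, 0],
   [3, 1, 0, 1, 0, 1],
   [2, 0, 2, 2, 0, 3, 0],
   [2, 0, 1, 0, 3, 0, 1, 0],
   [0, 0, 1, 3, 3, 3, 3],
   [1, 0, 1, 3, 3, 3, 0],
   [1, 0, 3, 0, 3, 0, 0],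
   [0, 2, 3, 0, 2, 0],
   [2, 3, 1, 0, 3, 2],
   [0, 0, 2, 1, 3, 0, 2],
   [2, 3, 0, 3, 0, 0, 0],
   [1, 3, 1, 0, 3, 1, 0, 0],
   [1, 3, 0, 0, 0],
   [0, 3, 0, 3, 0, 0],
   [2, 2, 0, 1, 3, 3, 0],
   [0, 2, 0, 0, 2, 0, 2],
   [3, 3, 0],
   [1, 3, 2, 3],
   [1, 0, 2, 0, 3, 0, 2, 0],
   [1, 0, 3, 2, 0, 3, 1, 0],
   [1, 3, 2, 2, 0, 3],
   [2, 1, 0, 2, 2, 1],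
   [0, 3, 0, 2, 0, 1, 0],
   [3, 2, 0, 2, 0],
   [3, 0, 3, 1, 0],
   [2, 2, 0, 0, 2, 3],
   [3, 0, 3, 3, 0, 1],
   [3, 1, 0, 0, 0, 2, 3],
   [0, 3, 2, 0, 0, 2, 3],
   [2, 2, 1, 3, 0, 3, 0],
   [2, 2, 0, 1, 3],
   [2, 1, 0, 0, 2, 2],
   [3, 0, 0, 2, 3, 2, 1],
   [2, 2, 2],
   [2, 2, 3, 1, 0, 1],
   [2, 1, 0, 0, 2, 0],
   [0, 1, 3, 3, 2],
   [0, 2, 3, 2, 2],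
   [3, 0, 3, 0, 3, 0],
   [0, 1, 0, 2, 1, 0],
   [1, 0, 2, 0, 0, 1, 0],
   [0, 3, 1, 0, 2],
   [0, 3, 3, 2, 0, 3],
   [3, 2, 1, 0, 0, 0],
   [2, 0, 3, 0, 3, 0],
   [0, 2, 0, 1, 3, 3, 0],
   [3, 2, 0, 3, 3, 2, 3],
   [3, 2, 3, 3, 0, 0, 0, 1],
   [0, 0, 2, 3, 2, 0],
   [0, 2, 0, 0, 0, 0],
   [2, 2, 2, 0, 1],
   [1, 3, 2, 0, 2, 0, 1],
   [3, 0, 2, 3, 2, 0, 3],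
   [3, 1, 0, 2, 3, 0],
   [0, 2, 0, 2, 2, 3, 2],
   [0, 1, 0, 3, 2, 3, 0],
   [3, 0, 3, 2],
   [2, 0, 2, 2, 1],
   [3, 0, 1, 0, 3, 3, 3, 0],
   [3, 2, 2, 0, 0],
   [3, 0, 3, 0, 0, 1],
   [0, 2, 0, 3, 0, 2],
   [0, 1, 0, 3, 2, 2, 2],
   [0, 3, 0, 2, 3, 0, 2],
   [3, 0, 2, 0, 0, 1, 0],
   [3, 3, 2, 3],
   [1, 3, 2, 2, 0, 0],
   [0, 2, 1, 0, 2, 1, 0],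
   [1, 0, 1, 3, 0, 2, 0],
   [2, 2, 0, 2, 3, 1],
   [3, 0, 3, 3, 0, 1, 0],
   [3, 0, 2, 2, 3, 2],
   [3, 1, 0, 0],
   [2, 2, 3, 0, 2],
   [0, 3, 3, 0, 2, 0],
   [0, 0, 1, 0, 2, 0, 0, 0],
   [2, 0, 1, 3, 3],
   [2, 3, 0, 0, 2, 0, 0],
   [2, 2, 1, 0, 2],
   [0, 3, 2, 3],
   [2, 1, 0, 3, 2, 0, 0],
   [2, 3, 0, 3, 3, 0, 1],
   [3, 3, 3, 0, 0, 2],
   [0, 2, 0, 0, 2, 1],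
   [1, 0, 2, 3, 2],
   [0, 3, 0, 1, 0, 0],
   [2, 2, 0, 0, 1, 0],
   [3, 2, 0, 0],
   [0, 2, 3, 1, 0, 1, 0],
   [0, 2, 3, 3, 0, 0],
   [0, 2, 3, 3, 2, 0, 3],
   [2, 2, 3, 2, 2, 0, 0, 1],
   [0, 0, 2, 3, 1, 0, 0],
   [2, 0, 0, 2, 2, 0],
   [0, 0, 2, 1, 3, 2, 2],
   [2, 3, 3, 1, 0],
   [1, 3, 1, 0, 1],
   [3, 2, 2, 0, 0, 2, 3],
   [3, 3, 3, 1, 0, 3],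
   [0, 0, 0, 0, 0, 1],
   [2, 0, 3, 1, 0, 0],
   [2, 3, 0, 2, 3, 0],
   [2, 0, 2, 1, 0],
   [0, 3, 3, 2, 2, 0],
   [2, 2, 1, 3, 2, 0],
   [1, 0, 1, 0, 2, 3, 1],
   [0, 3, 0, 2, 1, 0, 3],
   [3, 1, 0, 0, 2, 0],
   [0, 1, 0, 3, 3, 3, 0],
   [3, 1, 0, 3, 3, 0, 2],
   [2, 2, 1, 0, 0, 0],
   [1, 0, 0, 2, 0, 2],
   [0, 0, 0, 2, 3, 2],
   [2, 3, 3, 0, 2, 2],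
   [2, 3, 2, 2, 0, 1, 0],
   [0, 3, 3, 3, 3, 0],
   [2, 0, 2, 0, 0, 2],
   [3, 2, 1, 0, 2],
   [1, 3, 2, 0, 1, 3],
   [3, 2, 0, 3, 0, 0],
   [1, 3, 0, 2, 3],
   [2, 2, 2, 2, 0],
   [0, 0, 1, 0, 0, 0],
   [3, 3, 0, 0, 0, 2],
   [3, 2, 0, 2, 0, 2],
   [3, 2, 3, 2, 0, 0, 1],
   [0, 3, 0, 0, 2, 2, 2],
   [3, 2, 3, 1, 0, 1, 0],
   [1, 3, 3, 0, 0, 2],
   [1, 0, 2, 2, 1, 3, 0, 0],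
   [2, 2, 1, 0, 0],
   [1, 0, 2, 3, 1, 0],
   [0, 0, 0, 2, 1, 3],
   [3, 3, 0, 2, 3, 0],
   [3, 3, 2, 2, 0, 3],
   [0, 1, 3, 2, 1],
   [1, 0, 1, 0, 3],
   [3, 0, 0, 2, 3],
   [2, 3, 3, 2],
   [0, 1, 0, 2, 3],
   [2, 0, 2, 0, 2, 3, 0, 0],
   [2, 0, 0, 1, 3, 2],
   [0, 0, 2, 3, 2, 1],
   [0, 1, 3, 0, 3, 2],
   [2, 0, 0, 1, 0],
   [2, 2, 3, 2, 1, 0, 3, 0],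
   [2, 0, 0, 2, 1, 3, 0],
   [0, 2, 2, 2, 0, 2],
   [2, 0, 2, 1, 0, 3, 0],
   [1, 0, 3, 1],
   [3, 0, 3, 2, 0, 3, 2, 1],
   [2, 1, 0, 0],
   [1, 0, 0, 2, 3],
   [0, 3, 2, 2, 2],
   [0, 2, 1, 0, 2, 2],
   [3, 0, 2, 1, 3, 0, 2, 0],
   [0, 2, 2, 3, 2, 0],
   [1, 0, 3, 3, 2],
   [2, 2, 2, 0, 2, 3],
   [0, 3, 2, 0, 2, 0, 1],
   [0, 3, 1, 0, 3, 3],
   [3, 2, 3, 2, 1, 0, 1, 0],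
   [3, 2, 2, 0, 2, 2, 3],
   [2, 2, 1, 0, 1, 0],
   [3, 2, 3, 2, 1, 0, 1],
   [3, 3, 2, 3, 0, 0],
   [0, 3, 0, 0, 0],
   [2, 3, 3, 0, 1, 0, 2],
   [3, 0, 0, 0, 1],
   [1, 0, 0, 0, 1, 0],
   [2, 1, 0],
   [2, 2, 2, 0],
   [3, 2, 3, 0, 2, 3, 1, 0],
   [3, 0, 0, 2, 0, 2],
   [2, 3, 2, 0, 3, 1, 0],
   [3, 3, 2, 2, 0, 0],
   [2, 1, 3, 0, 3],
   [1, 3, 2, 3, 0, 3, 0],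
   [2, 0, 3, 2, 1],
   [2, 2, 0, 3, 0, 2],
   [3, 0, 0, 0, 1, 0, 0],
   [3, 3, 0, 0, 0, 0],
   [2, 2, 0, 3, 0, 0],
   [3, 1, 0, 1, 0, 2, 0],
   [2, 0, 2, 2, 3, 1, 0],
   [2, 0, 0, 2],
   [2, 0, 3, 2, 1, 0, 0],
   [1, 0, 2, 2, 2, 0, 0],
   [3, 1, 0],
   [2, 2, 3, 2, 2],
   [1, 0, 1, 0, 3, 2, 0],
   [0, 2, 2, 2, 2, 3],
   [1, 3, 2, 3, 0, 0, 1],
   [2, 3, 3, 1],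
   [3, 3, 2, 0, 2],
   [0, 2, 2, 2, 0, 0],
   [1, 0, 1, 3, 0, 2, 0, 0],
   [0, 3, 0, 3, 0, 3],
   [1, 3, 3, 1, 0, 2],
   [0, 2, 1, 0, 3, 3],
   [0, 0, 2, 0, 1, 0],
   [0, 2, 0, 3, 0, 2, 0],
   [3, 2, 2, 3, 0, 1],
   [3, 2, 3, 3, 0, 2],
   [2, 1, 0, 2, 0],
   [2, 0, 2, 2],
   [0, 1, 0, 1],
   [1, 0, 2, 1, 3, 0, 2, 0],
   [2, 2, 1, 0, 2, 3, 3],
   [1, 3, 3, 2, 0, 1],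
   [2, 0, 1, 3, 0, 2],
   [3, 2, 2, 0],
   [0, 2, 0, 3],
   [1, 0, 2, 3, 1, 0, 2, 0],
   [0, 1, 3, 3, 1, 0, 0],
   [2, 2, 3, 2, 0, 1, 3],
   [1, 0, 2, 3, 3, 2],
   [3, 2],
   [3, 0, 0, 0, 0, 2, 0],
   [1, 0, 3, 2, 3, 0, 2],
   [0, 3, 2, 0, 1, 3, 3],
   [1, 3, 0, 0, 1, 0, 3],
   [3, 2, 2, 0, 0, 0],
   [3, 3, 3, 1],
   [1, 0, 3, 2, 1, 0, 2],
   [0, 1, 3, 0, 2, 1],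
   [0, 0, 2, 1, 0, 3, 0],
   [3, 1, 0, 1, 3, 3, 3, 0],
   [1, 0, 0, 0, 2, 3],
   [2, 0, 0, 1, 0, 0, 0],
   [0, 1, 3, 1, 0],
   [1, 3, 2, 0, 2, 3, 1],
   [1, 0, 2, 3, 2, 0],
   [2, 2, 1, 0, 1, 0, 2],
   [1, 0, 2, 3, 3, 0, 1],
   [0, 2, 2, 0, 3, 1, 0],
   [2, 0, 0, 0, 1],
   [0, 2, 2, 3, 0],
   [2, 0, 3, 3, 0, 2, 0],
   [2, 3, 1, 0, 1, 3],
   [3, 0, 1, 0, 2, 3],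
   [0, 1, 3, 3, 2, 0, 2],
   [3, 3, 3, 1, 0, 2, 1],
   [2, 2, 2, 1, 0],
   [0, 0, 2, 0, 1, 3, 2],
   [0, 3, 3, 2, 3, 2, 0],
   [0, 1, 0, 0, 2, 2, 3],
   [2, 3, 3, 2, 2, 0, 0],
   [2, 0, 0, 1, 3, 0],
   [2, 3],
   [3, 1, 0, 1, 3],
   [0, 2, 0, 0, 1, 0, 2, 0],
   [1, 3, 3, 3, 1, 0],
   [2, 3, 2, 0, 2, 0],
   [1, 3, 3, 3, 3],
   [3, 2, 0, 2, 2, 3, 2],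
   [3, 2, 1, 0, 2, 3, 3],
   [0, 3, 3, 0, 0],
   [0, 2, 2, 2, 1, 3],
   [3, 0, 2, 0, 3, 3, 3],
   [2, 0, 0, 2, 3, 2, 1],
   [0, 3, 2, 2, 0, 3],
   [3, 0, 2, 3, 2, 1],
   [3, 3, 0, 2, 3, 3],
   [0, 0, 2, 2],
   [2, 0, 1, 0, 2, 0],
   [2, 0, 0, 0, 0, 2, 0],
   [3, 1, 0, 0, 0, 2, 1],
   [0, 1, 0, 3, 0, 2, 0],
   [0, 0, 2, 1, 0, 3],
   [0, 3, 0, 3, 2, 2, 1],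
   [0, 1, 0, 3, 0],
   [2, 2, 2, 1, 0, 0],
   [0, 3, 1, 0, 2, 1],
   [3, 2, 0, 0, 1],
   [0, 3, 0, 3, 2, 0],
   [3, 3, 3, 3, 0, 1, 0],
   [1, 0, 2, 0, 0, 0, 0],
   [3, 0, 3, 0, 3, 0, 2],
   [0, 1, 0, 2, 1, 3, 0],
   [2, 1, 3, 2, 2],
   [0, 0, 0, 1],
   [2, 3, 0, 2, 0, 2, 0],
   [3, 2, 0, 1, 3, 2, 1],
   [0, 2, 3, 2],
   [1, 0, 2, 2, 3, 1, 0],
   [3, 0, 0, 0, 2],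
   [1, 0, 0, 0],
   [0, 2, 3, 3, 0, 0, 0],
   [0, 3, 1, 0, 3, 2],
   [0, 2, 3, 2, 2, 3, 0, 1],
   [1, 0, 2, 0, 3],
   [2, 3, 2, 1],
   [0, 3, 3, 2, 2],
   [3, 0, 3, 0, 2, 0, 2, 0],
   [2, 0, 2, 2, 1, 3, 0],
   [0, 2, 3, 2, 2, 0],
   [3, 3, 3, 0, 1, 0, 2],
   [0, 2, 2, 2, 3, 1],
   [2, 1, 0, 0, 0, 1, 0],
   [0, 2, 3, 0, 2, 3, 1],
   [3, 2, 2, 3, 2, 0, 0],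
   [2, 3, 1, 0, 1, 0, 1],
   [2, 2, 2, 0, 3, 0],
   [1, 0, 0, 2, 3, 3],
   [3, 3, 0, 2, 0, 1, 0, 0],
   [2, 1, 0, 0, 2, 3],
   [3, 3, 0, 2, 3, 0, 0],
   [0, 0, 0, 2, 1, 3, 0],
   [0, 2, 0, 0, 2, 0, 3],
   [3, 1, 0, 2, 2, 0],
   [0, 0, 2, 3, 1, 0, 2],
   [2, 3, 0, 2, 3, 3, 2],
   [0, 0, 2, 0, 1, 0, 2],
   [2, 1, 0, 0, 0, 0],
   [0, 1, 0, 0, 0, 0],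
   [0, 2, 2, 3, 0, 0, 0, 0],
   [3, 1, 0, 2, 2, 2, 1, 0],
   [3, 3, 3, 3, 0, 0],
   [1, 0, 0, 2, 3, 2],
   [0, 0, 0, 2, 2, 3],
   [0, 2, 0, 2, 3, 2],
   [0, 0, 2, 1, 3, 1],
   [1, 0, 2, 0, 0, 2, 1],
   [0, 2, 2, 2, 1, 0, 2],
   [0, 3, 3, 2, 0],
   [3, 0, 2, 1, 0, 0, 0, 0],
   [0, 1],
   [2, 0, 1, 3, 2, 0, 1],
   [0, 3, 3, 2, 0, 0],
   [3, 3, 3, 3, 0, 3],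
   [3, 0, 2, 2, 0, 1],
   [2, 0, 3, 0, 3],
   [0, 1, 3, 3, 0, 0],
   [3, 0, 2, 3, 0, 2, 0],
   [0, 2, 3, 0, 2, 3],
   [2, 3, 3, 0, 2, 3, 1],
   [0, 2, 2, 3],
   [3, 2, 1, 0, 0, 0, 0],
   [2, 1, 0, 0, 2, 1, 0],
   [3, 2, 2, 0, 1],
   [3, 3, 2, 0, 1, 0, 3],
   [3, 2, 1, 0, 3, 0],
   [2, 2, 0, 0, 1],
   [0, 3, 0, 0, 0, 0, 0],
   [0, 0, 1, 3, 3, 3, 0],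
   [0, 0, 2, 0, 2, 0, 1],
   [2, 3, 2, 0, 2],
   [3, 2, 2, 2, 0, 1],
   [3, 2, 0, 3, 3, 3, 0],
   [1, 3, 0, 2, 3, 3, 0],
   [2, 1, 3, 2, 1, 0],
   [3, 3, 1, 0, 0, 2, 0, 0],
   [0, 2],
   [2, 2, 1, 3, 0, 1, 0],
   [2, 2, 0, 3],
   [3, 3, 2, 1],
   [2, 3, 0, 2, 1, 0, 0],
   [1, 3, 2, 2, 0, 0, 2],
   [2, 3, 3, 1, 0, 3],
   [1, 3, 1, 0, 2, 0, 0],
   [0, 1, 0, 2, 0, 2, 0],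
   [0, 3, 3, 1, 0, 1, 0],
   [0, 2, 3, 1, 0],
   [2, 3, 0, 0],
   [0, 2, 2, 3, 0, 0],
   [3, 0, 0, 0, 0, 0, 1],
   [1, 3, 0, 2, 0, 0],
   [1, 0, 1, 3, 2, 3, 0, 0],
   [2, 3, 3, 1, 0, 0],
   [0, 0, 0, 2],
   [2, 2, 2, 3, 0, 1],
   [2, 0, 2, 2, 3, 1],
   [3, 3, 2, 3, 2],
   [3, 1, 0, 2, 0],
   [3, 3, 0, 3, 3],
   [0, 2, 0, 3, 3, 3, 1],
   [3, 1, 0, 2, 3, 2, 0],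
   [0, 0, 2, 2, 0, 3],
   [2, 1, 3, 3, 0],
   [1, 0, 2, 2, 3, 1],
   [2, 3, 2, 2, 0, 3],
   [0, 0, 2, 0, 1, 3],
   [1, 3, 1, 0, 1, 0, 1],
   [0, 0, 0, 0, 2, 1, 0],
   [2, 3, 3, 0, 1, 0, 3],
   [1, 3, 0, 2],
   [3, 3, 3, 3, 3, 0, 2],
   [0, 3, 1, 0, 0, 0, 1],
   [2, 1, 0, 1, 0, 2, 0],
   [1, 0, 0, 1, 0, 1],
   [2, 1, 0, 1],
   [2, 0, 0, 2, 2, 2, 0],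
   [1, 0, 1, 0, 0],
   [1, 0, 0, 2, 2, 2, 0],
   [2, 0, 2, 2, 0, 1],
   [2, 2, 3, 0, 2, 2, 0, 0],
   [2, 0, 3, 2, 0, 3, 1, 0],
   [1, 3, 0, 0],
   [3, 2, 2],
   [1, 3, 0, 2, 0, 2],
   [0, 3, 2, 0, 0, 0, 0],
   [2, 2, 3, 2, 1],
   [3, 3, 2, 2, 0, 2],
   [1, 0, 2, 2, 0, 0],
   [1, 3, 1, 0, 1, 0, 2, 0],
   [0, 1, 3, 0, 2, 3, 0, 2],
   [0, 3, 3, 0, 1, 0, 3],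
   [3, 0, 0, 0, 2, 0, 3],
   [2, 2, 3, 1, 0, 1, 3],
   [3, 2, 3, 0, 3, 0],
   [1, 3, 0, 3, 0, 1, 0],
   [2, 0, 3, 3, 2, 3, 2, 0],
   [0, 0, 0, 2, 3, 1, 0],
   [1, 3, 0, 2, 0, 0, 0, 2],
   [2, 3, 3, 2, 0, 0, 1],
   [2, 3, 0, 2, 3, 1, 0],
   [1, 3, 0, 2, 0, 1, 0],
   [0, 0, 0, 2, 3, 1],
   [0, 0, 2, 3, 0, 0],
   [2, 1, 3, 0, 2, 3, 1],
   [0, 3, 3],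
   [0, 3, 0, 0, 2, 2, 1],
   [3, 0, 2, 0, 3, 0, 2],
   [3, 0, 0, 0, 2, 3, 1],
   [3, 0, 2, 3, 0],
   [0, 1, 0, 2, 3, 0],
   [3, 3, 1, 0, 3, 3],
   [3, 0, 3, 3, 0, 2, 1],
   [2, 1, 3, 2, 0],
   [1, 3, 2, 2],
   [2, 2, 3, 0, 2, 3, 3],
   [2, 3, 2, 1, 0, 3, 0, 0],
   [2, 0, 2, 0, 2, 1],
   [3, 2, 1, 0, 3],
   [2, 2, 0, 3, 2, 1],
   [2, 1, 3],
   [0, 2, 2, 2, 3],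
   [2, 2, 3, 3, 2],
   [3, 2, 1, 0, 0],
   [3, 3, 0, 3, 0, 2, 0],
   [0, 2, 0, 3, 0, 0],
   [2, 0, 3, 2],
   [3, 2, 3, 0, 2, 1, 3, 0],
   [0, 2, 3, 3, 2, 1, 0],
   [1, 0, 2, 2, 3, 3, 1, 0],
   [2, 2, 2, 2],
   [3, 3, 0, 2, 2, 0, 0],
   [3, 1, 0, 3, 3, 2, 1],
   [2, 1, 0, 0, 0, 2, 1],
   [2, 0, 0, 0, 2, 3, 1],
   [1, 3, 3, 3, 1],
   [1, 0, 3, 2, 3],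
   [2, 3, 0, 0, 0, 0],
   [2, 3, 0, 2, 2, 2],
   [3, 0, 1, 0, 2, 0],
   [3, 3, 3, 3, 3, 0, 3],
   [0, 3, 0, 3, 0, 1, 0],
   [2, 2, 3, 3, 2, 1],
   [0, 1, 3, 0, 2, 2],
   [1, 0, 0, 0, 0, 0],
   [3, 0, 3, 0, 3, 3],
   [2, 2, 3, 3, 1, 0],
   [1, 3, 2, 0, 0, 2, 1],
   [2, 0, 2, 0, 0, 1, 0],
   [1, 0, 1, 3, 3, 2],
   [3, 3, 3, 1, 0, 0],
   [2, 0, 0, 0, 2, 0],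
   [2, 0, 0, 2, 2],
   [0, 1, 3, 3, 0, 2, 1],
   [0, 1, 3, 0, 3, 0],
   [2, 2, 3, 2, 1, 0],
   [2, 3, 2, 0, 0, 0],
   [0, 0, 2, 2, 0],
   [3, 3, 0, 1, 0, 2, 3],
   [3, 3, 2, 3, 0, 3],
   [2, 0, 3, 1, 0],
   [3, 0, 2, 0, 3, 3],
   [1, 3, 0, 2, 0],
   [1, 0, 1, 0, 2, 2, 1, 0],
   [2, 2, 3, 0, 1, 0],
   [2, 1, 3, 1, 0, 1, 0, 1],
   [3, 2, 3, 2, 2, 0, 3],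
   [0, 0, 2, 2, 2, 1],
   [3, 3, 3, 0, 2, 2],
   [0, 1, 3, 3, 3, 0, 0],
   [0, 2, 0, 3, 0],
   [0, 3, 2, 3, 3, 0],
   [3, 2, 3, 0, 1, 0],
   [2, 2, 2, 2, 0, 2, 3],
   [1, 3, 2, 0, 0, 0, 0],
   [0, 1, 0, 2, 2, 2],
   [3, 2, 0, 1, 0, 1, 3],
   [0, 2, 0, 1, 0, 3],
   [1, 0, 2, 0, 0, 0, 2],
   [2, 2, 1, 0, 1, 3],
   [3, 2, 2, 0, 0, 2, 0],
   [2, 0, 3, 3, 2, 1],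
   [3, 3, 0, 2, 1],
   [2, 1, 3, 2, 0, 1],
   [1, 0, 1, 0, 3, 2],
   [2, 3, 3, 2, 0],
   [2, 2, 3, 2, 0, 0, 1],
   [1, 0, 2, 3, 2, 2],
   [1, 3, 0, 3, 0, 0],
   [1, 0, 1, 3, 2, 3, 0],
   [2, 2, 1, 3, 0, 2],
   [2, 3, 3, 2, 2],
   [1, 3, 2, 1, 0, 0, 2],
   [1, 0, 3, 3, 1, 0],
   [0, 3, 0, 1, 0, 0, 0, 1],
   [2, 3, 3, 3, 0, 1, 0],
   [1, 3, 2, 2, 0, 0, 0],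
   [0, 2, 3, 1, 0, 1],
   [2, 0, 3, 2, 3, 3],
   [2, 3, 0, 0, 2, 2, 1, 0],
   [1, 0, 3, 2, 0, 2, 1],
   [2, 1, 0, 2, 3, 0],
   [2, 3, 3, 0, 3, 0, 2],
   [2, 0, 2, 0, 3, 1, 0],
   [1, 0, 3, 0, 2, 3, 0],
   [2, 2, 0, 2, 0, 1],
   [3, 2, 1, 0, 3, 0, 0],
   [0, 0, 2, 1, 0, 1],
   [0, 3, 2, 3, 2, 0, 1],
   [2, 1, 0, 1, 3, 0],
   [3, 3, 3, 0, 2, 0],
   [2, 2, 1, 0, 3],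
   [0, 1, 0],
   [0, 3, 0, 0, 1, 0, 1],
   [2, 0, 1, 3, 0, 0],
   [0, 3, 0, 3, 0, 2, 3, 0],
   [0, 3, 2, 0, 2, 0, 0],
   [0, 2, 0, 1, 3, 1],
   [3, 2, 1],
   [3, 0, 2, 3, 3, 0, 0, 0],
   [1, 0, 2, 2, 1, 0, 1],
   [0, 0, 2, 3, 0, 2],
   [2, 0, 3, 0, 0, 2],
   [2, 3, 0, 2, 0, 2],
   [3, 0],
   [3, 2, 2, 2, 0, 2, 1, 0],
   [0, 0, 1, 3, 0, 0],
   [2, 3, 0, 2, 3, 3],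
   [3, 0, 2, 1, 0],
   [2, 3, 2, 1, 0, 1],
   [3, 0, 0, 2, 3, 3, 0],
   [3, 0, 2, 2],
   [2, 1, 0, 2],
   [0, 1, 0, 3, 3],
   [3, 2, 2, 1, 0, 0, 0],
   [2, 3, 3, 2, 2, 0],
   [0, 0, 1, 3],
   [1, 3, 2, 0, 3],
   [1, 3, 3, 3, 3, 3, 0],
   [3, 3, 2, 0, 2, 0],
   [0, 3, 0, 2, 0, 0, 0, 0],
   [1, 0, 2, 0, 3, 0, 0],
   [3, 1, 0, 2, 2],
   [3, 0, 2, 2, 3, 3],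
   [1, 0, 0, 2, 2, 2],
   [2, 1, 3, 2, 0, 2, 0],
   [3, 2, 1, 0, 1, 0],
   [1, 3, 2, 2, 2, 0],
   [3, 3, 3, 1, 0, 1, 0],
   [0, 0, 1, 0, 3],
   [2, 1, 3, 2, 0, 1, 0],
   [0, 2, 2, 3, 3, 0, 1],
   [2, 0, 2, 3, 3, 0, 0],
   [0, 3, 3, 1, 0, 2, 1],
   [0, 1, 3, 2, 0, 1],
   [3, 0, 0, 2, 3, 3],
   [0, 2, 1, 3, 0, 2, 0],
   [2, 3, 0, 2, 1, 3, 0],
   [0, 3, 2, 3, 1, 0],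
   [1, 0, 2, 2, 3, 3],
   [0, 2, 0],
   [1, 0, 2, 2],
   [0, 2, 0, 3, 2, 3, 1],
   [3, 3, 0, 3, 0, 0],
   [3, 1, 0, 3, 2, 0, 0],
   [1, 3, 2, 0, 2, 1, 0],
   [2, 3, 1, 0, 2, 2],
   [2, 1, 0, 2, 0, 0, 1, 0],
   [2, 2, 3, 3, 2, 0],
   [2, 0, 3, 3, 0, 1],
   [2, 2, 0, 3, 0, 3],
   [0, 3, 3, 2, 2, 0, 1],
   [2, 0, 3, 2, 2, 3, 0],
   [3, 3, 3, 0, 2, 0, 1],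
   [3, 2, 1, 0, 3, 2],
   [0, 1, 0, 3, 3, 3],
   [1, 3, 3, 0, 2, 2],
   [2, 0, 0, 2, 2, 1, 0],
   [3, 3, 2, 0, 0, 2, 1],
   [0, 2, 0, 2, 0, 2],
   [2, 0, 2, 2, 1, 0],
   [2, 0, 2, 3, 3],
   [3, 1, 0, 1, 0],
   [1, 3, 0, 3, 3],
   [2, 2, 1],
   [2, 2, 2, 2, 3, 0],
   [3, 2, 3, 2, 1, 0],
   [3, 2, 2, 3, 0, 2],
   [3, 0, 0, 2, 1],
   [0, 2, 0, 2, 2, 3],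
   [2, 3, 2, 0, 0, 2, 1],
   [0, 3, 0, 3, 0, 2, 1],
   [2, 1, 3, 3, 0, 3],
   [2, 2, 0, 0, 2, 0, 1, 0],
   [3, 3, 3, 3, 0, 2],
   [0, 0, 1, 0, 0],
   [2, 3, 0, 2, 3, 0, 0],
   [0, 3, 3, 2, 1, 0, 2],
   [0, 2, 3, 3, 3],
   [3, 2, 1, 0, 1, 0, 0],
   [0, 0, 1, 3, 2],
   [2, 0, 2, 3, 2, 2, 0],
   [2, 1, 3, 2, 0, 1, 3],
   [2, 0, 2, 1],
   [2, 0, 0],
   [2, 1, 3, 0, 2, 3, 0],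
   [1, 0, 0, 2, 3, 3, 0],
   [0, 1, 0, 2],
   [3, 2, 2, 3, 0, 1, 0],
   [3, 2, 0, 1, 3, 0],
   [3, 1, 0, 1],
   [3, 3, 0, 3, 2, 0, 0],
   [3, 2, 0, 2, 0, 2, 1],
   [3, 3, 0, 2, 0, 1],
   [0, 2, 1, 3, 0, 2],
   [2, 2, 3, 3, 2, 2],
   [3, 0, 0, 1, 0],
   [2, 0, 0, 2, 0, 2],
   [0, 3, 0, 3],
   [0, 2, 0, 2, 2, 1, 3],
   [3, 2, 3, 2, 0, 0, 2],
   [3, 0, 2, 0, 2, 1],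
   [3, 0, 2, 0, 1, 0],
   [2, 0, 0, 0, 0, 0],
   [0, 3, 3, 3, 0, 1],
   [3, 2, 0, 0, 2, 3],
   [2, 0, 2, 3, 1, 0],
   [3, 3, 3, 3, 3],
   [2, 3, 3, 0, 0, 2],
   [0, 2, 2, 0, 2, 3],
   [1, 0, 2, 1, 0],
   [3, 1, 0, 2],
   [3, 0, 0, 2, 3, 0],
   [0, 2, 3, 2, 0],
   [3, 0, 0, 2, 2, 1, 0],
   [2, 0, 2, 2, 3, 2],
   [1, 0, 3, 2, 3, 0],
   [0, 3, 3, 2],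
   [0, 0, 0, 1, 0, 3, 1],
   [2, 0, 2, 0, 2, 2, 0],
   [2, 3, 0, 0, 1],
   [1, 0, 3, 2, 2, 2],
   [3, 0, 2, 3, 0, 2],
   [2, 1, 0, 2, 1, 0],
   [2, 0, 1, 0, 1, 3],
   [0, 3, 3, 3, 0, 1, 0],
   [2, 2, 2, 2, 3, 0, 2],
   [0, 1, 0, 2, 0, 0, 0],
   [2, 3, 3, 1, 0, 3, 0],
   [0, 3, 2, 2, 0, 0, 1],
   [3, 0, 2, 2, 3, 1],
   [2, 0, 0, 2, 1],
   [0, 3, 2, 3, 2],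
   [2, 3, 3, 0, 3],
   [2, 3, 1, 0, 1, 0],
   [2, 3, 3, 2, 0, 3],
   [0, 2, 3, 1, 0, 0],
   [2, 0, 2, 1, 3, 1, 0],
   [3, 1, 0, 2, 0, 2, 0],
   [2, 0, 1, 0, 0, 1, 0],
   [0, 2, 3, 0, 3, 0],
   [1, 0, 3, 0, 2, 2, 1],
   [1, 0, 0, 0, 1, 3, 1],
   [3, 2, 0, 2, 3, 1],
   [1, 3, 1, 0, 2, 0, 1, 0],
   [3, 0, 2, 1, 0, 3],
   [1, 0, 3, 3, 3, 0],
   [3, 1, 0, 2, 3, 3, 1],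
   [2, 3, 0, 1, 0, 0, 0],
   [1, 3, 0, 3, 3, 0, 2, 0],
   [3, 0, 2, 0, 3],
   [2, 1, 3, 0, 1, 0],
   [0, 2, 1, 3, 3],
   [0, 1, 0, 0, 2],
   [3, 0, 0, 2, 2, 2],
   [0, 0, 2, 0, 1, 3, 0],
   [0, 3, 0, 0, 2, 0, 0, 0],
   [0, 0, 2, 1, 3],
   [1, 3, 2, 1],
   [3, 1, 0, 1, 0, 3, 3],
   [1, 3, 3, 1, 0, 0, 0],
   [1, 0, 2, 3],
   [2, 2, 0, 0, 2, 0, 2],
   [1, 3, 0, 3, 2],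
   [1, 0, 3, 2, 3, 2, 1],
   [1, 0, 0, 1, 0, 2, 1],
   [1, 0, 1, 3, 0, 1],
   [3, 0, 2, 1, 0, 0],
   [3, 2, 2, 2],
   [2, 1, 0, 2, 2],
   [3, 3, 0, 0, 0, 2, 2],
   [3, 2, 0, 2, 0, 1],
   [3, 1, 0, 3, 3],
   [0, 0, 0, 2, 1],
   [2, 0, 2, 2, 0, 0, 2],
   [3, 0, 0, 0],
   [0, 3, 0, 0, 1],
   [3, 2, 2, 2, 0],
   [0, 3, 0, 2, 0, 2],
   [3, 0, 3, 3, 1, 0],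
   [3, 3, 0, 2, 0, 2],
   [0, 2, 1, 3, 2, 0, 2],
   [2, 2, 2, 0, 0, 0],
   [1, 0, 2, 3, 0, 2, 0],
   [3, 0, 3, 2, 1, 0],
   [1, 0, 3, 1, 0, 0, 0],
   [3, 3, 2, 0, 1, 3, 2],
   [2, 2, 2, 2, 3],
   [1, 3, 0, 2, 2, 2, 3],
   [2, 2, 2, 0, 0],
   [3, 0, 3, 0, 3],
   [2, 1, 0, 3, 3],
   [0, 3, 2, 3, 2, 2, 1],
   [1, 0, 1],
   [1, 3, 2, 0, 3, 2, 2],
   [2, 2, 0, 2, 2, 3, 2],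
   [3, 0, 0, 2, 0, 2, 0, 1],
   [1, 3, 3, 1, 0, 0],
   [3, 3, 1, 0, 3, 2],
   [0, 2, 0, 0, 0, 2],
   [3, 2, 0, 1, 3, 3],
   [2, 1, 3, 2, 1, 0, 0],
   [0, 2, 1, 0, 3, 0],
   [1, 3, 3, 0, 2, 2, 1],
   [2, 2, 1, 0, 3, 2, 0, 0],
   [1, 3, 1, 0],
   [3, 2, 0, 2, 3, 1, 0],
   [2, 3, 3, 1, 0, 1],
   [0, 2, 1, 0, 2, 3, 3],
   [0, 0, 2, 2, 0, 1],
   [3, 3, 2, 3, 0, 1],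
   [1, 3, 3, 2, 0, 2],
   [0, 2, 0, 1, 3, 2],
   [3, 3, 2, 3, 2, 0],
   [1, 0, 0, 2, 2, 3],
   [0, 2, 2, 3, 2],
   [2, 0, 0, 1, 0, 2, 0],
   [3, 1, 0, 2, 3, 2],
   [0, 2, 2, 2, 2, 1, 3],
   [3, 3, 0, 0],
   [2, 2, 2, 1, 3],
   [3, 3, 0, 2, 3, 3, 0],
   [3, 2, 2, 0, 3],
   [0, 3, 2, 3, 2, 1],
   [0, 2, 2],
   [0, 0, 2, 2, 0, 1, 0],
   [1, 0, 3, 0, 2, 0],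
   [0, 2, 1, 0, 3],
   [3, 1, 0, 2, 1],
   [0, 2, 2, 3, 1, 0],
   [2, 2, 2, 0, 0, 2, 0],
   [1, 0, 2, 1, 3, 0],
   [3, 1, 0, 2, 3, 3],
   [2, 0, 3, 1, 0, 0, 2, 0],
   [2, 3, 2],
   [0, 3, 0, 0, 2],
   [1, 0, 1, 0, 0, 0, 0],
   [3, 1, 0, 3, 2],
   [1, 3, 0, 2, 0, 1, 0, 0],
   [2, 0, 3, 2, 0, 2, 0, 0],
   [1, 3, 0, 0, 2, 3, 1],
   [2, 2, 2, 3, 1],
   [2, 3, 2, 2, 0, 2],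
   [3, 2, 3, 2, 2],
   [0, 2, 2, 0, 2, 0, 2],
   [0, 2, 3, 3, 0, 2],
   [0, 0, 2, 1, 3, 0],
   [0, 2, 3, 1, 0, 2],
   [1, 0, 0, 0, 0],
   [2, 2, 3, 0, 0, 0, 0],
   [3, 3, 3, 0, 3],
   [3, 0, 1, 0, 3, 0, 1, 0],
   [2, 0, 2, 3, 2],
   [3, 0, 0, 2, 1, 3, 0],
   [2, 2, 2, 1, 0, 2],
   [3, 3, 2, 0],
   [1],
   [3, 3, 2, 0, 0],
   [2, 3, 3, 0, 2, 2, 0, 0],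
   [0, 3, 2, 3, 0, 2, 0],
   [2, 3, 1, 0, 0, 2],
   [1, 0, 1, 3, 2, 2, 2],
   [2, 2, 0, 0, 0, 1],
   [3, 0, 0, 0, 0, 0],
   [0, 2, 0, 2, 0, 1],
   [0, 0, 2, 2, 0, 2],
   [0, 3, 1, 0, 3, 0],
   [1, 0, 2, 1, 0, 0, 0, 0],
   [2, 2, 3, 0, 1],
   [0, 1, 3, 2, 1, 0, 0],
   [0, 2, 2, 1, 0, 3, 0],
   [3, 3, 1, 0, 1, 0],
   [2, 2, 1, 0, 0, 2, 2],
   [2, 0, 3, 0, 3, 1, 0],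
   [2, 3, 2, 2, 2, 0, 2],
   [2, 1, 3, 0, 0],
   [0, 2, 0, 2, 2, 0],
   [1, 0, 2, 1, 0, 2, 3],
   [3, 0, 0, 0, 2, 2],
   [2, 2, 2, 1, 3, 0, 1],
   [0, 2, 0, 1, 3],
   [1, 3, 0, 1, 0, 0, 1],
   [0, 0, 0, 2, 1, 0],
   [3, 3, 0, 0, 2, 3],
   [3, 1, 0, 0, 0, 1],
   [0, 3, 3, 0, 3, 2, 0],
   [0, 2, 0, 0, 2, 1, 0],
   [0, 3, 3, 2, 0, 3, 0, 0],
   [2, 2, 3, 3, 1],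
   [0, 0, 0, 2, 2, 2, 0],
   [2, 3, 3, 0, 3, 2, 1, 0],
   [0, 1, 3, 3, 0, 1],
   [1, 3, 0, 2, 3, 0, 2],
   [3, 3, 0, 1, 0, 3],
   [2, 2, 0, 2, 3, 1, 0],
   [2, 1, 0, 2, 1],
   [3, 0, 0, 2, 0, 2, 2],
   [1, 3, 3, 2, 0, 1, 0],
   [3, 2, 2, 1, 0, 3, 0],
   [0, 0, 2, 3, 1],
   [1, 3, 3, 0, 3, 2, 0, 0],
   [3, 3],
   [3, 0, 0, 2, 2, 1],
   [0, 3, 2, 3, 0],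
   [1, 0, 2, 3, 0],
   [2, 3, 1, 0, 2, 1],
   [0, 0, 2, 0, 1],
   [2, 0, 2, 2, 3, 3, 2],
   [3, 0, 0, 2, 0, 2, 0],
   [1, 0, 1, 0, 2, 3],
   [3, 3, 2, 2, 0, 0, 0],
   [3, 2, 0, 2],
   [0, 0, 2, 0, 2, 3, 0],
   [1, 3, 3, 3, 0, 3],
   [0, 0, 2, 0, 3, 1, 0],
   [1, 3, 0, 3, 2, 3, 0],
   [2, 2, 0, 1, 0, 3],
   [1, 3, 2, 0, 2, 2, 2],
   [3, 0, 3, 0, 1, 0],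
   [1, 3, 0, 2, 2],
   [0, 0, 0, 0, 1, 0],
   [2, 3, 1, 0, 2, 3, 3, 1],
   [3, 3, 0, 2, 3, 1, 0],
   [0, 2, 2, 0, 0],
   [1, 3, 0, 3, 0],
   [3, 2, 3, 0, 2, 3, 1],
   [0, 2, 2, 0],
   [1, 0, 0, 0, 2],
   [0, 2, 0, 3, 3, 1, 0],
   [3, 3, 2, 2, 2, 0, 2],
   [0, 1, 3, 2, 0, 2, 0, 0],
   [3, 2, 3, 3, 0],
   [2, 3, 2, 0, 2, 3, 1, 0],
   [2, 0, 1, 0, 3],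
   [0, 2, 1, 0, 1, 0],
   [2, 0, 0, 2, 2, 3],
   [0, 0, 1, 0, 2, 1],
   [0, 3, 2, 0, 3, 1, 0],
   [2, 3, 2, 2, 3, 0, 0],
   [1, 0, 0, 2, 0, 0],
   [0, 0, 1, 0, 0, 2, 1],
   [3, 2, 1, 0, 1, 0, 2],
   [0, 2, 1, 0, 2, 2, 0],
   [2, 0, 2, 1, 0, 0, 0, 0],
   [2, 2, 0, 2, 3, 2],
   [2, 3, 3, 0, 0, 1],
   [1, 0, 2, 0, 3, 0, 2],
   [2, 2, 0, 3, 2, 0, 0],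
   [3, 3, 1, 0, 1, 0, 1],
   [2, 3, 3, 2, 0, 3, 0],
   [3, 2, 0, 2, 0, 0],
   [3, 2, 0, 3, 0, 3, 0],
   [1, 0, 2, 2, 3, 2, 1],
   [2, 0, 1, 0, 0, 2],
   [3, 0, 2, 0, 3, 0],
   [0, 3, 2, 1, 0],
   [0, 3, 0, 2, 3, 3, 0],
   [0, 2, 0, 0, 0, 1, 0],
   [3, 2, 0, 1, 3, 3, 0],
   [2, 2, 2, 3, 0, 3, 0, 0],
   [2, 2, 2, 3, 2, 0],
   [3, 3, 2, 1, 0, 0, 2],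
   [0, 2, 0, 1, 0, 3, 1],
   [1, 0, 2, 2, 2, 1, 0],
   [3, 0, 1, 0, 0, 1],
   [0, 1, 0, 3],
   [2, 2, 3, 3, 0, 1],
   [3, 3, 1, 0, 2, 1],
   [0, 3, 0, 2, 3, 3],
   [2, 0, 0, 0, 0, 0, 1],
   [3, 2, 3, 1, 0],
   [2, 0],
   [2, 0, 3, 2, 3, 1],
   [0, 3, 0, 3, 3, 0, 0],
   [2, 0, 3, 2, 2, 0, 2],
   [2, 2, 0, 3, 3, 3],
   [2, 2, 2, 0, 0, 2],
   [2, 0, 0, 1, 3, 3],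
   [0, 1, 0, 2, 2, 2, 1],
   [0, 3, 2, 1, 0, 1, 3],
   [1, 0, 3, 3, 3],
   [0, 2, 0, 3, 3],
   [2, 1, 3, 3, 0, 0, 0],
   [0, 2, 3, 2, 0, 0],
   [0, 0, 0, 1, 3, 1],
   [3, 1, 0, 3, 2, 2, 1],
   [0, 3, 0, 2, 1],
   [3, 0, 3, 0, 2, 1],
   [2, 3, 3, 3, 0, 0],
   [1, 3, 3, 0, 2, 2, 2],
   [0, 1, 0, 0],
   [3, 1, 0, 3, 2, 0, 2, 1],
   [0, 1, 3, 2],
   [2, 0, 0, 0, 2, 0, 0],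
   [0, 3, 2, 0, 1, 3],
   [0, 2, 2, 1, 0, 3, 0, 0],
   [0, 1, 3, 1, 0, 2, 1],
   [0, 2, 0, 3, 2, 0, 0],
   [2, 1, 0, 1, 3],
   [3, 0, 0, 2, 2, 0],
   [0, 3, 0, 1, 0],
   [2, 0, 2, 2, 1, 3],
   [2, 2, 2, 3, 0, 2, 0],
   [0, 3, 2, 0, 1, 0],
   [2, 3, 2, 1, 0, 3, 0],
   [1, 0, 3, 2, 1, 0, 0],
   [1, 3, 3, 2, 0, 3, 0, 0],
   [2, 3, 2, 0],
   [1, 3, 3, 3, 3, 0],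
   [3, 3, 2],
   [3, 3, 0, 0, 1],
   [0, 3, 2, 3, 0, 2],
   [0, 0, 1, 3, 2, 0],
   [0, 2, 1, 0, 3, 2],
   [1, 0, 2, 0, 0, 0],
   [1, 0, 0, 0, 0, 1],
   [0, 2, 3, 1, 0, 2, 0],
   [2, 3, 2, 1, 0, 0, 2],
   [3, 3, 1, 0, 3, 0],
   [0, 1, 0, 2, 3, 3, 0],
   [2, 3, 0, 3, 0],
   [0, 2, 2, 2, 0, 0, 1],
   [1, 0, 3, 3, 2, 0, 3],
   [3, 0, 2, 2, 2, 3],
   [3, 2, 2, 1, 0, 2],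
   [2, 2, 0, 1, 3, 0, 1],
   [2, 3, 1, 0, 3],
   [1, 0, 0, 2],
   [0, 2, 0, 1, 3, 0],
   [3, 0, 0, 2, 0, 0, 0],
   [2, 0, 0, 2, 2, 2],
   [0, 1, 0, 2, 3, 3],
   [2, 2, 2, 1, 3, 0, 3, 0],
   [1, 3, 0, 3, 3, 3],
   [1, 3, 2, 2, 0, 1],
   [2, 3, 2, 2, 0, 0, 0],
   [3, 2, 0, 3, 0, 0, 0],
   [0, 3, 0, 0],
   [3, 0, 0, 1],
   [0, 3, 3, 3, 1, 0],
   [2, 0, 0, 2, 3],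
   [2, 1, 3, 2, 0, 2],
   [0, 3, 3, 2, 1, 0],
   [3, 3, 2, 1, 0, 2, 0],
   [1, 3, 3, 1, 0],
   [2, 2, 2, 0, 3],
   [3, 2, 1, 0, 3, 3, 2],
   [2, 2, 0, 2, 0],
   [2, 0, 0, 0, 2],
   [0, 3, 3, 0, 1, 0, 1],
   [2, 1, 0, 3, 0],
   [1, 3, 0, 0, 2, 0, 2, 1],
   [1, 3, 0, 1, 0, 1],
   [2, 3, 3, 1, 0, 1, 0],
   [2, 1, 0, 2, 3, 3],
   [3, 2, 0, 0, 1, 3],
   [0, 2, 0, 0, 2, 0],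
   [0, 1, 3, 3, 3, 3, 3],
   [2, 2, 2, 2, 1, 3],
   [2, 0, 2, 0, 3, 3],
   [3, 2, 3, 2, 1],
   [2, 2],
   [1, 0, 0, 0, 2, 0],
   [2, 0, 2, 1, 0, 3],
   [2, 2, 3, 1, 0],
   [3, 3, 0, 3, 0, 2],
   [2, 3, 2, 1, 0, 3, 2],
   [3, 0, 0, 2],
   [3, 2, 0, 0, 2, 0, 1],
   [3, 3, 0, 2, 0, 2, 0],
   [1, 3, 0, 3, 2, 3],
   [0, 1, 0, 0, 1, 0, 2],
   [2, 2, 0, 2, 0, 2],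
   [0, 2, 1, 3, 0],
   [0, 3, 2, 2, 0, 3, 0, 0],
   [1, 0, 3, 3, 1, 0, 1],
   [1, 3, 2, 1, 0],
   [3, 3, 0, 2, 0, 2, 2],
   [1, 0, 1, 0],
   [0, 1, 0, 2, 2, 1, 0],
   [2, 3, 0, 2, 1, 0, 3],
   [2, 0, 2, 0, 1, 0],
   [0, 2, 2, 0, 2],
   [3, 1, 0, 3, 0],
   [2, 2, 1, 0, 3, 0],
   [2, 1, 0, 2, 2, 2],
   [3, 0, 3, 2, 1, 0, 0],
   [3, 2, 0, 0, 1, 3, 0],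
   [3, 0, 3, 3, 3],
   [1, 3, 2, 2, 2, 0, 1],
   [1, 3, 0, 2, 2, 2],
   [2, 0, 0, 2, 1, 0],
   [1, 3, 0, 0, 0, 2, 3],
   [1, 3, 3, 0, 1],
   [2, 0, 0, 1, 0, 3, 1],
   [2, 0, 2, 1, 3, 1],
   [1, 3, 0, 0, 2, 3, 0],
   [0, 2, 3, 1],
   [2, 3, 0, 2, 2, 0, 0],
   [0, 3, 0, 2, 2, 1],
   [1, 3, 0, 3, 2, 0],
   [2, 1, 3, 0, 2, 1, 0],
   [3, 0, 3, 3, 0, 2, 0],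
   [0, 2, 0, 2, 3, 0],
   [0, 3, 2, 2, 0, 0, 1, 0],
   [2, 3, 3, 3, 0, 3],
   [0, 0, 0, 1, 0],
   [2, 2, 0, 0],
   [3, 3, 1, 0, 3],
   [2, 0, 3, 3, 1, 0],
   [2, 1, 3, 0, 2, 2],
   [2, 1, 0, 1, 0],
   [0, 1, 0, 2, 1],
   [3, 2, 0, 3, 3, 0, 1],
   [2, 1, 0, 2, 2, 0],
   [3, 3, 1, 0, 1, 3],
   [2, 2, 1, 0, 2, 2],
   [2, 2, 3, 3, 0, 2],
   [3, 2, 3, 3, 0, 0, 0],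
   [1, 0, 0, 2, 2],
   [1, 3, 0, 2, 0, 2, 0],
   [3, 3, 0, 2, 2, 2],
   [2, 3, 0, 0, 0, 2, 1],
   [1, 0, 3],
   [2, 0, 1, 0, 3, 0, 2, 0],
   [3, 0, 2, 3, 3],
   [2, 1, 0, 0, 0, 0, 0],
   [3, 0, 3, 3, 0, 0],
   [2, 3, 1, 0, 2, 2, 2],
   [0, 3, 2, 3, 2, 2, 0],
   [3, 2, 1, 0, 1, 3],
   [3, 2, 3, 3, 0, 1],
   [2, 3, 2, 0, 0],
   [0, 0, 1, 3, 1],
   [3, 0, 2, 1],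
   [0, 0, 2, 3, 0, 3],
   [1, 0, 0],
   [1, 0, 3, 3, 0, 3, 2, 0],
   [3, 2, 0, 1, 3],
   [2, 2, 1, 0, 3, 0, 0],
   [2, 0, 2, 1, 0, 0],
   [2, 1, 3, 0, 1],
   [1, 3, 0, 3, 0, 2],
   [3, 2, 0, 2, 2, 2],
   [3, 0, 2, 2, 1, 0],
   [2, 0, 3, 3, 0],
   [0, 1, 0, 0, 1],
   [3, 2, 3, 0, 2],
   [2, 1, 0, 3, 2],
   [0, 2, 3, 0, 0, 2, 1],
   [1, 0, 2, 3, 3, 0],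
   [2, 2, 1, 3, 2, 0, 1],
   [3, 0, 2, 0, 3, 2, 1],
   [2, 2, 2, 3, 2, 0, 0],
   [3, 2, 0, 3],
   [0, 0, 2, 0, 2, 3],
   [0, 3, 2, 0, 2, 2, 0],
   [3, 2, 3, 3, 0, 0, 2],
   [3, 0, 0],
   [3, 3, 3, 1, 0],
   [0, 2, 1, 0, 3, 3, 3],
   [3, 3, 0, 3],
   [2, 0, 1, 3, 0, 0, 0],
   [0, 1, 0, 0, 2, 0],
   [1, 0, 3, 0, 1, 0, 3],
   [2, 2, 2, 3, 0, 2],
   [0, 1, 3, 3, 0, 1, 0],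
   [2, 0, 0, 2, 0],
   [0, 0, 2, 1, 3, 1, 0],
   [0, 0, 2, 0, 1, 0, 0],
   [3, 0, 0, 2, 1, 0],
   [0, 3, 0, 3, 3, 0, 2],
   [0, 3, 0, 2],
   [2, 0, 3, 0, 3, 2],
   [0, 3, 0, 0, 1, 0, 2],
   [0, 1, 0, 1, 3, 2],
   [3, 2, 2, 0, 3, 0, 0],
   [3, 1, 0, 3, 0, 1, 0],
   [0, 2, 0, 2, 3, 0, 0],
   [2, 2, 0, 2],
   [3, 2, 2, 0, 3, 0],
   [0, 3, 3, 2, 1, 0, 0],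
   [3, 0, 0, 2, 2],
   [2, 0, 2, 2, 1, 0, 2],
   [0, 1, 3, 0, 3],
   [0, 0, 2, 1, 0, 2],
   [3, 0, 2, 0, 2, 2],
   [3, 0, 2, 2, 1],
   [2, 0, 0, 0, 1, 0, 0],
   [2, 0, 2, 3, 0],
   [3, 2, 0, 1, 3, 0, 0, 0],
   [1, 0, 2, 1],
   [1, 3, 1, 0, 3, 0],
   [1, 0, 2, 3, 2, 2, 0],
   [3, 0, 0, 2, 2, 2, 1],
   [0, 3, 2, 3, 3],
   [3, 0, 2, 2, 1, 0, 0, 0],
   [3, 2, 3, 2, 2, 0],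
   [2, 0, 2, 2, 0, 0, 1],
   [0, 1, 3, 1],
   [0, 2, 3, 0, 3],
   [2, 0, 0, 1],
   [2, 3, 0, 0, 0, 2, 2],
   [0, 3, 3, 2, 0, 1],
   [0, 3, 2, 2, 1, 0],
   [0, 2, 3, 2, 0, 3],
   [2, 3, 0, 0, 2, 1],
   [2, 3, 2, 2, 2, 0, 3],
   [0, 3, 2, 0, 3, 2, 1],
   [2, 2, 3, 0, 3, 0],
   [3, 3, 0, 3, 2, 3],
   [1, 0, 0, 2, 0],
   [3, 2, 2, 1, 0, 2, 3],
   [0, 2, 1, 3, 1, 0],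
   [3, 0, 3, 3, 0, 2],
   [3, 0, 3, 2, 0, 2, 0],
   [2, 2, 0, 1, 3, 2],
   [2, 0, 2, 3, 0, 0],
   [3, 2, 2, 0, 0, 2],
   [2, 3, 0, 3, 3, 1, 0],
   [1, 3, 0, 3],
   [0, 3, 2, 2, 1],
   [1, 0, 1, 0, 0, 2, 1],
   [1, 3, 1, 0, 3],
   [0, 3, 0, 2, 2, 2, 1],
   [3, 2, 3, 3],
   [1, 3, 1],
   [2, 3, 0, 3],
   [3, 2, 2, 1, 0],
   [3, 2, 0, 3, 2, 1],
   [0, 3, 0, 2, 3, 3, 0, 0],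
   [0, 0, 0, 2, 3, 3],
   [2, 3, 0, 3, 0, 0],
   [2, 2, 2, 2, 3, 1],
   [1, 0, 1, 0, 3, 0, 3],
   [0, 1, 0, 2, 2, 3],
   [3, 3, 0, 0, 2, 2, 2],
   [2, 2, 3, 0, 3],
   [0, 3, 2, 3, 0, 1],
   [3, 0, 2, 3, 3, 0, 0],
   [2, 0, 3, 3, 2],
   [3, 2, 3, 0, 1]]

end Cfsg.Agent.Lib.Leech.MoveData
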