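import Cfsg.Agent.Lib.Leech.Order
import Cfsg.Agent.Lib.Orbit.Cert

/-!
Checkable words in the monomial elements and the extra element of `Co0`, acting on coordinate
lists, and orbit codings for the joint stabiliser of two lattice vectors.
-/

set_option autoImplicit false

namespace Cfsg.Agent.Lib.Leech

open Cfsg
open Cfsg.Agent.Lib

/-- The bit word of a mask. -/
def bitWord (m : ℕ) : GolayPt → ZMod 2 := fun p => if m.testBit (Golay.idx p).val then 1 else 0

theorem bitWord_eq (m : ℕ) : bitWord m = Golay.word (Golay.ptsOf m) :=
  funext fun p => by simp only [bitWord, Golay.word, Golay.mem_ptsOf]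

theorem wordMask_code : ∀ x < 4096, wordMask (bitWord (Golay.encode x)) = Golay.encode x := by
  have h : (List.range 4096).all (fun x => wordMask (bitWord (Golay.encode x)) == Golay.encode x)
      = true := by decide +kernel
  exact fun x hx => beq_iff_eq.1 (List.all_eq_true.1 h x (List.mem_range.2 hx))

theorem codeChk_complete {w : GolayPt → ZMod 2} (hw' : w ∈ golayCode) : codeChk w = true := by
  obtain ⟨x, hx, rfl⟩ := Golay.exists_encode hw'
  rw [← bitWord_eq, codeChk, wordMask_code x hx, Bool.and_eq_true, List.all_eq_true]
  refine ⟨?_, fun i _ => ?_⟩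
  · rw [Golay.isCodeMask, Golay.encode_mod x hx, beq_iff_eq]
  · rw [beq_iff_eq]
    simp only [bitWord, Golay.idx_pt]
    cases (Golay.encode x).testBit i.val <;> simp

theorem leechChk_complete {x : GolayPt → ℤ} (hx : x ∈ leechLattice) : leechChk x = true := by
  simp only [leechChk, Bool.and_eq_true, Bool.or_eq_true, decide_eq_true_eq]
  rcases mem_leech_iff.1 hx with ⟨a, b, c⟩ | ⟨a, b, c⟩
  · exact ⟨Or.inl ⟨a, b⟩, codeChk_complete c⟩
  · exact ⟨Or.inr ⟨a, b⟩, codeChk_complete c⟩

/-- The coordinate list of a vector. -/
def toList (f : GolayPt → ℤ) : List ℤ := (List.range 24).map fun i => f (Golay.ptN i)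

theorem toList_length (f : GolayPt → ℤ) : (toList f).length = 24 := by simp [toList]

theorem ofList_toList (f : GolayPt → ℤ) : ofList (toList f) = f := by
  funext p
  have h : (Golay.idx p).val < 24 := (Golay.idx p).isLt
  rw [ofList, List.getD_eq_getElem _ _ (by simpa [toList] using h)]
  simp [toList, Golay.ptN, Nat.mod_eq_of_lt h, Golay.pt_idx]

/-- A step: the extra element, or a permutation list with the number of a sign word. -/
abbrev Step : Type := Option (List ℕ × ℕ)

/-- The map of a step. -/
def stepMap : Step → (GolayPt → ℤ) → GolayPt → ℤ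
  | none, x => xiMap x
  | some (l, c), x => fun i =>
      if (Golay.encode c).testBit (Golay.idx i).val then -x (Golay.listFun l i)
      else x (Golay.listFun l i)

/-- A step is usable. -/
def stepOk : Step → Bool
  | none => true
  | some (l, _) => Golay.inM24 l

/-- The group element of a step. -/
noncomputable def stepEl : Step → Co0
  | none => xiCo
  | some (l, c) =>
      if h : Golay.inM24 l = true then
        monoCo (Golay.toPerm l)⁻¹ (inv_mem (Golay.toPerm_mem_M24 h))
          (Golay.word (Golay.ptsOf (Golay.encode c))) (Golay.encode_isCodeSet c)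
      else 1

theorem stepEl_smul {s : Step} (h : stepOk s = true) (v : leechLattice) :
    ((stepEl s • v : leechLattice) : GolayPt → ℤ) = stepMap s (v : GolayPt → ℤ) := by
  rcases s with _ | ⟨l, c⟩
  · exact xiCo_smul v
  · have h' : Golay.inM24 l = true := h
    rw [stepEl, dif_pos h']
    refine (monoCo_smul _ _ _ _ v).trans ?_
    funext i
    simp only [signedPerm, stepMap, Golay.support₂_word, Golay.mem_ptsOf,
      ← Golay.toPerm_apply (Golay.inM24.valid h')]
    rfl

/-- The map of a word on lists, applied from left to right. -/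
def runList (ws : List Step) (c : List ℤ) : List ℤ :=
  ws.foldl (fun c s => toList (stepMap s (ofList c))) c

theorem runList_length (ws : List Step) {c : List ℤ} (hc : c.length = 24) :
    (runList ws c).length = 24 := by
  induction ws generalizing c with
  | nil => exact hc
  | cons s ws ih => exact ih (toList_length _)

/-- The element of a word. -/
noncomputable def wordEl (ws : List Step) : Co0 := ws.foldl (fun g s => stepEl s * g) 1

theorem wordEl_smul (ws : List Step) (hok : ws.all stepOk = true) (v : leechLattice) (c : List ℤ)
    (hc : ofList c = (v : GolayPt → ℤ)) :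
    ((wordEl ws • v : leechLattice) : GolayPt → ℤ) = ofList (runList ws c) := by
  have main : ∀ (ws : List Step) (g : Co0) (c : List ℤ), ws.all stepOk = true →
      ofList c = ((g • v : leechLattice) : GolayPt → ℤ) →
      (((ws.foldl (fun g s => stepEl s * g) g) • v : leechLattice) : GolayPt → ℤ)
        = ofList (runList ws c) := by
    intro ws
    induction ws with
    | nil => intro g c _ h; exact h.symm
    | cons s ws ih =>
      intro g c hok h
      rw [List.all_cons, Bool.and_eq_true] at hok
      refine ih (stepEl s * g) _ hok.2 ?_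
      rw [ofList_toList, mul_smul, stepEl_smul hok.1, h]
  exact main ws 1 c hok (by rw [one_smul]; exact hc)

/-- A code names a lattice vector. -/
def codeOk (c : List ℤ) : Bool := c.length == 24 && leechChk (ofList c)

/-- The vector of a code. -/
def denL (c : List ℤ) : leechLattice :=
  if h : codeOk c = true then ⟨ofList c, leechChk_sound (Bool.and_eq_true _ _ ▸ h).2⟩ else 0

theorem denL_coe {c : List ℤ} (h : codeOk c = true) : (denL c : GolayPt → ℤ) = ofList c := by
  rw [denL, dif_pos h]

/-- The joint stabiliser of two vectors. -/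
abbrev pairStab (a b : leechLattice) : Subgroup Co0 :=
  MulAction.stabilizer Co0 a ⊓ MulAction.stabilizer Co0 b

/-- A word is usable for the joint stabiliser of two vectors. -/
def pairValid (a b : leechLattice) (ws : List Step) : Bool :=
  ws.all stepOk && runList ws (toList a.1) == toList a.1 && runList ws (toList b.1) == toList b.1

theorem pairValid_mem {a b : leechLattice} {ws : List Step} (h : pairValid a b ws = true) :
    wordEl ws ∈ pairStab a b := by
  simp only [pairValid, Bool.and_eq_true, beq_iff_eq] at h
  obtain ⟨⟨h1, h2⟩, h3⟩ := h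
  constructor
  · refine Subtype.ext ?_
    rw [wordEl_smul ws h1 a _ (ofList_toList _), h2, ofList_toList]
  · refine Subtype.ext ?_
    rw [wordEl_smul ws h1 b _ (ofList_toList _), h3, ofList_toList]

/-- The coding for orbit certificates inside a joint stabiliser. -/
noncomputable def pairCoding (a b : leechLattice) :
    Orbit.Coding ↥(pairStab a b) leechLattice (List Step) (List ℤ) where
  den := denL
  rho ws := if h : pairValid a b ws = true then ⟨wordEl ws, pairValid_mem h⟩ else 1
  move ws c := if codeOk c then runList ws c else c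
  valid := pairValid a b
  eqv c d := c == d
  eqv_sound c d h := by rw [beq_iff_eq.1 h]
  move_den ws c h := by
    rw [dif_pos h]
    show wordEl ws • denL c = _
    by_cases hc : codeOk c = true
    · have hall : ws.all stepOk = true := by
        simp only [pairValid, Bool.and_eq_true] at h; exact h.1.1
      have e := wordEl_smul ws hall (denL c) c (denL_coe hc).symm
      have hc' : codeOk (runList ws c) = true := by
        rw [codeOk, Bool.and_eq_true, beq_iff_eq] at hc ⊢
        exact ⟨runList_length ws hc.1, leechChk_complete (e ▸ SetLike.coe_mem _)⟩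
      rw [if_pos hc]
      exact Subtype.ext (e.trans (denL_coe hc').symm)
    · rw [if_neg hc, denL, dif_neg hc]
      exact smul_zero' _

/-- Two codes of one point are equal. -/
theorem denL_inj {c d : List ℤ} (hc : codeOk c = true) (hd : codeOk d = true)
    (h : denL c = denL d) : c = d := by
  have e := congrArg Subtype.val h
  rw [denL_coe hc, denL_coe hd] at e
  simp only [codeOk, Bool.and_eq_true, beq_iff_eq] at hc hd
  refine List.ext_getElem (hc.1.trans hd.1.symm) fun i hi hi' => ?_
  have hi24 : i < 24 := hc.1 ▸ hi
  have := congrFun e (Golay.ptN i)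
  rw [ofList, ofList, Golay.idx_ptN hi24, List.getD_eq_getElem _ _ hi,
    List.getD_eq_getElem _ _ hi'] at this
  exact this

/-- Distinct codes name distinct points. -/
theorem nodup_denL {l : List (List ℤ)} (hok : l.all codeOk = true) (h : l.Nodup) :
    (l.map denL).Nodup :=
  h.map_on fun _ hx _ hy e => denL_inj (List.all_eq_true.1 hok _ hx) (List.all_eq_true.1 hok _ hy) e

/-- Counting a decidable part of a set listed by codes. -/
theorem ncard_codes {l : List (List ℤ)} (hok : l.all codeOk = true) (h : l.Nodup)
    (q : leechLattice → Prop) (q' : List ℤ → Bool) (hq : ∀ c ∈ l, q (denL c) ↔ q' c = true) :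
    {x : leechLattice | (∃ c ∈ l, denL c = x) ∧ q x}.ncard = (l.filter q').length := by
  classical
  have e : {x : leechLattice | (∃ c ∈ l, denL c = x) ∧ q x}
      = (((l.filter q').map denL).toFinset : Set leechLattice) := by
    ext x
    simp only [Set.mem_ofPred_eq, Finset.mem_coe, List.mem_toFinset, List.mem_map, List.mem_filter]
    constructor
    · rintro ⟨⟨c, hc, rfl⟩, hx⟩; exact ⟨c, ⟨hc, (hq c hc).1 hx⟩, rfl⟩
    · rintro ⟨c, ⟨hc, hx⟩, rfl⟩; exact ⟨⟨c, hc, rfl⟩, (hq c hc).2 hx⟩
  rw [e, Set.ncard_coe_finset, List.toFinset_card_of_nodup, List.length_map]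
  exact (nodup_denL hok h).sublist (List.Sublist.map _ List.filter_sublist)

/-- A sum supported on two points. -/
theorem sum_two {x : GolayPt → ℤ} {i j : GolayPt} (hij : i ≠ j)
    (h : ∀ k, ¬(k = i ∨ k = j) → x k = 0) : ∑ k, x k = x i + x j := by
  rw [← Finset.sum_pair hij]
  refine (Finset.sum_subset (Finset.subset_univ _) fun k _ hk => h k ?_).symm
  simpa using hk

/-- A vector with coordinates `±1` but one, read off from its parity word and the exception. -/
theorem odd_shape {x : GolayPt → ℤ} (hx : x ∈ leechLattice) {j : GolayPt}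
    (hk : ∀ k, |x k| = if k = j then 3 else 1) :
    hw x ∈ golayCode ∧ (hw x j = 1 ↔ x j = 3) ∧
      (∀ k, k ≠ j → x k = if hw x k = 1 then -1 else 1) ∧
      ∑ k, x k = 24 - 2 * ((support₂ (hw x)).card : ℤ) + (if x j = 3 then 4 else -4) := by
  have hc : hw x ∈ golayCode := by
    rcases mem_leech_iff.1 hx with ⟨-, -, c⟩ | ⟨-, -, c⟩ <;> exact c
  have hbit : ∀ k, hw x k = 1 ↔ x k / 2 % 2 = 1 := fun k => intCast_zmod2_eq_one
  have hj : x j = 3 ∨ x j = -3 := abs_cases (by norm_num) (by rw [hk, if_pos rfl])
  have hne : ∀ k, k ≠ j → x k = if hw x k = 1 then -1 else 1 := by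
    intro k hkj
    have := abs_cases (c := 1) (by norm_num) (show |x k| = 1 by rw [hk, if_neg hkj])
    split <;> rename_i h <;> rw [hbit] at h <;> omega
  refine ⟨hc, by rw [hbit]; omega, hne, ?_⟩
  have e : ∀ k, x k = (1 - 2 * (if k ∈ support₂ (hw x) then 1 else 0))
      + if k = j then (if x j = 3 then 4 else -4) else 0 := by
    intro k
    simp only [support₂_iff, hbit]
    by_cases hkj : k = j
    · subst hkj; rcases hj with q | q <;> rw [q] <;> norm_num
    · rw [hne k hkj, if_neg hkj]
      simp only [hbit]; split <;> norm_num
  rw [Finset.sum_congr rfl fun k _ => e k, Finset.sum_add_distrib, Finset.sum_ite_eq',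
    if_pos (Finset.mem_univ _), Finset.sum_sub_distrib, ← Finset.mul_sum, Finset.sum_boole]
  simp

end Cfsg.Agent.Lib.Leech
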