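import Cfsg.Agent.Lib.Compute.Mathieu.Outer
import Cfsg.Agent.Lib.Golay.Perm

/-!
`M23` is generated by the translation and the twisted cube map.
-/

set_option autoImplicit false

namespace Cfsg.Agent.Lib.Leech

open Cfsg
open Cfsg.Agent.Lib

/-- The four letters: translation, its inverse, the cube twist, its inverse. -/
noncomputable def genLetter : ℕ → Equiv.Perm GolayPt
  | 0 => Golay.translate
  | 1 => Golay.translate⁻¹
  | 2 => cubeTwist
  | _ => cubeTwist ^ 4

/-- The product of the letters. -/
noncomputable def wordPerm (w : List ℕ) : Equiv.Perm GolayPt := (w.map genLetter).prod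

theorem wordPerm_mem (w : List ℕ) :
    wordPerm w ∈ Subgroup.closure {Golay.translate, cubeTwist} := by
  refine list_prod_mem fun g hg => ?_
  obtain ⟨i, -, rfl⟩ := List.mem_map.1 hg
  have ht : Golay.translate ∈ Subgroup.closure {Golay.translate, cubeTwist} :=
    Subgroup.subset_closure (Or.inl rfl)
  have hc : cubeTwist ∈ Subgroup.closure {Golay.translate, cubeTwist} :=
    Subgroup.subset_closure (Or.inr rfl)
  match i with
  | 0 => exact ht
  | 1 => exact inv_mem ht
  | 2 => exact hc
  | _ + 3 => exact pow_mem hc 4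

theorem m23_words :
    Compute.encP 8 Compute.Mathieu.ptEquiv (wordPerm [1, 2, 1, 3, 1, 1, 1, 1, 3, 3, 1, 1, 2, 2]) =
      0x170c0011070616040a0f081014030d150e120209010b1305 ∧
    Compute.encP 8 Compute.Mathieu.ptEquiv (wordPerm [3, 1, 3, 0, 0, 3, 1, 2, 1, 1, 3, 1, 3, 1, 2]) =
      0x170502150809140e061007040f1103160c010d130a120b00 := by
  decide +kernel

theorem M23_le_closure : Spor.M23 ≤ Subgroup.closure {Golay.translate, cubeTwist} := by
  rw [← Compute.Mathieu.m23_eq_spor, Compute.genGroup, Subgroup.closure_le]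
  rintro g ⟨p, hp, hg⟩
  have key : ∀ w, Compute.encP 8 Compute.Mathieu.ptEquiv (wordPerm w) = p.1 →
      g ∈ Subgroup.closure {Golay.translate, cubeTwist} := by
    intro w hw'
    have e : g = wordPerm w := by
      refine Compute.Mathieu.ptCoding.inj ?_
      rw [hg, ← hw', Compute.Mathieu.ptCoding, Compute.permCoding_enc]
    rw [e]; exact wordPerm_mem w
  simp only [Compute.Mathieu.m23Gens, List.mem_cons, List.not_mem_nil, or_false] at hp
  rcases hp with rfl | rfl
  · exact key _ m23_words.1
  · exact key _ m23_words.2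

end Cfsg.Agent.Lib.Leech
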