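import Cfsg.Agent.Lib.Leech.SporConway
import Cfsg.Agent.Lib.Leech.RigidGen

/-!
Automorphisms of the stabiliser of a vector constant outside the first point are inner: after an
inner adjustment an automorphism fixes the translation group and the doubling group, hence carries
`M23` to itself; if it fixes `M23` pointwise it fixes an element of the normaliser of the doubling
moving `8 e∞`, and the subgroup of fixed elements is then everything by counting.
-/

set_option autoImplicit false

namespace Cfsg.Agent.Lib.Leech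

open Cfsg
open Cfsg.Agent.Lib
open scoped Pointwise

/-! ### Facts in `M23` -/

theorem cubeTwist_facts : cubeTwist none = none ∧ cubeTwist ^ 5 = 1 ∧
    doublePerm * cubeTwist = cubeTwist * doublePerm ^ 4 ∧
    Golay.translate * doublePerm = doublePerm * Golay.translate ^ 12 ∧
    (∀ i, doublePerm i = i → i = none ∨ i = some 0) ∧ cubeTwist (some 1) ≠ some 1 := by
  decide +kernel

theorem doublePerm_mem_M23 : doublePerm ∈ Spor.M23 := doublePerm_mem_M22.1

theorem cubeTwist_mem_M23 : cubeTwist ∈ Spor.M23 :=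
  ⟨Golay.cubeTwist_mem_M24, cubeTwist_facts.1⟩

/-- The doubling in `M23`. -/
def db23 : Spor.M23 := ⟨doublePerm, doublePerm_mem_M23⟩

/-- The twisted cube map in `M23`. -/
noncomputable def cube23 : Spor.M23 := ⟨cubeTwist, cubeTwist_mem_M23⟩

theorem orderOf_db23 : orderOf db23 = 11 := by
  rw [← Subgroup.orderOf_coe]
  exact (Subgroup.orderOf_coe db11).trans orderOf_db11

theorem orderOf_tr23M : orderOf tr23M = 23 := by
  rw [← Subgroup.orderOf_coe]
  exact (Subgroup.orderOf_coe tr23).trans orderOf_tr23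

theorem db_tr : tr23M * db23 = db23 * tr23M ^ 12 :=
  Subtype.ext (by rw [Subgroup.coe_mul, Subgroup.coe_mul, SubgroupClass.coe_pow]
                  exact cubeTwist_facts.2.2.2.1)

theorem db_cube : db23 * cube23 = cube23 * db23 ^ 4 :=
  Subtype.ext (by rw [Subgroup.coe_mul, Subgroup.coe_mul, SubgroupClass.coe_pow]
                  exact cubeTwist_facts.2.2.1)

theorem commute_db23 {τ : Spor.M23} (h : Commute db23 τ) : τ ∈ Subgroup.zpowers db23 := by
  have h' : Commute doublePerm τ.1 := congrArg Subtype.val h.eq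
  have h0 : τ.1 none = none := τ.2.2
  have h1 : τ.1 (some 0) = some 0 := by
    have e := congrArg (fun p : Equiv.Perm GolayPt => p (some 0)) h'.eq
    simp only [Equiv.Perm.mul_apply, double_facts.2.2.2.1] at e
    rcases cubeTwist_facts.2.2.2.2.1 _ e with r | r
    · exact absurd (τ.1.injective (r.trans h0.symm)) (by simp)
    · exact r
  obtain ⟨n, hn⟩ := Subgroup.mem_zpowers_iff.1 (commute_double (τ := ⟨τ.1, τ.2.1⟩) h0 h1
    (Subtype.ext h'.eq))
  refine Subgroup.mem_zpowers_iff.2 ⟨n, Subtype.ext ?_⟩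
  have := congrArg Subtype.val hn
  rw [SubgroupClass.coe_zpow] at this ⊢
  exact this

theorem card_normalizer_db23 :
    Nat.card (Subgroup.normalizer (Subgroup.zpowers db23 : Set Spor.M23)) = 55 := by
  set D := Subgroup.zpowers db23 with hD
  haveI : Fact (Nat.Prime 11) := ⟨by norm_num⟩
  have hDc : Nat.card D = 11 := by rw [Nat.card_zpowers, orderOf_db23]
  have hcard := card_M23
  set N := Subgroup.normalizer (D : Set Spor.M23) with hN
  have hker : (Subgroup.normalizerMonoidHom D).ker = D.subgroupOf N := by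
    rw [Subgroup.normalizerMonoidHom_ker]
    congr 1
    refine le_antisymm (fun τ hτ => commute_db23 (hτ db23 (Subgroup.mem_zpowers _))) ?_
    intro τ hτ y hy
    obtain ⟨a, rfl⟩ := hτ
    obtain ⟨b, rfl⟩ := hy
    exact zpow_mul_comm _ _ _
  have h1 := (Subgroup.normalizerMonoidHom D).ker.card_mul_index
  rw [Subgroup.index_ker, hker,
    Nat.card_congr (Subgroup.subgroupOfEquivOfLe (Subgroup.le_normalizer (H := D))).toEquiv, hDc] at h1
  have h2 : Nat.card (Subgroup.normalizerMonoidHom D).range ∣ 10 := by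
    haveI : IsCyclic D := isCyclic_of_prime_card hDc
    have := Subgroup.card_subgroup_dvd_card (Subgroup.normalizerMonoidHom D).range
    rwa [IsCyclic.card_mulAut, hDc, Nat.totient_prime (by norm_num)] at this
  have hfac : (Nat.card Spor.M23).factorization 11 = 1 :=
    SimpleCrit.factorization_eq_one (by norm_num) (by rw [hcard]; norm_num)
      (by rw [hcard]; norm_num) (by rw [hcard]; norm_num)
  let S : Sylow 11 Spor.M23 := Sylow.ofCard D (by rw [hDc, hfac, pow_one])
  have h3 := card_sylow_modEq_one 11 Spor.M23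
  rw [Sylow.card_eq_index_normalizer S, show (S : Set Spor.M23) = (D : Set _) from rfl, ← hN] at h3
  have h4 := N.card_mul_index
  rw [hcard, ← h1] at h4
  rw [← h1]
  generalize hd : Nat.card (Subgroup.normalizerMonoidHom D).range = d at h2 h4
  rw [Nat.ModEq] at h3
  have : d ≤ 10 := Nat.le_of_dvd (by norm_num) h2
  interval_cases d <;> omega

/-- A permutation of order 11 normalising the translations is conjugate to a power of the doubling
by a translation. -/
theorem exists_conj_db23 {τ : Spor.M23} (hτ : τ ^ 11 = 1) (hτ1 : τ ≠ 1) {k : ℤ}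
    (h : τ * tr23M = tr23M ^ k * τ) :
    ∃ m : ℕ, (tr23M ^ m)⁻¹ * τ * tr23M ^ m ∈ Subgroup.zpowers db23 := by
  obtain ⟨kn, hk⟩ : ∃ kn : ℕ, tr23M ^ k = tr23M ^ kn := by
    refine ⟨(k % 23).toNat, ?_⟩
    rw [← zpow_natCast tr23M, Int.toNat_of_nonneg (Int.emod_nonneg _ (by norm_num)),
      show (23 : ℤ) = ((orderOf tr23M : ℕ) : ℤ) by rw [orderOf_tr23M]; rfl]
    exact zpow_mod_orderOf _ _ |>.symm
  rw [hk] at h
  have h0 : τ.1 none = none := τ.2.2
  obtain ⟨b, hb⟩ : ∃ b, τ.1 (some 0) = some b := Option.ne_none_iff_exists'.1 fun e => by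
    simpa using τ.1.injective (e.trans h0.symm)
  have hstep : ∀ n : ℕ, τ.1 (some (n : ZMod 23)) = some ((kn : ZMod 23) * n + b) := by
    intro n
    induction n with
    | zero => simpa using hb
    | succ n ih =>
      have e := congrArg (fun p : Spor.M23 => p.1 (some (n : ZMod 23))) h
      simp only [Subgroup.coe_mul, SubgroupClass.coe_pow, Equiv.Perm.mul_apply] at e
      rw [show (tr23M : Equiv.Perm GolayPt) = Golay.translate from rfl, tr23_facts.2.2.2, ih,
        tr23_pow_some] at e
      rw [Nat.cast_succ, e]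
      congr 1
      ring
  have haff : ∀ x : ZMod 23, τ.1 (some x) = some ((kn : ZMod 23) * x + b) := fun x => by
    rw [← ZMod.natCast_zmod_val x]; exact hstep _
  have hk1 : (kn : ZMod 23) ≠ 1 := by
    intro e
    have hτe : τ = tr23M ^ b.val := by
      refine Subtype.ext (Equiv.ext fun i => ?_)
      rw [SubgroupClass.coe_pow]
      show τ.1 i = (Golay.translate ^ b.val) i
      rcases i with _ | x
      · rw [h0]
        exact (show ((tr23M ^ b.val : Spor.M23) : Equiv.Perm GolayPt) none = none from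
          (tr23M ^ b.val).2.2).symm
      · rw [haff, e, one_mul, tr23_pow_some, ZMod.natCast_zmod_val]
    have h23 : τ ^ 23 = 1 := by
      have e23 : tr23M ^ 23 = 1 := by simpa only [orderOf_tr23M] using pow_orderOf_eq_one tr23M
      rw [hτe, ← pow_mul, mul_comm, pow_mul, e23, one_pow]
    refine hτ1 ?_
    have := Nat.dvd_gcd (orderOf_dvd_of_pow_eq_one hτ) (orderOf_dvd_of_pow_eq_one h23)
    rw [show Nat.gcd 11 23 = 1 from rfl, Nat.dvd_one, orderOf_eq_one_iff] at this
    exact this
  haveI : Fact (Nat.Prime 23) := ⟨by norm_num⟩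
  set c : ZMod 23 := b / (1 - (kn : ZMod 23)) with hc
  have hfix : (kn : ZMod 23) * c + b = c := by
    have hne : (1 - (kn : ZMod 23)) ≠ 0 := sub_ne_zero.2 (Ne.symm hk1)
    rw [hc]
    field_simp
    ring
  refine ⟨c.val, commute_db23 (Subtype.ext (Equiv.ext fun i => ?_))⟩
  set π : Spor.M23 := (tr23M ^ c.val)⁻¹ * τ * tr23M ^ c.val with hπ
  have hπn : π.1 none = none := π.2.2
  have hπs : ∀ x : ZMod 23, π.1 (some x) = some ((kn : ZMod 23) * x) := by
    intro x
    simp only [hπ, Subgroup.coe_mul, Subgroup.coe_inv, SubgroupClass.coe_pow, Equiv.Perm.mul_apply]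
    rw [show (tr23M : Equiv.Perm GolayPt) = Golay.translate from rfl, tr23_pow_some, haff,
      Equiv.Perm.inv_eq_iff_eq, tr23_pow_some, ZMod.natCast_zmod_val]
    congr 1
    linear_combination hfix
  show doublePerm (π.1 i) = π.1 (doublePerm i)
  rcases i with _ | x
  · rw [hπn, double_facts.2.2.1, hπn]
  · rw [hπs, double_facts.2.2.2.2, double_facts.2.2.2.2, hπs]
    congr 1
    ring

/-! ### The rigidity theorem -/

section

variable {v : leechLattice}
  (hc : ∀ a : ZMod 23, (v : GolayPt → ℤ) (some a) = (v : GolayPt → ℤ) (some 0))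
  (hv : (v : GolayPt → ℤ) none ≠ 0)

include hc in
theorem mem_range_of_fix {g : MulAction.stabilizer Co0 v} (he : (g : Co0) • pt8 none = pt8 none)
    (hval : (v : GolayPt → ℤ) (some 0) ≠ 0) : g ∈ (stabHom23 hc).range := by
  obtain ⟨τ, hτ, w, hw', e, h1, h2⟩ := exists_mono_of_fix he
  have hg : (g : Co0) • v = v := g.2
  rw [e] at hg
  have hw0 : w = 0 := by
    funext i
    rcases i with _ | x
    · exact h2
    · refine (zmod2_cases _).resolve_right fun hx => ?_
      obtain ⟨y, hy⟩ : ∃ y, τ.symm (some x) = some y := Option.ne_none_iff_exists'.1 fun e' => by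
        rw [Equiv.symm_apply_eq, h1] at e'; cases e'
      have := congrFun (congrArg Subtype.val hg) (some x)
      rw [monoCo_smul] at this
      simp only [signedPerm, support₂_iff, hx, if_true, hy, hc y, hc x] at this
      omega
  subst hw0
  exact ⟨⟨τ, hτ, h1⟩, Subtype.ext e.symm⟩

theorem stabHom23_coe (τ : Spor.M23) :
    ((stabHom23 hc τ : MulAction.stabilizer Co0 v) : Co0) = monoHom ⟨τ.1, τ.2.1⟩ := rfl

theorem stabHom23_fix (τ : Spor.M23) :
    ((stabHom23 hc τ : MulAction.stabilizer Co0 v) : Co0) • pt8 none = pt8 none := by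
  rw [stabHom23_coe]; exact monoHom_fix _ τ.2.2

theorem card_M23_fix_dodecad (H : Subgroup Spor.M23)
    (hH : ∀ τ ∈ H, τ.1 (some 0) = some 0 ∧
      τ.1 • (Finset.univ.filter fun i => qrWord 0 i = 0) = Finset.univ.filter fun i => qrWord 0 i = 0) :
    Nat.card H * 2 ≤ 7920 := by
  set d : Finset GolayPt := Finset.univ.filter fun i => qrWord 0 i = 0 with hd
  have hdd : d ∈ dodecads := by
    have e : d = support₂ (qrWord 0 + 1) := by
      ext i
      simp only [hd, Finset.mem_filter, Finset.mem_univ, true_and, support₂_iff, Pi.add_apply,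
        Pi.one_apply]
      rcases zmod2_cases (qrWord 0 i) with a | a <;> rw [a] <;> decide
    rw [Golay.mem_dodecads_iff]
    refine ⟨?_, ?_⟩
    · rw [e]
      exact Golay.mem_golayCode_iff.1
        (add_mem (Submodule.subset_span (Set.mem_union_left _ ⟨0, rfl⟩)) one_mem_code)
    · rw [hd]; decide +kernel
  have hnone : (none : GolayPt) ∈ d := by simp [hd, qrWord]
  have hzero : (some 0 : GolayPt) ∉ d := by rw [hd]; decide +kernel
  set B := MulAction.stabilizer M24 d ⊓ MulAction.stabilizer M24 (none : GolayPt) with hB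
  have hBc : Nat.card B = 7920 := Golay.card_stabDodecadPt hdd hnone
  let φ : H → B := fun τ => ⟨⟨τ.1.1, τ.1.2.1⟩, (hH τ.1 τ.2).2, τ.1.2.2⟩
  let L : Subgroup B := (MulAction.stabilizer M24 (some 0 : GolayPt)).subgroupOf B
  have hφ : ∀ τ, φ τ ∈ L := fun τ => (hH τ.1 τ.2).1
  have hle : Nat.card H ≤ Nat.card L :=
    Nat.card_le_card_of_injective (fun τ => (⟨φ τ, hφ τ⟩ : L)) fun σ τ e => by
      have : σ.1.1 = τ.1.1 := congrArg (fun z : L => (z.1.1.1 : Equiv.Perm GolayPt)) e
      exact Subtype.ext (Subtype.ext this)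
  obtain ⟨p1, p2, p3, hp⟩ : ∃ a b c : GolayPt, a ∉ d ∧ b ∉ d ∧ c ∉ d ∧ a ≠ some 0 ∧ b ≠ some 0 ∧
      a ≠ b ∧ c = some 0 := ⟨some 1, some 2, some 0, by rw [hd]; decide +kernel⟩
  obtain ⟨ha, hb, hc', ha0, hb0, hab, rfl⟩ := hp
  obtain ⟨g, hg, hgd, hgn, hgx⟩ := Golay.compl_three hdd hnone ![some 0, p1, p2] ![p1, some 0, p2]
    (by intro i j hij; fin_cases i <;> fin_cases j <;>
      first | rfl | simp [ha0, hb0, hab, ha0.symm, hb0.symm, hab.symm] at hij)
    (by intro i j hij; fin_cases i <;> fin_cases j <;>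
      first | rfl | simp [ha0, hb0, hab, ha0.symm, hb0.symm, hab.symm] at hij)
    (by intro i; fin_cases i <;> simpa)
    (by intro i; fin_cases i <;> simpa)
  have hne : L ≠ ⊤ := fun e => by
    have : (⟨⟨g, hg⟩, hgd, hgn⟩ : B) ∈ L := e ▸ Subgroup.mem_top _
    have h0 : g (some 0) = some 0 := this
    exact ha0 ((hgx 0).symm.trans h0)
  have hidx : 2 ≤ L.index := by
    have h0 : L.index ≠ 0 := Subgroup.index_ne_zero_of_finite
    have h1 : L.index ≠ 1 := fun h => hne (Subgroup.index_eq_one.1 h)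
    omega
  have := L.card_mul_index
  rw [hBc] at this
  nlinarith

variable (hval : (v : GolayPt → ℤ) (some 0) ≠ 0) {y0 : leechLattice} {K : ℕ}
  (hy0 : monoHom db11 • y0 = y0) (hy0e : y0 ≠ pt8 none)
  (hsep : ∀ i, (y0 : GolayPt → ℤ) i = (y0 : GolayPt → ℤ) (some 0) → i = some 0)
  (hdod : ∃ a b : ℤ, a ≠ b ∧ ∀ i, (qrWord 0 i = 0 ↔ ((y0 : GolayPt → ℤ) i = a ∨ (y0 : GolayPt → ℤ) i = b)))
  (hfix : ∀ y : leechLattice, monoHom db11 • y = y → sqNorm (y : GolayPt → ℤ) = 64 →
    dotInt (v : GolayPt → ℤ) (y : GolayPt → ℤ) = 8 * (v : GolayPt → ℤ) none →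
      y = pt8 none ∨ y = y0)
  (hcard : Nat.card (MulAction.stabilizer Co0 v) = 10200960 * K)
  (hidx : (10200960 * K / 55) % 11 ≠ 1) (hp23 : ¬ 23 ∣ K) (hp11 : ¬ 11 ∣ K)
  (hK : ∀ k, k ∣ K → k % 23 = 1 → k % 11 = 2 → 2048 < k → k = K)

include hc hv hval hy0 hy0e hsep hdod hfix hcard hidx hp23 hp11 hK in
/-- Every automorphism is inner. -/
theorem exists_conj_eq (α : MulAut (MulAction.stabilizer Co0 v)) :
    ∃ g, α = MulAut.conj g := by
  classical
  haveI := finite_stab (S := MulAction.stabilizer Co0 v)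
  haveI : Fact (Nat.Prime 23) := ⟨by norm_num⟩
  haveI : Fact (Nat.Prime 11) := ⟨by norm_num⟩
  set f := stabHom23 hc with hf
  have hfi : Function.Injective f := stabHom23_injective hc
  set s := f tr23M with hs
  have hso : orderOf s = 23 := orderOf_stab23 hc
  set d := f db23 with hd
  have hdo : orderOf d = 11 := (orderOf_injective f hfi db23).trans orderOf_db23
  have h23 : (Nat.card (MulAction.stabilizer Co0 v)).factorization 23 = 1 := by
    refine SimpleCrit.factorization_eq_one (by norm_num) Nat.card_pos.ne' ?_ ?_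
    · rw [hcard]; exact dvd_mul_of_dvd_left (by norm_num) _
    · rw [hcard]; intro hdvd
      refine hp23 (((Nat.prime_iff.1 (by norm_num : Nat.Prime 23)).dvd_or_dvd
        (show 23 ∣ 443520 * K from ?_)).resolve_left (by norm_num))
      obtain ⟨c, hc⟩ := hdvd
      exact ⟨c, by omega⟩
  have h11 : (Nat.card (MulAction.stabilizer Co0 v)).factorization 11 = 1 := by
    refine SimpleCrit.factorization_eq_one (by norm_num) Nat.card_pos.ne' ?_ ?_
    · rw [hcard]; exact dvd_mul_of_dvd_left (by norm_num) _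
    · rw [hcard]; intro hdvd
      refine hp11 (((Nat.prime_iff.1 (by norm_num : Nat.Prime 11)).dvd_or_dvd
        (show 11 ∣ 927360 * K from ?_)).resolve_left (by norm_num))
      obtain ⟨c, hc⟩ := hdvd
      exact ⟨c, by omega⟩
  -- first adjustment: the translation group is kept
  obtain ⟨g1, hg1⟩ : ∃ g1, MulAut.conj g1 (α s) ∈ Subgroup.zpowers s := by
    let S1 : Sylow 23 (MulAction.stabilizer Co0 v) := Sylow.ofCard (Subgroup.zpowers (α s))
      (by rw [Nat.card_zpowers, MulEquiv.orderOf_eq, hso, h23, pow_one])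
    let S2 : Sylow 23 (MulAction.stabilizer Co0 v) := Sylow.ofCard (Subgroup.zpowers s)
      (by rw [Nat.card_zpowers, hso, h23, pow_one])
    obtain ⟨g, hg⟩ := MulAction.exists_smul_eq (MulAction.stabilizer Co0 v) S1 S2
    have hg' : MulAut.conj g • Subgroup.zpowers (α s) = Subgroup.zpowers s :=
      congrArg (fun S : Sylow 23 (MulAction.stabilizer Co0 v) =>
        (S : Subgroup (MulAction.stabilizer Co0 v))) hg
    exact ⟨g, hg' ▸ Subgroup.smul_mem_pointwise_smul _ _ _ (Subgroup.mem_zpowers _)⟩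
  set α1 : MulAut (MulAction.stabilizer Co0 v) := MulAut.conj g1 * α with hα1
  have hs1 : Subgroup.zpowers (α1 s) = Subgroup.zpowers s :=
    Subgroup.eq_of_le_of_card_ge (Subgroup.zpowers_le.2 hg1)
      (by rw [Nat.card_zpowers, Nat.card_zpowers, MulEquiv.orderOf_eq])
  have hN1 : ∀ x, x⁻¹ * s * x ∈ Subgroup.zpowers s → α1 x ∈ f.range := by
    intro x hx
    refine mem_range23 hc hv _ ?_
    obtain ⟨i, hi⟩ := Subgroup.mem_zpowers_iff.1 (show s ∈ Subgroup.zpowers (α1 s) by
      rw [hs1]; exact Subgroup.mem_zpowers _)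
    obtain ⟨j, hj⟩ := Subgroup.mem_zpowers_iff.1 hx
    refine Subgroup.mem_zpowers_iff.2 ⟨j, ?_⟩
    calc s ^ j = ((α1 s) ^ i) ^ j := by rw [hi]
      _ = (α1 (s ^ j)) ^ i := by rw [map_zpow, ← zpow_mul, mul_comm, zpow_mul]
      _ = ((α1 x)⁻¹ * α1 s * α1 x) ^ i := by rw [hj, map_mul, map_mul, map_inv]
      _ = (α1 x)⁻¹ * (α1 s) ^ i * α1 x := by
          have := conj_zpow (i := i) (a := (α1 x)⁻¹) (b := α1 s)
          rwa [inv_inv] at this
      _ = _ := by rw [hi]
  have hdN : d⁻¹ * s * d ∈ Subgroup.zpowers s := by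
    rw [mul_assoc, show s * d = d * s ^ 12 by rw [hs, hd, ← map_mul, db_tr, map_mul, map_pow],
      inv_mul_cancel_left]
    exact Subgroup.npow_mem_zpowers _ _
  obtain ⟨τd, hτd⟩ := hN1 d hdN
  obtain ⟨k, hk⟩ : ∃ k : ℤ, τd * tr23M = tr23M ^ k * τd := by
    obtain ⟨i, hi⟩ := Subgroup.mem_zpowers_iff.1 (show s ∈ Subgroup.zpowers (α1 s) by
      rw [hs1]; exact Subgroup.mem_zpowers _)
    have hd' : d * s * d⁻¹ ∈ Subgroup.zpowers s := by
      rw [show d * s = s ^ 2 * d from ?_, mul_inv_cancel_right]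
      · exact Subgroup.npow_mem_zpowers _ _
      rw [hs, hd, ← map_mul, ← map_pow, ← map_mul]
      congr 1
      refine Subtype.ext ?_
      rw [Subgroup.coe_mul, Subgroup.coe_mul, SubgroupClass.coe_pow]
      show doublePerm * Golay.translate = Golay.translate ^ 2 * doublePerm
      decide +kernel
    obtain ⟨j, hj⟩ := Subgroup.mem_zpowers_iff.1 hd'
    obtain ⟨l, hl⟩ := Subgroup.mem_zpowers_iff.1 hg1
    change s ^ l = α1 s at hl
    refine ⟨j, hfi ?_⟩
    rw [map_mul, map_mul, map_zpow, hτd, ← hs]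
    calc α1 d * s = α1 d * (α1 s) ^ i := by rw [hi]
      _ = α1 (d * s ^ i) := by rw [map_mul, map_zpow]
      _ = α1 ((d * s * d⁻¹) ^ i * d) := by rw [conj_zpow, inv_mul_cancel_right]
      _ = α1 ((s ^ i) ^ j * d) := by rw [← hj, ← zpow_mul, ← zpow_mul, mul_comm j i]
      _ = s ^ j * α1 d := by rw [map_mul, map_zpow, map_zpow, hi]
  have hτ11 : τd ^ 11 = 1 ∧ τd ≠ 1 := by
    have ho : orderOf τd = 11 := by rw [← orderOf_injective f hfi, hτd, MulEquiv.orderOf_eq, hdo]
    refine ⟨ho ▸ pow_orderOf_eq_one τd, fun e => ?_⟩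
    rw [e, orderOf_one] at ho; norm_num at ho
  obtain ⟨m, hm⟩ := exists_conj_db23 hτ11.1 hτ11.2 hk
  set α2 : MulAut (MulAction.stabilizer Co0 v) := MulAut.conj (f (tr23M ^ m))⁻¹ * α1 with hα2
  have hd2 : Subgroup.zpowers (α2 d) = Subgroup.zpowers d := by
    refine Subgroup.eq_of_le_of_card_ge (Subgroup.zpowers_le.2 ?_)
      (by rw [Nat.card_zpowers, Nat.card_zpowers, MulEquiv.orderOf_eq])
    obtain ⟨i, hi⟩ := Subgroup.mem_zpowers_iff.1 hm
    refine Subgroup.mem_zpowers_iff.2 ⟨i, ?_⟩
    rw [hd, ← map_zpow, hi, map_mul, map_mul, map_inv, hτd]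
    simp only [hα2, MulAut.mul_apply, MulAut.conj_apply, inv_inv]
    rfl
  have hs2 : α2 s ∈ f.range := by
    obtain ⟨l, hl⟩ := Subgroup.mem_zpowers_iff.1 hg1
    rw [hα2, MulAut.mul_apply, MulAut.conj_apply, show α1 s = s ^ l from hl.symm]
    exact mul_mem (mul_mem (inv_mem (MonoidHom.mem_range.2 ⟨tr23M ^ m, rfl⟩))
      (zpow_mem (MonoidHom.mem_range.2 ⟨tr23M, rfl⟩) l))
      (inv_mem (inv_mem (MonoidHom.mem_range.2 ⟨tr23M ^ m, rfl⟩)))
  -- the vector `8 e∞` and its companion
  have hdcoe : (d : Co0) = monoHom db11 := rfl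
  have hpair : ∀ x : MulAction.stabilizer Co0 v, x⁻¹ * d * x ∈ Subgroup.zpowers d →
      (x : Co0) • pt8 none = pt8 none ∨ (x : Co0) • pt8 none = y0 := by
    intro x hx
    obtain ⟨n, hn⟩ := zpow_of_normalize (t := db11) hdcoe hx
    refine hfix _ (fixed_of_normalize double_facts.2.2.1 hn)
      ((sqNorm_smul _ _).trans (sqNorm_vec8 none)) ?_
    have := dotInt_smul (x : Co0) v (pt8 none)
    rw [show (x : Co0) • v = v from x.2] at this
    rw [this, show ((pt8 none : leechLattice) : GolayPt → ℤ) = vec8 none from rfl, dotInt_vec8]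
  have hnorm2 : ∀ x, x⁻¹ * d * x ∈ Subgroup.zpowers d →
      (α2 x)⁻¹ * d * α2 x ∈ Subgroup.zpowers d := by
    intro x hx
    obtain ⟨i, hi⟩ := Subgroup.mem_zpowers_iff.1 (show d ∈ Subgroup.zpowers (α2 d) by
      rw [hd2]; exact Subgroup.mem_zpowers _)
    obtain ⟨j, hj⟩ := Subgroup.mem_zpowers_iff.1 hx
    refine Subgroup.mem_zpowers_iff.2 ⟨j, ?_⟩
    calc d ^ j = ((α2 d) ^ i) ^ j := by rw [hi]
      _ = (α2 (d ^ j)) ^ i := by rw [map_zpow, ← zpow_mul, mul_comm, zpow_mul]
      _ = ((α2 x)⁻¹ * α2 d * α2 x) ^ i := by rw [hj, map_mul, map_mul, map_inv]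
      _ = (α2 x)⁻¹ * (α2 d) ^ i * α2 x := by
          have := conj_zpow (i := i) (a := (α2 x)⁻¹) (b := α2 d)
          rwa [inv_inv] at this
      _ = _ := by rw [hi]
  set u := f cube23 with hu
  have hudN : u⁻¹ * d * u ∈ Subgroup.zpowers d := by
    rw [mul_assoc, show d * u = u * d ^ 4 by rw [hu, hd, ← map_mul, db_cube, map_mul, map_pow],
      inv_mul_cancel_left]
    exact Subgroup.npow_mem_zpowers _ _
  have hu2 : α2 u ∈ f.range := by
    refine mem_range_of_fix hc ?_ hval
    set x := α2 u with hx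
    have hxN := hnorm2 u hudN
    have h5 : x ^ 5 = 1 := by
      rw [hx, ← map_pow, hu, ← map_pow, show cube23 ^ 5 = 1 from Subtype.ext (by
        rw [SubgroupClass.coe_pow]; exact cubeTwist_facts.2.1), map_one, map_one]
    rcases hpair x hxN with e | e
    · exact e
    · exfalso
      have hx2 : ((x ^ 2 : MulAction.stabilizer Co0 v) : Co0) • pt8 none = pt8 none := by
        have hx2N : (x ^ 2)⁻¹ * d * x ^ 2 ∈ Subgroup.zpowers d := by
          obtain ⟨j, hj⟩ := Subgroup.mem_zpowers_iff.1 hxN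
          refine Subgroup.mem_zpowers_iff.2 ⟨j * j, ?_⟩
          have := conj_zpow (i := j) (a := x⁻¹) (b := d)
          rw [inv_inv] at this
          rw [zpow_mul, hj, this, hj]
          simp only [← hx, pow_two, mul_inv_rev, mul_assoc]
        rcases hpair _ hx2N with e2 | e2
        · exact e2
        · exfalso
          rw [pow_two, Subgroup.coe_mul, mul_smul, e] at e2
          exact hy0e (smul_left_cancel (x : Co0) (e2.trans e.symm))
      have h4 : ((x ^ 4 : MulAction.stabilizer Co0 v) : Co0) • pt8 none = pt8 none := by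
        rw [show 4 = 2 + 2 from rfl, pow_add, Subgroup.coe_mul, mul_smul, hx2, hx2]
      have h55 : ((x ^ 5 : MulAction.stabilizer Co0 v) : Co0) • pt8 none = y0 := by
        rw [pow_succ', Subgroup.coe_mul, mul_smul, h4, e]
      rw [h5, Subgroup.coe_one, one_smul] at h55
      exact hy0e h55.symm
  have hrange : ∀ τ, α2 (f τ) ∈ f.range := by
    intro τ
    have hle : Subgroup.closure {tr23M, cube23} = ⊤ := by
      rw [eq_top_iff]
      intro σ _
      have h : (σ : Equiv.Perm GolayPt) ∈
          (Subgroup.closure {tr23M, cube23}).map Spor.M23.subtype := by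
        rw [MonoidHom.map_closure, Set.image_pair]
        exact M23_le_closure σ.2
      obtain ⟨σ', hσ', e⟩ := h
      rwa [← Subtype.ext e]
    have hmem : τ ∈ Subgroup.closure {tr23M, cube23} := hle ▸ Subgroup.mem_top _
    refine (Subgroup.closure_le (K := f.range.comap (α2.toMonoidHom.comp f))).2 ?_ hmem
    rintro _ (rfl | rfl)
    · exact hs2
    · exact hu2
  -- second adjustment: `M23` is fixed pointwise
  choose φ hφ using hrange
  let φh : Spor.M23 →* Spor.M23 :=
    { toFun := φ
      map_one' := hfi (by rw [hφ, map_one f, map_one α2])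
      map_mul' := fun a b => hfi (by rw [hφ, map_mul, map_mul, map_mul, hφ, hφ]) }
  haveI : Finite Spor.M23 := Nat.finite_of_card_ne_zero (by rw [card_M23]; norm_num)
  have hφb : Function.Bijective φh := Finite.injective_iff_bijective.1 fun a b e => by
    apply hfi; apply α2.injective
    rw [← hφ, ← hφ]
    exact congrArg f e
  obtain ⟨m0, hm0⟩ : ∃ m0 : Spor.M23, MulEquiv.ofBijective φh hφb = MulAut.conj m0 := by
    have h1 := Compute.Mathieu.card_out_M23
    haveI : Subsingleton (Cfsg.Out Spor.M23) :=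
      (Nat.card_eq_one_iff_unique.1 h1).1
    have : MulEquiv.ofBijective φh hφb ∈ Inn Spor.M23 := by
      rw [← QuotientGroup.eq_one_iff]
      exact Subsingleton.elim _ _
    obtain ⟨m0, hm0⟩ := this
    exact ⟨m0, hm0.symm⟩
  set α3 : MulAut (MulAction.stabilizer Co0 v) := MulAut.conj (f m0)⁻¹ * α2 with hα3
  have hfixM : ∀ τ, α3 (f τ) = f τ := by
    intro τ
    rw [hα3, MulAut.mul_apply, MulAut.conj_apply, ← hφ τ,
      show φ τ = m0 * τ * m0⁻¹ from DFunLike.congr_fun hm0 τ, map_mul, map_mul, map_inv, inv_inv]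
    group
  -- an element of the normaliser of the doubling moving `8 e∞`
  set D := Subgroup.zpowers d with hD
  set N := Subgroup.normalizer (D : Set (MulAction.stabilizer Co0 v)) with hN
  have hNiff : ∀ x, x ∈ N → x⁻¹ * d * x ∈ D := fun x hx =>
    ((Subgroup.mem_normalizer_iff''.1 hx) d).1 (Subgroup.mem_zpowers _)
  have hmulD : ∀ a b : MulAction.stabilizer Co0 v, a⁻¹ * d * a ∈ D → b⁻¹ * d * b ∈ D →
      (a * b)⁻¹ * d * (a * b) ∈ D := by
    intro a b ha hb
    obtain ⟨i, hi⟩ := Subgroup.mem_zpowers_iff.1 ha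
    obtain ⟨j, hj⟩ := Subgroup.mem_zpowers_iff.1 hb
    refine Subgroup.mem_zpowers_iff.2 ⟨j * i, ?_⟩
    have := conj_zpow (i := i) (a := b⁻¹) (b := d)
    rw [inv_inv] at this
    rw [zpow_mul, hj, this, hi]
    group
  obtain ⟨t, htN, hte⟩ : ∃ t ∈ N, ((t : MulAction.stabilizer Co0 v) : Co0) • pt8 none ≠ pt8 none := by
    by_contra! hall
    have hDmap : (Subgroup.zpowers db23).map f = D := MonoidHom.map_zpowers f db23
    have hmap : N = (Subgroup.normalizer (Subgroup.zpowers db23 : Set Spor.M23)).map f := by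
      refine le_antisymm (fun x hx => ?_) ?_
      · obtain ⟨τ, rfl⟩ := mem_range_of_fix hc (hall x hx) hval
        refine ⟨τ, Subgroup.mem_normalizer_iff''.2 fun z => ?_, rfl⟩
        show z ∈ Subgroup.zpowers db23 ↔ τ⁻¹ * z * τ ∈ Subgroup.zpowers db23
        rw [← Subgroup.mem_map_iff_mem hfi, hDmap,
          ← Subgroup.mem_map_iff_mem hfi (K := Subgroup.zpowers db23), hDmap, map_mul, map_mul,
          map_inv]
        exact (Subgroup.mem_normalizer_iff''.1 hx) (f z)
      · have := Subgroup.le_normalizer_map (H := Subgroup.zpowers db23) f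
        rwa [hDmap] at this
    let S : Sylow 11 (MulAction.stabilizer Co0 v) := Sylow.ofCard D
      (by rw [hD, Nat.card_zpowers, hdo, h11, pow_one])
    have h1 := card_sylow_modEq_one 11 (MulAction.stabilizer Co0 v)
    rw [Sylow.card_eq_index_normalizer S,
      show (S : Set (MulAction.stabilizer Co0 v)) = (D : Set _) from rfl, ← hN] at h1
    have h2 := N.card_mul_index
    have hN55 : Nat.card N = 55 := by
      rw [hmap, Subgroup.card_map_of_injective hfi, card_normalizer_db23]
    rw [hN55, hcard] at h2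
    refine hidx ?_
    rw [← h2, Nat.mul_div_cancel_left _ (by norm_num)]
    exact h1
  have hty : (t : Co0) • pt8 none = y0 := (hpair t (hNiff t htN)).resolve_left hte
  have hd3 : α3 d = d := hfixM db23
  have hat : α3 t = t := by
    have haN : (α3 t)⁻¹ * d * α3 t ∈ D := by
      obtain ⟨j, hj⟩ := Subgroup.mem_zpowers_iff.1 (hNiff t htN)
      refine Subgroup.mem_zpowers_iff.2 ⟨j, ?_⟩
      have := congrArg α3 hj
      rwa [map_zpow, map_mul, map_mul, map_inv, hd3] at this
    have hay : (α3 t : Co0) • pt8 none = y0 := by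
      refine (hpair _ haN).resolve_left fun e => ?_
      obtain ⟨τ, hτ⟩ := mem_range_of_fix hc e hval
      have : α3 (α3 t) = α3 t := by rw [← hτ]; exact hfixM τ
      rw [α3.injective this] at e
      exact hte e
    have hty0 : (t : Co0) • y0 = pt8 none := by
      rcases hpair (t * t) (hmulD t t (hNiff t htN) (hNiff t htN)) with e | e
      · rwa [Subgroup.coe_mul, mul_smul, hty] at e
      · exfalso
        rw [Subgroup.coe_mul, mul_smul, hty] at e
        exact hy0e (smul_left_cancel (t : Co0) (e.trans hty.symm))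
    set c := t⁻¹ * α3 t with hcdef
    obtain ⟨κ, hκ⟩ : c ∈ f.range := by
      refine mem_range_of_fix hc ?_ hval
      rw [hcdef, Subgroup.coe_mul, mul_smul, hay, ← hty, Subgroup.coe_inv, inv_smul_smul]
    have hcomm : ∀ τ : Spor.M23, (f τ)⁻¹ * d * f τ ∈ D → Commute κ τ := by
      intro τ hτ
      have hfe : (f τ : Co0) • pt8 none = pt8 none := stabHom23_fix hc τ
      have hny : (f τ : Co0) • y0 = y0 := by
        rcases hpair (f τ * t) (hmulD _ _ hτ (hNiff t htN)) with e | e
        · exfalso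
          rw [Subgroup.coe_mul, mul_smul, hty] at e
          exact hy0e (smul_left_cancel (f τ : Co0) (e.trans hfe.symm))
        · rwa [Subgroup.coe_mul, mul_smul, hty] at e
      obtain ⟨ρ, hρ⟩ : t * f τ * t⁻¹ ∈ f.range := by
        refine mem_range_of_fix hc ?_ hval
        rw [Subgroup.coe_mul, Subgroup.coe_mul, Subgroup.coe_inv, mul_smul, mul_smul,
          show ((t : Co0))⁻¹ • pt8 none = y0 by rw [inv_smul_eq_iff, hty0], hny, hty0]
      have h1 := hfixM ρ
      rw [hρ, map_mul, map_mul, map_inv, hfixM, show α3 t = t * c by rw [hcdef]; group, ← hκ] at h1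
      show κ * τ = τ * κ
      apply hfi
      rw [map_mul, map_mul]
      calc f κ * f τ = t⁻¹ * (t * f κ * f τ * (t * f κ)⁻¹) * t * f κ := by group
        _ = t⁻¹ * (t * f τ * t⁻¹) * t * f κ := by rw [h1]
        _ = f τ * f κ := by group
    have hκd : Commute κ db23 := hcomm db23 (by
      rw [← hd, inv_mul_cancel, one_mul]
      exact Subgroup.mem_zpowers _)
    have hκu : Commute κ cube23 := hcomm cube23 hudN
    obtain ⟨i, hi⟩ := Subgroup.mem_zpowers_iff.1 (commute_db23 hκd.symm)
    have h3 : db23 ^ (3 * i) = 1 := by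
      have e1 : db23 ^ i * cube23 = cube23 * (db23 ^ (4 : ℕ)) ^ i :=
        (SemiconjBy.zpow_right (show SemiconjBy cube23 (db23 ^ (4 : ℕ)) db23 from db_cube.symm) i).symm
      have e2 : db23 ^ i * cube23 = cube23 * db23 ^ i := by rw [hi]; exact hκu
      have e3 := mul_left_cancel (e1.symm.trans e2)
      rw [← zpow_natCast, ← zpow_mul] at e3
      rw [show 3 * i = ((4 : ℕ) : ℤ) * i - i by push_cast; ring, zpow_sub, e3, mul_inv_cancel]
    have hκ1 : κ = 1 := by
      rw [← orderOf_dvd_iff_zpow_eq_one, orderOf_db23] at h3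
      have h11' : ((orderOf db23 : ℕ) : ℤ) ∣ i := by rw [orderOf_db23]; omega
      rw [← hi, orderOf_dvd_iff_zpow_eq_one.1 h11']
    rw [hκ1, map_one, hcdef] at hκ
    exact (inv_mul_eq_one.1 hκ.symm).symm
  -- the fixed elements
  let F : Subgroup (MulAction.stabilizer Co0 v) := α3.toMonoidHom.eqLocus (MonoidHom.id _)
  have hfF : ∀ τ, f τ ∈ F := hfixM
  haveI : Finite F := inferInstance
  set e0 : leechLattice := pt8 none
  have hstab : MulAction.stabilizer F e0 = (f.range).subgroupOf F := by
    ext x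
    constructor
    · intro hx
      exact mem_range_of_fix hc (show ((x.1 : MulAction.stabilizer Co0 v) : Co0) • e0 = e0 from hx) hval
    · rintro ⟨τ, hτ⟩
      show ((x.1 : MulAction.stabilizer Co0 v) : Co0) • e0 = e0
      rw [show (x.1 : MulAction.stabilizer Co0 v) = f τ from hτ.symm]
      exact stabHom23_fix hc τ
  have hFk : Nat.card F = 10200960 * (MulAction.orbit F e0).ncard := by
    rw [← MulAction.index_stabilizer, ← (MulAction.stabilizer F e0).card_mul_index]
    congr 1
    rw [hstab, Nat.card_congr (Subgroup.subgroupOfEquivOfLe (K := F) (H := f.range) (fun x hx => by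
      obtain ⟨τ, rfl⟩ := hx; exact hfF τ)).toEquiv,
      ← Nat.card_congr (MonoidHom.ofInjective hfi).toEquiv, card_M23]
  haveI : Finite (MulAction.orbit F e0) := Finite.of_surjective (fun g : F => (⟨g • e0, g, rfl⟩ :
    MulAction.orbit F e0)) (fun ⟨_, g, hg⟩ => ⟨g, Subtype.ext hg⟩)
  set k := (MulAction.orbit F e0).ncard with hk
  have hkK : k ∣ K := by
    have := Subgroup.card_subgroup_dvd_card F
    rw [hFk, hcard] at this
    exact Nat.dvd_of_mul_dvd_mul_left (by norm_num) this
  have horb : ∀ y : leechLattice, y ∈ MulAction.orbit F e0 →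
      sqNorm (y : GolayPt → ℤ) = 64 ∧
        dotInt (v : GolayPt → ℤ) (y : GolayPt → ℤ) = 8 * (v : GolayPt → ℤ) none := by
    rintro _ ⟨g, rfl⟩
    refine ⟨(sqNorm_smul _ _).trans (sqNorm_vec8 none), ?_⟩
    have := dotInt_smul ((g.1 : MulAction.stabilizer Co0 v) : Co0) v e0
    rw [show ((g.1 : MulAction.stabilizer Co0 v) : Co0) • v = v from g.1.2] at this
    rw [show ((fun m => m • e0) g : leechLattice) = ((g.1 : MulAction.stabilizer Co0 v) : Co0) • e0 from rfl,
      this, show ((e0 : leechLattice) : GolayPt → ℤ) = vec8 none from rfl, dotInt_vec8]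
  have hsF : s ∈ F := hfF _
  have hdF : d ∈ F := hfF _
  have hk23 : k % 23 = 1 := by
    let P : Subgroup F := Subgroup.zpowers ⟨s, hsF⟩
    have hPo : IsPGroup 23 P := IsPGroup.of_card (n := 1) (by
      rw [Nat.card_zpowers, ← Subgroup.orderOf_coe]; simpa using hso)
    have h := hPo.card_modEq_card_fixedPoints (α := MulAction.orbit F e0)
    rw [Nat.card_coe_set_eq, ← hk] at h
    have h1 : MulAction.fixedPoints P (MulAction.orbit F e0) =
        {⟨e0, MulAction.mem_orbit_self e0⟩} := by
      ext ⟨y, hy⟩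
      rw [Set.mem_singleton_iff, Subtype.mk.injEq]
      constructor
      · intro hfix'
        have hy' : monoHom tr23 • y = y :=
          congrArg Subtype.val (hfix' ⟨⟨s, hsF⟩, Subgroup.mem_zpowers _⟩)
        obtain ⟨hn, hdot⟩ := horb y hy
        refine (fixed23 hy' hn).resolve_right fun e => ?_
        rw [e, AddSubgroup.coe_neg] at hdot
        simp only [dotInt, Pi.neg_apply, mul_neg, Finset.sum_neg_distrib] at hdot
        have := dotInt_vec8 (v : GolayPt → ℤ) none
        simp only [dotInt] at this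
        change -(∑ i, (v : GolayPt → ℤ) i * vec8 none i) = _ at hdot
        omega
      · rintro rfl p
        obtain ⟨n, hn⟩ := p.2
        refine Subtype.ext ?_
        show (((p : F).1 : MulAction.stabilizer Co0 v) : Co0) • e0 = e0
        rw [← hn]
        show ((((⟨s, hsF⟩ : F) ^ n : F).1 : MulAction.stabilizer Co0 v) : Co0) • e0 = e0
        rw [SubgroupClass.coe_zpow, SubgroupClass.coe_zpow]
        exact Subgroup.zpow_mem (MulAction.stabilizer Co0 e0) (stabHom23_fix hc tr23M) n
    rw [h1, Nat.card_eq_fintype_card, Set.card_singleton, Nat.ModEq] at h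
    omega
  have htF : t ∈ F := hat
  have hy0orb : y0 ∈ MulAction.orbit F e0 := ⟨⟨t, htF⟩, hty⟩
  have hk11 : k % 11 = 2 := by
    let P : Subgroup F := Subgroup.zpowers ⟨d, hdF⟩
    have hPo : IsPGroup 11 P := IsPGroup.of_card (n := 1) (by
      rw [Nat.card_zpowers, ← Subgroup.orderOf_coe]; simpa using hdo)
    have h := hPo.card_modEq_card_fixedPoints (α := MulAction.orbit F e0)
    rw [Nat.card_coe_set_eq, ← hk] at h
    have hfx : ∀ y : leechLattice, monoHom db11 • y = y → ∀ n : ℤ, monoHom db11 ^ n • y = y :=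
      fun y hy n => Subgroup.zpow_mem (MulAction.stabilizer Co0 y) hy n
    have h1 : MulAction.fixedPoints P (MulAction.orbit F e0) =
        {⟨e0, MulAction.mem_orbit_self e0⟩, ⟨y0, hy0orb⟩} := by
      ext ⟨y, hy⟩
      rw [Set.mem_insert_iff, Set.mem_singleton_iff]
      constructor
      · intro hfix'
        obtain ⟨hn, hdot⟩ := horb y hy
        exact (hfix y (congrArg Subtype.val (hfix' ⟨⟨d, hdF⟩, Subgroup.mem_zpowers _⟩)) hn hdot).imp
          (fun e => Subtype.ext e) (fun e => Subtype.ext e)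
      · intro hy' p
        obtain ⟨n, hn⟩ := p.2
        refine Subtype.ext ?_
        show (((p : F).1 : MulAction.stabilizer Co0 v) : Co0) • y = y
        rw [← hn]
        show ((((⟨d, hdF⟩ : F) ^ n : F).1 : MulAction.stabilizer Co0 v) : Co0) • y = y
        rw [SubgroupClass.coe_zpow, SubgroupClass.coe_zpow]
        refine hfx y ?_ n
        rcases hy' with e | e
        · obtain rfl : y = e0 := congrArg Subtype.val e
          exact monoHom_fix _ double_facts.2.2.1
        · obtain rfl : y = y0 := congrArg Subtype.val e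
          exact hy0
    rw [h1, Nat.card_coe_set_eq, Set.ncard_pair (fun e => hy0e (congrArg Subtype.val e).symm),
      Nat.ModEq] at h
    omega
  have hbig : 2048 < k := by
    let H : Subgroup Spor.M23 := (MulAction.stabilizer Co0 y0).comap
      ((MulAction.stabilizer Co0 v).subtype.comp f)
    have hH : ∀ τ ∈ H, τ.1 (some 0) = some 0 ∧
        τ.1 • (Finset.univ.filter fun i => qrWord 0 i = 0) =
          Finset.univ.filter fun i => qrWord 0 i = 0 := by
      intro τ hτ
      have hτ' : monoHom ⟨τ.1, τ.2.1⟩ • y0 = y0 := hτ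
      refine ⟨hsep _ (apply_of_fixed hτ' _), ?_⟩
      obtain ⟨a, b, -, hab⟩ := hdod
      refine Finset.eq_of_subset_of_card_le ?_ (by rw [Finset.card_smul_finset])
      intro i hi
      rw [Finset.smul_finset_def, Finset.mem_image] at hi
      obtain ⟨j, hj, rfl⟩ := hi
      simp only [Finset.mem_filter, Finset.mem_univ, true_and, hab, Equiv.Perm.smul_def] at hj ⊢
      rw [apply_of_fixed hτ' j]
      exact hj
    have hH2 := card_M23_fix_dodecad H hH
    let Φ : Spor.M23 ⧸ H → MulAction.orbit F e0 := Quotient.lift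
      (fun τ => (⟨((f τ : MulAction.stabilizer Co0 v) : Co0) • y0, by
        refine ⟨⟨f τ * t, mul_mem (hfF τ) htF⟩, ?_⟩
        show ((f τ * t : MulAction.stabilizer Co0 v) : Co0) • e0 = _
        rw [Subgroup.coe_mul, mul_smul, hty]⟩ : MulAction.orbit F e0))
      (fun a b hab => by
        refine Subtype.ext ?_
        have h : a⁻¹ * b ∈ H := QuotientGroup.leftRel_apply.1 hab
        have h' : ((f (a⁻¹ * b) : MulAction.stabilizer Co0 v) : Co0) • y0 = y0 := h
        rw [map_mul, map_inv, Subgroup.coe_mul, Subgroup.coe_inv, mul_smul, inv_smul_eq_iff] at h'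
        exact h'.symm)
    have hΦ : Function.Injective Φ := by
      intro a b
      induction a using QuotientGroup.induction_on with
      | H a =>
        induction b using QuotientGroup.induction_on with
        | H b =>
          intro e
          have e' : ((f a : MulAction.stabilizer Co0 v) : Co0) • y0 =
              ((f b : MulAction.stabilizer Co0 v) : Co0) • y0 := congrArg Subtype.val e
          refine QuotientGroup.eq.2 ?_
          show ((f (a⁻¹ * b) : MulAction.stabilizer Co0 v) : Co0) • y0 = y0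
          rw [map_mul, map_inv, Subgroup.coe_mul, Subgroup.coe_inv, mul_smul, ← e', inv_smul_smul]
    have h1 := Nat.card_le_card_of_injective Φ hΦ
    rw [← Subgroup.index_eq_card, Nat.card_coe_set_eq, ← hk] at h1
    have h2 := H.card_mul_index
    rw [card_M23] at h2
    by_contra hle
    have hle' : H.index ≤ 2048 := by omega
    nlinarith
  have hkeq := hK k hkK hk23 hk11 hbig
  have hFtop : F = ⊤ := Subgroup.eq_top_of_card_eq F (by rw [hFk, hkeq, hcard])
  have hα3one : α3 = 1 := MulEquiv.ext fun x => (hFtop ▸ Subgroup.mem_top x : x ∈ F)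
  refine ⟨g1⁻¹ * f (tr23M ^ m) * f m0, ?_⟩
  rw [map_mul, map_mul, map_inv]
  rw [hα3, hα2, hα1, map_inv, map_inv] at hα3one
  rw [← mul_one ((MulAut.conj g1)⁻¹ * MulAut.conj (f (tr23M ^ m)) * MulAut.conj (f m0)), ← hα3one]
  group

end

end Cfsg.Agent.Lib.Leech
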