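import Cfsg.Agent.Lib.Leech.Rigid
import Cfsg.Agent.Lib.Leech.PairCode

/-!
The outer automorphism groups of `Co2` and `Co3` are trivial.
-/

set_option autoImplicit false

namespace Cfsg.Agent.Lib.Leech

open Cfsg
open Cfsg.Agent.Lib

/-- If all automorphisms are inner, so they are in an isomorphic group and `Out` is trivial. -/
theorem card_out_of_conj {G H : Type*} [Group G] [Group H] (e : G ≃* H)
    (h : ∀ α : MulAut H, ∃ g, α = MulAut.conj g) : Nat.card (Cfsg.Out G) = 1 := by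
  have htop : Inn G = ⊤ := by
    refine eq_top_iff.2 fun α _ => ?_
    obtain ⟨g, hg⟩ := h (e.symm.trans (MulEquiv.trans α e))
    refine ⟨e.symm g, MulEquiv.ext fun x => ?_⟩
    have := DFunLike.congr_fun hg (e x)
    simp only [MulEquiv.trans_apply, e.symm_apply_apply, MulAut.conj_apply] at this
    apply e.injective
    rw [MulAut.conj_apply, this]
    simp
  show (Inn G).index = 1
  rw [htop, Subgroup.index_top]

/-- The multiplier `m` of a candidate index. -/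
theorem index_eq_of {K k : ℕ} (hK : K % 253 = 24) (hk : k ∣ K) (h23 : k % 23 = 1)
    (h11 : k % 11 = 2) (hbig : 2048 < k)
    (hnd : ∀ j, 1 ≤ j → j < K / 2049 / 253 + 2 → 253 * j + 1 ≤ K / 2049 → ¬ (253 * j + 1) ∣ K) :
    k = K := by
  obtain ⟨m, hm⟩ := hk
  have hm0 : 0 < K := by omega
  have hk253 : k % 253 = 24 := by omega
  have hmod : m % 253 = 1 := by
    have h : (24 * (m % 253)) % 253 = 24 := by rw [← hk253, ← Nat.mul_mod, ← hm, hK, hk253]
    have hlt : m % 253 < 253 := Nat.mod_lt _ (by norm_num)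
    have hall : ∀ x < 253, (24 * x) % 253 = 24 → x = 1 := by decide +kernel
    exact hall _ hlt h
  have hle : m ≤ K / 2049 := by
    rw [Nat.le_div_iff_mul_le (by norm_num)]
    calc m * 2049 ≤ m * k := Nat.mul_le_mul_left m hbig
      _ = K := by rw [hm, mul_comm]
  by_contra hne
  have hm1 : m ≠ 1 := fun h => hne (by rw [hm, h, mul_one])
  refine hnd (m / 253) (by omega) (by omega) (by omega) ?_
  rw [show 253 * (m / 253) + 1 = m by omega]
  exact Dvd.intro_left k hm.symm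

/-! ### `Co2` -/

/-- `(-3, 1²³)` as a lattice element. -/
def base2 : leechLattice := ⟨vec31 none, vec31_mem none⟩

theorem companion_facts :
    leechChk (dblVec 2 4 0 (-2)) = true ∧ leechChk (dblVec 4 (-2) 2 0) = true ∧
    leechChk (dblVec 2 4 (-2) 0) = false ∧ leechChk (dblVec 2 (-7) (-1) 0) = false ∧
    leechChk (dblVec 2 (-7) 0 (-1)) = false ∧ leechChk (dblVec (-3) 0 (-2) (-1)) = false ∧
    leechChk (dblVec (-3) 0 (-1) (-2)) = false ∧ leechChk (dblVec 4 (-2) 0 2) = false ∧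
    (∀ i, dblVec (8 : ℤ) 0 0 0 i = vec8 none i) ∧
    sqNorm (vec31 none) = 32 ∧ sqNorm repG = 48 := by
  decide +kernel

theorem companion_shape :
    (∀ i, dblVec (2 : ℤ) 4 0 (-2) (doublePerm i) = dblVec 2 4 0 (-2) i) ∧
    (∀ i, dblVec (2 : ℤ) 4 0 (-2) i = dblVec 2 4 0 (-2) (some 0) → i = some 0) ∧
    (∀ i, (qrWord 0 i = 0 ↔ (dblVec (2 : ℤ) 4 0 (-2) i = 2 ∨ dblVec (2 : ℤ) 4 0 (-2) i = -2))) ∧
    (∀ i, dblVec (4 : ℤ) (-2) 2 0 (doublePerm i) = dblVec 4 (-2) 2 0 i) ∧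
    (∀ i, dblVec (4 : ℤ) (-2) 2 0 i = dblVec 4 (-2) 2 0 (some 0) → i = some 0) ∧
    (∀ i, (qrWord 0 i = 0 ↔ (dblVec (4 : ℤ) (-2) 2 0 i = 4 ∨ dblVec (4 : ℤ) (-2) 2 0 i = 0))) := by
  decide +kernel

/-- The companion of `base2`. -/
def comp2 : leechLattice := ⟨dblVec 2 4 0 (-2), leechChk_sound companion_facts.1⟩

/-- The companion of `base3`. -/
def comp3 : leechLattice := ⟨dblVec 4 (-2) 2 0, leechChk_sound companion_facts.2.1⟩

theorem dot_dblVec (c₀ c a b q r : ℤ) :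
    dotInt (fun i : GolayPt => if i = none then c₀ else c) (dblVec a b q r) =
      c₀ * a + c * (b + 11 * q + 11 * r) := by
  have e : ∀ x : ZMod 23, c * (if x = 0 then b else if x ^ 11 = 1 then q else r) =
      (if x = 0 then c * b else 0) + (if x ≠ 0 ∧ x ^ 11 = 1 then c * q else 0) +
        (if x ≠ 0 ∧ x ^ 11 ≠ 1 then c * r else 0) := by
    intro x
    by_cases h : x = 0
    · simp [h]
    · by_cases h' : x ^ 11 = 1 <;> simp [h, h']
  simp only [dotInt]
  rw [sum_point]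
  simp only [dblVec, reduceCtorEq, if_true, if_false]
  rw [Finset.sum_congr rfl fun x _ => e x, Finset.sum_add_distrib, Finset.sum_add_distrib,
    Finset.sum_ite_eq' Finset.univ (0 : ZMod 23) fun _ => c * b, if_pos (Finset.mem_univ _),
    ← Finset.sum_filter, ← Finset.sum_filter, Finset.sum_const, Finset.sum_const, dblVec_sums.1,
    dblVec_sums.2]
  ring

theorem cases2 : ∀ a ∈ Finset.Icc (-8 : ℤ) 8, ∀ q ∈ Finset.Icc (-2 : ℤ) 2,
    ∀ r ∈ Finset.Icc (-2 : ℤ) 2,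
    a ^ 2 + (-24 + 3 * a - 11 * q - 11 * r) ^ 2 + 11 * q ^ 2 + 11 * r ^ 2 = 64 →
      (a, -24 + 3 * a - 11 * q - 11 * r, q, r) ∈ [((-3 : ℤ), (0 : ℤ), (-2 : ℤ), (-1 : ℤ)),
        (-3, 0, -1, -2), (2, -7, -1, 0), (2, -7, 0, -1), (2, 4, -2, 0), (2, 4, 0, -2),
        (8, 0, 0, 0)] := by
  decide +kernel

theorem cases3 : ∀ a ∈ Finset.Icc (-8 : ℤ) 8, ∀ q ∈ Finset.Icc (-2 : ℤ) 2,
    ∀ r ∈ Finset.Icc (-2 : ℤ) 2,
    a ^ 2 + (40 - 5 * a - 11 * q - 11 * r) ^ 2 + 11 * q ^ 2 + 11 * r ^ 2 = 64 →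
      (a, 40 - 5 * a - 11 * q - 11 * r, q, r) ∈ [((4 : ℤ), (-2 : ℤ), (0 : ℤ), (2 : ℤ)),
        (4, -2, 2, 0), (8, 0, 0, 0)] := by
  decide +kernel

theorem dbl_bounds {a b q r : ℤ} (h : a ^ 2 + b ^ 2 + 11 * q ^ 2 + 11 * r ^ 2 = 64) :
    a ∈ Finset.Icc (-8 : ℤ) 8 ∧ q ∈ Finset.Icc (-2 : ℤ) 2 ∧ r ∈ Finset.Icc (-2 : ℤ) 2 := by
  simp only [Finset.mem_Icc]
  refine ⟨⟨?_, ?_⟩, ⟨?_, ?_⟩, ⟨?_, ?_⟩⟩ <;>
    nlinarith [sq_nonneg a, sq_nonneg b, sq_nonneg q, sq_nonneg r]

theorem fixed_double2 (y : leechLattice) (h : monoHom db11 • y = y)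
    (hn : sqNorm (y : GolayPt → ℤ) = 64)
    (hd : dotInt (base2 : GolayPt → ℤ) (y : GolayPt → ℤ) = 8 * (base2 : GolayPt → ℤ) none) :
    y = pt8 none ∨ y = comp2 := by
  have he := dblVec_eq (y := (y : GolayPt → ℤ)) (apply_of_fixed h)
  set a := (y : GolayPt → ℤ) none
  set b := (y : GolayPt → ℤ) (some 0)
  set q := (y : GolayPt → ℤ) (some 1)
  set r := (y : GolayPt → ℤ) (some (-1))
  rw [he, sqNorm_dblVec] at hn
  have hd' : -3 * a + 1 * (b + 11 * q + 11 * r) = 8 * (-3) := by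
    rw [← dot_dblVec, ← he]; exact hd
  obtain ⟨ha, hq, hr⟩ := dbl_bounds hn
  have hb : b = -24 + 3 * a - 11 * q - 11 * r := by omega
  rw [hb] at hn he
  have key := cases2 a ha q hq r hr hn
  simp only [List.mem_cons, List.not_mem_nil, Prod.mk.injEq, or_false] at key
  have hy := leechChk_complete y.2
  obtain ⟨-, -, n1, n2, n3, n4, n5, -, h8, -⟩ := companion_facts
  rcases key with ⟨ea, eb, eq', er⟩ | ⟨ea, eb, eq', er⟩ | ⟨ea, eb, eq', er⟩ | ⟨ea, eb, eq', er⟩ |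
      ⟨ea, eb, eq', er⟩ | ⟨ea, eb, eq', er⟩ | ⟨ea, eb, eq', er⟩ <;>
    rw [eb, ea, eq', er] at he <;> try rw [he] at hy
  · rw [n4] at hy; cases hy
  · rw [n5] at hy; cases hy
  · rw [n2] at hy; cases hy
  · rw [show dblVec (2 : ℤ) (-7) 0 (-1) = _ from rfl, n3] at hy; cases hy
  · rw [n1] at hy; cases hy
  · exact Or.inr (Subtype.ext he)
  · exact Or.inl (Subtype.ext (he.trans (funext h8)))

theorem fixed_double3 (y : leechLattice) (h : monoHom db11 • y = y)
    (hn : sqNorm (y : GolayPt → ℤ) = 64)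
    (hd : dotInt (base3 : GolayPt → ℤ) (y : GolayPt → ℤ) = 8 * (base3 : GolayPt → ℤ) none) :
    y = pt8 none ∨ y = comp3 := by
  have he := dblVec_eq (y := (y : GolayPt → ℤ)) (apply_of_fixed h)
  set a := (y : GolayPt → ℤ) none
  set b := (y : GolayPt → ℤ) (some 0)
  set q := (y : GolayPt → ℤ) (some 1)
  set r := (y : GolayPt → ℤ) (some (-1))
  rw [he, sqNorm_dblVec] at hn
  have hd' : 5 * a + 1 * (b + 11 * q + 11 * r) = 8 * 5 := by
    rw [← dot_dblVec, ← he]; exact hd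
  obtain ⟨ha, hq, hr⟩ := dbl_bounds hn
  have hb : b = 40 - 5 * a - 11 * q - 11 * r := by omega
  rw [hb] at hn he
  have key := cases3 a ha q hq r hr hn
  simp only [List.mem_cons, List.not_mem_nil, Prod.mk.injEq, or_false] at key
  have hy := leechChk_complete y.2
  obtain ⟨-, -, -, -, -, -, -, n1, h8, -⟩ := companion_facts
  rcases key with ⟨ea, eb, eq', er⟩ | ⟨ea, eb, eq', er⟩ | ⟨ea, eb, eq', er⟩ <;>
    rw [eb, ea, eq', er] at he
  · rw [he, n1] at hy; cases hy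
  · exact Or.inr (Subtype.ext he)
  · exact Or.inl (Subtype.ext (he.trans (funext h8)))

/-- Every automorphism of the stabiliser of a vector of squared length 32 is inner. -/
theorem conj_stab32 (α : MulAut (MulAction.stabilizer Co0 base2)) :
    ∃ g, α = MulAut.conj g := by
  refine exists_conj_eq (v := base2) (y0 := comp2) (K := 4147200) (fun a => rfl) ?_ ?_ ?_ ?_ ?_ ?_
    fixed_double2 ?_ (by norm_num) (by norm_num) (by norm_num) ?_ α
  · show (-3 : ℤ) ≠ 0; norm_num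
  · show (1 : ℤ) ≠ 0; norm_num
  · exact monoHom_fix_of companion_shape.1
  · intro e
    have := congrFun (congrArg Subtype.val e) none
    simp [comp2, dblVec, pt8, vec8] at this
  · exact companion_shape.2.1
  · exact ⟨2, -2, by norm_num, companion_shape.2.2.1⟩
  · exact (card_stab32 companion_facts.2.2.2.2.2.2.2.2.2.1).trans (by norm_num)
  · intro k hk h23 h11 hbig
    exact index_eq_of (by norm_num) hk h23 h11 hbig (by decide +kernel : ∀ j, 1 ≤ j →
      j < 4147200 / 2049 / 253 + 2 → 253 * j + 1 ≤ 4147200 / 2049 → ¬ (253 * j + 1) ∣ 4147200)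

/-- Every automorphism of the stabiliser of a vector of squared length 48 is inner. -/
theorem conj_stab48 (α : MulAut (MulAction.stabilizer Co0 base3)) :
    ∃ g, α = MulAut.conj g := by
  refine exists_conj_eq (v := base3) (y0 := comp3) (K := 48600) (fun a => rfl) ?_ ?_ ?_ ?_ ?_ ?_
    fixed_double3 ?_ (by norm_num) (by norm_num) (by norm_num) ?_ α
  · show (5 : ℤ) ≠ 0; norm_num
  · show (1 : ℤ) ≠ 0; norm_num
  · exact monoHom_fix_of companion_shape.2.2.2.1
  · intro e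
    have := congrFun (congrArg Subtype.val e) none
    simp [comp3, dblVec, pt8, vec8] at this
  · exact companion_shape.2.2.2.2.1
  · exact ⟨4, 0, by norm_num, companion_shape.2.2.2.2.2⟩
  · exact (card_stab48 companion_facts.2.2.2.2.2.2.2.2.2.2).trans (by norm_num)
  · intro k hk h23 h11 hbig
    exact index_eq_of (by norm_num) hk h23 h11 hbig (by decide +kernel : ∀ j, 1 ≤ j →
      j < 48600 / 2049 / 253 + 2 → 253 * j + 1 ≤ 48600 / 2049 → ¬ (253 * j + 1) ∣ 48600)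

theorem card_out_Co2 : Nat.card (Cfsg.Out Spor.Co2) = 1 := by
  obtain ⟨g, hg⟩ := exists_smul32 base2 Spor.leechU companion_facts.2.2.2.2.2.2.2.2.2.1
    spor_vectors.1
  exact card_out_of_conj (co2Equiv.trans (MulAction.stabilizerEquivStabilizer hg.symm).symm)
    conj_stab32

theorem card_out_Co3 : Nat.card (Cfsg.Out Spor.Co3) = 1 := by
  obtain ⟨g, hg⟩ := exists_smul48 base3 Spor.leechV companion_facts.2.2.2.2.2.2.2.2.2.2
    spor_vectors.2.1
  exact card_out_of_conj (co3Equiv.trans (MulAction.stabilizerEquivStabilizer hg.symm).symm)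
    conj_stab48

end Cfsg.Agent.Lib.Leech
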