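import Cfsg.Agent.Lib.Leech.RigidCo1Fix
import Cfsg.Agent.Lib.Leech.RigidOut

/-!
The automorphisms of `Co0` modulo its centre are inner.
-/

set_option autoImplicit false

namespace Cfsg.Agent.Lib.Leech

open Cfsg
open Cfsg.Agent.Lib
open scoped Pointwise

/-- A preimage of a conjugation of an element of odd order. -/
theorem lift_conj {t g : Co0} {n : ℤ} {p : ℕ} (hp : Odd p) (ht : t ^ p = 1)
    (h : quotC (g⁻¹ * t * g) = quotC (t ^ n)) : t * g = g * t ^ n := by
  rcases eq_or_eq_neg h with e | e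
  · rw [← e]; group
  · exfalso
    have hl : (g⁻¹ * t * g) ^ p = 1 := by
      have := conj_pow (i := p) (a := g⁻¹) (b := t)
      rw [inv_inv] at this
      rw [this, ht, mul_one, inv_mul_cancel]
    have hr : (t ^ n) ^ p = 1 := by
      rw [← zpow_natCast, ← zpow_mul, mul_comm, zpow_mul, zpow_natCast, ht, one_zpow]
    have hc : Commute negCo (t ^ n) := (negCo_comm _).symm
    have hneg : negCo ^ p = negCo := by
      obtain ⟨q, rfl⟩ := hp
      rw [pow_succ, pow_mul, sq, negCo_sq, one_pow, one_mul]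
    have := congrArg (fun x : Co0 => x ^ p) e
    simp only [hl, hc.mul_pow, hneg, hr, mul_one] at this
    exact negCo_ne_one this.symm

/-- A fixed element whose conjugate is fixed commutes with the displacement. -/
theorem commute_disp {G : Type*} [Group G] (α : MulAut G) {t x : G} (h1 : α x = x)
    (h2 : α (t * x * t⁻¹) = t * x * t⁻¹) : Commute (t⁻¹ * α t) x := by
  rw [map_mul, map_mul, map_inv, h1] at h2
  show t⁻¹ * α t * x = x * (t⁻¹ * α t)
  calc t⁻¹ * α t * x = t⁻¹ * (α t * x * (α t)⁻¹) * α t := by group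
    _ = t⁻¹ * (t * x * t⁻¹) * α t := by rw [h2]
    _ = _ := by group

theorem flip_comm {w : GolayPt → ZMod 2} (hw' : w ∈ golayCode) {ρ : M24}
    (h : ∀ i, w (ρ.1 i) = w i) :
    Commute (flipCo w hw') (monoHom ρ⁻¹) := by
  show monoCo 1 (one_mem _) w hw' * monoCo (ρ⁻¹ : M24).1 (ρ⁻¹ : M24).2 0 (zero_mem _) =
    monoCo (ρ⁻¹ : M24).1 (ρ⁻¹ : M24).2 0 (zero_mem _) * monoCo 1 (one_mem _) w hw'
  rw [monoCo_mul, monoCo_mul]
  refine co0_ext fun v => ?_
  rw [monoCo_smul, monoCo_smul]
  have e : (w + fun i => (0 : GolayPt → ZMod 2) ((1 : Equiv.Perm GolayPt).symm i)) =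
      0 + fun i => w (((ρ⁻¹ : M24).1).symm i) := funext fun i => by
    show w i + 0 = 0 + w (ρ.1 i)
    rw [h, add_zero, zero_add]
  rw [e, one_mul, mul_one]

theorem projInv_swap : projInv none = some 0 ∧ projInv (some 0) = none := by decide +kernel

theorem flipCo_qr_ne : quotC (flipCo (qrWord 0) (qr_mem 0)) ≠ 1 := by
  intro h
  rcases eq_or_eq_neg (h.trans (map_one quotC).symm) with e | e
  · rw [show (1 : Co0) = monoHom 1 from (map_one monoHom).symm] at e
    change monoCo 1 (one_mem _) (qrWord 0) (qr_mem 0) =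
      monoCo (1 : M24).1 (1 : M24).2 0 (zero_mem _) at e
    have := congrFun (monoCo_injective e).2 (some 0)
    revert this
    decide +kernel
  · rw [mul_one, negCo_eq_mono] at e
    have := congrFun (monoCo_injective e).2 none
    revert this
    decide +kernel

theorem qrWord_shift (t : ZMod 23) (i : GolayPt) :
    qrWord 0 ((Golay.translate ^ t.val).symm i) = qrWord t i := by
  rcases i with _ | x
  · rw [(Equiv.symm_apply_eq (Golay.translate ^ t.val)).2 (show none = (Golay.translate ^ t.val) none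
      from ((monoHom_none_fix t.val).symm))]
    rfl
  · rw [(Equiv.symm_apply_eq (Golay.translate ^ t.val)).2 (show some x =
      (Golay.translate ^ t.val) (some (x - t)) by
        rw [tr23_pow_some, ZMod.natCast_zmod_val, sub_add_cancel])]
    simp [qrWord, sub_eq_iff_eq_add]
where
  monoHom_none_fix (n : ℕ) : (Golay.translate ^ n) none = none := by
    induction n with
    | zero => rfl
    | succ n ih => rw [pow_succ', Equiv.Perm.mul_apply, ih]; exact tr23_facts.2.2.1

theorem flip_shift (t : ZMod 23) :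
    flipCo (qrWord t) (qr_mem t) = monoHom (tr23 ^ t.val) * flipCo (qrWord 0) (qr_mem 0) *
      (monoHom (tr23 ^ t.val))⁻¹ := by
  rw [eq_mul_inv_iff_mul_eq]
  show monoCo 1 (one_mem _) (qrWord t) _ * monoCo (tr23 ^ t.val : M24).1 (tr23 ^ t.val : M24).2 0
    (zero_mem _) = monoCo (tr23 ^ t.val : M24).1 (tr23 ^ t.val : M24).2 0 (zero_mem _) *
      monoCo 1 (one_mem _) (qrWord 0) _
  rw [monoCo_mul, monoCo_mul]
  refine co0_ext fun v => ?_
  rw [monoCo_smul, monoCo_smul]
  have e : (qrWord t + fun i => (0 : GolayPt → ZMod 2) ((1 : Equiv.Perm GolayPt).symm i)) =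
      0 + fun i => qrWord 0 (((tr23 ^ t.val : M24).1).symm i) := funext fun i => by
    show qrWord t i + 0 = 0 + qrWord 0 ((tr23.1 ^ t.val).symm i)
    rw [add_zero, zero_add]
    exact (qrWord_shift t i).symm
  rw [e, one_mul, mul_one]

theorem mono_split (σ : Equiv.Perm GolayPt) (hσ : σ ∈ M24) (w : GolayPt → ZMod 2)
    (hw' : w ∈ golayCode) : monoCo σ hσ w hw' = flipCo w hw' * monoHom ⟨σ, hσ⟩ := by
  show _ = monoCo 1 (one_mem _) w hw' * monoCo σ hσ 0 (zero_mem _)
  rw [monoCo_mul]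
  refine co0_ext fun v => ?_
  rw [monoCo_smul, monoCo_smul]
  have e : (w + fun i => (0 : GolayPt → ZMod 2) ((1 : Equiv.Perm GolayPt).symm i)) = w :=
    funext fun i => by show w i + 0 = w i; rw [add_zero]
  rw [e, one_mul]

theorem flipCo_add {a b : GolayPt → ZMod 2} (ha : a ∈ golayCode) (hb : b ∈ golayCode)
    (h : a + b ∈ golayCode) : flipCo (a + b) h = flipCo a ha * flipCo b hb := by
  show _ = monoCo 1 (one_mem _) a ha * monoCo 1 (one_mem _) b hb
  rw [monoCo_mul]
  refine co0_ext fun v => ?_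
  rw [flipCo, monoCo_smul, monoCo_smul, one_mul]
  rfl

theorem flipCo_zero (h : (0 : GolayPt → ZMod 2) ∈ golayCode) : flipCo 0 h = 1 := map_one monoHom

theorem flip_mem_of_shift (H : Subgroup Co0) (hc : flipCo (qrWord 0) (qr_mem 0) ∈ H)
    (hone : flipCo (1 : GolayPt → ZMod 2) one_mem_code ∈ H)
    (ht : ∀ k : ℕ, monoHom (tr23 ^ k) ∈ H) {w : GolayPt → ZMod 2} (hw' : w ∈ golayCode) :
    flipCo w hw' ∈ H := by
  induction hw' using Submodule.span_induction with
  | mem c hc' =>
    rcases hc' with ⟨t, rfl⟩ | rfl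
    · exact (flip_shift t).symm ▸ mul_mem (mul_mem (ht t.val) hc) (inv_mem (ht t.val))
    · exact hone
  | zero => exact (congrArg (· ∈ H) (flipCo_zero _)).mpr H.one_mem
  | add a b ha hb iha ihb => exact (congrArg (· ∈ H) (flipCo_add ha hb _)).mpr (mul_mem iha ihb)
  | smul r a ha iha =>
    rcases zmod2_cases r with rfl | rfl
    · simp only [zero_smul]
      exact (congrArg (· ∈ H) (flipCo_zero _)).mpr H.one_mem
    · simp only [one_smul]
      exact iha

set_option maxHeartbeats 1600000 in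
/-- Every automorphism of `Co0` modulo its centre is inner. -/
theorem conj_quot (α : MulAut (Co0 ⧸ Subgroup.center Co0)) : ∃ g, α = MulAut.conj g := by
  classical
  haveI := finite_co0
  haveI : Fact (Nat.Prime 23) := ⟨by norm_num⟩
  haveI : Fact (Nat.Prime 11) := ⟨by norm_num⟩
  set f := quotHom with hf
  have hfi : Function.Injective f := quotHom_injective
  set s := f tr23M with hs
  have hso : orderOf s = 23 := orderOf_quot
  set d := f db23 with hd
  have hdo : orderOf d = 11 := (orderOf_injective f hfi db23).trans orderOf_db23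
  have h23 : (Nat.card (Co0 ⧸ Subgroup.center Co0)).factorization 23 = 1 := by
    refine SimpleCrit.factorization_eq_one (by norm_num) Nat.card_pos.ne' ?_ ?_ <;>
      rw [card_quot_center] <;> norm_num
  -- first adjustment: the translation group is kept
  obtain ⟨g1, hg1⟩ : ∃ g1, MulAut.conj g1 (α s) ∈ Subgroup.zpowers s := by
    let S1 : Sylow 23 (Co0 ⧸ Subgroup.center Co0) := Sylow.ofCard (Subgroup.zpowers (α s))
      (by rw [Nat.card_zpowers, MulEquiv.orderOf_eq, hso, h23, pow_one])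
    let S2 : Sylow 23 (Co0 ⧸ Subgroup.center Co0) := Sylow.ofCard (Subgroup.zpowers s)
      (by rw [Nat.card_zpowers, hso, h23, pow_one])
    obtain ⟨g, hg⟩ := MulAction.exists_smul_eq (Co0 ⧸ Subgroup.center Co0) S1 S2
    have hg' : MulAut.conj g • Subgroup.zpowers (α s) = Subgroup.zpowers s :=
      congrArg (fun S : Sylow 23 (Co0 ⧸ Subgroup.center Co0) =>
        (S : Subgroup (Co0 ⧸ Subgroup.center Co0))) hg
    exact ⟨g, hg' ▸ Subgroup.smul_mem_pointwise_smul _ _ _ (Subgroup.mem_zpowers _)⟩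
  set α1 : MulAut (Co0 ⧸ Subgroup.center Co0) := MulAut.conj g1 * α with hα1
  have hs1 : Subgroup.zpowers (α1 s) = Subgroup.zpowers s :=
    Subgroup.eq_of_le_of_card_ge (Subgroup.zpowers_le.2 hg1)
      (by rw [Nat.card_zpowers, Nat.card_zpowers, MulEquiv.orderOf_eq])
  have hN1 : ∀ x, x⁻¹ * s * x ∈ Subgroup.zpowers s → α1 x ∈ f.range := by
    intro x hx
    refine mem_range_quot _ ?_
    obtain ⟨i, hi⟩ := Subgroup.mem_zpowers_iff.1 (show s ∈ Subgroup.zpowers (α1 s) by
      rw [hs1]; exact Subgroup.mem_zpowers _)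
    obtain ⟨j, hj⟩ := Subgroup.mem_zpowers_iff.1 hx
    refine Subgroup.mem_zpowers_iff.2 ⟨j, ?_⟩
    calc s ^ j = ((α1 s) ^ i) ^ j := by rw [hi]
      _ = (α1 (s ^ j)) ^ i := by rw [map_zpow, ← zpow_mul, mul_comm, zpow_mul]
      _ = ((α1 x)⁻¹ * α1 s * α1 x) ^ i := by rw [hj, map_mul, map_mul, map_inv]
      _ = (α1 x)⁻¹ * (α1 s) ^ i * α1 x := by
          have := conj_zpow (i := i) (a := (α1 x)⁻¹) (b := α1 s)
          rwa [inv_inv] at this
      _ = _ := by rw [hi]
  have hdN : d⁻¹ * s * d ∈ Subgroup.zpowers s := by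
    rw [mul_assoc, show s * d = d * s ^ 12 by rw [hs, hd, ← map_mul, db_tr, map_mul, map_pow],
      inv_mul_cancel_left]
    exact Subgroup.npow_mem_zpowers _ _
  obtain ⟨τd, hτd⟩ := hN1 d hdN
  obtain ⟨k, hk⟩ : ∃ k : ℤ, τd * tr23M = tr23M ^ k * τd := by
    obtain ⟨i, hi⟩ := Subgroup.mem_zpowers_iff.1 (show s ∈ Subgroup.zpowers (α1 s) by
      rw [hs1]; exact Subgroup.mem_zpowers _)
    have hd' : d * s * d⁻¹ ∈ Subgroup.zpowers s := by
      rw [show d * s = s ^ 2 * d from ?_, mul_inv_cancel_right]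
      · exact Subgroup.npow_mem_zpowers _ _
      rw [hs, hd, ← map_mul, ← map_pow, ← map_mul]
      congr 1
      refine Subtype.ext ?_
      rw [Subgroup.coe_mul, Subgroup.coe_mul, SubgroupClass.coe_pow]
      show doublePerm * Golay.translate = Golay.translate ^ 2 * doublePerm
      decide +kernel
    obtain ⟨j, hj⟩ := Subgroup.mem_zpowers_iff.1 hd'
    obtain ⟨l, hl⟩ := Subgroup.mem_zpowers_iff.1 hg1
    change s ^ l = α1 s at hl
    refine ⟨j, hfi ?_⟩
    rw [map_mul, map_mul, map_zpow, hτd, ← hs]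
    calc α1 d * s = α1 d * (α1 s) ^ i := by rw [hi]
      _ = α1 (d * s ^ i) := by rw [map_mul, map_zpow]
      _ = α1 ((d * s * d⁻¹) ^ i * d) := by rw [conj_zpow, inv_mul_cancel_right]
      _ = α1 ((s ^ i) ^ j * d) := by rw [← hj, ← zpow_mul, ← zpow_mul, mul_comm j i]
      _ = s ^ j * α1 d := by rw [map_mul, map_zpow, map_zpow, hi]
  have hτ11 : τd ^ 11 = 1 ∧ τd ≠ 1 := by
    have ho : orderOf τd = 11 := by rw [← orderOf_injective f hfi, hτd, MulEquiv.orderOf_eq, hdo]
    refine ⟨ho ▸ pow_orderOf_eq_one τd, fun e => ?_⟩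
    rw [e, orderOf_one] at ho; norm_num at ho
  obtain ⟨m, hm⟩ := exists_conj_db23 hτ11.1 hτ11.2 hk
  set α2 : MulAut (Co0 ⧸ Subgroup.center Co0) := MulAut.conj (f (tr23M ^ m))⁻¹ * α1 with hα2
  have hd2 : Subgroup.zpowers (α2 d) = Subgroup.zpowers d := by
    refine Subgroup.eq_of_le_of_card_ge (Subgroup.zpowers_le.2 ?_)
      (by rw [Nat.card_zpowers, Nat.card_zpowers, MulEquiv.orderOf_eq])
    obtain ⟨i, hi⟩ := Subgroup.mem_zpowers_iff.1 hm
    refine Subgroup.mem_zpowers_iff.2 ⟨i, ?_⟩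
    rw [hd, ← map_zpow, hi, map_mul, map_mul, map_inv, hτd]
    simp only [hα2, MulAut.mul_apply, MulAut.conj_apply, inv_inv]
    rfl
  have hs2 : α2 s ∈ f.range := by
    obtain ⟨l, hl⟩ := Subgroup.mem_zpowers_iff.1 hg1
    rw [hα2, MulAut.mul_apply, MulAut.conj_apply, show α1 s = s ^ l from hl.symm]
    exact mul_mem (mul_mem (inv_mem (MonoidHom.mem_range.2 ⟨tr23M ^ m, rfl⟩))
      (zpow_mem (MonoidHom.mem_range.2 ⟨tr23M, rfl⟩) l))
      (inv_mem (inv_mem (MonoidHom.mem_range.2 ⟨tr23M ^ m, rfl⟩)))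
  have hnorm2 : ∀ x, x⁻¹ * d * x ∈ Subgroup.zpowers d →
      (α2 x)⁻¹ * d * α2 x ∈ Subgroup.zpowers d := by
    intro x hx
    obtain ⟨i, hi⟩ := Subgroup.mem_zpowers_iff.1 (show d ∈ Subgroup.zpowers (α2 d) by
      rw [hd2]; exact Subgroup.mem_zpowers _)
    obtain ⟨j, hj⟩ := Subgroup.mem_zpowers_iff.1 hx
    refine Subgroup.mem_zpowers_iff.2 ⟨j, ?_⟩
    calc d ^ j = ((α2 d) ^ i) ^ j := by rw [hi]
      _ = (α2 (d ^ j)) ^ i := by rw [map_zpow, ← zpow_mul, mul_comm, zpow_mul]
      _ = ((α2 x)⁻¹ * α2 d * α2 x) ^ i := by rw [hj, map_mul, map_mul, map_inv]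
      _ = (α2 x)⁻¹ * (α2 d) ^ i * α2 x := by
          have := conj_zpow (i := i) (a := (α2 x)⁻¹) (b := α2 d)
          rwa [inv_inv] at this
      _ = _ := by rw [hi]
  set u := f cube23 with hu
  have hudN : u⁻¹ * d * u ∈ Subgroup.zpowers d := by
    rw [mul_assoc, show d * u = u * d ^ 4 by rw [hu, hd, ← map_mul, db_cube, map_mul, map_pow],
      inv_mul_cancel_left]
    exact Subgroup.npow_mem_zpowers _ _
  have hu2 : α2 u ∈ f.range := by
    have hxN := hnorm2 u hudN
    have h5 : (α2 u) ^ 5 = 1 := by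
      rw [← map_pow, hu, ← map_pow, show cube23 ^ 5 = 1 from Subtype.ext (by
        rw [SubgroupClass.coe_pow]; exact cubeTwist_facts.2.1), map_one, map_one]
    generalize α2 u = x at hxN h5
    obtain ⟨g, rfl, hg5⟩ : ∃ g, quotC g = x ∧ g ^ 5 = 1 := by
      obtain ⟨g, rfl⟩ := QuotientGroup.mk'_surjective _ x
      rcases eq_or_eq_neg (a := g ^ 5) (b := 1) (by rw [map_pow, map_one]; exact h5) with e | e
      · exact ⟨g, rfl, e⟩
      · refine ⟨negCo * g, quotC_neg_mul g, ?_⟩
        rw [(show Commute negCo g from (negCo_comm g).symm).mul_pow, e, mul_one,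
          show negCo ^ 5 = negCo by
            rw [show 5 = 2 * 2 + 1 from rfl, pow_succ, pow_mul, sq negCo, negCo_sq, one_pow,
              one_mul], negCo_sq]
    obtain ⟨n, hn⟩ := Subgroup.mem_zpowers_iff.1 hxN
    have hl := lift_conj (p := 11) (by decide) (t := monoHom db11) (g := g) (n := n)
      (by rw [← map_pow, show db11 ^ 11 = 1 by rw [← orderOf_db11]; exact pow_orderOf_eq_one _,
        map_one])
      (by rw [map_mul, map_mul, map_inv, map_zpow]; exact hn.symm)
    obtain ⟨τ, hτ, rfl⟩ := normalize_five hl hg5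
    exact ⟨⟨τ.1, τ.2, hτ⟩, rfl⟩
  have hrange : ∀ τ, α2 (f τ) ∈ f.range := by
    intro τ
    have hle : Subgroup.closure {tr23M, cube23} = ⊤ := by
      rw [eq_top_iff]
      intro σ _
      have h : (σ : Equiv.Perm GolayPt) ∈
          (Subgroup.closure {tr23M, cube23}).map Spor.M23.subtype := by
        rw [MonoidHom.map_closure, Set.image_pair]
        exact M23_le_closure σ.2
      obtain ⟨σ', hσ', e⟩ := h
      rwa [← Subtype.ext e]
    have hmem : τ ∈ Subgroup.closure {tr23M, cube23} := hle ▸ Subgroup.mem_top _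
    refine (Subgroup.closure_le (K := f.range.comap (α2.toMonoidHom.comp f))).2 ?_ hmem
    rintro _ (rfl | rfl)
    · exact hs2
    · exact hu2
  -- second adjustment: `M23` is fixed pointwise
  choose φ hφ using hrange
  let φh : Spor.M23 →* Spor.M23 :=
    { toFun := φ
      map_one' := hfi (by rw [hφ, map_one f, map_one α2])
      map_mul' := fun a b => hfi (by rw [hφ, map_mul, map_mul, map_mul, hφ, hφ]) }
  haveI : Finite Spor.M23 := Nat.finite_of_card_ne_zero (by rw [card_M23]; norm_num)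
  have hφb : Function.Bijective φh := Finite.injective_iff_bijective.1 fun a b e => by
    apply hfi; apply α2.injective
    rw [← hφ, ← hφ]
    exact congrArg f e
  obtain ⟨m0, hm0⟩ : ∃ m0 : Spor.M23, MulEquiv.ofBijective φh hφb = MulAut.conj m0 := by
    have h1 := Compute.Mathieu.card_out_M23
    haveI : Subsingleton (Cfsg.Out Spor.M23) :=
      (Nat.card_eq_one_iff_unique.1 h1).1
    have : MulEquiv.ofBijective φh hφb ∈ Inn Spor.M23 := by
      rw [← QuotientGroup.eq_one_iff]
      exact Subsingleton.elim _ _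
    obtain ⟨m0, hm0⟩ := this
    exact ⟨m0, hm0.symm⟩
  set α3 : MulAut (Co0 ⧸ Subgroup.center Co0) := MulAut.conj (f m0)⁻¹ * α2 with hα3
  have hfixM : ∀ τ, α3 (f τ) = f τ := by
    intro τ
    rw [hα3, MulAut.mul_apply, MulAut.conj_apply, ← hφ τ,
      show φ τ = m0 * τ * m0⁻¹ from DFunLike.congr_fun hm0 τ, map_mul, map_mul, map_inv, inv_inv]
    group
  -- the fixed preimages
  let H : Subgroup Co0 := (α3.toMonoidHom.eqLocus (MonoidHom.id _)).comap quotC
  have memH : ∀ {g : Co0}, g ∈ H ↔ α3 (quotC g) = quotC g := Iff.rfl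
  have h23H : ∀ ρ : M24, ρ.1 none = none → monoHom ρ ∈ H := fun ρ hρ =>
    memH.2 (hfixM ⟨ρ.1, ρ.2, hρ⟩)
  have hinv0 : ∀ ρ : M24, ρ.1 none = none → (ρ⁻¹ : M24).1 none = none := fun ρ hρ => by
    show ρ.1.symm none = none
    rw [Equiv.symm_apply_eq, hρ]
  -- the sign change on a dodecad
  have hc : flipCo (qrWord 0) (qr_mem 0) ∈ H := by
    obtain ⟨g, hg⟩ := QuotientGroup.mk'_surjective (Subgroup.center Co0)
      (α3 (quotC (flipCo (qrWord 0) (qr_mem 0))))
    have key := centralize_dodecad (g := g) fun ρ hρ hρc => signComm_of_quot (by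
      rw [show quotC g = _ from hg, ← memH.1 (h23H _ (hinv0 ρ hρ))]
      exact ((flip_comm (qr_mem 0) hρc).map quotC).map α3.toMonoidHom)
    rw [show quotC g = _ from hg] at key
    refine memH.2 (key.resolve_left fun e => ?_)
    exact flipCo_qr_ne (α3.injective (e.trans (map_one α3).symm))
  have hone : flipCo (1 : GolayPt → ZMod 2) one_mem_code ∈ H := by
    rw [flipCo, ← negCo_eq_mono]
    exact memH.2 (by rw [quotC_negCo, map_one])
  have hflip : ∀ w (hw' : w ∈ golayCode), flipCo w hw' ∈ H := fun w hw' =>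
    flip_mem_of_shift H hc hone (fun k => h23H (tr23 ^ k) (qrWord_shift.monoHom_none_fix k)) hw'
  -- the inversion
  have hpi : monoHom ⟨projInv, Golay.projInv_mem_M24⟩ ∈ H := by
    set sw : M24 := ⟨projInv, Golay.projInv_mem_M24⟩ with hsw
    have hsw0 : sw.1 none = some 0 ∧ sw.1 (some 0) = none := by
      exact projInv_swap
    obtain ⟨g, hg⟩ := QuotientGroup.mk'_surjective (Subgroup.center Co0)
      ((quotC (monoHom sw))⁻¹ * α3 (quotC (monoHom sw)))
    have key := centralize_pair (g := g) fun ρ hρ hρ0 => signComm_of_quot (by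
      rw [show quotC g = _ from hg]
      refine commute_disp α3 (memH.1 (h23H _ (hinv0 ρ hρ))) ?_
      rw [← map_inv, ← map_mul, ← map_mul, ← map_inv, ← map_mul, ← map_mul]
      refine memH.1 (h23H _ ?_)
      show sw.1 (ρ.1.symm (sw.1.symm none)) = none
      rw [(Equiv.symm_apply_eq sw.1).2 hsw0.2.symm, (Equiv.symm_apply_eq ρ.1).2 hρ0.symm, hsw0.2])
    rcases key with e | e
    · refine memH.2 (inv_mul_eq_one.1 ?_).symm
      rw [← hg]; exact e
    · have hval : α3 (quotC (monoHom sw)) = quotC (monoHom sw * g) := by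
        rw [map_mul, show quotC g = _ from hg, mul_inv_cancel_left]
      have h8 : (monoHom sw * g) • pt8 none = pt8 none ∨
          (monoHom sw * g) • pt8 none = -pt8 none := by
        rcases e with e | e
        · left; rw [mul_smul, e, smul_pt8_of_perm, hsw0.2]
        · right; rw [mul_smul, e, smul_neg', smul_pt8_of_perm, hsw0.2]
      obtain ⟨g', hq, -, hfix⟩ := exists_fix_lift h8
      obtain ⟨τ, hτ, w, hw', rfl, h1, -⟩ := exists_mono_of_fix hfix
      have hmem : monoCo τ hτ w hw' ∈ H := by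
        rw [mono_split]; exact mul_mem (hflip w hw') (h23H ⟨τ, hτ⟩ h1)
      have := memH.1 hmem
      rw [hq, ← hval] at this
      exact memH.2 (α3.injective this)
  have hperm : ∀ ρ : M24, monoHom ρ ∈ H := by
    intro ρ
    have hle : M24 ≤ (H.comap monoHom).map M24.subtype := by
      refine le_trans (le_of_eq Golay.closure_generators.symm) ((Subgroup.closure_le _).2 ?_)
      rintro _ (rfl | rfl | rfl)
      · exact ⟨⟨_, Golay.translate_mem_M24⟩, h23H _ tr23_facts.2.2.1, rfl⟩
      · exact ⟨⟨_, Golay.projInv_mem_M24⟩, hpi, rfl⟩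
      · exact ⟨⟨_, Golay.cubeTwist_mem_M24⟩, h23H _ cubeTwist_facts.1, rfl⟩
    obtain ⟨ρ', hρ', e⟩ := hle ρ.2
    rwa [← Subtype.ext e]
  have hmono : ∀ (σ : Equiv.Perm GolayPt) (hσ : σ ∈ M24) (w : GolayPt → ZMod 2)
      (hw' : w ∈ golayCode), monoCo σ hσ w hw' ∈ H := fun σ hσ w hw' => by
    rw [mono_split]; exact mul_mem (hflip w hw') (hperm _)
  -- the extra element
  have hxi : xiCo ∈ H := by
    obtain ⟨g, hg⟩ := QuotientGroup.mk'_surjective (Subgroup.center Co0)
      ((quotC xiCo)⁻¹ * α3 (quotC xiCo))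
    have hcomm : ∀ x : Co0, x ∈ H →
        (∀ i, crossChk ((((xiCo * x * xiCo) • pt8 i : leechLattice)) : GolayPt → ℤ) = true) →
          SignComm g x := by
      intro x hx hX
      refine signComm_of_quot ?_
      rw [show quotC g = _ from hg]
      refine commute_disp α3 (memH.1 hx) ?_
      rw [← map_inv, ← map_mul, ← map_mul, inv_eq_of_mul_eq_one_right xiCo_sq]
      obtain ⟨σ, hσ, w, hw', e⟩ := exists_mono (g := xiCo * x * xiCo) fun i => crossChk_sound (hX i)
      rw [e]
      exact memH.1 (hmono σ hσ w hw')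
    refine memH.2 (inv_mul_eq_one.1 ?_).symm
    rw [← hg]
    refine centralize_sextet ?_ ?_
    · intro l hl h
      refine hcomm _ (hperm _) fun i => ?_
      have hX := sextet_conj.1 l hl i
      have e : ((((xiCo * monoHom (listM24 h)⁻¹ * xiCo) • pt8 i : leechLattice)) : GolayPt → ℤ) =
          xiMap fun j => xi8 i (Golay.listFun l j) := by
        rw [← xi8_eq]
        rw [mul_smul, mul_smul, xiCo_smul]
        congr 1
        funext j
        rw [monoHom_inv_smul, xiCo_smul, listM24_apply]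
        rfl
      rwa [e]
    · refine hcomm _ (hflip _ _) fun i => ?_
      rw [mul_smul, mul_smul, xiCo_smul, flipCo_smul, xiCo_smul]
      have hX := sextet_conj.2 i
      rw [← xi8_eq] at hX
      exact hX
  have htop := eq_top_of_mono_xi H hmono hxi
  have hone3 : α3 = 1 := MulEquiv.ext fun x => by
    obtain ⟨g, rfl⟩ := QuotientGroup.mk'_surjective _ x
    exact memH.1 (htop ▸ Subgroup.mem_top g)
  refine ⟨((f m0)⁻¹ * (f (tr23M ^ m))⁻¹ * g1)⁻¹, ?_⟩
  rw [map_inv, map_mul, map_mul, eq_inv_iff_mul_eq_one, ← mul_eq_one_comm]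
  rw [← hone3, hα3, hα2, hα1, mul_assoc, mul_assoc]

theorem card_out_Co1 : Nat.card (Cfsg.Out Spor.Co1) = 1 :=
  card_out_of_conj (MulEquiv.refl _) conj_quot

end Cfsg.Agent.Lib.Leech
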