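import Cfsg.Agent.Lib.Leech.Rigid
import Cfsg.Agent.Lib.Leech.PairCode
import Cfsg.Agent.Lib.Leech.SimpleCo1

/-!
Finite data for the automorphisms of `Co0` modulo its centre: permutations, code words and the
vectors of squared length 64 fixed by the doubling.
-/

set_option autoImplicit false

namespace Cfsg.Agent.Lib.Leech

open Cfsg
open Cfsg.Agent.Lib

/-- Sextet permutations fixing the first point. -/
def sextFix : List (List ℕ) :=
  [[2, 1, 0, 14, 16, 5, 15, 9, 8, 7, 21, 18, 12, 13, 3, 6, 4, 17, 11, 20, 19, 10, 22, 23], [2, 0, 1, 13, 19, 4, 17, 14, 12, 9, 10, 8, 11, 21, 22, 15, 6, 16, 18, 5, 20, 3, 7, 23], [2, 0, 1, 21, 4, 6, 18, 11, 5, 20, 15, 3, 17, 16, 19, 10, 22, 7, 14, 8, 9, 12, 13, 23]]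

/-- Sextet permutations, each with a fixed point, generating a transitive group. -/
def sextMove : List (List ℕ) :=
  [[4, 13, 22, 17, 21, 3, 23, 2, 12, 10, 20, 18, 8, 19, 14, 15, 7, 5, 11, 0, 9, 1, 6, 16], [20, 9, 10, 17, 1, 5, 7, 6, 11, 16, 22, 12, 8, 2, 3, 4, 23, 14, 18, 21, 13, 19, 0, 15], [9, 10, 15, 19, 13, 21, 12, 8, 14, 23, 1, 17, 5, 4, 7, 0, 16, 6, 3, 18, 2, 11, 22, 20]]

/-- A permutation fixing `∞` and the dodecad word, taking 0 to 1. -/
def dodList : List ℕ := [1, 2, 0, 3, 8, 14, 9, 15, 13, 6, 19, 22, 16, 12, 17, 21, 18, 5, 4, 20, 7, 10, 11, 23]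

/-- A permutation fixing `∞` and 0, taking 1 to -1. -/
def pairList : List ℕ := [0, 22, 19, 5, 20, 4, 3, 10, 8, 13, 11, 1, 9, 16, 21, 12, 15, 17, 14, 18, 6, 2, 7, 23]

theorem lists_inM24 : (∀ l ∈ sextFix, Golay.inM24 l = true) ∧
    (∀ l ∈ sextMove, Golay.inM24 l = true) ∧ Golay.inM24 dodList = true ∧
    Golay.inM24 pairList = true := by
  decide +kernel

theorem lists_facts :
    Golay.listFun dodList none = none ∧ Golay.listFun dodList (some 0) = some 1 ∧
    (∀ i, qrWord 0 (Golay.listFun dodList i) = qrWord 0 i) ∧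
    Golay.listFun pairList none = none ∧ Golay.listFun pairList (some 0) = some 0 ∧
    Golay.listFun pairList (some 1) = some (-1) ∧
    (∀ l ∈ sextFix, Golay.listFun l none = none) ∧
    (∀ l ∈ sextMove, ∃ i, Golay.listFun l i = i) := by
  decide +kernel

/-- Boolean test for membership in the standard cross. -/
def crossChk (x : GolayPt → ℤ) : Bool :=
  decide ((∑ j, |x j|) = 8) && decide (∃ i, |x i| = 8)

theorem crossChk_sound {x : GolayPt → ℤ} (h : crossChk x = true) : x ∈ stdCross := by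
  simp only [crossChk, Bool.and_eq_true, decide_eq_true_eq] at h
  obtain ⟨hs, i, hi⟩ := h
  have hz : ∀ j, j ≠ i → x j = 0 := fun j hj => by
    have hle := Finset.sum_le_sum_of_subset_of_nonneg (f := fun k => |x k|)
      (s := {i, j}) (Finset.subset_univ _) fun k _ _ => abs_nonneg (x k)
    rw [Finset.sum_pair hj.symm] at hle
    have := abs_nonneg (x j)
    exact abs_eq_zero.1 (by omega)
  refine mem_stdCross_iff.2 ⟨i, ((abs_eq (by norm_num : (0 : ℤ) ≤ 8)).1 hi).imp
    (fun e => funext fun j => ?_) (fun e => funext fun j => ?_)⟩ <;>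
    by_cases hj : j = i
  · subst hj; simp [vec8, e]
  · simp [vec8, hz j hj, hj]
  · subst hj; simp [vec8, e]
  · simp [vec8, hz j hj, hj]

/-- The value of `xiMap` on `8 eᵢ`. -/
def xi8 (i j : GolayPt) : ℤ :=
  if tetId j = tetId i then (if (tetId i = 0) = (j = i) then -4 else 4) else 0

theorem xi8_eq (i : GolayPt) : xiMap (vec8 i) = xi8 i := by
  have h : ∀ i j, xiMap (vec8 i) j = xi8 i j := by decide +kernel
  exact funext (h i)

theorem sextet_conj :
    (∀ l ∈ sextFix ++ sextMove, ∀ i,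
      crossChk (xiMap fun j => xi8 i (Golay.listFun l j)) = true) ∧
    ∀ i, crossChk (xiMap (flipSign (support₂ (qrWord 1)) (xi8 i))) = true := by
  decide +kernel

/-- The points reached from `r` in `k` steps. -/
def reachSet (L : List (List ℕ)) (r : GolayPt) : ℕ → Finset GolayPt
  | 0 => {r}
  | k + 1 => L.foldl (fun S l => S ∪ (reachSet L r k).image (Golay.listFun l)) (reachSet L r k)

theorem const_of_reach {β : Type*} {f : GolayPt → β} {L : List (List ℕ)} {r : GolayPt}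
    (h : ∀ l ∈ L, ∀ i, f (Golay.listFun l i) = f i) :
    ∀ k, ∀ i ∈ reachSet L r k, f i = f r := by
  intro k
  induction k with
  | zero => intro i hi; rw [Finset.mem_singleton.1 hi]
  | succ k ih =>
    have key : ∀ (M : List (List ℕ)), (∀ l ∈ M, l ∈ L) → ∀ S : Finset GolayPt,
        (∀ i ∈ S, f i = f r) →
        ∀ i ∈ M.foldl (fun S l => S ∪ (reachSet L r k).image (Golay.listFun l)) S, f i = f r := by
      intro M
      induction M with
      | nil => intro _ S hS; exact hS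
      | cons l M ihM =>
        intro hM S hS
        refine ihM (fun l' hl' => hM l' (List.mem_cons_of_mem _ hl')) _ fun i hi => ?_
        rcases Finset.mem_union.1 hi with hi | hi
        · exact hS i hi
        · obtain ⟨j, hj, rfl⟩ := Finset.mem_image.1 hi
          rw [h l (hM l List.mem_cons_self) j]
          exact ih j hj
    exact key L (fun _ hl => hl) _ ih

theorem sextet_reach :
    (∀ i, i ≠ none → tetId i = 0 → i ∈ reachSet sextFix (some 1) 4) ∧
    (∀ i, tetId i ≠ 0 → i ∈ reachSet sextFix (some 3) 8) ∧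
    (∀ i, i ∈ reachSet sextMove none 10) := by
  decide +kernel

/-- The quadruples giving the vectors of squared length 64 fixed by the doubling. -/
def fixList : List (ℤ × ℤ × ℤ × ℤ) :=
  [(-8, 0, 0, 0), (-4, -2, 2, 0), (-4, 2, -2, 0), (-2, -4, 0, 2), (-2, 4, 0, 2), (0, -8, 0, 0),
    (0, 8, 0, 0), (2, -4, 0, -2), (2, 4, 0, -2), (4, -2, 2, 0), (4, 2, -2, 0), (8, 0, 0, 0)]

/-- The scalar product of two such vectors. -/
def quadDot (p p' : ℤ × ℤ × ℤ × ℤ) : ℤ :=
  p.1 * p'.1 + p.2.1 * p'.2.1 + 11 * p.2.2.1 * p'.2.2.1 + 11 * p.2.2.2 * p'.2.2.2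

theorem fix_cases : ∀ a ∈ Finset.Icc (-8 : ℤ) 8, ∀ b ∈ Finset.Icc (-8 : ℤ) 8,
    ∀ q ∈ Finset.Icc (-2 : ℤ) 2, ∀ r ∈ Finset.Icc (-2 : ℤ) 2,
    a ^ 2 + b ^ 2 + 11 * q ^ 2 + 11 * r ^ 2 = 64 → leechChk (dblVec a b q r) = true →
      (a, b, q, r) ∈ fixList := by
  decide +kernel

/-- No five of these vectors form a regular pentagon. -/
theorem fix_pentagon : ∀ y0 ∈ fixList, ∀ y1 ∈ fixList, ∀ y2 ∈ fixList,
    quadDot y0 y1 = quadDot y1 y2 → ∀ y3 ∈ fixList,
    quadDot y2 y3 = quadDot y1 y2 → quadDot y0 y2 = quadDot y1 y3 → ∀ y4 ∈ fixList,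
    quadDot y3 y4 = quadDot y1 y2 → quadDot y4 y0 = quadDot y1 y2 →
    quadDot y2 y4 = quadDot y1 y3 → quadDot y3 y0 = quadDot y1 y3 →
      y0 = y1 := by
  decide +kernel

theorem fix_small : ∀ p ∈ fixList,
    (p.2.1 = p.2.2.1 ∨ p.2.1 = -p.2.2.1) → p.1 ≠ 0 := by
  decide +kernel

theorem fix_eq : ∀ p ∈ fixList, p.2.1 = p.2.2.1 → p ∈ [(8, 0, 0, 0), ((-8 : ℤ), (0 : ℤ), (0 : ℤ), (0 : ℤ))] := by
  decide +kernel

theorem fix_pair : ∀ p ∈ fixList, (p.2.2.1 = p.2.2.2 ∨ p.2.2.1 = -p.2.2.2) →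
    p ∈ [(8, 0, 0, 0), (-8, 0, 0, 0), ((0 : ℤ), (8 : ℤ), (0 : ℤ), (0 : ℤ)), (0, -8, 0, 0)] := by
  decide +kernel

theorem fix_special : dblVec (8 : ℤ) 0 0 0 = vec8 none ∧ dblVec (-8 : ℤ) 0 0 0 = -vec8 none ∧
    dblVec (0 : ℤ) 8 0 0 = vec8 (some 0) ∧ dblVec (0 : ℤ) (-8) 0 0 = -vec8 (some 0) := by
  decide +kernel

/-- An odd vector of squared length 64 in the orbit of `8 e∞`. -/
def oddVec : GolayPt → ℤ :=
  ofList [3, 1, 5, -1, 1, 1, -1, 1, 1, 1, 1, 1, 1, -1, 1, -1, -1, 1, -1, 1, 1, 1, -1, -3]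

theorem oddVec_chain :
    (∀ i, oddVec i = xiMap (fun j => xiMap (fun k => xiMap (vec8 none) (Golay.translate.symm k))
      (Golay.translate.symm j)) i) ∧
    sqNorm oddVec = 64 ∧ ∀ i, oddVec i ≠ 0 := by
  decide +kernel

/-- The permutations giving the different shapes of the odd vector. -/
noncomputable def shapePerm (p : Fin 5 × ZMod 23) : Equiv.Perm GolayPt :=
  ![1, projInv, cubeTwist, projInv * cubeTwist, projInv * (Golay.translate * projInv)] p.1 *
    Golay.translate ^ p.2.val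

theorem shapePerm_distinct : (List.Nodup
    ((List.range 115).map fun n => (List.range 24).map fun i =>
      |oddVec (shapePerm (⟨n / 23 % 5, Nat.mod_lt _ (by norm_num)⟩, (n : ZMod 23))
        (Golay.ptN i))|)) := by
  decide +kernel

end Cfsg.Agent.Lib.Leech
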