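import Cfsg.Agent.Lib.Leech.RigidCo1Data
import Cfsg.Agent.Lib.Leech.SimplePairs

/-!
Elements of `Co0` commuting up to sign with given monomial elements, and the subgroup generated by
the monomial elements and `xiCo`.
-/

set_option autoImplicit false

namespace Cfsg.Agent.Lib.Leech

open Cfsg
open Cfsg.Agent.Lib
open scoped Pointwise

/-- The projection on the quotient by the centre. -/
noncomputable abbrev quotC : Co0 →* Co0 ⧸ Subgroup.center Co0 :=
  QuotientGroup.mk' (Subgroup.center Co0)

/-- Commuting up to sign. -/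
def SignComm (g m : Co0) : Prop := g * m = m * g ∨ g * m = negCo * (m * g)

theorem quotC_negCo : quotC negCo = 1 := (QuotientGroup.eq_one_iff _).2 negCo_mem_center

theorem quotC_neg_mul (g : Co0) : quotC (negCo * g) = quotC g := by
  rw [map_mul, quotC_negCo, one_mul]

theorem signComm_of_quot {g m : Co0} (h : Commute (quotC g) (quotC m)) : SignComm g m :=
  eq_or_eq_neg (by rw [map_mul, map_mul]; exact h.eq)

theorem negCo_comm (g : Co0) : g * negCo = negCo * g :=
  Subgroup.mem_center_iff.1 negCo_mem_center g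

theorem signComm_neg {g m : Co0} (h : SignComm g m) : SignComm (negCo * g) m := by
  rcases h with e | e
  · left
    rw [mul_assoc, e, ← mul_assoc, ← negCo_comm m, mul_assoc]
  · right
    rw [mul_assoc, e]
    simp only [← mul_assoc]
    rw [mul_assoc negCo m negCo, negCo_comm m, ← mul_assoc]

/-- The element of a listed permutation. -/
noncomputable def listM24 {l : List ℕ} (h : Golay.inM24 l = true) : M24 :=
  ⟨Golay.toPerm l, Golay.toPerm_mem_M24 h⟩

theorem listM24_apply {l : List ℕ} (h : Golay.inM24 l = true) (i : GolayPt) :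
    (listM24 h).1 i = Golay.listFun l i := Golay.toPerm_apply (Golay.inM24.valid h) i

theorem monoHom_inv_smul (ρ : M24) (y : leechLattice) (i : GolayPt) :
    ((monoHom ρ⁻¹ • y : leechLattice) : GolayPt → ℤ) i = (y : GolayPt → ℤ) (ρ.1 i) := by
  rw [monoHom_smul]; rfl

/-- The image of `8 e∞` changes at most by a common sign. -/
theorem image_sign {g : Co0} {ρ : M24} (hρ : ρ.1 none = none) (h : SignComm g (monoHom ρ⁻¹)) :
    (∀ i, ((g • pt8 none : leechLattice) : GolayPt → ℤ) (ρ.1 i) =
        ((g • pt8 none : leechLattice) : GolayPt → ℤ) i) ∨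
      ∀ i, ((g • pt8 none : leechLattice) : GolayPt → ℤ) (ρ.1 i) =
        -((g • pt8 none : leechLattice) : GolayPt → ℤ) i := by
  have hfix : monoHom ρ⁻¹ • pt8 none = pt8 none := by
    refine monoHom_fix _ ?_
    show ρ.1.symm none = none
    rw [Equiv.symm_apply_eq, hρ]
  rcases h with e | e
  · left
    intro i
    have := congrFun (congrArg Subtype.val (congrArg (· • pt8 none) e)) i
    simp only [mul_smul, hfix] at this
    rw [monoHom_inv_smul] at this
    exact this.symm
  · right
    intro i
    have := congrFun (congrArg Subtype.val (congrArg (· • pt8 none) e)) i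
    simp only [mul_smul, hfix, negCo_smul, AddSubgroup.coe_neg, Pi.neg_apply] at this
    rw [monoHom_inv_smul] at this
    omega

theorem sqNorm_image (g : Co0) (i : GolayPt) :
    sqNorm ((g • pt8 i : leechLattice) : GolayPt → ℤ) = 64 :=
  (sqNorm_smul _ _).trans (sqNorm_vec8 i)

/-! ### Vectors fixed by the doubling -/

theorem fixed_mem_fixList {y : leechLattice}
    (h : ∀ i, (y : GolayPt → ℤ) (doublePerm i) = (y : GolayPt → ℤ) i)
    (hn : sqNorm (y : GolayPt → ℤ) = 64) :
    ∃ p ∈ fixList, (y : GolayPt → ℤ) = dblVec p.1 p.2.1 p.2.2.1 p.2.2.2 := by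
  have he := dblVec_eq h
  have hc := leechChk_complete y.2
  rw [he] at hc hn
  rw [sqNorm_dblVec] at hn
  set a := (y : GolayPt → ℤ) none
  set b := (y : GolayPt → ℤ) (some 0)
  set q := (y : GolayPt → ℤ) (some 1)
  set r := (y : GolayPt → ℤ) (some (-1))
  refine ⟨(a, b, q, r), fix_cases a ?_ b ?_ q ?_ r ?_ hn hc, he⟩ <;> rw [Finset.mem_Icc] <;>
    constructor <;> nlinarith [sq_nonneg a, sq_nonneg b, sq_nonneg q, sq_nonneg r]

theorem dblVec_coords {β : Type*} (a b q r : β) :
    dblVec a b q r none = a ∧ dblVec a b q r (some 0) = b ∧ dblVec a b q r (some 1) = q ∧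
      dblVec a b q r (some (-1)) = r := by
  refine ⟨rfl, ?_, ?_, ?_⟩
  · show (if (0 : ZMod 23) = 0 then b else if (0 : ZMod 23) ^ 11 = 1 then q else r) = b
    rw [if_pos rfl]
  · show (if (1 : ZMod 23) = 0 then b else if (1 : ZMod 23) ^ 11 = 1 then q else r) = q
    rw [if_neg (by decide), if_pos (by decide)]
  · show (if (-1 : ZMod 23) = 0 then b else if (-1 : ZMod 23) ^ 11 = 1 then q else r) = r
    rw [if_neg (by decide), if_neg (by decide)]

theorem dot_quad (p p' : ℤ × ℤ × ℤ × ℤ) :
    dotInt (dblVec p.1 p.2.1 p.2.2.1 p.2.2.2) (dblVec p'.1 p'.2.1 p'.2.2.1 p'.2.2.2) =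
      quadDot p p' := by
  have e : ∀ x : ZMod 23,
      (if x = 0 then p.2.1 else if x ^ 11 = 1 then p.2.2.1 else p.2.2.2) *
        (if x = 0 then p'.2.1 else if x ^ 11 = 1 then p'.2.2.1 else p'.2.2.2) =
      (if x = 0 then p.2.1 * p'.2.1 else 0) +
        (if x ≠ 0 ∧ x ^ 11 = 1 then p.2.2.1 * p'.2.2.1 else 0) +
        (if x ≠ 0 ∧ x ^ 11 ≠ 1 then p.2.2.2 * p'.2.2.2 else 0) := by
    intro x
    by_cases h : x = 0
    · simp [h]
    · by_cases h' : x ^ 11 = 1 <;> simp [h, h']
  simp only [dotInt]
  rw [sum_point]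
  simp only [dblVec]
  rw [Finset.sum_congr rfl fun x _ => e x, Finset.sum_add_distrib, Finset.sum_add_distrib,
    Finset.sum_ite_eq' Finset.univ (0 : ZMod 23) fun _ => p.2.1 * p'.2.1,
    if_pos (Finset.mem_univ _), ← Finset.sum_filter, ← Finset.sum_filter, Finset.sum_const,
    Finset.sum_const, dblVec_sums.1, dblVec_sums.2, quadDot]
  ring

/-- An element of order 5 normalising the doubling is a permutation fixing `∞`. -/
theorem normalize_five {g : Co0} {n : ℤ} (h : monoHom db11 * g = g * monoHom db11 ^ n)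
    (h5 : g ^ 5 = 1) : ∃ τ : M24, τ.1 none = none ∧ g = monoHom τ := by
  have hfixed : ∀ y : leechLattice, monoHom db11 • y = y → monoHom db11 • (g • y) = g • y := by
    intro y hy
    rw [← mul_smul, h, mul_smul,
      show monoHom db11 ^ n • y = y from
        Subgroup.zpow_mem (MulAction.stabilizer Co0 y) hy n]
  have hkeep : ∀ y : leechLattice, monoHom db11 • y = y → sqNorm (y : GolayPt → ℤ) = 64 →
      g • y = y := by
    intro y hy hn
    have hk : ∀ k : ℕ, monoHom db11 • (g ^ k • y) = g ^ k • y := by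
      intro k
      induction k with
      | zero => simpa using hy
      | succ k ih => rw [pow_succ', mul_smul]; exact hfixed _ ih
    choose p hp hpy using fun k : ℕ => fixed_mem_fixList (apply_of_fixed (hk k))
      ((sqNorm_smul _ _).trans hn)
    have hdot : ∀ i j : ℕ, quadDot (p i) (p j) = quadDot (p (i + 1)) (p (j + 1)) := by
      intro i j
      rw [← dot_quad, ← dot_quad, ← hpy, ← hpy, ← hpy, ← hpy, pow_succ' g i, pow_succ' g j,
        mul_smul, mul_smul, dotInt_smul]
    have h50 : p 5 = p 0 := by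
      have e : ((g ^ 5 • y : leechLattice) : GolayPt → ℤ) = ((g ^ 0 • y : leechLattice) : GolayPt → ℤ) := by
        rw [h5, pow_zero]
      rw [hpy, hpy] at e
      obtain ⟨a1, a2, a3, a4⟩ := dblVec_coords (p 5).1 (p 5).2.1 (p 5).2.2.1 (p 5).2.2.2
      obtain ⟨b1, b2, b3, b4⟩ := dblVec_coords (p 0).1 (p 0).2.1 (p 0).2.2.1 (p 0).2.2.2
      rw [e, b1] at a1
      rw [e, b2] at a2
      rw [e, b3] at a3
      rw [e, b4] at a4
      exact Prod.ext a1.symm (Prod.ext a2.symm (Prod.ext a3.symm a4.symm))
    have e01 := hdot 0 1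
    have e12 := hdot 1 2
    have e23 := hdot 2 3
    have e34 := hdot 3 4
    have e02 := hdot 0 2
    have e13 := hdot 1 3
    have e24 := hdot 2 4
    simp only [Nat.reduceAdd] at e01 e12 e23 e34 e02 e13 e24
    rw [h50] at e34 e24
    have key := fix_pentagon _ (hp 0) _ (hp 1) _ (hp 2) e01 _ (hp 3) (by omega) e02 _ (hp 4)
      (by omega) (by omega) (by omega) (by omega)
    have : ((g • y : leechLattice) : GolayPt → ℤ) = (y : GolayPt → ℤ) := by
      have h1 := hpy 1
      have h0 := hpy 0
      rw [pow_one] at h1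
      rw [pow_zero, one_smul] at h0
      rw [h1, h0, key]
    exact Subtype.ext this
  have hn8 : ∀ i, doublePerm i = i → monoHom db11 • pt8 i = pt8 i := by
    intro i hi
    refine Subtype.ext ((monoHom_smul _ _).trans (funext fun j => ?_))
    show vec8 i (doublePerm.symm j) = vec8 i j
    by_cases hj : j = i
    · rw [hj, doublePerm.symm_apply_eq.2 hi.symm]
    · have : doublePerm.symm j ≠ i := fun e => hj (by rw [← hi, ← e, Equiv.apply_symm_apply])
      simp [vec8, hj, this]
  have e0 := hkeep _ (hn8 none double_facts.2.2.1) (sqNorm_vec8 none)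
  have e1 := hkeep _ (hn8 (some 0) double_facts.2.2.2.1) (sqNorm_vec8 (some 0))
  obtain ⟨τ, hτ, w, hw', rfl, h1, h2⟩ := exists_mono_of_fix e0
  have e1' : signedPerm τ (support₂ w) (vec8 (some 0)) = vec8 (some 0) :=
    congrArg Subtype.val e1
  rw [signedPerm_vec8] at e1'
  have hτ0 : τ (some 0) = some 0 ∧ w (some 0) = 0 := by
    split at e1' <;> rename_i hin
    · exfalso
      have := congrFun e1' (some 0)
      simp only [vec8, Pi.neg_apply, Pi.single_apply] at this
      split at this <;> simp at this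
    · have e : τ (some 0) = some 0 := by
        by_contra hne
        have := congrFun e1' (some 0)
        simp [vec8, Pi.single_apply, Ne.symm hne] at this
      rw [e, support₂_iff] at hin
      exact ⟨e, (zmod2_cases _).resolve_right hin⟩
  have hw0 : w = 0 := word_zero_of_double hw' h2 hτ0.2 fun i => by
    simpa [db11] using ((word_invariant h) (doublePerm i)).symm
  subst hw0
  exact ⟨⟨τ, hτ⟩, h1, rfl⟩

/-- The image of `8 e∞` is fixed by the doubling. -/
theorem image_double {g : Co0} (h : SignComm g (monoHom db11⁻¹)) (i : GolayPt) :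
    ((g • pt8 none : leechLattice) : GolayPt → ℤ) (doublePerm i) =
      ((g • pt8 none : leechLattice) : GolayPt → ℤ) i := by
  have hn := sqNorm_image g none
  set y := ((g • pt8 none : leechLattice) : GolayPt → ℤ) with hy
  refine (image_sign (ρ := db11) double_facts.2.2.1 h).elim (fun e => e i) fun e => ?_
  exfalso
  have hk : ∀ (k : ℕ) (i : GolayPt), y ((doublePerm ^ k) i) = (-1) ^ k * y i := by
    intro k
    induction k with
    | zero => intro i; simp
    | succ k ih =>
      intro i
      rw [pow_succ', Equiv.Perm.mul_apply]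
      show y (doublePerm _) = _
      rw [show y (doublePerm ((doublePerm ^ k) i)) = -y ((doublePerm ^ k) i) from e _, ih]
      ring
  have hz : ∀ i, y i = 0 := fun i => by
    have := hk 11 i
    rw [double_facts.1, Equiv.Perm.one_apply] at this
    omega
  simp [sqNorm, hz] at hn

/-! ### Centralisers -/

theorem negCo_eq_mono : negCo = monoCo 1 (one_mem _) 1 one_mem_code := co0_ext fun v => by
  rw [monoCo_smul, negCo_smul]
  funext i
  simp [signedPerm, support₂_iff, Equiv.Perm.one_def]

/-- Normalise the sign. -/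
theorem exists_fix_lift {g : Co0} {i : GolayPt} (h : g • pt8 i = pt8 i ∨ g • pt8 i = -pt8 i) :
    ∃ g', quotC g' = quotC g ∧ (g' = g ∨ g' = negCo * g) ∧ g' • pt8 i = pt8 i := by
  rcases h with e | e
  · exact ⟨g, rfl, Or.inl rfl, e⟩
  · exact ⟨_, quotC_neg_mul g, Or.inr rfl, by rw [mul_smul, e, negCo_smul, neg_neg]⟩

theorem mono_commute {τ : Equiv.Perm GolayPt} {hτ : τ ∈ M24} {w : GolayPt → ZMod 2}
    {hw' : w ∈ golayCode} (h1 : τ none = none) (h2 : w none = 0) {ρ : M24}
    (hρ : ρ.1 none = none) (h : SignComm (monoCo τ hτ w hw') (monoHom ρ⁻¹)) :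
    (∀ i, τ (ρ.1 i) = ρ.1 (τ i)) ∧ ∀ i, w (ρ.1 i) = w i := by
  have hg : monoCo τ hτ w hw' • pt8 none = pt8 none := mono_fix h1 h2
  have hm : monoHom ρ⁻¹ • pt8 none = pt8 none := by
    refine monoHom_fix _ ?_
    show ρ.1.symm none = none
    rw [Equiv.symm_apply_eq, hρ]
  rcases h with e | e
  · change _ * monoCo (ρ⁻¹ : M24).1 (ρ⁻¹ : M24).2 0 (zero_mem _) =
      monoCo (ρ⁻¹ : M24).1 (ρ⁻¹ : M24).2 0 (zero_mem _) * _ at e
    rw [monoCo_mul, monoCo_mul] at e
    obtain ⟨ep, ew⟩ := monoCo_injective e
    constructor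
    · intro i
      have := DFunLike.congr_fun ep (ρ.1 i)
      simp only [Equiv.Perm.mul_apply, InvMemClass.coe_inv, Equiv.Perm.coe_inv, Equiv.symm_apply_apply] at this
      rw [this, Equiv.apply_symm_apply]
    · intro i
      have := congrFun ew i
      simp only [Pi.add_apply, Pi.zero_apply, add_zero, zero_add] at this
      exact this.symm
  · exfalso
    have := congrArg (· • pt8 none) e
    simp only [mul_smul, hg, hm, negCo_smul] at this
    have := congrFun (congrArg Subtype.val this) none
    simp [pt8, vec8] at this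

theorem double_pow_centralizer : ∀ k : Fin 11,
    ((∀ i, (doublePerm ^ k.val) (Golay.listFun dodList i) =
        Golay.listFun dodList ((doublePerm ^ k.val) i)) → k = 0) ∧
      ((∀ i, (doublePerm ^ k.val) (Golay.listFun pairList i) =
        Golay.listFun pairList ((doublePerm ^ k.val) i)) → k = 0) := by
  decide +kernel

theorem eq_one_of_commute {τ : Equiv.Perm GolayPt} (hτ : τ ∈ M24) (h0 : τ none = none)
    (hd : ∀ i, τ (doublePerm i) = doublePerm (τ i)) {l : List ℕ}
    (hl : l = dodList ∨ l = pairList) (hc : ∀ i, τ (Golay.listFun l i) = Golay.listFun l (τ i)) :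
    τ = 1 := by
  have hmem := commute_db23 (τ := ⟨τ, hτ, h0⟩)
    (Subtype.ext (Equiv.ext fun i => (hd i).symm))
  obtain ⟨k, hk, e⟩ := (isOfFinOrder_of_finite db23).mem_powers_iff_mem_range_orderOf.1
    ((mem_powers_iff_mem_zpowers (x := db23)).2 hmem) |> Finset.mem_image.1
  rw [orderOf_db23, Finset.mem_range] at hk
  have e' : doublePerm ^ k = τ := by
    have := congrArg Subtype.val e
    rwa [SubgroupClass.coe_pow] at this
  obtain ⟨hd1, hd2⟩ := double_pow_centralizer ⟨k, hk⟩
  have hk0 : (⟨k, hk⟩ : Fin 11) = 0 := by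
    rcases hl with rfl | rfl
    · exact hd1 (by rw [e']; exact hc)
    · exact hd2 (by rw [e']; exact hc)
  rw [← e', show k = 0 from congrArg Fin.val hk0, pow_zero]

theorem word_cases : (∀ b r : ZMod 2, codeChk (dblVec 0 b b r) = true →
      dblVec 0 b b r = 0 ∨ dblVec 0 b b r = qrWord 0) ∧
    (∀ b q : ZMod 2, codeChk (dblVec 0 b q q) = true → dblVec 0 b q q = 0) ∧
    ∀ i, qrWord 0 (doublePerm i) = qrWord 0 i := by
  decide +kernel

theorem qr_mem (t : ZMod 23) : qrWord t ∈ golayCode :=
  Submodule.subset_span (Set.mem_union_left _ ⟨t, rfl⟩)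

/-- Commuting up to sign with the stabiliser of `∞` and of a dodecad word. -/
theorem centralize_dodecad {g : Co0}
    (H : ∀ ρ : M24, ρ.1 none = none → (∀ i, qrWord 0 (ρ.1 i) = qrWord 0 i) →
      SignComm g (monoHom ρ⁻¹)) :
    quotC g = 1 ∨ quotC g = quotC (flipCo (qrWord 0) (qr_mem 0)) := by
  have hdb := H db11 double_facts.2.2.1 word_cases.2.2
  have hl := lists_inM24.2.2.1
  obtain ⟨hl0, hl1, hlc, -⟩ := lists_facts
  have hτ0 := H (listM24 hl) (by rw [listM24_apply]; exact hl0)
    (fun i => by rw [listM24_apply]; exact hlc i)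
  obtain ⟨p, hp, hy⟩ := fixed_mem_fixList (image_double hdb) (sqNorm_image g none)
  obtain ⟨ca, cb, cq, -⟩ := dblVec_coords p.1 p.2.1 p.2.2.1 p.2.2.2
  rw [← hy] at ca cb cq
  have h8 : g • pt8 none = pt8 none ∨ g • pt8 none = -pt8 none := by
    have hsame : p.2.1 = p.2.2.1 := by
      rcases image_sign (by rw [listM24_apply]; exact hl0) hτ0 with e | e
      · have := e (some 0)
        rw [listM24_apply, hl1, cq, cb] at this
        exact this.symm
      · exfalso
        have h0 := e none
        have h1 := e (some 0)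
        rw [listM24_apply, hl0, ca] at h0
        rw [listM24_apply, hl1, cq, cb] at h1
        exact fix_small p hp (Or.inr (by omega)) (by omega)
    have h2 := fix_eq p hp hsame
    simp only [List.mem_cons, List.not_mem_nil, or_false] at h2
    rcases h2 with rfl | rfl
    · exact Or.inl (Subtype.ext (hy.trans fix_special.1))
    · exact Or.inr (Subtype.ext (hy.trans fix_special.2.1))
  obtain ⟨g', hq, hg', hfix⟩ := exists_fix_lift h8
  have H' : ∀ ρ : M24, ρ.1 none = none → (∀ i, qrWord 0 (ρ.1 i) = qrWord 0 i) →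
      SignComm g' (monoHom ρ⁻¹) := fun ρ a b => by
    rcases hg' with rfl | rfl
    · exact H ρ a b
    · exact signComm_neg (H ρ a b)
  obtain ⟨τ, hτ, w, hw', rfl, h1, h2⟩ := exists_mono_of_fix hfix
  obtain ⟨d1, d2⟩ := mono_commute h1 h2 double_facts.2.2.1 (H' db11 double_facts.2.2.1 word_cases.2.2)
  obtain ⟨t1, t2⟩ := mono_commute h1 h2 (by rw [listM24_apply]; exact hl0)
    (H' (listM24 hl) (by rw [listM24_apply]; exact hl0) (fun i => by rw [listM24_apply]; exact hlc i))
  have hτ1 : τ = 1 := eq_one_of_commute hτ h1 d1 (Or.inl rfl) fun i => by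
    simpa [listM24_apply] using t1 i
  subst hτ1
  have he := dblVec_eq d2
  have hbq : w (some 1) = w (some 0) := by simpa [listM24_apply, hl1] using t2 (some 0)
  rw [h2, hbq] at he
  have hc := codeChk_complete hw'
  rw [he] at hc
  rw [← hq]
  rcases word_cases.1 _ _ hc with e | e <;> rw [← he] at e <;> subst e
  · exact Or.inl (by rw [show monoCo 1 hτ 0 hw' = 1 from map_one monoHom, map_one])
  · exact Or.inr rfl

/-- Commuting up to sign with the stabiliser of `∞` and 0. -/
theorem centralize_pair {g : Co0}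
    (H : ∀ ρ : M24, ρ.1 none = none → ρ.1 (some 0) = some 0 → SignComm g (monoHom ρ⁻¹)) :
    quotC g = 1 ∨ g • pt8 none = pt8 (some 0) ∨ g • pt8 none = -pt8 (some 0) := by
  have hdb := H db11 double_facts.2.2.1 double_facts.2.2.2.1
  have hl := lists_inM24.2.2.2
  obtain ⟨-, -, -, hl0, hl1, hl2, -⟩ := lists_facts
  have hρ0 : (listM24 hl).1 none = none := by rw [listM24_apply]; exact hl0
  have hρ1 : (listM24 hl).1 (some 0) = some 0 := by rw [listM24_apply]; exact hl1
  obtain ⟨p, hp, hy⟩ := fixed_mem_fixList (image_double hdb) (sqNorm_image g none)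
  obtain ⟨-, -, cq, cr⟩ := dblVec_coords p.1 p.2.1 p.2.2.1 p.2.2.2
  rw [← hy] at cq cr
  have hqr : p.2.2.1 = p.2.2.2 ∨ p.2.2.1 = -p.2.2.2 := by
    rcases image_sign hρ0 (H _ hρ0 hρ1) with e | e <;> have h1 := e (some 1) <;>
      rw [listM24_apply, hl2, cq, cr] at h1 <;> omega
  have h4 := fix_pair p hp hqr
  simp only [List.mem_cons, List.not_mem_nil, or_false] at h4
  obtain ⟨s1, s2, s3, s4⟩ := fix_special
  rcases h4 with rfl | rfl | rfl | rfl
  rotate_left 2
  · exact Or.inr (Or.inl (Subtype.ext (hy.trans s3)))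
  · exact Or.inr (Or.inr (Subtype.ext (hy.trans s4)))
  all_goals
    left
    obtain ⟨g', hq, hg', hfix⟩ := exists_fix_lift (g := g) (i := none)
      (by first
        | exact Or.inl (Subtype.ext (hy.trans s1))
        | exact Or.inr (Subtype.ext (hy.trans s2)))
    have H' : ∀ ρ : M24, ρ.1 none = none → ρ.1 (some 0) = some 0 →
        SignComm g' (monoHom ρ⁻¹) := fun ρ a b => by
      rcases hg' with rfl | rfl
      · exact H ρ a b
      · exact signComm_neg (H ρ a b)
    obtain ⟨τ, hτ, w, hw', rfl, h1, h2⟩ := exists_mono_of_fix hfix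
    obtain ⟨d1, d2⟩ := mono_commute h1 h2 double_facts.2.2.1
      (H' db11 double_facts.2.2.1 double_facts.2.2.2.1)
    obtain ⟨t1, t2⟩ := mono_commute h1 h2 hρ0 (H' _ hρ0 hρ1)
    have hτ1 : τ = 1 := eq_one_of_commute hτ h1 d1 (Or.inr rfl) fun i => by
      simpa [listM24_apply] using t1 i
    subst hτ1
    have he := dblVec_eq d2
    have hqq : w (some (-1)) = w (some 1) := by simpa [listM24_apply, hl2] using t2 (some 1)
    rw [h2, hqq] at he
    have hc := codeChk_complete hw'
    rw [he] at hc
    rw [← hq]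
    have e := word_cases.2.1 _ _ hc
    rw [← he] at e
    subst e
    rw [show monoCo 1 hτ 0 hw' = 1 from map_one monoHom, map_one]

/-! ### The sextet -/

theorem smul_pt8_of_perm (ρ : M24) (i : GolayPt) : monoHom ρ • pt8 i = pt8 (ρ.1 i) := by
  refine Subtype.ext ((monoHom_smul _ _).trans (funext fun j => ?_))
  show vec8 i (ρ.1.symm j) = vec8 (ρ.1 i) j
  by_cases h : j = ρ.1 i
  · subst h; simp [vec8]
  · have : ρ.1.symm j ≠ i := fun e => h (by rw [← e, Equiv.apply_symm_apply])
    simp [vec8, h, this]

theorem sextet_word_facts : qrWord 1 none = 0 ∧ qrWord 1 (some 1) = 1 := by decide +kernel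

theorem shape_sum (A B C : ℤ) :
    ∑ i : GolayPt, (if i = none then A else if tetId i = 0 then B else C) ^ 2 =
      A ^ 2 + 3 * B ^ 2 + 20 * C ^ 2 := by
  have e : ∀ i : GolayPt, (if i = none then A else if tetId i = 0 then B else C) ^ 2 =
      (if i = none then A ^ 2 else 0) + (if i ≠ none ∧ tetId i = 0 then B ^ 2 else 0) +
        (if i ≠ none ∧ tetId i ≠ 0 then C ^ 2 else 0) := by
    intro i
    by_cases h : i = none
    · simp [h]
    · by_cases h' : tetId i = 0 <;> simp [h, h']
  rw [Finset.sum_congr rfl fun i _ => e i, Finset.sum_add_distrib, Finset.sum_add_distrib,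
    Finset.sum_ite_eq' Finset.univ (none : GolayPt) fun _ => A ^ 2, if_pos (Finset.mem_univ _),
    ← Finset.sum_filter, ← Finset.sum_filter, Finset.sum_const, Finset.sum_const,
    show (Finset.univ.filter fun i : GolayPt => i ≠ none ∧ tetId i = 0).card = 3 by decide +kernel,
    show (Finset.univ.filter fun i : GolayPt => i ≠ none ∧ tetId i ≠ 0).card = 20 by decide +kernel]
  simp only [nsmul_eq_mul, Nat.cast_ofNat]

set_option maxHeartbeats 1600000 in
/-- Commuting up to sign with the monomial elements of the sextet. -/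
theorem centralize_sextet {g : Co0}
    (H : ∀ l ∈ sextFix ++ sextMove, ∀ h : Golay.inM24 l = true,
      SignComm g (monoHom (listM24 h)⁻¹))
    (Hw : SignComm g (flipCo (qrWord 1) (qr_mem 1))) : quotC g = 1 := by
  obtain ⟨hA, hB, -⟩ := lists_inM24
  obtain ⟨-, -, -, -, -, -, hAfix, hBfix⟩ := lists_facts
  set y := ((g • pt8 none : leechLattice) : GolayPt → ℤ) with hydef
  have habs : ∀ l ∈ sextFix, ∀ i, |y (Golay.listFun l i)| = |y i| := by
    intro l hl i
    rw [← listM24_apply (hA l hl)]
    rcases image_sign (by rw [listM24_apply]; exact hAfix l hl)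
      (H l (List.mem_append_left _ hl) (hA l hl)) with e | e
    · rw [hydef, e i]
    · rw [hydef, e i, abs_neg]
  have hshape : ∀ i, |y i| = if i = none then |y none| else if tetId i = 0 then |y (some 1)|
      else |y (some 3)| := by
    intro i
    by_cases h : i = none
    · rw [if_pos h, h]
    · rw [if_neg h]
      by_cases h' : tetId i = 0
      · rw [if_pos h']
        exact const_of_reach (f := fun i => |y i|) (r := some 1) (L := sextFix) habs 4 i (sextet_reach.1 i h h')
      · rw [if_neg h']
        exact const_of_reach (f := fun i => |y i|) (r := some 3) (L := sextFix) habs 8 i (sextet_reach.2.1 i h')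
  have hn : |y none| ^ 2 + 3 * |y (some 1)| ^ 2 + 20 * |y (some 3)| ^ 2 = 64 := by
    rw [← shape_sum, Finset.sum_congr rfl fun i _ => by rw [← hshape i, sq_abs]]
    exact sqNorm_image g none
  -- the sign change
  have hflip : y none ≠ 0 → y (some 1) = 0 := by
    intro h0
    obtain ⟨w0, w1⟩ := sextet_word_facts
    have hfl : flipCo (qrWord 1) (qr_mem 1) • pt8 none = pt8 none :=
      mono_fix (h1 := rfl) (h2 := w0)
    have hsm : ∀ i, ((flipCo (qrWord 1) (qr_mem 1) • g • pt8 none : leechLattice) : GolayPt → ℤ) i =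
        if i ∈ support₂ (qrWord 1) then -y i else y i := fun i => by
      rw [flipCo_smul]; rfl
    rcases Hw with e | e <;> have := congrArg Subtype.val (congrArg (· • pt8 none) e) <;>
      simp only [mul_smul, hfl, negCo_smul] at this
    · have := congrFun this (some 1)
      rw [hsm, if_pos (by simp [support₂_iff, w1]), ← hydef] at this
      omega
    · exfalso
      have := congrFun this none
      rw [AddSubgroup.coe_neg, Pi.neg_apply, hsm, if_neg (by simp [support₂_iff, w0]), ← hydef]
        at this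
      omega
  have hy8 : g • pt8 none = pt8 none ∨ g • pt8 none = -pt8 none := by
    have h1 := abs_nonneg (y none)
    have h2 := abs_nonneg (y (some 1))
    have h3 := abs_nonneg (y (some 3))
    have hC : |y (some 3)| ≤ 1 := by nlinarith
    have hB : |y (some 1)| ≤ 4 := by nlinarith
    have hA : |y none| ≤ 8 := by nlinarith
    have key : |y none| = 8 ∧ |y (some 1)| = 0 ∧ |y (some 3)| = 0 ∨
        |y none| = 4 ∧ |y (some 1)| = 4 := by
      generalize |y none| = A at *
      generalize |y (some 1)| = B at *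
      generalize |y (some 3)| = C at *
      interval_cases C <;> interval_cases B <;> interval_cases A <;> omega
    rcases key with ⟨kA, kB, kC⟩ | ⟨kA, kB⟩
    · have hz : ∀ i, i ≠ none → y i = 0 := fun i hi => abs_eq_zero.1 (by
        rw [hshape i, if_neg hi]; split <;> assumption)
      rcases (abs_eq (by norm_num : (0 : ℤ) ≤ 8)).1 kA with e | e
      · left
        refine Subtype.ext (funext fun i => ?_)
        show y i = vec8 none i
        by_cases hi : i = none
        · rw [hi, e]; simp [vec8]
        · rw [hz i hi]; simp [vec8, hi]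
      · right
        refine Subtype.ext (funext fun i => ?_)
        show y i = -vec8 none i
        by_cases hi : i = none
        · rw [hi, e]; simp [vec8]
        · rw [hz i hi]; simp [vec8, hi]
    · exfalso
      have := hflip (by intro h; rw [h] at kA; norm_num at kA)
      rw [this] at kB
      norm_num at kB
  have hall : ∀ i, g • pt8 i = pt8 i ∨ g • pt8 i = -pt8 i := by
    intro i
    suffices hinv : ∀ l ∈ sextMove, ∀ j,
        ((g • pt8 (Golay.listFun l j) = pt8 (Golay.listFun l j) ∨
          g • pt8 (Golay.listFun l j) = -pt8 (Golay.listFun l j)) ↔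
        (g • pt8 j = pt8 j ∨ g • pt8 j = -pt8 j)) by
      have key := const_of_reach (β := Prop) (r := none) (L := sextMove)
        (f := fun i => g • pt8 i = pt8 i ∨ g • pt8 i = -pt8 i)
        (fun l hl j => propext (hinv l hl j)) 10 i (sextet_reach.2.2 i)
      exact key.mpr hy8
    intro l hl j
    rw [← listM24_apply (hB l hl)]
    have hρH := H l (List.mem_append_right _ hl) (hB l hl)
    generalize listM24 (hB l hl) = ρ at hρH ⊢
    have hm : monoHom ρ⁻¹ • pt8 (ρ.1 j) = pt8 j := by
      rw [map_inv, inv_smul_eq_iff, smul_pt8_of_perm]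
    have hm' : monoHom ρ • pt8 j = pt8 (ρ.1 j) := smul_pt8_of_perm ρ j
    have hsgn : monoHom ρ⁻¹ • (g • pt8 (ρ.1 j)) = g • pt8 j ∨
        monoHom ρ⁻¹ • (g • pt8 (ρ.1 j)) = -(g • pt8 j) := by
      rcases hρH with e | e <;>
        have := congrArg (· • pt8 (ρ.1 j)) e <;>
        simp only [mul_smul, negCo_smul, hm] at this
      · exact Or.inl this.symm
      · exact Or.inr (neg_eq_iff_eq_neg.1 this.symm)
    rw [map_inv, inv_smul_eq_iff, inv_smul_eq_iff, smul_neg'] at hsgn
    constructor
    · intro h
      rcases h with a | a <;> rcases hsgn with b | b <;> rw [a] at b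
      · exact Or.inl ((smul_left_cancel_iff _).1 (b.symm.trans hm'.symm))
      · refine Or.inr ((smul_left_cancel_iff (monoHom ρ)).1 ?_)
        rw [smul_neg', hm', b, neg_neg]
      · refine Or.inr ((smul_left_cancel_iff (monoHom ρ)).1 ?_)
        rw [smul_neg', hm', b]
      · refine Or.inl ((smul_left_cancel_iff (monoHom ρ)).1 ?_)
        rw [hm', ← neg_inj, ← b]
    · intro h
      rcases h with a | a <;> rcases hsgn with b | b <;> rw [b, a] <;>
        simp only [smul_neg', hm', neg_neg, true_or, or_true]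
  obtain ⟨τ, hτ, w, hw', rfl⟩ := exists_mono (g := g) fun i => by
    rcases hall i with e | e <;> rw [e]
    · exact mem_stdCross_iff.2 ⟨i, Or.inl rfl⟩
    · exact mem_stdCross_iff.2 ⟨i, Or.inr rfl⟩
  have hτ1 : τ = 1 := Equiv.ext fun i => by
    rw [Equiv.Perm.one_apply]
    by_contra hne
    rcases hall i with e | e <;> have := congrFun (congrArg Subtype.val e) i <;>
      rw [monoCo_smul, show ((pt8 i : leechLattice) : GolayPt → ℤ) = vec8 i from rfl,
        signedPerm_vec8] at this <;> split at this <;>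
      simp [vec8, Ne.symm hne, pt8] at this
  subst hτ1
  have hwc : ∀ l ∈ sextMove, ∀ i, w (Golay.listFun l i) = w i := by
    intro l hl i
    obtain ⟨j, hj⟩ := hBfix l hl
    have h' := H l (List.mem_append_right _ hl) (hB l hl)
    have hne : ∀ k, (listM24 (hB l hl)).1 k = Golay.listFun l k := listM24_apply (hB l hl)
    set ρ := listM24 (hB l hl)
    rcases h' with e | e
    · change _ * monoCo (ρ⁻¹ : M24).1 (ρ⁻¹ : M24).2 0 (zero_mem _) =
        monoCo (ρ⁻¹ : M24).1 (ρ⁻¹ : M24).2 0 (zero_mem _) * _ at e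
      rw [monoCo_mul, monoCo_mul] at e
      have := congrFun (monoCo_injective e).2 i
      simp only [Pi.add_apply, Pi.zero_apply, add_zero, zero_add] at this
      rw [← hne]
      exact this.symm
    · exfalso
      rw [negCo_eq_mono] at e
      change _ * monoCo (ρ⁻¹ : M24).1 (ρ⁻¹ : M24).2 0 (zero_mem _) =
        _ * (monoCo (ρ⁻¹ : M24).1 (ρ⁻¹ : M24).2 0 (zero_mem _) * _) at e
      rw [monoCo_mul, monoCo_mul, monoCo_mul] at e
      have := congrFun (monoCo_injective e).2 j
      simp only [Pi.add_apply, Pi.zero_apply, Pi.one_apply, add_zero, zero_add] at this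
      have hj' : w (ρ.1 j) = w j := by rw [hne, hj]
      change w j = 1 + w (ρ.1 j) at this
      rw [hj'] at this
      rcases zmod2_cases (w j) with a | a <;> rw [a] at this <;> exact absurd this (by decide)
  have hconst : ∀ i, w i = w none := fun i =>
    const_of_reach (f := w) (r := none) (L := sextMove) hwc 10 i (sextet_reach.2.2 i)
  rcases zmod2_cases (w none) with a | a
  · obtain rfl : w = 0 := funext fun i => (hconst i).trans a
    rw [show monoCo 1 hτ 0 hw' = 1 from map_one monoHom, map_one]
  · obtain rfl : w = 1 := funext fun i => (hconst i).trans a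
    rw [← negCo_eq_mono, quotC_negCo]

/-! ### Generation -/

theorem shapePerm_mem (p : Fin 5 × ZMod 23) : shapePerm p ∈ M24 := by
  refine mul_mem ?_ (pow_mem Golay.translate_mem_M24 _)
  obtain ⟨k, a⟩ := p
  fin_cases k
  · exact one_mem _
  · exact Golay.projInv_mem_M24
  · exact Golay.cubeTwist_mem_M24
  · exact mul_mem Golay.projInv_mem_M24 Golay.cubeTwist_mem_M24
  · exact mul_mem Golay.projInv_mem_M24
      (mul_mem Golay.translate_mem_M24 Golay.projInv_mem_M24)

theorem shapePerm_injective {p p' : Fin 5 × ZMod 23}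
    (h : ∀ i, |oddVec (shapePerm p i)| = |oddVec (shapePerm p' i)|) : p = p' := by
  have code : ∀ p : Fin 5 × ZMod 23, ∃ n, n < 115 ∧
      ((⟨n / 23 % 5, Nat.mod_lt _ (by norm_num)⟩ : Fin 5), (n : ZMod 23)) = p := by
    rintro ⟨k, a⟩
    have := ZMod.val_lt a
    have := k.isLt
    refine ⟨23 * k.val + a.val, by omega, Prod.ext (Fin.ext ?_) ?_⟩
    · show (23 * k.val + a.val) / 23 % 5 = k.val
      omega
    · show ((23 * k.val + a.val : ℕ) : ZMod 23) = a
      rw [Nat.cast_add, Nat.cast_mul, ZMod.natCast_self, zero_mul, zero_add, ZMod.natCast_zmod_val]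
  obtain ⟨n, hn, rfl⟩ := code p
  obtain ⟨n', hn', rfl⟩ := code p'
  have := List.inj_on_of_nodup_map shapePerm_distinct (List.mem_range.2 hn) (List.mem_range.2 hn')
    (List.map_congr_left fun i _ => h (Golay.ptN i))
  subst this
  rfl

theorem index_eq_full : ∀ j < 38, 23 * j + 1 ∣ 8292375 → j = 0 := by decide +kernel

/-- The monomial elements and `xiCo` generate `Co0`. -/
theorem eq_top_of_mono_xi (H : Subgroup Co0)
    (hm : ∀ (σ : Equiv.Perm GolayPt) (hσ : σ ∈ M24) (w : GolayPt → ZMod 2) (hw' : w ∈ golayCode),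
      monoCo σ hσ w hw' ∈ H) (hx : xiCo ∈ H) : H = ⊤ := by
  classical
  haveI := finite_co0
  set e0 : leechLattice := pt8 none
  set O := MulAction.orbit H e0 with hO
  haveI : Finite O := Finite.of_surjective (fun g : H => (⟨g • e0, g, rfl⟩ : O))
    (fun ⟨_, g, hg⟩ => ⟨g, Subtype.ext hg⟩)
  have hle : MulAction.stabilizer Co0 e0 ≤ H := fun g hg => by
    obtain ⟨σ, hσ, w, hw', rfl, -, -⟩ := exists_mono_of_fix hg
    exact hm σ hσ w hw'
  have hH : Nat.card H = 10200960 * 2048 * O.ncard := by
    rw [hO, ← MulAction.index_stabilizer, ← (MulAction.stabilizer H e0).card_mul_index]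
    congr 1
    rw [show MulAction.stabilizer H e0 = (MulAction.stabilizer Co0 e0).subgroupOf H from rfl,
      Nat.card_congr (Subgroup.subgroupOfEquivOfLe hle).toEquiv, card_stab_pt8]
  have hX : MulAction.stabilizer Co0 cross0 ≤ H := fun g hg => by
    obtain ⟨σ, hσ, w, hw', rfl⟩ := exists_mono_of_stab hg
    exact hm σ hσ w hw'
  have hd1 : 244823040 * 4096 ∣ 10200960 * 2048 * O.ncard := by
    rw [← hH, ← card_stab_cross]; exact Subgroup.card_dvd_of_le hX
  have hd2 : 10200960 * 2048 * O.ncard ∣ 10200960 * 2048 * 398034000 := by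
    rw [← hH, show 10200960 * 2048 * 398034000 = 8315553613086720000 by norm_num, ← card_Co0]
    exact Subgroup.card_subgroup_dvd_card H
  have hm2 := Nat.dvd_of_mul_dvd_mul_left (by norm_num) hd2
  rw [show 244823040 * 4096 = 10200960 * 2048 * 48 by norm_num] at hd1
  obtain ⟨k, hk⟩ := Nat.dvd_of_mul_dvd_mul_left (by norm_num) hd1
  rw [hk, show 398034000 = 48 * 8292375 by norm_num] at hm2
  have hkK := Nat.dvd_of_mul_dvd_mul_left (by norm_num) hm2
  have hnorm : ∀ v ∈ O, sqNorm (v : GolayPt → ℤ) = 64 := by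
    rintro _ ⟨g, rfl⟩
    exact (sqNorm_smul g.1 _).trans (sqNorm_vec8 none)
  -- many odd vectors
  have hbig : 115 * 4096 ≤ O.ncard := by
    have hz : ∃ h ∈ H, ((h • e0 : leechLattice) : GolayPt → ℤ) = oddVec := by
      refine ⟨xiCo * monoHom tr23 * xiCo * monoHom tr23 * xiCo, ?_, ?_⟩
      · exact mul_mem (mul_mem (mul_mem (mul_mem hx (hm tr23.1 tr23.2 0 (zero_mem _))) hx)
          (hm tr23.1 tr23.2 0 (zero_mem _))) hx
      · funext i
        rw [oddVec_chain.1 i]
        simp only [mul_smul, xiCo_smul, monoHom_smul]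
        rfl
    obtain ⟨h0, hh0, hz0⟩ := hz
    let f : (Fin 5 × ZMod 23) × golayCode → O := fun p =>
      ⟨(monoCo (shapePerm p.1)⁻¹ (inv_mem (shapePerm_mem p.1)) p.2.1 p.2.2 * h0) • e0,
        ⟨⟨_, mul_mem (hm _ _ _ _) hh0⟩, rfl⟩⟩
    have hf : Function.Injective f := by
      rintro ⟨p, w, hw'⟩ ⟨p', w', hw''⟩ e
      have e1 : ∀ i, (if i ∈ support₂ w then -oddVec (shapePerm p i) else oddVec (shapePerm p i)) =
          if i ∈ support₂ w' then -oddVec (shapePerm p' i) else oddVec (shapePerm p' i) := by
        intro i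
        have := congrFun (congrArg Subtype.val (congrArg Subtype.val e)) i
        simp only [f, mul_smul, monoCo_smul, signedPerm, hz0] at this
        exact this
      obtain rfl : p = p' := shapePerm_injective fun i => by
        have := congrArg abs (e1 i)
        split at this <;> split at this <;> simpa using this
      obtain rfl : w = w' := by
        funext i
        have := e1 i
        have hne := oddVec_chain.2.2 (shapePerm p i)
        simp only [support₂_iff] at this
        rcases zmod2_cases (w i) with a | a <;> rcases zmod2_cases (w' i) with b | b <;>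
          simp [a, b] at this ⊢ <;> omega
      rfl
    have := Nat.card_le_card_of_injective f hf
    rwa [Nat.card_prod, Nat.card_prod, Nat.card_fin, Nat.card_zmod, Golay.card_golayCode,
      Nat.card_coe_set_eq] at this
  -- congruence
  have hmod : O.ncard % 23 = 2 := by
    haveI : Fact (Nat.Prime 23) := ⟨by norm_num⟩
    let P : Subgroup H := Subgroup.zpowers ⟨monoHom tr23, hm tr23.1 tr23.2 0 (zero_mem _)⟩
    have hPo : IsPGroup 23 P := IsPGroup.of_card (n := 1) (by
      rw [Nat.card_zpowers, ← Subgroup.orderOf_coe, orderOf_injective monoHom monoHom_injective,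
        orderOf_tr23, pow_one])
    have h := hPo.card_modEq_card_fixedPoints (α := O)
    have hn : negCo ∈ H := negCo_eq_mono ▸ hm _ _ _ _
    have hf : MulAction.fixedPoints P O =
        {⟨e0, MulAction.mem_orbit_self e0⟩, ⟨-e0, ⟨⟨negCo, hn⟩, rfl⟩⟩} := by
      ext ⟨y, hy⟩
      simp only [Set.mem_insert_iff, Set.mem_singleton_iff, Subtype.ext_iff]
      constructor
      · intro hfix
        have hy' : monoHom tr23 • y = y :=
          congrArg Subtype.val (hfix ⟨⟨monoHom tr23, hm tr23.1 tr23.2 0 (zero_mem _)⟩, Subgroup.mem_zpowers _⟩)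
        exact (fixed23 hy' (hnorm y hy)).imp (congrArg Subtype.val) (congrArg Subtype.val)
      · rintro hy2 ⟨q, hq⟩
        obtain ⟨n, rfl⟩ := Subgroup.mem_zpowers_iff.1 hq
        have hz : monoHom tr23 ^ n • e0 = e0 :=
          Subgroup.zpow_mem (MulAction.stabilizer Co0 e0) (monoHom_fix tr23 tr23_facts.2.2.1) n
        refine Subtype.ext ?_
        show (monoHom tr23 ^ n) • y = y
        rcases hy2.imp Subtype.ext Subtype.ext with rfl | rfl
        · exact hz
        · rw [smul_neg', hz]
    have hne : e0 ≠ -e0 := fun h' => by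
      have := congrFun (congrArg Subtype.val h') none
      simp [e0, pt8, vec8] at this
    rw [Nat.card_coe_set_eq, Nat.card_coe_set_eq, hf, Set.ncard_pair (fun h' => hne (congrArg Subtype.val h'))] at h
    exact h
  have hfull : k = 8292375 := by
    obtain ⟨n, hn⟩ := hkK
    have h23 : k % 23 = 1 := by omega
    have hn23 : n % 23 = 1 := by
      have := congrArg (· % 23) hn
      simp only [Nat.mul_mod, h23, one_mul, Nat.mod_mod] at this
      omega
    have hnle : n < 875 := by nlinarith
    have := index_eq_full (n / 23) (by omega) ⟨k, by rw [hn, show 23 * (n / 23) + 1 = n by omega, mul_comm]⟩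
    have : n = 1 := by omega
    rw [this, mul_one] at hn
    exact hn.symm
  refine Subgroup.eq_top_of_card_eq H ?_
  rw [hH, hk, hfull, card_Co0]

end Cfsg.Agent.Lib.Leech
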