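import Mathlib.Init

/-!
Certificate data: PSU(4,3) as the stabiliser of one of the 275 vectors.
-/

set_option autoImplicit false
set_option maxRecDepth 20000
set_option maxHeartbeats 4000000

namespace Cfsg.Agent.Lib.Leech.Stab275Data

/-- The 112 vectors. -/
def reps : List (List Int) :=
  [[2, 0, 0, 0, 0, 0, 0, 0, 0, 0, 0, 0, 2, 0, 2, 0, 2, 2, 2, 0, 0, 0, 2, 2],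
   [2, 0, 2, 2, 2, 0, 0, 0, 2, 2, 0, 0, 0, 0, 0, 0, 0, 0, 0, 0, 0, 2, 0, 2],
   [3, -1, 1, -1, -1, 1, 1, 1, -1, 1, 1, 1, 1, 1, 1, 1, 1, -1, -1, 1, 1, 1, -1, 1],
   [3, -1, -1, 1, 1, 1, 1, 1, 1, -1, 1, 1, -1, 1, -1, 1, -1, 1, 1, 1, 1, -1, 1, 1],
   [3, -1, -1, 1, 1, 1, 1, 1, 1, 1, 1, 1, -1, 1, 1, 1, 1, -1, 1, -1, -1, 1, -1, 1],
   [2, 0, 0, 0, 0, 0, 0, 2, 0, 0, 0, 0, 0, 0, 0, 2, 2, 0, 0, 2, 2, 0, 2, 2],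
   [3, -1, 1, 1, 1, 1, 1, -1, 1, 1, -1, 1, 1, -1, 1, -1, -1, 1, 1, 1, 1, -1, 1, 1],
   [2, 0, 2, 0, 0, 0, 0, 0, 0, 0, 2, 0, 2, 2, 0, 0, 0, 2, 0, 0, 0, 2, 0, 2],
   [2, 0, 2, 0, 0, 2, 0, 0, 2, 0, 0, 0, 0, 2, 0, 0, 0, 0, 0, 2, 2, 0, 0, 2],
   [3, -1, -1, -1, 1, 1, 1, 1, -1, 1, 1, 1, 1, 1, 1, -1, -1, 1, 1, -1, 1, 1, 1, 1],
   [2, 0, 0, 2, 2, 0, 0, 0, 0, 0, 2, 0, 0, 0, 0, 2, 2, 2, 0, 0, 0, 0, 0, 2],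
   [3, -1, 1, 1, -1, -1, 1, 1, 1, 1, -1, 1, 1, -1, 1, 1, 1, -1, 1, 1, -1, 1, 1, 1],
   [3, -1, 1, 1, 1, -1, 1, 1, -1, 1, 1, 1, 1, -1, -1, 1, -1, 1, -1, 1, 1, 1, 1, 1],
   [3, -1, 1, 1, -1, 1, 1, -1, 1, -1, 1, 1, 1, 1, 1, 1, 1, 1, 1, 1, -1, -1, -1, 1],
   [2, 0, 0, 0, 0, 0, 0, 2, 2, 0, 0, 0, 0, 2, 0, 0, 0, 0, 2, 0, 0, 2, 2, 2],
   [2, 0, 0, 0, 2, 2, 0, 0, 0, 2, 0, 0, 0, 0, 2, 0, 2, 0, 0, 0, 2, 0, 0, 2],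
   [3, -1, 1, 1, -1, 1, 1, 1, 1, 1, 1, 1, -1, 1, 1, -1, -1, 1, -1, 1, -1, 1, 1, 1],
   [3, -1, -1, 1, 1, 1, 1, -1, -1, -1, 1, 1, 1, -1, 1, 1, 1, -1, 1, 1, 1, 1, 1, 1],
   [2, 0, 2, 0, 2, 0, 0, 2, 0, 0, 0, 0, 0, 0, 0, 0, 0, 2, 2, 0, 2, 0, 0, 2],
   [2, 0, 0, 0, 0, 0, 0, 0, 2, 2, 0, 0, 2, 2, 0, 2, 2, 0, 0, 0, 0, 0, 0, 2],
   [2, 0, 0, 0, 2, 0, 0, 0, 2, 0, 2, 0, 2, 0, 0, 0, 0, 0, 0, 0, 2, 0, 2, 2],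
   [3, -1, 1, -1, 1, 1, 1, 1, 1, 1, -1, 1, 1, 1, -1, 1, -1, 1, 1, 1, -1, 1, -1, 1],
   [2, 0, 0, 2, 0, 0, 0, 0, 0, 0, 0, 0, 0, 2, 2, 0, 2, 0, 0, 2, 0, 2, 0, 2],
   [3, -1, 1, 1, -1, 1, 1, 1, -1, 1, 1, 1, -1, -1, 1, 1, 1, 1, 1, -1, 1, -1, 1, 1],
   [3, -1, -1, 1, 1, -1, 1, 1, -1, 1, -1, 1, 1, 1, 1, 1, 1, 1, 1, 1, 1, -1, -1, 1],
   [2, 0, 2, 0, 0, 0, 0, 2, 2, 0, 2, 0, 0, 0, 2, 0, 2, 0, 0, 0, 0, 0, 0, 2],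
   [3, -1, 1, 1, -1, 1, 1, -1, 1, 1, 1, 1, 1, 1, -1, 1, -1, -1, 1, -1, 1, 1, 1, 1],
   [2, 0, 0, 0, 2, 2, 0, 0, 0, 0, 0, 0, 0, 0, 0, 0, 0, 2, 0, 2, 0, 2, 2, 2],
   [2, 0, 2, 0, 0, 2, 0, 0, 0, 0, 0, 0, 0, 0, 0, 2, 2, 0, 2, 0, 0, 2, 0, 2],
   [2, 0, 0, 2, 0, 0, 0, 0, 0, 2, 0, 0, 0, 2, 0, 0, 0, 2, 0, 0, 2, 0, 2, 2],
   [3, -1, -1, -1, 1, 1, 1, 1, 1, 1, 1, 1, 1, -1, 1, 1, 1, 1, -1, 1, -1, -1, 1, 1],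
   [3, -1, 1, 1, 1, -1, 1, 1, 1, -1, 1, 1, 1, 1, 1, -1, -1, -1, 1, 1, 1, 1, -1, 1],
   [2, 0, 2, 0, 2, 0, 0, 0, 0, 0, 0, 0, 2, 0, 2, 2, 0, 0, 0, 2, 0, 0, 0, 2],
   [3, -1, 1, 1, 1, 1, 1, 1, -1, 1, -1, 1, -1, 1, -1, -1, 1, -1, 1, 1, 1, 1, 1, 1],
   [2, 0, 0, 0, 0, 2, 0, 0, 2, 2, 2, 0, 0, 0, 0, 0, 0, 2, 2, 0, 0, 0, 0, 2],
   [3, -1, -1, 1, -1, -1, 1, 1, 1, -1, 1, 1, 1, 1, 1, 1, 1, 1, -1, -1, 1, 1, 1, 1],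
   [3, -1, 1, 1, 1, -1, 1, 1, 1, 1, 1, 1, 1, 1, -1, -1, 1, 1, 1, -1, -1, -1, 1, 1],
   [2, 0, 0, 0, 0, 2, 0, 0, 0, 0, 2, 0, 0, 2, 2, 2, 0, 0, 0, 0, 0, 0, 2, 2],
   [3, -1, 1, 1, 1, 1, 1, 1, 1, -1, -1, 1, -1, -1, 1, 1, 1, 1, -1, 1, 1, 1, -1, 1],
   [2, 0, 0, 0, 0, 0, 0, 0, 0, 2, 0, 0, 2, 0, 0, 0, 0, 0, 2, 2, 2, 2, 0, 2],
   [3, -1, -1, -1, -1, 1, 1, -1, 1, 1, -1, 1, -1, 1, 1, 1, 1, 1, 1, 1, 1, 1, 1, 1],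
   [2, 0, 0, 2, 0, 0, 0, 2, 2, 0, 0, 0, 2, 0, 0, 0, 0, 2, 0, 2, 0, 0, 0, 2],
   [3, -1, 1, 1, 1, -1, -1, 1, -1, 1, 1, -1, 1, 1, 1, 1, 1, -1, 1, -1, 1, 1, 1, 1],
   [2, 0, 2, 0, 2, 2, 2, 0, 0, 0, 2, 2, 0, 0, 0, 0, 0, 0, 0, 0, 0, 0, 0, 2],
   [2, 0, 0, 2, 0, 2, 0, 2, 0, 0, 2, 0, 0, 0, 0, 0, 0, 0, 0, 0, 2, 2, 0, 2],
   [3, -1, 1, -1, 1, -1, 1, -1, 1, 1, 1, 1, 1, -1, 1, 1, 1, 1, 1, -1, 1, 1, -1, 1],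
   [2, 0, 0, 0, 0, 0, 2, 0, 0, 0, 0, 2, 2, 2, 0, 0, 0, 0, 0, 2, 0, 0, 2, 2],
   [3, -1, 1, 1, 1, 1, -1, 1, 1, 1, -1, -1, -1, 1, 1, 1, 1, 1, 1, 1, -1, -1, 1, 1],
   [3, -1, -1, -1, 1, 1, -1, 1, 1, -1, 1, -1, 1, 1, 1, 1, 1, 1, 1, 1, 1, 1, -1, 1],
   [2, 0, 0, 2, 0, 0, 2, 0, 0, 0, 0, 2, 0, 0, 0, 0, 0, 2, 2, 0, 0, 2, 0, 2],
   [2, 0, 2, 0, 0, 2, 0, 2, 0, 2, 0, 0, 2, 0, 0, 0, 0, 0, 0, 0, 0, 0, 2, 2],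
   [3, -1, 1, 1, 1, -1, 1, -1, 1, 1, 1, 1, -1, 1, 1, 1, 1, -1, -1, 1, 1, -1, 1, 1],
   [2, 0, 0, 0, 0, 0, 2, 2, 2, 2, 0, 2, 0, 0, 0, 0, 0, 0, 0, 0, 2, 0, 0, 2],
   [3, -1, 1, 1, -1, 1, -1, -1, 1, 1, 1, -1, 1, -1, 1, 1, 1, 1, -1, 1, 1, 1, 1, 1],
   [3, -1, 1, -1, 1, -1, 1, 1, -1, -1, 1, 1, -1, 1, 1, 1, 1, 1, 1, 1, -1, 1, 1, 1],
   [2, 0, 0, 2, 2, 2, 0, 0, 0, 0, 0, 0, 2, 2, 0, 0, 0, 0, 2, 0, 0, 0, 0, 2],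
   [3, -1, 1, 1, 1, 1, 1, -1, -1, 1, -1, 1, 1, 1, 1, 1, 1, 1, -1, -1, -1, 1, 1, 1],
   [2, 0, 0, 0, 2, 0, 0, 2, 0, 2, 2, 0, 0, 2, 0, 0, 0, 0, 0, 2, 0, 0, 0, 2],
   [2, 0, 0, 2, 0, 0, 0, 0, 2, 0, 0, 0, 0, 0, 2, 2, 0, 0, 2, 0, 2, 0, 0, 2],
   [3, -1, 1, -1, -1, 1, 1, 1, 1, -1, 1, 1, 1, -1, -1, -1, 1, 1, 1, 1, 1, 1, 1, 1],
   [2, 0, 2, 2, 0, 0, 0, 0, 0, 0, 2, 0, 0, 0, 0, 0, 0, 0, 2, 2, 0, 0, 2, 2],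
   [3, -1, 1, -1, 1, 1, 1, 1, 1, -1, -1, 1, 1, 1, 1, 1, 1, -1, 1, -1, 1, -1, 1, 1],
   [3, -1, -1, 1, 1, 1, 1, -1, 1, 1, 1, 1, 1, 1, -1, -1, 1, 1, -1, 1, 1, 1, -1, 1],
   [2, 0, 0, 0, 0, 0, 0, 2, 0, 2, 0, 0, 0, 0, 2, 2, 0, 2, 0, 0, 0, 2, 0, 2],
   [2, 0, 0, 0, 2, 0, 2, 0, 2, 0, 0, 0, 0, 0, 0, 0, 2, 0, 2, 2, 0, 0, 0, 2],
   [3, -1, 1, 1, -1, 1, 1, 1, -1, -1, -1, -1, 1, 1, 1, 1, -1, 1, 1, 1, 1, 1, 1, 1],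
   [3, -1, 1, -1, 1, 1, -1, 1, 1, 1, 1, 1, -1, 1, -1, 1, 1, 1, -1, -1, 1, 1, 1, 1],
   [2, 0, 0, 2, 0, 0, 0, 0, 0, 2, 2, 2, 2, 0, 2, 0, 0, 0, 0, 0, 0, 0, 0, 2],
   [3, -1, 1, 1, 1, 1, 1, 1, 1, 1, 1, -1, 1, 1, 1, 1, -1, 1, -1, -1, 1, -1, -1, 1],
   [2, 0, 0, 0, 0, 0, 2, 0, 0, 2, 2, 0, 0, 0, 0, 0, 2, 0, 0, 0, 0, 2, 2, 2],
   [2, 0, 0, 0, 0, 2, 0, 2, 0, 0, 0, 2, 0, 0, 2, 0, 0, 0, 2, 2, 0, 0, 0, 2],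
   [3, -1, 1, 1, 1, -1, -1, -1, 1, -1, -1, 1, 1, 1, -1, 1, 1, 1, 1, 1, 1, 1, 1, 1],
   [3, -1, -1, 1, -1, 1, -1, 1, -1, 1, 1, 1, 1, 1, -1, 1, 1, 1, 1, 1, -1, 1, 1, 1],
   [2, 0, 0, 0, 2, 0, 0, 0, 2, 0, 0, 2, 0, 2, 2, 0, 0, 2, 0, 0, 0, 0, 0, 2],
   [2, 0, 2, 2, 0, 0, 2, 0, 0, 0, 0, 0, 2, 0, 0, 0, 2, 0, 0, 0, 2, 0, 0, 2],
   [3, -1, 1, -1, 1, 1, 1, 1, 1, 1, 1, -1, -1, -1, 1, 1, -1, -1, 1, 1, 1, 1, 1, 1],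
   [2, 0, 2, 0, 0, 0, 0, 0, 0, 0, 0, 2, 0, 0, 2, 0, 0, 0, 0, 0, 2, 2, 2, 2],
   [3, -1, 1, 1, 1, 1, -1, 1, 1, 1, 1, 1, 1, -1, -1, 1, 1, -1, 1, 1, 1, -1, -1, 1],
   [3, -1, -1, 1, 1, -1, 1, -1, 1, 1, 1, -1, 1, 1, 1, 1, -1, 1, 1, 1, -1, 1, 1, 1],
   [2, 0, 0, 0, 0, 2, 2, 2, 0, 0, 0, 0, 0, 2, 0, 0, 2, 2, 0, 0, 0, 0, 0, 2],
   [2, 0, 0, 0, 0, 2, 0, 0, 0, 0, 0, 2, 2, 0, 0, 2, 0, 2, 0, 0, 2, 0, 0, 2],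
   [2, 0, 2, 0, 0, 0, 2, 0, 0, 2, 0, 0, 0, 2, 2, 0, 0, 0, 2, 0, 0, 0, 0, 2],
   [3, -1, 1, 1, 1, 1, 1, 1, 1, -1, 1, -1, 1, 1, -1, 1, 1, -1, -1, 1, -1, 1, 1, 1],
   [3, -1, -1, 1, 1, -1, -1, 1, 1, 1, 1, 1, -1, -1, 1, -1, 1, 1, 1, 1, 1, 1, 1, 1],
   [3, -1, 1, 1, -1, -1, 1, 1, 1, 1, 1, -1, -1, 1, -1, 1, 1, 1, 1, 1, 1, 1, -1, 1],
   [3, -1, 1, 1, 1, 1, -1, 1, -1, -1, 1, 1, 1, 1, 1, -1, 1, 1, -1, 1, 1, -1, 1, 1],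
   [2, 0, 0, 0, 2, 0, 0, 0, 0, 2, 0, 2, 0, 0, 0, 2, 0, 0, 2, 0, 0, 0, 2, 2],
   [2, 0, 0, 0, 0, 2, 2, 0, 2, 0, 0, 0, 2, 0, 2, 0, 0, 0, 0, 0, 0, 2, 0, 2],
   [2, 0, 0, 0, 2, 0, 0, 2, 0, 0, 0, 2, 2, 0, 0, 0, 2, 0, 0, 0, 0, 2, 0, 2],
   [3, -1, 1, 1, 1, 1, -1, -1, -1, 1, 1, 1, -1, 1, 1, 1, -1, 1, 1, 1, 1, 1, -1, 1],
   [2, 0, 2, 0, 0, 0, 2, 0, 2, 0, 0, 0, 0, 0, 0, 2, 0, 2, 0, 0, 0, 0, 2, 2],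
   [3, -1, -1, 1, -1, 1, 1, 1, 1, 1, 1, -1, 1, 1, 1, -1, 1, -1, 1, 1, 1, -1, 1, 1],
   [3, -1, 1, -1, -1, -1, -1, 1, 1, 1, 1, 1, 1, 1, 1, 1, -1, 1, 1, 1, 1, -1, 1, 1],
   [2, 0, 0, 2, 0, 2, 0, 0, 2, 0, 0, 2, 0, 0, 0, 0, 2, 0, 0, 0, 0, 0, 2, 2],
   [3, -1, 1, 1, 1, 1, 1, 1, -1, 1, 1, -1, 1, -1, 1, -1, 1, 1, 1, 1, -1, 1, -1, 1],
   [2, 0, 0, 0, 2, 0, 2, 0, 0, 0, 0, 0, 0, 2, 0, 2, 0, 0, 0, 0, 2, 2, 0, 2],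
   [2, 0, 0, 2, 0, 2, 2, 0, 0, 2, 0, 0, 0, 0, 0, 2, 0, 0, 0, 2, 0, 0, 0, 2],
   [3, -1, 1, -1, 1, -1, 1, 1, 1, 1, -1, -1, 1, 1, 1, -1, 1, 1, -1, 1, 1, 1, 1, 1],
   [2, 0, 0, 0, 0, 0, 0, 0, 0, 0, 2, 2, 0, 2, 0, 0, 2, 0, 2, 0, 2, 0, 0, 2],
   [3, -1, 1, 1, 1, 1, -1, 1, 1, -1, 1, 1, 1, -1, 1, 1, -1, 1, 1, -1, -1, 1, 1, 1],
   [3, -1, 1, 1, 1, 1, 1, -1, 1, -1, 1, -1, -1, 1, 1, -1, 1, 1, 1, -1, 1, 1, 1, 1],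
   [2, 0, 0, 0, 0, 0, 2, 2, 0, 0, 2, 0, 2, 0, 0, 2, 0, 0, 2, 0, 0, 0, 0, 2],
   [3, -1, -1, 1, 1, 1, -1, 1, 1, 1, -1, 1, 1, 1, 1, 1, -1, -1, -1, 1, 1, 1, 1, 1],
   [2, 0, 2, 0, 0, 0, 0, 0, 0, 2, 0, 2, 0, 0, 0, 0, 2, 2, 0, 2, 0, 0, 0, 2],
   [3, -1, 1, -1, 1, 1, -1, -1, 1, 1, 1, 1, 1, 1, 1, -1, 1, -1, 1, 1, -1, 1, 1, 1],
   [3, -1, -1, 1, 1, 1, 1, 1, 1, 1, -1, -1, 1, -1, -1, 1, 1, 1, 1, -1, 1, 1, 1, 1],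
   [2, 0, 0, 0, 0, 0, 2, 0, 0, 0, 2, 0, 0, 0, 2, 0, 0, 2, 0, 2, 2, 0, 0, 2],
   [2, 0, 2, 2, 0, 0, 0, 2, 0, 0, 0, 2, 0, 2, 0, 2, 0, 0, 0, 0, 0, 0, 0, 2],
   [2, 0, 0, 2, 2, 0, 2, 2, 0, 0, 0, 0, 0, 0, 2, 0, 0, 0, 0, 0, 0, 0, 2, 2],
   [2, 0, 0, 0, 0, 0, 0, 0, 2, 0, 2, 2, 0, 0, 0, 2, 0, 0, 0, 2, 0, 2, 0, 2],
   [3, -1, 1, 1, -1, 1, -1, 1, 1, 1, -1, 1, 1, 1, 1, -1, 1, 1, 1, -1, 1, 1, -1, 1],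
   [3, -1, 1, -1, 1, 1, 1, -1, -1, 1, 1, -1, 1, 1, -1, 1, 1, 1, 1, 1, 1, -1, 1, 1]]

/-- The generators. -/
def gens : List (List (Option (List Nat × Nat))) :=
  [[some ([0, 1, 18, 11, 20, 2, 7, 9, 10, 13, 17, 4, 14, 22, 8, 15, 5, 12, 21, 3, 19, 16, 6, 23], 0)],
   [some ([0, 1, 12, 10, 2, 19, 14, 7, 21, 17, 4, 15, 3, 18, 16, 6, 11, 5, 22, 20, 9, 13, 8, 23], 0)],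
   [some ([0, 1, 17, 12, 15, 9, 7, 10, 20, 5, 14, 21, 8, 13, 6, 2, 19, 4, 16, 22, 3, 11, 18, 23], 0)],
   [some ([22, 16, 11, 15, 14, 12, 1, 18, 17, 3, 5, 4, 20, 9, 2, 23, 13, 10, 6, 21, 8, 19, 7, 0], 1444), none, some ([7, 21, 6, 2, 10, 23, 22, 16, 18, 14, 5, 8, 12, 20, 1, 17, 15, 0, 11, 13, 3, 4, 9, 19], 3724), none, some ([17, 23, 9, 12, 6, 11, 10, 1, 2, 22, 0, 15, 4, 21, 7, 20, 8, 18, 5, 14, 3, 16, 19, 13], 3551)],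
   [some ([14, 8, 5, 7, 4, 21, 19, 6, 3, 1, 16, 12, 11, 22, 10, 13, 23, 15, 17, 9, 0, 20, 2, 18], 3647), none, some ([6, 23, 14, 12, 7, 21, 22, 16, 3, 10, 9, 2, 19, 18, 0, 15, 17, 5, 11, 13, 4, 20, 1, 8], 745), none, some ([9, 15, 8, 0, 14, 1, 13, 2, 17, 16, 11, 12, 5, 10, 18, 19, 4, 21, 7, 20, 22, 3, 23, 6], 3549)]]

/-- The permutations. -/
def perms : List (List Nat) :=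
  [[7, 70, 105, 51, 11, 95, 85, 34, 15, 36, 109, 65, 3, 53, 81, 88, 91, 71, 43, 63, 73, 23, 39, 82, 12, 87, 47, 98, 28, 57, 35, 6, 80, 33, 25, 78, 16, 19, 17, 18, 42, 106, 21, 93, 64, 99, 29, 2, 45, 60, 79, 102, 108, 48, 26, 103, 72, 52, 32, 100, 8, 56, 83, 101, 76, 111, 4, 41, 30, 14, 74, 89, 84, 67, 27, 61, 55, 38, 92, 69, 10, 50, 40, 31, 75, 62, 107, 0, 49, 77, 37, 97, 68, 22, 59, 86, 5, 9, 1, 13, 104, 90, 24, 44, 110, 54, 20, 96, 46, 58, 94, 66],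
   [81, 20, 38, 72, 35, 70, 111, 1, 27, 84, 67, 61, 77, 56, 14, 106, 105, 13, 57, 76, 60, 66, 87, 24, 2, 108, 71, 34, 73, 39, 23, 82, 43, 48, 29, 11, 42, 49, 30, 8, 40, 50, 31, 10, 41, 51, 28, 9, 16, 19, 18, 17, 5, 6, 4, 7, 45, 44, 46, 47, 55, 54, 53, 52, 37, 21, 83, 74, 12, 58, 79, 104, 110, 69, 32, 3, 64, 85, 26, 63, 103, 95, 99, 91, 102, 94, 98, 90, 25, 62, 86, 65, 33, 0, 68, 109, 80, 75, 22, 36, 78, 107, 59, 15, 100, 92, 96, 88, 101, 93, 97, 89],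
   [60, 80, 4, 97, 9, 64, 53, 107, 19, 16, 18, 17, 38, 42, 46, 34, 2, 83, 90, 55, 41, 56, 98, 75, 100, 101, 102, 103, 86, 8, 94, 35, 10, 40, 50, 31, 65, 57, 45, 93, 104, 74, 3, 63, 52, 99, 22, 111, 36, 76, 96, 48, 87, 77, 54, 29, 89, 79, 20, 11, 5, 78, 110, 43, 0, 51, 21, 44, 68, 70, 69, 71, 33, 7, 58, 30, 109, 105, 85, 81, 1, 37, 24, 59, 61, 84, 27, 67, 49, 66, 32, 91, 82, 39, 23, 73, 15, 13, 14, 12, 92, 108, 62, 28, 72, 6, 25, 95, 106, 88, 26, 47],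
   [18, 87, 51, 72, 102, 98, 94, 90, 69, 47, 80, 31, 13, 12, 14, 15, 78, 77, 79, 76, 28, 16, 20, 24, 85, 95, 11, 34, 52, 0, 89, 82, 43, 91, 63, 71, 65, 86, 62, 25, 83, 7, 61, 96, 19, 38, 60, 9, 66, 41, 81, 17, 22, 45, 3, 50, 6, 37, 88, 84, 101, 33, 53, 73, 44, 36, 40, 32, 56, 58, 57, 59, 92, 27, 74, 4, 64, 2, 99, 29, 103, 108, 26, 48, 35, 111, 70, 1, 8, 30, 49, 42, 54, 39, 68, 93, 67, 100, 5, 21, 105, 107, 104, 106, 75, 110, 10, 46, 55, 109, 97, 23],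
   [85, 4, 39, 90, 96, 97, 99, 98, 14, 80, 51, 94, 45, 60, 79, 102, 34, 12, 61, 22, 35, 28, 57, 6, 32, 91, 49, 66, 33, 73, 53, 101, 42, 21, 93, 106, 13, 29, 75, 88, 27, 25, 24, 26, 52, 17, 7, 47, 5, 43, 110, 78, 87, 83, 111, 107, 89, 19, 108, 59, 36, 65, 109, 15, 82, 18, 40, 67, 58, 62, 50, 54, 103, 37, 31, 105, 9, 11, 10, 8, 76, 55, 84, 30, 64, 92, 56, 44, 2, 86, 100, 41, 0, 16, 77, 95, 1, 48, 46, 23, 3, 74, 63, 104, 72, 38, 20, 81, 68, 69, 70, 71]]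

/-- The matrices. -/
def mats : List (List (List Nat)) :=
  [[[3, 1, 1, 2], [8, 3, 8, 4], [0, 0, 7, 7], [3, 4, 5, 7]],
   [[0, 5, 5, 0], [3, 2, 1, 1], [1, 6, 3, 6], [5, 0, 0, 8]],
   [[7, 7, 7, 2], [4, 0, 1, 1], [8, 4, 8, 3], [6, 0, 7, 6]],
   [[5, 4, 8, 2], [8, 7, 4, 1], [1, 1, 3, 2], [8, 8, 8, 6]],
   [[7, 5, 3, 7], [8, 3, 7, 8], [8, 4, 7, 6], [1, 5, 4, 7]]]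

/-- The totally isotropic lines. -/
def lines : List (Nat × Nat × List Nat × List Nat) :=
  [(0, 2, [1, 4, 0, 0], [0, 0, 1, 4]),
   (0, 2, [1, 5, 0, 0], [0, 0, 1, 4]),
   (0, 2, [1, 7, 0, 0], [0, 0, 1, 4]),
   (0, 2, [1, 8, 0, 0], [0, 0, 1, 4]),
   (0, 2, [1, 4, 0, 0], [0, 0, 1, 5]),
   (0, 2, [1, 5, 0, 0], [0, 0, 1, 5]),
   (0, 2, [1, 7, 0, 0], [0, 0, 1, 5]),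
   (0, 2, [1, 8, 0, 0], [0, 0, 1, 5]),
   (0, 2, [1, 4, 0, 0], [0, 0, 1, 7]),
   (0, 2, [1, 5, 0, 0], [0, 0, 1, 7]),
   (0, 2, [1, 7, 0, 0], [0, 0, 1, 7]),
   (0, 2, [1, 8, 0, 0], [0, 0, 1, 7]),
   (0, 2, [1, 4, 0, 0], [0, 0, 1, 8]),
   (0, 2, [1, 5, 0, 0], [0, 0, 1, 8]),
   (0, 2, [1, 7, 0, 0], [0, 0, 1, 8]),
   (0, 2, [1, 8, 0, 0], [0, 0, 1, 8]),
   (0, 1, [1, 0, 4, 0], [0, 1, 0, 4]),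
   (0, 1, [1, 0, 5, 0], [0, 1, 0, 4]),
   (0, 1, [1, 0, 7, 0], [0, 1, 0, 4]),
   (0, 1, [1, 0, 8, 0], [0, 1, 0, 4]),
   (0, 1, [1, 0, 4, 0], [0, 1, 0, 5]),
   (0, 1, [1, 0, 5, 0], [0, 1, 0, 5]),
   (0, 1, [1, 0, 7, 0], [0, 1, 0, 5]),
   (0, 1, [1, 0, 8, 0], [0, 1, 0, 5]),
   (0, 1, [1, 0, 4, 0], [0, 1, 0, 7]),
   (0, 1, [1, 0, 5, 0], [0, 1, 0, 7]),
   (0, 1, [1, 0, 7, 0], [0, 1, 0, 7]),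
   (0, 1, [1, 0, 8, 0], [0, 1, 0, 7]),
   (0, 1, [1, 0, 4, 0], [0, 1, 0, 8]),
   (0, 1, [1, 0, 5, 0], [0, 1, 0, 8]),
   (0, 1, [1, 0, 7, 0], [0, 1, 0, 8]),
   (0, 1, [1, 0, 8, 0], [0, 1, 0, 8]),
   (0, 1, [1, 0, 1, 2], [0, 1, 1, 1]),
   (0, 1, [1, 0, 2, 1], [0, 1, 1, 1]),
   (0, 1, [1, 0, 3, 6], [0, 1, 1, 1]),
   (0, 1, [1, 0, 6, 3], [0, 1, 1, 1]),
   (0, 1, [1, 0, 1, 1], [0, 1, 1, 2]),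
   (0, 1, [1, 0, 2, 2], [0, 1, 1, 2]),
   (0, 1, [1, 0, 3, 3], [0, 1, 1, 2]),
   (0, 1, [1, 0, 6, 6], [0, 1, 1, 2]),
   (0, 1, [1, 0, 1, 6], [0, 1, 1, 3]),
   (0, 1, [1, 0, 2, 3], [0, 1, 1, 3]),
   (0, 1, [1, 0, 3, 1], [0, 1, 1, 3]),
   (0, 1, [1, 0, 6, 2], [0, 1, 1, 3]),
   (0, 1, [1, 0, 1, 3], [0, 1, 1, 6]),
   (0, 1, [1, 0, 2, 6], [0, 1, 1, 6]),
   (0, 1, [1, 0, 3, 2], [0, 1, 1, 6]),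
   (0, 1, [1, 0, 6, 1], [0, 1, 1, 6]),
   (0, 1, [1, 0, 1, 1], [0, 1, 2, 1]),
   (0, 1, [1, 0, 2, 2], [0, 1, 2, 1]),
   (0, 1, [1, 0, 3, 3], [0, 1, 2, 1]),
   (0, 1, [1, 0, 6, 6], [0, 1, 2, 1]),
   (0, 1, [1, 0, 1, 2], [0, 1, 2, 2]),
   (0, 1, [1, 0, 2, 1], [0, 1, 2, 2]),
   (0, 1, [1, 0, 3, 6], [0, 1, 2, 2]),
   (0, 1, [1, 0, 6, 3], [0, 1, 2, 2]),
   (0, 1, [1, 0, 1, 3], [0, 1, 2, 3]),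
   (0, 1, [1, 0, 2, 6], [0, 1, 2, 3]),
   (0, 1, [1, 0, 3, 2], [0, 1, 2, 3]),
   (0, 1, [1, 0, 6, 1], [0, 1, 2, 3]),
   (0, 1, [1, 0, 1, 6], [0, 1, 2, 6]),
   (0, 1, [1, 0, 2, 3], [0, 1, 2, 6]),
   (0, 1, [1, 0, 3, 1], [0, 1, 2, 6]),
   (0, 1, [1, 0, 6, 2], [0, 1, 2, 6]),
   (0, 1, [1, 0, 1, 3], [0, 1, 3, 1]),
   (0, 1, [1, 0, 2, 6], [0, 1, 3, 1]),
   (0, 1, [1, 0, 3, 2], [0, 1, 3, 1]),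
   (0, 1, [1, 0, 6, 1], [0, 1, 3, 1]),
   (0, 1, [1, 0, 1, 6], [0, 1, 3, 2]),
   (0, 1, [1, 0, 2, 3], [0, 1, 3, 2]),
   (0, 1, [1, 0, 3, 1], [0, 1, 3, 2]),
   (0, 1, [1, 0, 6, 2], [0, 1, 3, 2]),
   (0, 1, [1, 0, 1, 2], [0, 1, 3, 3]),
   (0, 1, [1, 0, 2, 1], [0, 1, 3, 3]),
   (0, 1, [1, 0, 3, 6], [0, 1, 3, 3]),
   (0, 1, [1, 0, 6, 3], [0, 1, 3, 3]),
   (0, 1, [1, 0, 1, 1], [0, 1, 3, 6]),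
   (0, 1, [1, 0, 2, 2], [0, 1, 3, 6]),
   (0, 1, [1, 0, 3, 3], [0, 1, 3, 6]),
   (0, 1, [1, 0, 6, 6], [0, 1, 3, 6]),
   (0, 1, [1, 0, 0, 4], [0, 1, 4, 0]),
   (0, 1, [1, 0, 0, 5], [0, 1, 4, 0]),
   (0, 1, [1, 0, 0, 7], [0, 1, 4, 0]),
   (0, 1, [1, 0, 0, 8], [0, 1, 4, 0]),
   (0, 1, [1, 0, 0, 4], [0, 1, 5, 0]),
   (0, 1, [1, 0, 0, 5], [0, 1, 5, 0]),
   (0, 1, [1, 0, 0, 7], [0, 1, 5, 0]),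
   (0, 1, [1, 0, 0, 8], [0, 1, 5, 0]),
   (0, 1, [1, 0, 1, 6], [0, 1, 6, 1]),
   (0, 1, [1, 0, 2, 3], [0, 1, 6, 1]),
   (0, 1, [1, 0, 3, 1], [0, 1, 6, 1]),
   (0, 1, [1, 0, 6, 2], [0, 1, 6, 1]),
   (0, 1, [1, 0, 1, 3], [0, 1, 6, 2]),
   (0, 1, [1, 0, 2, 6], [0, 1, 6, 2]),
   (0, 1, [1, 0, 3, 2], [0, 1, 6, 2]),
   (0, 1, [1, 0, 6, 1], [0, 1, 6, 2]),
   (0, 1, [1, 0, 1, 1], [0, 1, 6, 3]),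
   (0, 1, [1, 0, 2, 2], [0, 1, 6, 3]),
   (0, 1, [1, 0, 3, 3], [0, 1, 6, 3]),
   (0, 1, [1, 0, 6, 6], [0, 1, 6, 3]),
   (0, 1, [1, 0, 1, 2], [0, 1, 6, 6]),
   (0, 1, [1, 0, 2, 1], [0, 1, 6, 6]),
   (0, 1, [1, 0, 3, 6], [0, 1, 6, 6]),
   (0, 1, [1, 0, 6, 3], [0, 1, 6, 6]),
   (0, 1, [1, 0, 0, 4], [0, 1, 7, 0]),
   (0, 1, [1, 0, 0, 5], [0, 1, 7, 0]),
   (0, 1, [1, 0, 0, 7], [0, 1, 7, 0]),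
   (0, 1, [1, 0, 0, 8], [0, 1, 7, 0]),
   (0, 1, [1, 0, 0, 4], [0, 1, 8, 0]),
   (0, 1, [1, 0, 0, 5], [0, 1, 8, 0]),
   (0, 1, [1, 0, 0, 7], [0, 1, 8, 0]),
   (0, 1, [1, 0, 0, 8], [0, 1, 8, 0])]

/-- Two lines through each of five points. -/
def fiveLines : List (Nat × Nat) :=
  [(33, 53), (19, 23), (18, 22), (64, 65), (42, 59)]

/-- Five points in general position. -/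
def five : List (List Nat) :=
  [[1, 0, 2, 1], [1, 0, 8, 0], [1, 0, 7, 0], [0, 1, 3, 1], [1, 6, 0, 2]]

/-- Coordinates from dot products. -/
def coeffs : List (List Int) :=
  [[-20, -14, 9, 2, -1, 3, 2, 1, 4, 1, -2, 3, 4, 2, 2, 3, 5, 1, -3, -1, -1, 1, 4, 0],
   [20, 14, -3, -2, 1, -3, -2, -1, -4, -1, 2, -3, -4, -2, -2, -3, -5, -1, 3, 1, 1, -1, -4, 0],
   [8, 6, -3, 2, 1, 1, -2, -5, -4, 1, -4, -1, 2, 0, 2, -1, -3, -5, 3, 3, -1, 1, 0, 0],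
   [26, 18, -9, -4, 1, -5, -2, 1, 2, 1, 2, -1, -4, 0, -4, -7, -3, 1, -3, -3, -1, -5, 0, 0],
   [-28, -18, 9, 2, 1, 1, 4, 1, 2, 1, 2, 5, 2, 0, 2, 5, 3, 1, 3, 3, -1, 1, 0, 0],
   [-28, -18, 9, 8, 7, 1, 4, 7, 2, 13, 8, 5, 2, 6, -4, -7, 3, -5, -3, -3, -1, -5, 0, 0],
   [44, 30, -15, -4, 7, -5, -8, 1, -4, 7, 14, -1, -4, 0, -10, -19, -9, -11, -3, -9, -7, -5, 0, 12],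
   [-10, -6, 3, 2, 1, 1, 4, 7, 2, 1, 2, -1, 2, 0, 2, -1, 3, 1, -3, -3, -1, -5, 0, 0],
   [-10, -6, 3, 2, 1, 1, 4, 1, 2, 1, -4, -1, 2, 0, 2, 5, 3, 1, -3, -3, -1, 1, 0, 0],
   [8, 6, -3, -4, 1, 1, -2, 1, 2, -5, 2, -1, -4, -6, -4, -1, -3, 1, 3, 3, 5, 1, 0, 0],
   [8, 6, -3, -4, -5, 1, -2, -5, -4, -5, -4, -1, 2, 0, 2, 5, -3, 1, 3, 3, 5, 1, 0, 0],
   [26, 18, -9, -4, -11, 1, 4, -11, -4, -17, -16, -7, -4, -6, 8, 17, -3, 7, 9, 15, 5, 7, -12, -12],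
   [8, 6, -3, 2, 1, 1, -2, 1, 2, 1, 2, -1, -4, 0, -4, -1, 3, 1, -3, -3, -1, -5, 0, 0],
   [26, 18, -9, -4, -5, -5, -2, -5, -4, 1, 2, -1, -4, -6, -4, -1, -3, 1, 3, 3, -1, 1, 0, 0],
   [-10, -6, 3, 2, 1, 1, 4, 1, 2, 1, 2, -1, 2, 0, 2, -1, -3, 1, 3, -3, -1, 1, 0, 0],
   [26, 18, -9, -4, 1, -5, -2, 1, -4, 1, 2, -1, -4, 0, -4, -7, -3, -5, 3, -3, -1, 1, 0, 0],
   [-28, -18, 9, 8, 1, 7, 4, 1, 2, 1, -4, 5, 2, 0, 2, 5, 3, 1, -3, 3, -1, 1, 0, 0],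
   [-10, -6, 3, 2, 1, 1, -2, 1, 2, 1, 2, 5, 2, 0, 2, -1, 3, 1, -3, -3, -1, 1, 0, 0],
   [26, 18, -9, -4, -5, -5, -2, -5, -4, -5, -4, -7, -4, 0, 2, -1, -3, 1, 3, 3, 5, 1, 0, 0],
   [-10, -6, 3, -4, -5, 1, -2, 1, 2, -5, -4, -1, 2, 0, 2, 5, 3, 7, 3, 3, 5, 1, 0, 0],
   [8, 6, -3, -4, 1, 1, -2, 1, 2, 1, 2, -1, -4, 0, 2, -1, -3, 1, -3, -3, -1, 1, 0, 0],
   [-10, -6, 3, 2, 7, 1, -2, 1, -4, 1, 2, -1, 2, 6, 2, -1, 3, 1, -3, -3, -1, 1, 0, 0],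
   [8, 6, -3, 2, 1, -5, -2, 1, -4, 1, 2, -1, 2, 0, -4, -1, -3, -5, 3, 3, -1, 1, 0, 0],
   [26, 14, -9, -2, 1, -3, -2, -1, -4, -1, 2, -3, -4, -2, -2, -3, -5, -1, 3, 1, 1, -1, -4, 0]]

/-- The selected basis. -/
def sel : List Nat :=
  [0, 1, 2, 3, 4, 5, 7, 8, 9, 11, 12, 13, 19, 20, 21, 23, 24, 25, 35, 36, 37, 43, 45, 67]

/-- The words of one level of the chain. -/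
def words0 : List (List Nat) :=
  [[],
   [0, 1],
   [0, 2, 1, 4],
   [0, 3, 4, 4],
   [0, 1, 4],
   [2, 2],
   [3, 4, 0, 3],
   [0],
   [2, 0],
   [0, 1, 4, 2],
   [3, 0, 1],
   [0, 1, 4, 0],
   [1, 3, 4, 1],
   [2, 4, 4],
   [0, 4, 2],
   [2, 0, 0],
   [2, 4, 0],
   [0, 1, 4, 0, 2],
   [3],
   [1, 2, 0],
   [0, 1, 1],
   [2, 4, 1, 0],
   [0, 4, 1],
   [4, 1, 2],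
   [2, 4, 1, 4],
   [0, 0, 0],
   [3, 0, 4],
   [2, 0, 1],
   [0, 1, 1, 3],
   [0, 0, 1],
   [1, 3, 4, 0],
   [2, 3, 4, 4],
   [0, 3, 2],
   [3, 4, 3],
   [0, 0],
   [4, 2, 3],
   [2, 4],
   [1, 2],
   [4, 1, 4, 0],
   [0, 0, 1, 1],
   [3, 4, 3, 2],
   [0, 1, 1, 2],
   [2, 4, 1],
   [3, 0],
   [3, 1, 1],
   [3, 4, 0, 1],
   [0, 2, 3],
   [4, 3, 2],
   [2, 2, 4, 4],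
   [0, 3, 3],
   [1, 0],
   [2, 4, 2, 2],
   [3, 1, 0],
   [4, 0, 1],
   [3, 4, 1],
   [1, 4],
   [3, 4, 0],
   [3, 1],
   [1, 1, 1, 0],
   [4, 1, 0],
   [2],
   [3, 4],
   [4, 0],
   [0, 0, 3],
   [2, 2, 2],
   [2, 4, 2],
   [4, 3, 0],
   [0, 1, 3, 2],
   [1, 3, 4],
   [2, 0, 3],
   [0, 1, 0],
   [4, 3, 4],
   [3, 4, 0, 0],
   [1, 1, 2],
   [2, 3, 4],
   [4, 2, 0],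
   [0, 1, 2, 4],
   [4, 1, 4],
   [3, 4, 2],
   [3, 3],
   [0, 1, 2],
   [1],
   [4, 4, 2],
   [4, 0, 0],
   [4, 2],
   [4],
   [0, 3, 1],
   [0, 1, 3],
   [0, 2, 1],
   [4, 3, 1],
   [0, 3],
   [0, 0, 0, 4],
   [4, 4],
   [0, 0, 4],
   [4, 1],
   [1, 1],
   [0, 2, 0],
   [2, 2, 4],
   [0, 4],
   [3, 4, 2, 3],
   [0, 3, 4],
   [2, 3],
   [4, 2, 1],
   [1, 4, 0],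
   [0, 3, 4, 0],
   [0, 3, 4, 3],
   [1, 3, 2],
   [0, 2],
   [1, 3],
   [1, 1, 1],
   [1, 0, 4],
   [4, 3]]

/-- The words of one level of the chain. -/
def words1 : List (List Nat) :=
  [[],
   [0, 0, 4, 3, 2, 1],
   [2, 0, 1, 3, 1, 3],
   [0, 3, 3, 3, 4, 0, 0],
   [1, 0, 3, 1, 3, 1],
   [0, 1, 2, 4, 2, 1, 1],
   [1, 2, 4, 0, 1, 0, 2],
   [0, 0, 3, 2, 0, 1],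
   [4, 0, 4, 1, 1],
   [1, 4, 4, 0, 0, 2, 2],
   [1, 0, 2, 0, 2, 2],
   [0, 3, 3, 4, 0, 1],
   [1, 2, 0, 2, 2, 3],
   [0, 4, 1, 1, 0],
   [0, 3, 4, 1, 2, 4, 4],
   [0, 2, 0, 1, 4, 1, 2],
   [2, 0, 0, 2, 1, 3],
   [2, 4, 0, 1, 1, 4],
   [1, 2, 1, 4, 0, 1],
   [1, 1, 4, 1, 1, 1],
   [1, 4, 0, 2, 3, 4, 0],
   [1, 2, 2, 0, 2, 0],
   [2, 0, 2, 0, 1, 4, 0],
   [1, 2, 4, 0, 2, 3, 3],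
   [1, 2, 3, 4, 0, 3, 4],
   [2, 1, 2, 3],
   [1, 1, 3, 1],
   [0, 3, 2, 0, 4, 3, 2],
   [2, 0, 1, 1, 1, 3],
   [2, 0, 4, 2, 0, 3],
   [0, 0, 4, 1],
   [0, 1, 3, 4, 0, 2],
   [1, 4, 4, 3, 0, 3],
   [0, 1, 2, 4, 3, 2],
   [3, 1, 0, 4, 0],
   [3, 2, 0, 4, 3],
   [1, 2, 4, 3],
   [0, 0, 4, 0, 0, 2, 1],
   [1, 3, 0, 0, 3],
   [4, 1, 0, 3, 4, 2],
   [0, 1, 3, 0],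
   [0, 4, 0, 2, 4, 1, 2],
   [3, 1, 1, 0, 2],
   [1, 4, 4, 2, 3, 1],
   [1, 0, 0, 3, 3],
   [1, 1, 3, 0, 1, 0],
   [2, 0, 1, 0, 4, 0, 3],
   [1, 4, 2, 3],
   [0, 2, 4, 4, 2, 3],
   [0, 4, 4, 0, 3],
   [3, 1, 3, 4, 3],
   [1, 4, 4, 3, 2, 1, 0],
   [3, 2, 2, 1, 0, 1],
   [0, 4, 0, 3, 0],
   [0, 2, 4, 2, 4, 3],
   [4, 2, 2, 2, 0, 4],
   [3, 0, 0, 1],
   [0, 2, 0, 4, 3, 0],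
   [0, 0, 2, 3, 1, 3, 1],
   [0, 0, 4, 2, 2, 1],
   [1, 2, 4, 1, 2, 1],
   [0, 2, 2, 3, 1],
   [0, 0, 2, 2, 0, 2, 2],
   [3, 4, 2, 0, 4],
   [0, 3, 2, 3, 0, 1],
   [0, 4, 1, 1, 4, 0, 2],
   [0, 4, 3, 4, 3, 2, 4],
   [0, 4, 3, 2, 2],
   [0, 0, 4, 0, 1, 0],
   [0, 0, 2, 3, 2, 4, 3],
   [3, 1, 2, 3, 3],
   [2, 3, 1, 2, 4, 3, 1],
   [0, 0, 4, 3, 3, 0, 0],
   [0, 1, 0, 1, 3, 3],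
   [1, 0, 2, 4, 3, 0],
   [0, 4, 0, 2, 4, 3, 2],
   [1, 4, 4, 0, 4, 3, 0],
   [0, 1, 2, 2, 3, 0],
   [1, 4, 3, 0, 3, 3],
   [3, 0, 2, 1, 4, 0],
   [0, 3, 4, 1, 0, 4]]

/-- The words of one level of the chain. -/
def words2 : List (List Nat) :=
  [[],
   [0, 2, 3, 0, 3],
   [0, 1, 1, 1, 4, 0, 3, 0, 4],
   [0, 4, 0, 3, 3, 0, 1, 3, 3],
   [1, 0, 2, 1, 2, 2, 4, 3, 2],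
   [3, 1, 0, 4, 4, 2, 4, 0],
   [2, 3, 0, 1, 2, 1, 4, 1],
   [1, 3, 3, 4, 4, 2, 4, 3],
   [0, 1, 3, 4, 3, 1, 3, 2],
   [1, 1, 4, 1, 3, 3, 1, 1],
   [0, 2, 0, 3, 0, 3, 0, 4, 1],
   [0, 0, 1, 3],
   [0, 1, 3, 1, 0, 4, 1, 2, 1],
   [1, 1, 0, 4, 0, 3, 4],
   [4, 2, 4, 2],
   [0, 4, 0, 3, 2, 2, 4, 2, 0],
   [0, 4, 4, 2, 4, 1, 0, 2],
   [0, 3, 0, 2, 4, 2, 2, 3],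
   [0, 0, 4, 0, 1, 4, 4, 2, 0],
   [1, 0, 1, 2, 4, 2, 4],
   [0, 2, 0, 4, 3, 3, 3, 0],
   [1, 0, 2, 4, 0, 3, 2, 3, 3],
   [1, 1, 4, 4, 2, 4, 4, 3],
   [2, 2, 3, 0, 3, 0],
   [0, 4, 1, 1, 1, 0, 4, 3],
   [3, 1, 3, 2, 3, 4, 3],
   [0, 2, 4, 1, 3, 0, 1, 0],
   [0, 3, 0, 4, 1, 2, 1],
   [1, 1, 1, 0, 4, 0, 0, 3],
   [3, 0, 4, 4, 2, 1, 0, 1, 2]]

/-- The words of one level of the chain. -/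
def words3 : List (List Nat) :=
  [[],
   [1, 4, 0, 0, 3, 1, 3, 2],
   [3, 4, 0, 4, 4, 2, 1, 4, 1],
   [1, 0, 0, 4, 1, 1, 4, 0, 1, 0],
   [2, 1, 3, 2, 1, 4, 0, 2, 3],
   [1, 1, 4, 3, 4, 3, 0, 4],
   [0, 0, 0, 3, 2, 0, 4, 2, 0, 2],
   [0, 3, 0, 1, 4, 0, 3, 2, 1],
   [2, 3, 1, 2, 3, 0, 4, 0, 4, 0],
   [1, 2, 0, 4, 1, 1, 3, 4, 0, 1],
   [0, 1, 4, 0, 3, 2, 4, 2, 0, 0],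
   [2, 3, 1, 3, 2, 4, 0, 2, 0]]

/-- The base of the chain. -/
def base : List Nat :=
  [0, 5, 10, 17]

end Cfsg.Agent.Lib.Leech.Stab275Data
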