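import Cfsg.Agent.Lib.Leech.Stab352
import Cfsg.Agent.Lib.Leech.ConfigMcLGen
import Cfsg.Agent.Lib.Leech.Stab275Data
import Cfsg.Agent.Lib.UThreeThree.Table
import Cfsg.Agent.Lib.Semisimple.SUBasics
import Cfsg.Agent.Lib.PSUThreeTwo.Transport
import Cfsg.Agent.S0280

/-!
The stabiliser of one of the 275 vectors is `PSU(4, 3)`.

It acts on the 112 vectors at dot product 8 as `PSU(4, 3)` on the 112 totally isotropic lines. The
subgroup of the product generated by matching pairs of generators has injective projections and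
at least `112 · 81 · 30 · 12 = 3265920` elements, so it is the graph of an isomorphism.
-/

set_option autoImplicit false
set_option maxRecDepth 20000

namespace Cfsg.Agent.Lib.Leech.U43

open Cfsg
open Cfsg.Agent.Lib
open Cfsg.Agent.Lib.UThreeThree (Nine card_nine)
open Matrix

/-- Matrices. -/
abbrev M9 := Matrix (Fin 4) (Fin 4) Nine
/-- The special unitary group. -/
abbrev SU9 : Type := ↥(Cfsg.SU 4 Nine 3)
/-- The projective special unitary group. -/
abbrev PSU9 : Type := Cfsg.PSU 4 Nine 3

theorem hq : Fintype.card Nine = 3 ^ 2 := card_nine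

theorem card_PSU9 : Nat.card PSU9 = 3265920 := by
  have h := Cfsg.Agent.S0280.result hq 4 (by norm_num)
  norm_num [Finset.prod_range_succ, Nat.even_iff] at h
  show Nat.card (Cfsg.PSU 4 Nine 3) = 3265920
  omega

theorem mk_eq_iff9 (x y : SU9) :
    (QuotientGroup.mk x : PSU9) = QuotientGroup.mk y ↔ ∃ l : Nine, y.1.1 = l • x.1.1 := by
  rw [QuotientGroup.eq]
  have hmul : ∀ a b : SU9, (a * b).1.1 = a.1.1 * b.1.1 := fun _ _ => rfl
  constructor
  · intro h
    refine ⟨((x⁻¹ * y : SU9).1.1) 0 0, ?_⟩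
    have e := Classical.center_SU_scalar hq _ h 0
    have hy : y.1.1 = x.1.1 * (x⁻¹ * y : SU9).1.1 := by rw [← hmul, mul_inv_cancel_left]
    conv_lhs => rw [hy, e]
    ext i j
    simp [Matrix.mul_diagonal, mul_comm]
  · rintro ⟨l, hl⟩
    rw [Subgroup.mem_center_iff]
    have hc : (x⁻¹ * y : SU9).1.1 = l • 1 := by
      rw [hmul, hl, Matrix.mul_smul, ← hmul, inv_mul_cancel]
      rfl
    intro z
    refine Subtype.ext (Subtype.ext ?_)
    show z.1.1 * (x⁻¹ * y : SU9).1.1 = (x⁻¹ * y : SU9).1.1 * z.1.1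
    rw [hc, Matrix.mul_smul, Matrix.smul_mul, mul_one, one_mul]

/-- The group. -/
noncomputable abbrev H43 : Subgroup Co0 := tripleStab baseU baseC mclRoot

theorem mclRoot_code : codeOk ConfigData.mclRoot0 = true := mcl_checks.2.2.2.2.2.2.2.2

theorem card_H43 : Nat.card ↥H43 = 3265920 := by
  haveI := finite_co0
  have horb : MulAction.orbit ↥(pairStab baseU baseC) mclRoot = pairConfig baseU baseC 16 8 := by
    ext y
    constructor
    · rintro ⟨g, rfl⟩
      refine pairConfig_inv g _ (configOk_mem ?_)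
      decide +kernel
    · intro hy
      exact mcl_transitive hy
  have h := Nat.card_congr (MulAction.orbitProdStabilizerEquivGroup ↥(pairStab baseU baseC) mclRoot)
  have e : MulAction.stabilizer ↥(pairStab baseU baseC) mclRoot
      = (MulAction.stabilizer Co0 mclRoot).subgroupOf (pairStab baseU baseC) := by ext g; rfl
  have hd : sqNorm (baseU : GolayPt → ℤ) = 32 ∧ sqNorm (vec31 none) = 32 ∧
      dotInt repA (vec31 none) = -8 :=
    ⟨sqNorm_repA, by decide +kernel, by decide +kernel⟩
  rw [Nat.card_prod, Nat.card_coe_set_eq, horb, mcl_ncard,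
    show Nat.card ↥(pairStab baseU baseC) = 898128000 from card_stab_McL hd.1 hd.2.1 hd.2.2, e] at h
  rw [← Nat.card_congr (Subgroup.subgroupOfEquivOfLe
    (inf_le_left : pairStab baseU baseC ⊓ MulAction.stabilizer Co0 mclRoot ≤ _)).toEquiv,
    inf_comm, Subgroup.inf_subgroupOf_right]
  omega

/-- The code of one of the 112. -/
def repCode (i : Fin 112) : List ℤ := Stab275Data.reps.getD i.val []

/-- One of the 112. -/
noncomputable def rep (i : Fin 112) : leechLattice := denL (repCode i)

/-- A key, distinct on the 112. -/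
def key275 (c : List ℤ) : ℕ :=
  (c.foldl (fun acc x => acc * 16 + (x + 8).toNat) 0) % 113921

theorem reps_ok : (∀ i, codeOk (repCode i) = true) ∧
    Orbit.Coding.keysOk key275 ((List.finRange 112).map repCode) = true := by
  decide +kernel

theorem rep_coe (i : Fin 112) : (rep i : GolayPt → ℤ) = ofList (repCode i) :=
  denL_coe (reps_ok.1 i)

theorem rep_inj {i j : Fin 112} (h : rep i = rep j) : i = j :=
  List.inj_on_of_nodup_map (List.Nodup.of_map _ (Orbit.Coding.keysOk_nodup _ _ reps_ok.2))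
    (List.mem_finRange i) (List.mem_finRange j) (denL_inj (reps_ok.1 i) (reps_ok.1 j) h)

/-- A vector from numbers. -/
def vec9 (l : List Nat) : Fin 4 → Nine := fun k => ⟨Fin.ofNat 9 (l.getD k.val 0)⟩

/-- The entry of a line. -/
def lineD (i : Fin 112) : Nat × Nat × List Nat × List Nat :=
  Stab275Data.lines.getD i.val (0, 0, [], [])

/-- First pivot. -/
def pivA (i : Fin 112) : Fin 4 := Fin.ofNat 4 (lineD i).1
/-- Second pivot. -/
def pivB (i : Fin 112) : Fin 4 := Fin.ofNat 4 (lineD i).2.1
/-- First basis vector. -/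
def rowA (i : Fin 112) : Fin 4 → Nine := vec9 (lineD i).2.2.1
/-- Second basis vector. -/
def rowB (i : Fin 112) : Fin 4 → Nine := vec9 (lineD i).2.2.2

/-- Lying on a line. -/
def inLine (v : Fin 4 → Nine) (i : Fin 112) : Prop :=
  ∀ k, v k = v (pivA i) * rowA i k + v (pivB i) * rowB i k

instance inLine_decidable (v : Fin 4 → Nine) (i : Fin 112) : Decidable (inLine v i) :=
  inferInstanceAs (Decidable (∀ k, _ = _))

theorem inLine_comb {v w : Fin 4 → Nine} {i : Fin 112} (hv : inLine v i) (hw' : inLine w i)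
    (a b : Nine) : inLine (a • v + b • w) i := fun k => by
  simp only [Pi.add_apply, Pi.smul_apply, smul_eq_mul]
  linear_combination a * hv k + b * hw' k

theorem inLine_smul {v : Fin 4 → Nine} {i : Fin 112} (hv : inLine v i) (a : Nine) :
    inLine (a • v) i := fun k => by
  simp only [Pi.smul_apply, smul_eq_mul]
  linear_combination a * hv k

theorem line_sep : ∀ i j, inLine (rowA i) j → inLine (rowB i) j → i = j := by decide +kernel

theorem line_self : ∀ i, inLine (rowA i) i ∧ inLine (rowB i) i := by decide +kernel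

theorem inLine_eq {v : Fin 4 → Nine} {i : Fin 112} (hv : inLine v i) :
    v = v (pivA i) • rowA i + v (pivB i) • rowB i := funext hv

/-- How an element of the lattice group moves the 112. -/
def ActsH (g : Co0) (σ : Fin 112 → Fin 112) : Prop := ∀ i, g • rep i = rep (σ i)

/-- How an element of `PSU(4, 3)` moves the lines. -/
def ActsU (u : PSU9) (σ : Fin 112 → Fin 112) : Prop :=
  ∃ s : SU9, QuotientGroup.mk s = u ∧
    ∀ i, inLine (s.1.1 *ᵥ rowA i) (σ i) ∧ inLine (s.1.1 *ᵥ rowB i) (σ i)

theorem actsH_mul {g h : ↥H43} {σ τ : Fin 112 → Fin 112} (hg : ActsH g.1 σ) (hh : ActsH h.1 τ) :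
    ActsH (g * h).1 (σ ∘ τ) := fun i => by
  show (g.1 * h.1) • rep i = _
  rw [mul_smul, hh i, hg (τ i)]; rfl

theorem actsH_unique {g : Co0} {σ τ : Fin 112 → Fin 112} (h : ActsH g σ) (h' : ActsH g τ) :
    σ = τ := funext fun i => rep_inj ((h i).symm.trans (h' i))

theorem actsH_injective {g : Co0} {σ : Fin 112 → Fin 112} (h : ActsH g σ) :
    Function.Injective σ := fun x y hxy =>
  rep_inj (MulAction.injective g ((h x).trans ((congrArg rep hxy).trans (h y).symm)))

theorem actsU_mul {u u' : PSU9} {σ τ : Fin 112 → Fin 112} (hu : ActsU u σ) (hu' : ActsU u' τ) :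
    ActsU (u * u') (σ ∘ τ) := by
  obtain ⟨s, rfl, hs⟩ := hu
  obtain ⟨s', rfl, hs'⟩ := hu'
  refine ⟨s * s', rfl, fun i => ?_⟩
  have e : ∀ v, inLine (s'.1.1 *ᵥ v) (τ i) → inLine ((s * s').1.1 *ᵥ v) (σ (τ i)) := fun v hv => by
    show inLine ((s.1.1 * s'.1.1) *ᵥ v) _
    rw [← mulVec_mulVec, inLine_eq hv, mulVec_add, mulVec_smul, mulVec_smul]
    exact inLine_comb (hs (τ i)).1 (hs (τ i)).2 _ _
  exact ⟨e _ (hs' i).1, e _ (hs' i).2⟩

theorem actsU_one {σ : Fin 112 → Fin 112} (h : ActsU 1 σ) : σ = id := by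
  obtain ⟨s, hs, hp⟩ := h
  obtain ⟨l, hl⟩ := (mk_eq_iff9 1 s).1 hs.symm
  have h1 : (1 : SU9).1.1 = (1 : M9) := rfl
  have hl0 : l ≠ 0 := fun h0 => by
    have := s.1.2
    rw [hl, h0, zero_smul, Matrix.det_zero] at this
    exact zero_ne_one this
  funext i
  have e : ∀ v, inLine (s.1.1 *ᵥ v) (σ i) → inLine v (σ i) := fun v hv => by
    rw [hl, h1, smul_mulVec, one_mulVec] at hv
    have := inLine_smul hv l⁻¹
    rwa [inv_smul_smul₀ hl0] at this
  exact (line_sep i (σ i) (e _ (hp i).1) (e _ (hp i).2)).symm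

/-- One of five points in general position. -/
def five (m : Fin 5) : Fin 4 → Nine := vec9 (Stab275Data.five.getD m.val [])

/-- The first line through one of the five. -/
def fiveA (m : Fin 5) : Fin 112 := Fin.ofNat 112 (Stab275Data.fiveLines.getD m.val (0, 0)).1

/-- The second line through one of the five. -/
def fiveB (m : Fin 5) : Fin 112 := Fin.ofNat 112 (Stab275Data.fiveLines.getD m.val (0, 0)).2

theorem five_check : (∀ m, inLine (five m) (fiveA m) ∧ inLine (five m) (fiveB m)) ∧
    ∀ m, ∀ a b : Nine, inLine (a • rowA (fiveA m) + b • rowB (fiveA m)) (fiveB m) →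
      ∃ l : Nine, a • rowA (fiveA m) + b • rowB (fiveA m) = l • five m := by
  decide +kernel

/-- The four basis points as columns. -/
def quadPts : M9 := Matrix.of fun r k => five k.castSucc r

/-- A matrix from numbers. -/
def mat9 (l : List (List Nat)) : M9 := Matrix.of fun r k => vec9 (l.getD r.val []) k

theorem actsU_id {u : PSU9} (h : ActsU u id) (Q : M9) (hPQ : quadPts * Q = 1)
    (hQP : Q * quadPts = 1) (hne : ∀ k, (Q *ᵥ five 4) k ≠ 0) : u = 1 := by
  obtain ⟨s, rfl, hs⟩ := h
  set S : M9 := s.1.1 with hS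
  have hfix : ∀ m, ∃ l : Nine, S *ᵥ five m = l • five m := by
    intro m
    have e : ∀ i, inLine (five m) i → inLine (S *ᵥ five m) i := fun i hi => by
      rw [inLine_eq hi, mulVec_add, mulVec_smul, mulVec_smul]
      exact inLine_comb (hs i).1 (hs i).2 _ _
    have hA := e _ (five_check.1 m).1
    have hB := e _ (five_check.1 m).2
    rw [inLine_eq hA] at hB ⊢
    exact five_check.2 m _ _ hB
  choose L hL using hfix
  have hSP : S * quadPts = quadPts * Matrix.diagonal (fun k => L k.castSucc) := by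
    ext r k
    rw [Matrix.mul_apply, Matrix.mul_diagonal]
    have := congrFun (hL k.castSucc) r
    simp only [mulVec, dotProduct, Pi.smul_apply, smul_eq_mul] at this
    show ∑ j, S r j * five k.castSucc j = five k.castSucc r * _
    rw [this, mul_comm]
  have h7 : quadPts *ᵥ (Q *ᵥ five 4) = five 4 := by rw [mulVec_mulVec, hPQ, one_mulVec]
  have hd : Matrix.diagonal (fun k => L k.castSucc) *ᵥ (Q *ᵥ five 4) = L 4 • (Q *ᵥ five 4) := by
    rw [← mulVec_smul, ← hL 4]
    calc Matrix.diagonal (fun k => L k.castSucc) *ᵥ (Q *ᵥ five 4)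
        = (Q * (S * quadPts)) *ᵥ (Q *ᵥ five 4) := by
          rw [hSP, ← Matrix.mul_assoc, hQP, Matrix.one_mul]
      _ = Q *ᵥ (S *ᵥ (quadPts *ᵥ (Q *ᵥ five 4))) := by
          simp only [mulVec_mulVec, Matrix.mul_assoc]
      _ = _ := by rw [h7]
  have hl : ∀ k : Fin 4, L k.castSucc = L 4 := fun k => by
    have := congrFun hd k
    rw [mulVec_diagonal, Pi.smul_apply, smul_eq_mul] at this
    exact mul_right_cancel₀ (hne k) this
  rw [show Matrix.diagonal (fun k : Fin 4 => L k.castSucc) = L 4 • (1 : M9) by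
    ext a b
    rw [Matrix.diagonal_apply, Matrix.smul_apply, Matrix.one_apply, hl]
    split <;> simp] at hSP
  refine ((mk_eq_iff9 1 s).2 ⟨L 4, ?_⟩).symm
  show S = L 4 • (1 : M9)
  calc S = S * quadPts * Q := by rw [Matrix.mul_assoc, hPQ, Matrix.mul_one]
    _ = L 4 • (1 : M9) := by rw [hSP, Matrix.mul_smul, Matrix.mul_one, Matrix.smul_mul, hPQ]

/-- The spanning vectors. -/
def spanVec (k : Fin 24) : GolayPt → ℤ :=
  let n := Stab275Data.sel.getD k.val 0
  if n = 0 then repA else if n = 1 then vec31 none else if n = 2 then ofList ConfigData.mclRoot0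
  else ofList (repCode (Fin.ofNat 112 (n - 3)))

/-- The coefficients. -/
def coeff (p : GolayPt) (k : Fin 24) : ℤ :=
  ((Stab275Data.coeffs.getD (Golay.idx p).val []).getD k.val 0)

theorem coeff_check : ∀ p q : GolayPt,
    ∑ k, coeff p k * spanVec k q = if p = q then 24 else 0 := by
  decide +kernel

theorem coord_eq (f : GolayPt → ℤ) (p : GolayPt) :
    24 * f p = ∑ k, coeff p k * dotInt (spanVec k) f := by
  simp only [dotInt, Finset.mul_sum]
  rw [Finset.sum_comm]
  simp only [← mul_assoc, ← Finset.sum_mul, coeff_check]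
  simp

theorem actsH_id {g : ↥H43} (h : ActsH g.1 id) : g = 1 := by
  refine Subtype.ext ?_
  refine FaithfulSMul.eq_of_smul_eq_smul fun y : leechLattice => Subtype.ext (funext fun p => ?_)
  rw [show ((1 : ↥H43) : ↥Co0) = 1 from rfl, one_smul]
  have hfix : ∀ a : leechLattice, g.1 • a = a →
      dotInt (a : GolayPt → ℤ) ((g.1 • y : leechLattice) : GolayPt → ℤ)
        = dotInt (a : GolayPt → ℤ) (y : GolayPt → ℤ) := fun a ha => by
    have := dotInt_smul g.1 a y
    rwa [ha] at this
  have hsum : (24 : ℤ) * (g.1 • y : leechLattice).1 p = 24 * y.1 p := by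
    rw [coord_eq, coord_eq]
    refine Finset.sum_congr rfl fun k _ => congrArg (coeff p k * ·) ?_
    unfold spanVec
    simp only
    generalize Stab275Data.sel.getD k.val 0 = n
    split_ifs
    · exact hfix baseU g.2.1.1
    · exact hfix baseC g.2.1.2
    · have := hfix mclRoot g.2.2
      rwa [mclRoot, denL_coe mclRoot_code] at this
    · have := hfix (rep (Fin.ofNat 112 (n - 3))) (h _)
      rwa [rep_coe] at this
  omega

/-- A generator word. -/
def wordsG (b : Fin 5) : List Step := Stab275Data.gens.getD b.val []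

/-- A permutation. -/
def permG (b : Fin 5) (i : Fin 112) : Fin 112 :=
  Fin.ofNat 112 ((Stab275Data.perms.getD b.val []).getD i.val 0)

/-- A matrix. -/
def matU (b : Fin 5) : M9 := mat9 (Stab275Data.mats.getD b.val [])

theorem matU_cond : ∀ b, ((matU b).map fun x => x ^ 3).transpose * matU b = 1 ∧ (matU b).det = 1 := by
  decide +kernel

/-- A unitary generator. -/
def genU (b : Fin 5) : PSU9 :=
  QuotientGroup.mk
    ⟨⟨matU b, (matU_cond b).2⟩, (Semisimple.mem_SU_iff hq _).2 (matU_cond b).1⟩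

theorem genU_check : ∀ b i, inLine (matU b *ᵥ rowA i) (permG b i) ∧
    inLine (matU b *ᵥ rowB i) (permG b i) := by
  decide +kernel

theorem genH_check : ∀ b, (wordsG b).all stepOk = true ∧
    pairValid baseU baseC (wordsG b) = true ∧
    runList (wordsG b) ConfigData.mclRoot0 = ConfigData.mclRoot0 ∧
    (List.finRange 112).all (fun i =>
      runList (wordsG b) (repCode i) == repCode (permG b i)) = true := by
  decide +kernel

theorem genH_mem (b : Fin 5) : wordEl (wordsG b) ∈ H43 := by
  refine ⟨pairValid_mem (genH_check b).2.1, ?_⟩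
  refine Subtype.ext ?_
  rw [wordEl_smul _ (genH_check b).1 mclRoot _ (denL_coe mclRoot_code).symm, (genH_check b).2.2.1]
  exact (denL_coe mclRoot_code).symm

/-- A generator of the stabiliser. -/
noncomputable def genH (b : Fin 5) : ↥H43 := ⟨wordEl (wordsG b), genH_mem b⟩

theorem genH_acts (b : Fin 5) : ActsH (genH b).1 (permG b) := by
  intro i
  have e := wordEl_smul _ (genH_check b).1 (rep i) _ (rep_coe i).symm
  have h := beq_iff_eq.1 (List.all_eq_true.1 (genH_check b).2.2.2 i (List.mem_finRange i))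
  exact Subtype.ext (by rw [rep_coe, ← h]; exact e)

/-- A matching pair with its permutation. -/
def Good (z : ↥H43 × PSU9) (σ : Fin 112 → Fin 112) : Prop := ActsH z.1.1 σ ∧ ActsU z.2 σ

theorem good_one : Good 1 id :=
  ⟨fun i => one_smul _ _, 1, rfl, fun i => by
    rw [show ((1 : SU9).1.1 : M9) = 1 from rfl, one_mulVec, one_mulVec]
    exact line_self i⟩

theorem good_gen (b : Fin 5) : Good (genH b, genU b) (permG b) :=
  ⟨genH_acts b, _, rfl, genU_check b⟩

/-- The matching pairs. -/
def graph : Submonoid (↥H43 × PSU9) where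
  carrier := {z | ∃ σ, Good z σ}
  one_mem' := ⟨id, good_one⟩
  mul_mem' := fun ⟨σ, a, b⟩ ⟨τ, c, d⟩ => ⟨σ ∘ τ, actsH_mul a c, actsU_mul b d⟩

/-- The graph of the isomorphism. -/
noncomputable def K43 : Subgroup (↥H43 × PSU9) :=
  Subgroup.closure (Set.range fun b => (genH b, genU b))

instance finite_H43 : Finite ↥H43 := Nat.finite_of_card_ne_zero (by rw [card_H43]; norm_num)

theorem K43_good {z : ↥H43 × PSU9} (hz : z ∈ K43) : ∃ σ, Good z σ := by
  have h : z ∈ Submonoid.closure (Set.range fun b => (genH b, genU b)) := by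
    rw [← Subgroup.closure_toSubmonoid_of_finite]; exact hz
  exact (Submonoid.closure_le.2 (by rintro _ ⟨b, rfl⟩; exact ⟨_, good_gen b⟩) :
    Submonoid.closure (Set.range fun b => (genH b, genU b)) ≤ graph) h

/-- The permutation of a word. -/
def runW (w : List Nat) (i : Fin 112) : Fin 112 := w.foldl (fun j b => permG (Fin.ofNat 5 b) j) i

/-- The element of a word. -/
noncomputable def eltW (w : List Nat) : ↥H43 × PSU9 :=
  w.foldl (fun z b => (genH (Fin.ofNat 5 b), genU (Fin.ofNat 5 b)) * z) 1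

theorem eltW_spec (w : List Nat) : eltW w ∈ K43 ∧ Good (eltW w) (runW w) := by
  have main : ∀ (w : List Nat) (z : ↥H43 × PSU9) (σ : Fin 112 → Fin 112),
      z ∈ K43 → Good z σ →
      w.foldl (fun z b => (genH (Fin.ofNat 5 b), genU (Fin.ofNat 5 b)) * z) z ∈ K43 ∧
        Good (w.foldl (fun z b => (genH (Fin.ofNat 5 b), genU (Fin.ofNat 5 b)) * z) z)
          (fun i => runW w (σ i)) := by
    intro w
    induction w with
    | nil => intro z σ h h'; exact ⟨h, h'⟩
    | cons b w ih =>
      intro z σ h h'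
      exact ih _ (permG (Fin.ofNat 5 b) ∘ σ) (mul_mem (Subgroup.subset_closure ⟨_, rfl⟩) h)
        ⟨actsH_mul (good_gen _).1 h'.1, actsU_mul (good_gen _).2 h'.2⟩
  exact main w 1 id (one_mem _) good_one

theorem runW_append (a b : List Nat) (i : Fin 112) : runW (a ++ b) i = runW b (runW a i) :=
  List.foldl_append

/-- A word of the first level. -/
def lev0 (t : Fin 112) : List Nat := Stab275Data.words0.getD t.val []
/-- A word of the second level. -/
def lev1 (t : Fin 81) : List Nat := Stab275Data.words1.getD t.val []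
/-- A word of the third level. -/
def lev2 (t : Fin 30) : List Nat := Stab275Data.words2.getD t.val []
/-- A word of the fourth level. -/
def lev3 (t : Fin 12) : List Nat := Stab275Data.words3.getD t.val []

theorem chain_check :
    ((List.finRange 112).map fun t => (runW (lev0 t) 0).val).Nodup ∧
    (∀ t, runW (lev1 t) 0 = 0) ∧ ((List.finRange 81).map fun t => (runW (lev1 t) 5).val).Nodup ∧
    (∀ t, runW (lev2 t) 0 = 0 ∧ runW (lev2 t) 5 = 5) ∧
    ((List.finRange 30).map fun t => (runW (lev2 t) 10).val).Nodup ∧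
    (∀ t, runW (lev3 t) 0 = 0 ∧ runW (lev3 t) 5 = 5 ∧ runW (lev3 t) 10 = 10) ∧
    ((List.finRange 12).map fun t => (runW (lev3 t) 17).val).Nodup := by
  decide +kernel

theorem card_K43 : 3265920 ≤ Nat.card ↥K43 := by
  let f : Fin 112 × Fin 81 × Fin 30 × Fin 12 → ↥K43 := fun t =>
    ⟨eltW (lev3 t.2.2.2 ++ lev2 t.2.2.1 ++ lev1 t.2.1 ++ lev0 t.1), (eltW_spec _).1⟩
  have hf : Function.Injective f := by
    rintro ⟨a, b, c, d⟩ ⟨a', b', c', d'⟩ h
    have h2 : eltW (lev3 d ++ lev2 c ++ lev1 b ++ lev0 a)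
        = eltW (lev3 d' ++ lev2 c' ++ lev1 b' ++ lev0 a') := congrArg Subtype.val h
    have h3 := (eltW_spec (lev3 d' ++ lev2 c' ++ lev1 b' ++ lev0 a')).2.1
    rw [← h2] at h3
    have hσ := actsH_unique (eltW_spec (lev3 d ++ lev2 c ++ lev1 b ++ lev0 a)).2.1 h3
    have e : ∀ x, runW (lev0 a) (runW (lev1 b) (runW (lev2 c) (runW (lev3 d) x)))
        = runW (lev0 a') (runW (lev1 b') (runW (lev2 c') (runW (lev3 d') x))) := fun x => by
      have := congrFun hσ x
      simpa only [runW_append] using this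
    obtain ⟨n0, f1, n1, f2, n2, f3, n3⟩ := chain_check
    have ha : a = a' := by
      have := e 0
      rw [(f3 d).1, (f3 d').1, (f2 c).1, (f2 c').1, f1, f1] at this
      exact List.inj_on_of_nodup_map n0 (List.mem_finRange _) (List.mem_finRange _)
        (congrArg Fin.val this)
    subst ha
    have e1 := fun x => actsH_injective (eltW_spec (lev0 a)).2.1 (e x)
    have hb : b = b' := by
      have := e1 5
      rw [(f3 d).2.1, (f3 d').2.1, (f2 c).2, (f2 c').2] at this
      exact List.inj_on_of_nodup_map n1 (List.mem_finRange _) (List.mem_finRange _)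
        (congrArg Fin.val this)
    subst hb
    have e2 := fun x => actsH_injective (eltW_spec (lev1 b)).2.1 (e1 x)
    have hc : c = c' := by
      have := e2 10
      rw [(f3 d).2.2, (f3 d').2.2] at this
      exact List.inj_on_of_nodup_map n2 (List.mem_finRange _) (List.mem_finRange _)
        (congrArg Fin.val this)
    subst hc
    have hd : d = d' :=
      List.inj_on_of_nodup_map n3 (List.mem_finRange _) (List.mem_finRange _)
        (congrArg Fin.val (actsH_injective (eltW_spec (lev2 c)).2.1 (e2 17)))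
    subst hd
    rfl
  have := Nat.card_le_card_of_injective f hf
  simpa using this

/-- The inverse of the four basis points. -/
def quadInv : M9 := mat9 [[0, 2, 0, 1], [5, 1, 1, 8], [8, 0, 2, 3], [0, 1, 0, 0]]

theorem quad_check : quadPts * quadInv = 1 ∧ quadInv * quadPts = 1 ∧
    ∀ k, (quadInv *ᵥ five 4) k ≠ 0 := by
  decide +kernel

theorem psu43_iso : Nonempty (↥H43 ≃* PSU9) := by
  let p1 : ↥K43 →* ↥H43 := (MonoidHom.fst _ _).comp K43.subtype
  let p2 : ↥K43 →* PSU9 := (MonoidHom.snd _ _).comp K43.subtype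
  have h1 : Function.Injective p1 := by
    rw [← MonoidHom.ker_eq_bot_iff, Subgroup.eq_bot_iff_forall]
    rintro ⟨⟨g, u⟩, hz⟩ hg
    obtain ⟨σ, hA, hU⟩ := K43_good hz
    obtain rfl : g = 1 := hg
    obtain rfl : σ = id := actsH_unique hA (fun i => one_smul _ _)
    exact Subtype.ext (Prod.ext rfl (actsU_id hU _ quad_check.1 quad_check.2.1 quad_check.2.2))
  have h2 : Function.Injective p2 := by
    rw [← MonoidHom.ker_eq_bot_iff, Subgroup.eq_bot_iff_forall]
    rintro ⟨⟨g, u⟩, hz⟩ hu
    obtain ⟨σ, hA, hU⟩ := K43_good hz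
    obtain rfl : u = 1 := hu
    obtain rfl : σ = id := actsU_one hU
    exact Subtype.ext (Prod.ext (actsH_id hA) rfl)
  have hfin : Finite PSU9 := Nat.finite_of_card_ne_zero (by rw [card_PSU9]; norm_num)
  have hb1 : Function.Bijective p1 := (Nat.bijective_iff_injective_and_card _).2
    ⟨h1, le_antisymm (Nat.card_le_card_of_injective p1 h1) (card_H43.le.trans card_K43)⟩
  have hb2 : Function.Bijective p2 := (Nat.bijective_iff_injective_and_card _).2
    ⟨h2, le_antisymm (Nat.card_le_card_of_injective p2 h2) (card_PSU9.le.trans card_K43)⟩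
  exact ⟨(MulEquiv.ofBijective p1 hb1).symm.trans (MulEquiv.ofBijective p2 hb2)⟩

theorem stab275_psu {u v x : leechLattice} (hu : sqNorm (u : GolayPt → ℤ) = 48)
    (hv : sqNorm (v : GolayPt → ℤ) = 32) (huv : sqNorm ((u - v) : GolayPt → ℤ) = 32)
    (hx : x ∈ mclSet u v) (F : Type) [Field F] [Fintype F] (hF : Fintype.card F = 9) :
    Nonempty (↥(tripleStab u v x) ≃* Cfsg.PSU 4 F 3) := by
  obtain ⟨φ⟩ := psu43_iso
  obtain ⟨f, a, b, c⟩ := mclSet_frame hu hv huv hx
  have ψ := tripleStabEquiv f baseU baseC mclRoot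
  rw [a, b, c] at ψ
  have e : tripleStab u v x = tripleStab v (u - v) x := by
    ext g
    simp only [Subgroup.mem_inf, MulAction.mem_stabilizer_iff, smul_sub']
    constructor
    · rintro ⟨⟨p, q⟩, r⟩; exact ⟨⟨q, by rw [p, q]⟩, r⟩
    · rintro ⟨⟨q, p⟩, r⟩
      rw [q] at p
      exact ⟨⟨sub_left_inj.mp p, q⟩, r⟩
  exact ⟨((MulEquiv.subgroupCongr e).trans (ψ.symm.trans φ)).trans (PSUThreeTwo.psuMap
    (FiniteField.ringEquivOfCardEq (card_nine.trans hF.symm)))⟩

end Cfsg.Agent.Lib.Leech.U43
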