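import Cfsg.Agent.Lib.Leech.Line48

/-!
The 352 minimal vectors with dot products `16` and `-24` with two vectors of squared length 48 at
dot product `-32`: one orbit of the joint stabiliser, whose point stabiliser has order 126000.
-/

set_option autoImplicit false
set_option maxRecDepth 20000

namespace Cfsg.Agent.Lib.Leech

open Cfsg
open Cfsg.Agent.Lib

/-- The set of 352 vectors. -/
def set352 (v w : leechLattice) : Set leechLattice := pairConfig v w 16 (-24)

theorem neg_sub_mem352 {v w x : leechLattice} (hw' : sqNorm (w : GolayPt → ℤ) = 48)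
    (hvw : dotInt (v : GolayPt → ℤ) (w : GolayPt → ℤ) = -32) (hx : x ∈ set352 v w) :
    -w - x ∈ set352 v w := by
  obtain ⟨h1, h2, h3⟩ := hx
  have e : ∀ f : GolayPt → ℤ, dotInt f ((-w - x : leechLattice) : GolayPt → ℤ)
      = -(dotInt f (w : GolayPt → ℤ) + dotInt f (x : GolayPt → ℤ)) := fun f => by
    simp only [dotInt, AddSubgroup.coe_sub, AddSubgroup.coe_neg, Pi.sub_apply, Pi.neg_apply,
      ← Finset.sum_add_distrib, ← Finset.sum_neg_distrib]
    exact Finset.sum_congr rfl fun i _ => by ring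
  refine ⟨?_, ?_, ?_⟩
  · have a : dotInt ((-w - x : leechLattice) : GolayPt → ℤ) (w : GolayPt → ℤ)
        = -(sqNorm (w : GolayPt → ℤ) + -24) := by
      rw [dotInt_comm, e, dotInt_self, h3]
    have b : dotInt ((-w - x : leechLattice) : GolayPt → ℤ) (x : GolayPt → ℤ) = -(-24 + 32) := by
      rw [dotInt_comm, e, dotInt_self, dotInt_comm (x : GolayPt → ℤ), h3, h1]
    rw [← dotInt_self, e, a, b, hw']
    norm_num
  · rw [e, h2, hvw]; norm_num
  · rw [e, h3, dotInt_self, hw']; norm_num

/-- The base point. -/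
noncomputable def base352 : leechLattice := -denL Line48Data.root0

theorem set352_base_eq :
    set352 hsBaseV hsBaseW = MulAction.orbit ↥(pairStab hsBaseV hsBaseW) base352 := by
  have hset : MulAction.orbit ↥(pairStab hsBaseV hsBaseW) (denL Line48Data.root0)
      = line48Orbit Line48Data.root0 := by rw [line48Orbit, pairStab_line48]
  have hneg : ∀ y : leechLattice, y ∈ set352 hsBaseV hsBaseW ↔
      (-y ∈ line48Set hsBaseV ∧
        dotInt (hsBaseX : GolayPt → ℤ) ((-y : leechLattice) : GolayPt → ℤ) = -8) := by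
    intro y
    have e1 : dotInt (hsBaseX : GolayPt → ℤ) ((-y : leechLattice) : GolayPt → ℤ)
        = dotInt (hsBaseV : GolayPt → ℤ) (y : GolayPt → ℤ)
          + dotInt (hsBaseW : GolayPt → ℤ) (y : GolayPt → ℤ) := by
      simp only [hsBaseX, dotInt, AddSubgroup.coe_neg, AddSubgroup.coe_add, Pi.neg_apply,
        Pi.add_apply, ← Finset.sum_add_distrib]
      exact Finset.sum_congr rfl fun i _ => by ring
    rw [e1]
    simp only [set352, pairConfig, line48Set, Set.mem_ofPred_eq, AddSubgroup.coe_neg,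
      sqNorm_neg, dotInt_comm (hsBaseV : GolayPt → ℤ) (-(y : GolayPt → ℤ)), dotInt_neg_left',
      dotInt_comm (y : GolayPt → ℤ) (hsBaseV : GolayPt → ℤ)]
    constructor
    · rintro ⟨a, b, c⟩; exact ⟨⟨a, by omega⟩, by omega⟩
    · rintro ⟨⟨a, b⟩, c⟩; exact ⟨a, by omega, by omega⟩
  ext y
  rw [hneg]
  constructor
  · rintro ⟨h1, h2⟩
    have hmem : -y ∈ line48Orbit Line48Data.root0 := by
      rw [line48_suborbits_base.2.2.2.2] at h1
      rcases h1 with (((h | h) | h) | h) | h
      · rw [Set.mem_singleton_iff.1 h, dotInt_self, hsBaseX_mem.1] at h2; omega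
      · exact h
      · have := (line48Orbit_sub line48_check1 _ h).2; omega
      · have := (line48Orbit_sub line48_check2 _ h).2; omega
      · have := (line48Orbit_sub line48_check3 _ h).2; omega
    rw [← hset] at hmem
    obtain ⟨g, hg⟩ := hmem
    refine ⟨g, ?_⟩
    show g.1 • base352 = y
    rw [base352, smul_neg', show g.1 • denL Line48Data.root0 = -y from hg, neg_neg]
  · rintro ⟨g, rfl⟩
    have hmem : g • denL Line48Data.root0 ∈ line48Orbit Line48Data.root0 := hset ▸ ⟨g, rfl⟩
    have hval : -(g • base352) = g • denL Line48Data.root0 := by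
      show -(g.1 • base352) = g.1 • denL Line48Data.root0
      rw [base352, smul_neg', neg_neg]
    rw [show -((fun m : ↥(pairStab hsBaseV hsBaseW) => m • base352) g)
      = g • denL Line48Data.root0 from hval]
    exact line48Orbit_sub line48_check0 _ hmem

theorem set352_base_ncard : (set352 hsBaseV hsBaseW).ncard = 352 := by
  have h : set352 hsBaseV hsBaseW
      = (fun y : leechLattice => -y) '' line48Orbit Line48Data.root0 := by
    rw [set352_base_eq, line48Orbit, pairStab_line48]
    ext y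
    constructor
    · rintro ⟨g, rfl⟩
      exact ⟨g • denL Line48Data.root0, ⟨g, rfl⟩, (smul_neg' g.1 (denL Line48Data.root0)).symm⟩
    · rintro ⟨_, ⟨g, rfl⟩, rfl⟩
      exact ⟨g, smul_neg' g.1 (denL Line48Data.root0)⟩
  rw [h, Set.ncard_image_of_injective _ neg_injective, line48_suborbits_base.1]

theorem set352_frame {v w x : leechLattice} (hv : sqNorm (v : GolayPt → ℤ) = 48)
    (hw' : sqNorm (w : GolayPt → ℤ) = 48)
    (hvw : dotInt (v : GolayPt → ℤ) (w : GolayPt → ℤ) = -32) (hx : x ∈ set352 v w) :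
    ∃ f : Co0, f • hsBaseV = v ∧ f • hsBaseW = w ∧ f • base352 = x := by
  obtain ⟨g, hg1, hg2⟩ := exists_hs_frame v w hv hw' hvw
  rw [set352, ← hg1, ← hg2, pairConfig_smul] at hx
  obtain ⟨y, hy, rfl⟩ := hx
  obtain ⟨k, hk⟩ : y ∈ MulAction.orbit ↥(pairStab hsBaseV hsBaseW) base352 := set352_base_eq ▸ hy
  exact ⟨g * k.1, by rw [mul_smul, show k.1 • hsBaseV = hsBaseV from k.2.1, hg1],
    by rw [mul_smul, show k.1 • hsBaseW = hsBaseW from k.2.2, hg2],
    by rw [mul_smul]; exact congrArg (fun z => g • z) hk⟩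

theorem set352_ncard {v w : leechLattice} (hv : sqNorm (v : GolayPt → ℤ) = 48)
    (hw' : sqNorm (w : GolayPt → ℤ) = 48)
    (hvw : dotInt (v : GolayPt → ℤ) (w : GolayPt → ℤ) = -32) : (set352 v w).ncard = 352 := by
  obtain ⟨g, hg1, hg2⟩ := exists_hs_frame v w hv hw' hvw
  rw [set352, ← hg1, ← hg2, pairConfig_smul,
    Set.ncard_image_of_injective _ (MulAction.injective g)]
  exact set352_base_ncard

theorem set352_transitive {v w x x' : leechLattice} (hv : sqNorm (v : GolayPt → ℤ) = 48)
    (hw' : sqNorm (w : GolayPt → ℤ) = 48)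
    (hvw : dotInt (v : GolayPt → ℤ) (w : GolayPt → ℤ) = -32) (hx : x ∈ set352 v w)
    (hx' : x' ∈ set352 v w) : ∃ g : Co0, g • v = v ∧ g • w = w ∧ g • x = x' := by
  obtain ⟨f, a, b, c⟩ := set352_frame hv hw' hvw hx
  obtain ⟨f', a', b', c'⟩ := set352_frame hv hw' hvw hx'
  refine ⟨f' * f⁻¹, ?_, ?_, ?_⟩
  · rw [mul_smul, show f⁻¹ • v = hsBaseV from inv_smul_eq_iff.2 a.symm, a']
  · rw [mul_smul, show f⁻¹ • w = hsBaseW from inv_smul_eq_iff.2 b.symm, b']
  · rw [mul_smul, show f⁻¹ • x = base352 from inv_smul_eq_iff.2 c.symm, c']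

/-- The joint stabiliser of three vectors. -/
abbrev tripleStab (a b c : leechLattice) : Subgroup Co0 :=
  MulAction.stabilizer Co0 a ⊓ MulAction.stabilizer Co0 b ⊓ MulAction.stabilizer Co0 c

theorem card_stab352 {v w x : leechLattice} (hv : sqNorm (v : GolayPt → ℤ) = 48)
    (hw' : sqNorm (w : GolayPt → ℤ) = 48)
    (hvw : dotInt (v : GolayPt → ℤ) (w : GolayPt → ℤ) = -32) (hx : x ∈ set352 v w) :
    Nat.card ↥(tripleStab v w x) = 126000 := by
  haveI := finite_co0
  have horb : MulAction.orbit ↥(pairStab v w) x = set352 v w := by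
    ext y
    constructor
    · rintro ⟨g, rfl⟩; exact pairConfig_inv g x hx
    · intro hy
      obtain ⟨g, h1, h2, h3⟩ := set352_transitive hv hw' hvw hx hy
      exact ⟨⟨g, h1, h2⟩, h3⟩
  have h := Nat.card_congr (MulAction.orbitProdStabilizerEquivGroup ↥(pairStab v w) x)
  have e : MulAction.stabilizer ↥(pairStab v w) x
      = (MulAction.stabilizer Co0 x).subgroupOf (pairStab v w) := by ext g; rfl
  rw [Nat.card_prod, Nat.card_coe_set_eq, horb, set352_ncard hv hw' hvw, card_stab_HS hv hw' hvw,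
    e] at h
  rw [← Nat.card_congr (Subgroup.subgroupOfEquivOfLe
    (inf_le_left : pairStab v w ⊓ MulAction.stabilizer Co0 x ≤ _)).toEquiv,
    inf_comm, Subgroup.inf_subgroupOf_right]
  omega

/-- Conjugate triple stabilisers are isomorphic. -/
def tripleStabEquiv (g : Co0) (a b c : leechLattice) :
    ↥(tripleStab a b c) ≃* ↥(tripleStab (g • a) (g • b) (g • c)) where
  toFun h := ⟨g * h.1 * g⁻¹, by
    have e : ∀ t : leechLattice, h.1 • t = t → (g * h.1 * g⁻¹) • g • t = g • t := fun t ht => by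
      rw [mul_smul, mul_smul, inv_smul_smul, ht]
    exact ⟨⟨e a h.2.1.1, e b h.2.1.2⟩, e c h.2.2⟩⟩
  invFun h := ⟨g⁻¹ * h.1 * g, by
    have e : ∀ t : leechLattice, h.1 • g • t = g • t → (g⁻¹ * h.1 * g) • t = t := fun t ht => by
      rw [mul_smul, mul_smul, ht, inv_smul_smul]
    exact ⟨⟨e a h.2.1.1, e b h.2.1.2⟩, e c h.2.2⟩⟩
  left_inv h := Subtype.ext (by simp [mul_assoc])
  right_inv h := Subtype.ext (by simp [mul_assoc])
  map_mul' h h' := Subtype.ext (by simp [mul_assoc])

end Cfsg.Agent.Lib.Leech
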