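import Mathlib.Init

/-!
Certificate data: PSU(3,5) as a three-vector stabiliser in the automorphism group of the lattice.
-/

set_option autoImplicit false
set_option maxRecDepth 20000
set_option maxHeartbeats 4000000

namespace Cfsg.Agent.Lib.Leech.Stab352Data

/-- The third vector. -/
def baseX : List Int :=
  [-2, 0, -2, 0, 0, 0, 0, 0, 0, 0, 0, 0, 0, -2, -2, -2, -2, -2, 0, 0, -2, 0, 0, 0]

/-- One vector of each of the 126 pairs. -/
def reps : List (List Int) :=
  [[0, 0, 0, 0, 0, 0, 0, 0, 2, 2, 0, 2, 0, 0, 2, 0, 2, 0, 2, 0, 0, 2, 0, 2],
   [0, 0, 2, 0, 2, 0, 2, 0, 0, 2, 0, 0, 0, 0, 0, 0, 0, 0, 0, 2, 2, 0, 2, 2],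
   [0, 0, 0, 0, 0, 2, 2, 0, 0, 2, 0, 2, 0, 0, 2, 0, 0, 2, 0, 0, 0, 0, 2, 2],
   [1, 1, 1, -1, 1, 1, 1, 1, -1, -1, -1, 1, 1, 1, 1, 1, -1, 1, 1, -1, -1, 1, 1, 3],
   [0, 0, 2, 0, 2, 0, 0, 0, 0, 0, 0, 2, 0, 2, 0, 0, 0, 0, 2, 2, 0, 2, 0, 2],
   [0, 0, 0, 2, 0, 2, 0, 0, 0, 0, 2, 2, 0, 2, 0, 0, 0, 2, 0, 2, 0, 0, 0, 2],
   [1, -1, 1, 1, -1, -1, 1, 1, 1, 1, 1, -1, 1, 1, 1, 1, -1, -1, -1, 1, 1, 1, 1, 3],
   [0, 2, 0, 0, 0, 0, 2, 0, 2, 0, 0, 0, 2, 0, 0, 2, 0, 0, 0, 2, 2, 0, 0, 2],
   [0, 2, 0, 0, 0, 0, 0, 0, 0, 0, 0, 2, 2, 0, 2, 0, 0, 2, 0, 2, 0, 2, 0, 2],
   [0, 2, 0, 0, 2, 0, 2, 2, 0, 0, 2, 0, 0, 0, 0, 0, 2, 0, 0, 0, 2, 0, 0, 2],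
   [0, 0, 0, 0, 0, 2, 2, 0, 2, 0, 0, 2, 0, 2, 0, 2, 0, 0, 2, 0, 0, 0, 0, 2],
   [0, 0, 0, 0, 0, 0, 2, 2, 0, 0, 2, 2, 0, 2, 2, 0, 0, 0, 0, 0, 0, 2, 0, 2],
   [0, 0, 0, 0, 2, 2, 0, 0, 2, 0, 2, 0, 0, 2, 0, 0, 2, 0, 0, 0, 0, 2, 0, 2],
   [1, 1, 1, -1, 1, 1, 1, -1, 1, 1, -1, 1, -1, -1, 1, 1, -1, 1, 1, 1, 1, 1, -1, 3],
   [0, 2, 0, 0, 2, 0, 0, 0, 2, 2, 0, 0, 0, 2, 0, 0, 0, 0, 2, 0, 2, 0, 0, 2],
   [0, 0, 0, 0, 0, 2, 2, 0, 0, 0, 0, 2, 0, 0, 0, 0, 2, 0, 0, 2, 2, 2, 0, 2],
   [1, -1, 1, 1, 1, 1, 1, 1, 1, -1, 1, -1, -1, 1, 1, 1, -1, 1, 1, 1, -1, 1, -1, 3],
   [0, 0, 0, 2, 0, 0, 2, 2, 0, 0, 0, 0, 0, 2, 0, 0, 0, 0, 2, 2, 2, 0, 0, 2],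
   [0, 0, 0, 0, 0, 0, 0, 2, 0, 2, 0, 2, 2, 2, 0, 0, 0, 2, 2, 0, 0, 0, 0, 2],
   [0, 2, 0, 2, 0, 0, 0, 0, 0, 0, 0, 2, 0, 2, 2, 0, 0, 0, 2, 0, 0, 0, 2, 2],
   [0, 2, 2, 2, 0, 0, 0, 0, 0, 2, 0, 0, 2, 2, 0, 0, 0, 0, 0, 2, 0, 0, 0, 2],
   [0, 0, 0, 0, 0, 0, 0, 2, 0, 2, 2, 0, 0, 0, 2, 0, 0, 0, 2, 0, 2, 0, 2, 2],
   [1, 1, -1, 1, 1, -1, 1, 1, 1, -1, -1, 1, 1, 1, -1, 1, 1, 1, 1, -1, 1, -1, 1, 3],
   [0, 2, 0, 0, 0, 2, 2, 0, 0, 0, 2, 0, 0, 0, 0, 2, 0, 2, 0, 0, 0, 2, 0, 2],
   [0, 2, 0, 2, 0, 0, 0, 0, 0, 0, 2, 0, 2, 0, 0, 0, 0, 2, 2, 0, 2, 0, 0, 2],
   [0, 2, 0, 0, 0, 0, 2, 2, 0, 2, 0, 0, 0, 2, 0, 2, 0, 0, 0, 0, 0, 0, 2, 2],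
   [1, 1, 1, -1, 1, 1, 1, 1, -1, 1, 1, -1, -1, -1, 1, 1, 1, 1, 1, 1, -1, -1, 1, 3],
   [0, 0, 0, 0, 0, 0, 0, 2, 2, 0, 0, 2, 2, 0, 2, 2, 0, 0, 0, 0, 0, 0, 2, 2],
   [0, 0, 0, 2, 0, 2, 0, 2, 0, 0, 0, 0, 0, 0, 0, 2, 0, 2, 2, 0, 0, 0, 2, 2],
   [0, 2, 0, 2, 2, 0, 0, 2, 0, 0, 0, 0, 0, 2, 0, 0, 0, 2, 0, 0, 0, 2, 0, 2],
   [0, 2, 2, 0, 2, 0, 0, 2, 0, 2, 0, 2, 0, 0, 2, 0, 0, 0, 0, 0, 0, 0, 0, 2],
   [1, 1, -1, -1, 1, -1, 1, 1, 1, -1, 1, -1, 1, 1, 1, 1, 1, 1, -1, 1, -1, 1, 1, 3],
   [0, 2, 2, 2, 0, 0, 0, 2, 2, 0, 0, 0, 0, 0, 0, 0, 0, 0, 0, 0, 2, 0, 2, 2],
   [1, 1, 1, 1, 1, -1, 1, -1, -1, 1, 1, 1, -1, 1, 1, 1, -1, 1, -1, 1, -1, 1, 1, 3],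
   [0, 0, 2, 2, 0, 0, 2, 2, 0, 2, 2, 0, 0, 0, 0, 0, 0, 2, 0, 0, 0, 0, 0, 2],
   [0, 0, 2, 0, 2, 0, 2, 2, 2, 0, 0, 0, 2, 2, 0, 0, 0, 0, 0, 0, 0, 0, 0, 2],
   [0, 0, 0, 2, 0, 2, 2, 0, 0, 0, 2, 0, 0, 0, 2, 0, 2, 0, 2, 0, 0, 0, 0, 2],
   [1, -1, 1, 1, 1, -1, 1, -1, 1, -1, 1, 1, 1, 1, 1, 1, 1, -1, 1, -1, -1, 1, 1, 3],
   [1, -1, 1, 1, -1, -1, -1, 1, 1, 1, 1, 1, 1, -1, -1, 1, 1, 1, 1, -1, 1, 1, 1, 3],
   [0, 2, 2, 2, 2, 0, 2, 0, 0, 0, 0, 0, 0, 0, 0, 2, 0, 0, 2, 0, 0, 0, 0, 2],
   [1, 1, -1, 1, 1, -1, -1, 1, 1, 1, 1, 1, -1, 1, 1, 1, 1, -1, -1, -1, 1, 1, 1, 3],
   [0, 0, 0, 2, 0, 0, 2, 0, 0, 0, 2, 2, 0, 0, 0, 2, 0, 0, 0, 0, 2, 0, 2, 2],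
   [0, 0, 0, 2, 0, 2, 0, 0, 0, 0, 0, 0, 2, 0, 2, 0, 0, 0, 0, 2, 2, 0, 2, 2],
   [0, 2, 0, 2, 2, 0, 0, 0, 2, 0, 0, 0, 2, 0, 2, 0, 2, 0, 0, 0, 0, 0, 0, 2],
   [0, 0, 0, 0, 0, 0, 2, 0, 2, 0, 2, 2, 2, 0, 0, 0, 2, 2, 0, 0, 0, 0, 0, 2],
   [0, 0, 0, 2, 2, 0, 0, 2, 0, 2, 0, 0, 2, 0, 0, 2, 0, 0, 0, 0, 2, 0, 0, 2],
   [1, 1, 1, -1, -1, -1, -1, 1, -1, 1, 1, 1, 1, 1, 1, 1, 1, -1, 1, 1, -1, 1, 1, 3],
   [0, 0, 2, 0, 2, 0, 0, 2, 0, 0, 2, 0, 0, 0, 0, 2, 0, 0, 0, 0, 0, 2, 2, 2],
   [0, 0, 0, 2, 0, 0, 2, 2, 2, 0, 0, 0, 0, 0, 0, 2, 2, 0, 0, 0, 0, 2, 0, 2],
   [0, 0, 0, 0, 2, 0, 2, 0, 0, 0, 2, 0, 0, 2, 0, 0, 0, 2, 2, 0, 0, 0, 2, 2],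
   [1, -1, -1, 1, -1, -1, 1, 1, 1, 1, 1, 1, -1, 1, 1, 1, 1, 1, 1, 1, -1, -1, 1, 3],
   [0, 2, 0, 0, 0, 0, 2, 0, 0, 0, 0, 0, 2, 2, 0, 0, 2, 0, 2, 0, 0, 2, 0, 2],
   [0, 0, 0, 2, 2, 0, 0, 0, 0, 0, 0, 0, 0, 0, 0, 0, 2, 0, 2, 0, 2, 2, 2, 2],
   [0, 0, 0, 0, 0, 0, 2, 0, 2, 2, 0, 0, 0, 2, 0, 0, 0, 2, 0, 2, 0, 2, 0, 2],
   [0, 2, 0, 2, 0, 0, 0, 2, 0, 0, 2, 0, 0, 0, 2, 2, 0, 0, 0, 2, 0, 0, 0, 2],
   [0, 0, 0, 2, 2, 0, 0, 0, 2, 0, 0, 0, 0, 2, 0, 2, 0, 0, 0, 2, 0, 0, 2, 2],
   [0, 0, 0, 0, 0, 0, 0, 2, 0, 0, 2, 0, 0, 0, 0, 0, 2, 2, 2, 2, 0, 2, 0, 2],
   [0, 2, 0, 2, 0, 0, 2, 0, 0, 2, 0, 0, 0, 0, 2, 0, 0, 0, 0, 0, 2, 2, 0, 2],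
   [0, 0, 2, 0, 0, 0, 2, 2, 0, 0, 0, 2, 0, 0, 0, 0, 2, 0, 2, 0, 0, 0, 2, 2],
   [0, 2, 0, 0, 0, 2, 0, 0, 2, 0, 0, 0, 2, 2, 0, 0, 0, 2, 0, 0, 0, 0, 2, 2],
   [1, 1, 1, 1, -1, -1, -1, 1, 1, 1, 1, 1, -1, 1, 1, -1, -1, 1, 1, 1, 1, 1, -1, 3],
   [1, -1, 1, 1, 1, 1, -1, -1, -1, 1, 1, 1, 1, 1, -1, 1, 1, -1, -1, 1, 1, 1, 1, 3],
   [0, 0, 2, 0, 0, 0, 0, 0, 2, 2, 2, 2, 0, 2, 0, 0, 0, 0, 0, 0, 0, 0, 2, 2],
   [0, 0, 0, 0, 2, 0, 2, 0, 2, 2, 2, 0, 0, 0, 2, 2, 0, 0, 0, 0, 0, 0, 0, 2],
   [0, 0, 0, 2, 2, 0, 2, 0, 0, 2, 0, 2, 0, 2, 0, 0, 2, 0, 0, 0, 0, 0, 0, 2],
   [0, 2, 0, 0, 0, 2, 0, 0, 0, 2, 0, 0, 2, 0, 2, 2, 0, 0, 2, 0, 0, 0, 0, 2],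
   [1, -1, -1, 1, 1, -1, -1, 1, -1, -1, 1, 1, 1, 1, 1, 1, -1, 1, 1, 1, 1, 1, 1, 3],
   [0, 0, 0, 0, 2, 0, 2, 0, 0, 0, 0, 2, 2, 0, 2, 0, 0, 0, 2, 0, 2, 0, 0, 2],
   [0, 0, 0, 2, 0, 0, 0, 0, 0, 2, 2, 0, 0, 2, 0, 2, 0, 0, 2, 0, 0, 2, 0, 2],
   [0, 0, 2, 0, 0, 0, 2, 0, 2, 0, 2, 0, 0, 0, 0, 0, 0, 0, 2, 0, 2, 2, 0, 2],
   [1, 1, 1, 1, 1, 1, -1, 1, 1, 1, 1, 1, 1, 1, -1, -1, 1, 1, -1, -1, 1, -1, -1, 3],
   [0, 0, 0, 0, 2, 0, 0, 2, 2, 2, 0, 0, 0, 0, 0, 0, 2, 2, 0, 0, 0, 0, 2, 2],
   [0, 0, 0, 0, 0, 0, 2, 2, 0, 0, 0, 0, 2, 0, 0, 0, 0, 2, 0, 0, 2, 2, 2, 2],
   [1, 1, 1, 1, -1, 1, 1, 1, 1, 1, -1, -1, 1, 1, -1, 1, -1, 1, 1, -1, 1, 1, -1, 3],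
   [0, 0, 2, 0, 0, 0, 0, 2, 2, 2, 0, 0, 0, 0, 0, 2, 0, 0, 2, 2, 0, 0, 0, 2],
   [0, 0, 2, 0, 0, 0, 0, 2, 0, 0, 2, 2, 2, 0, 0, 0, 0, 0, 0, 2, 2, 0, 0, 2],
   [0, 0, 2, 2, 0, 0, 0, 2, 0, 0, 0, 0, 2, 0, 2, 0, 0, 0, 2, 0, 0, 2, 0, 2],
   [1, -1, 1, -1, 1, 1, 1, 1, -1, -1, 1, -1, 1, 1, 1, -1, 1, -1, 1, 1, 1, 1, 1, 3],
   [0, 0, 2, 2, 2, 0, 0, 0, 0, 0, 0, 2, 2, 0, 0, 0, 0, 2, 0, 0, 0, 0, 2, 2],
   [0, 0, 0, 0, 2, 2, 0, 2, 0, 0, 0, 2, 0, 2, 0, 0, 0, 0, 0, 0, 2, 0, 2, 2],
   [0, 0, 0, 2, 0, 2, 0, 2, 2, 2, 0, 0, 0, 2, 2, 0, 0, 0, 0, 0, 0, 0, 0, 2],
   [0, 2, 0, 0, 0, 0, 0, 2, 0, 0, 0, 2, 0, 0, 0, 2, 0, 0, 2, 0, 2, 2, 0, 2],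
   [0, 0, 0, 0, 0, 2, 0, 2, 0, 0, 0, 0, 2, 2, 0, 2, 0, 0, 0, 2, 0, 2, 0, 2],
   [0, 0, 2, 0, 0, 0, 2, 0, 0, 2, 0, 2, 2, 0, 0, 2, 0, 0, 0, 0, 0, 2, 0, 2],
   [0, 2, 0, 0, 0, 0, 0, 0, 0, 0, 2, 0, 0, 2, 0, 0, 0, 0, 0, 2, 2, 2, 2, 2],
   [1, 1, 1, 1, -1, -1, 1, -1, 1, 1, -1, 1, -1, 1, -1, 1, 1, -1, 1, 1, 1, 1, 1, 3],
   [1, 1, 1, 1, -1, 1, 1, 1, 1, -1, -1, -1, 1, 1, 1, 1, 1, -1, 1, 1, -1, -1, 1, 3],
   [1, -1, -1, 1, 1, 1, -1, 1, 1, 1, -1, 1, -1, 1, -1, 1, 1, 1, 1, 1, 1, 1, -1, 3],
   [1, 1, -1, 1, 1, 1, 1, 1, -1, 1, 1, 1, -1, 1, 1, 1, -1, 1, 1, -1, 1, -1, -1, 3],
   [0, 0, 0, 2, 0, 0, 0, 0, 0, 0, 0, 2, 2, 0, 0, 2, 2, 0, 2, 2, 0, 0, 0, 2],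
   [1, 1, 1, 1, -1, 1, 1, 1, 1, -1, 1, 1, -1, -1, -1, 1, 1, 1, 1, 1, 1, -1, -1, 3],
   [0, 2, 0, 0, 2, 0, 0, 0, 0, 0, 2, 2, 2, 2, 0, 2, 0, 0, 0, 0, 0, 0, 0, 2],
   [0, 2, 2, 0, 2, 0, 0, 0, 2, 0, 2, 0, 0, 0, 0, 0, 0, 2, 0, 2, 0, 0, 0, 2],
   [0, 0, 0, 2, 2, 0, 0, 0, 0, 2, 0, 0, 0, 0, 2, 0, 0, 2, 2, 2, 0, 0, 0, 2],
   [0, 2, 2, 0, 0, 2, 0, 2, 0, 0, 2, 0, 0, 2, 0, 0, 0, 0, 2, 0, 0, 0, 0, 2],
   [0, 0, 0, 0, 0, 0, 0, 0, 2, 0, 0, 2, 0, 0, 0, 0, 0, 2, 2, 2, 2, 0, 2, 2],
   [0, 0, 0, 0, 2, 2, 0, 0, 0, 0, 2, 0, 0, 0, 0, 2, 0, 0, 2, 2, 2, 0, 0, 2],
   [1, -1, 1, 1, 1, 1, 1, -1, -1, 1, 1, -1, 1, -1, 1, 1, -1, 1, 1, -1, 1, 1, 1, 3],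
   [0, 2, 0, 0, 2, 0, 0, 0, 0, 2, 0, 0, 0, 0, 0, 2, 2, 0, 0, 2, 0, 2, 0, 2],
   [0, 2, 2, 0, 0, 0, 0, 0, 0, 2, 0, 0, 0, 0, 0, 0, 0, 2, 2, 0, 0, 2, 2, 2],
   [1, 1, -1, -1, 1, 1, -1, 1, -1, 1, 1, -1, 1, 1, -1, 1, 1, 1, 1, -1, 1, 1, 1, 3],
   [1, 1, -1, 1, -1, 1, 1, 1, 1, -1, -1, 1, -1, 1, 1, 1, -1, 1, -1, 1, 1, 1, 1, 3],
   [0, 0, 0, 0, 0, 0, 2, 2, 0, 2, 0, 0, 2, 0, 2, 0, 2, 0, 0, 2, 0, 0, 0, 2],
   [1, -1, -1, -1, 1, 1, 1, 1, 1, 1, -1, -1, 1, 1, 1, 1, -1, 1, 1, 1, 1, -1, 1, 3],
   [1, -1, 1, 1, 1, -1, 1, -1, 1, 1, 1, 1, 1, 1, -1, 1, -1, 1, 1, 1, 1, -1, -1, 3],
   [0, 0, 2, 0, 2, 2, 0, 0, 2, 0, 0, 0, 0, 0, 2, 0, 0, 0, 2, 0, 0, 0, 2, 2],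
   [0, 0, 2, 2, 2, 2, 0, 2, 0, 0, 0, 0, 0, 0, 0, 0, 2, 0, 0, 2, 0, 0, 0, 2],
   [0, 0, 0, 0, 0, 0, 0, 0, 2, 0, 2, 0, 2, 2, 2, 0, 0, 0, 2, 2, 0, 0, 0, 2],
   [0, 0, 0, 0, 0, 2, 0, 0, 0, 2, 0, 0, 0, 2, 0, 0, 2, 0, 2, 2, 0, 0, 2, 2],
   [0, 0, 2, 2, 0, 2, 0, 0, 2, 0, 2, 0, 2, 0, 0, 2, 0, 0, 0, 0, 0, 0, 0, 2],
   [0, 0, 0, 0, 0, 2, 0, 0, 2, 2, 0, 0, 0, 0, 0, 2, 0, 0, 0, 0, 2, 2, 2, 2],
   [1, 1, 1, 1, -1, 1, 1, -1, -1, 1, 1, 1, 1, 1, -1, 1, 1, 1, 1, -1, -1, -1, 1, 3],
   [0, 0, 2, 0, 0, 2, 0, 2, 2, 0, 0, 2, 0, 0, 0, 0, 0, 2, 0, 0, 0, 2, 0, 2],
   [0, 0, 0, 2, 0, 0, 0, 0, 2, 0, 2, 0, 0, 0, 2, 0, 0, 2, 0, 0, 0, 2, 2, 2],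
   [0, 2, 2, 0, 0, 2, 0, 0, 0, 0, 0, 2, 0, 0, 0, 2, 0, 0, 0, 2, 0, 0, 2, 2],
   [0, 0, 0, 0, 0, 2, 2, 0, 0, 2, 2, 0, 2, 2, 0, 0, 0, 0, 0, 0, 2, 0, 0, 2],
   [1, 1, 1, 1, 1, 1, 1, 1, 1, -1, -1, 1, -1, 1, 1, -1, 1, -1, 1, -1, 1, 1, -1, 3],
   [0, 0, 2, 2, 0, 2, 2, 0, 0, 0, 0, 0, 0, 2, 0, 0, 0, 0, 0, 0, 0, 2, 2, 2],
   [0, 2, 0, 0, 0, 2, 0, 0, 2, 0, 2, 2, 0, 0, 2, 0, 0, 0, 0, 0, 2, 0, 0, 2],
   [1, -1, 1, 1, 1, 1, 1, 1, -1, 1, -1, 1, 1, 1, 1, -1, -1, 1, -1, 1, 1, 1, -1, 3],
   [0, 0, 0, 0, 2, 0, 0, 0, 2, 0, 0, 0, 2, 0, 0, 2, 0, 2, 2, 0, 0, 2, 0, 2],
   [0, 0, 0, 2, 0, 2, 0, 0, 0, 2, 0, 0, 2, 0, 0, 0, 2, 2, 0, 0, 0, 2, 0, 2],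
   [0, 0, 0, 0, 0, 2, 0, 2, 0, 2, 2, 2, 0, 0, 0, 2, 2, 0, 0, 0, 0, 0, 0, 2],
   [0, 2, 0, 2, 0, 0, 2, 0, 0, 0, 0, 0, 0, 0, 0, 0, 2, 2, 0, 2, 0, 0, 2, 2],
   [0, 0, 0, 0, 2, 0, 2, 2, 0, 0, 0, 2, 0, 0, 0, 2, 0, 2, 0, 2, 0, 0, 0, 2],
   [0, 0, 0, 2, 2, 2, 0, 0, 0, 0, 0, 2, 0, 0, 2, 2, 0, 0, 0, 0, 0, 2, 0, 2]]

/-- The first generator. -/
def genA : List (Option (List Nat × Nat)) :=
  [some ([0, 9, 17, 21, 22, 7, 1, 12, 5, 19, 11, 10, 8, 13, 15, 2, 20, 14, 18, 6, 16, 4, 3, 23], 0)]

/-- The second generator. -/
def genB : List (Option (List Nat × Nat)) :=
  [some ([13, 8, 17, 2, 9, 6, 20, 1, 11, 21, 7, 4, 0, 18, 5, 12, 15, 10, 23, 19, 16, 3, 22, 14], 2731), none, some ([16, 8, 13, 14, 7, 2, 10, 21, 18, 15, 17, 11, 12, 20, 9, 1, 0, 19, 22, 5, 6, 23, 3, 4], 2534), none, some ([12, 0, 6, 20, 21, 18, 19, 10, 16, 4, 11, 7, 1, 14, 17, 3, 23, 13, 22, 2, 15, 9, 5, 8], 557)]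

/-- The first permutation. -/
def permA : List Nat :=
  [24, 98, 92, 16, 68, 62, 69, 102, 34, 15, 107, 5, 26, 79, 51, 3, 9, 108, 94, 49, 25, 6, 77, 100, 58, 38, 13, 85, 105, 117, 23, 119, 60, 33, 114, 82, 95, 66, 53, 70, 74, 73, 71, 72, 75, 104, 88, 125, 42, 4, 48, 17, 52, 20, 2, 90, 31, 123, 96, 35, 111, 40, 91, 8, 84, 61, 7, 56, 19, 89, 93, 50, 106, 86, 65, 122, 28, 87, 47, 12, 59, 36, 80, 54, 64, 112, 103, 124, 45, 21, 29, 11, 83, 99, 10, 101, 0, 115, 57, 39, 116, 81, 37, 41, 46, 120, 110, 18, 14, 27, 43, 121, 109, 78, 63, 97, 30, 55, 44, 67, 76, 32, 118, 1, 22, 113]

/-- The second permutation. -/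
def permB : List Nat :=
  [56, 60, 44, 77, 98, 28, 97, 0, 105, 86, 92, 79, 41, 124, 106, 31, 13, 18, 3, 103, 61, 36, 32, 52, 120, 109, 10, 24, 118, 49, 89, 73, 53, 83, 29, 11, 45, 99, 21, 114, 76, 87, 74, 63, 125, 42, 68, 65, 64, 66, 69, 67, 104, 19, 71, 50, 78, 14, 119, 70, 59, 90, 101, 40, 88, 5, 57, 123, 22, 26, 23, 33, 4, 51, 96, 112, 35, 75, 16, 43, 25, 54, 58, 116, 95, 47, 102, 111, 100, 84, 121, 20, 113, 15, 72, 9, 38, 2, 82, 122, 80, 108, 30, 46, 1, 6, 34, 27, 12, 48, 85, 62, 117, 55, 91, 81, 115, 17, 110, 94, 37, 39, 107, 93, 7, 8]

/-- Scalars for the first matrix. -/
def witA : List Nat :=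
  [3, 23, 6, 16, 5, 15, 13, 8, 16, 1, 15, 17, 9, 2, 12, 12, 10, 8, 19, 2, 13, 6, 16, 9, 19, 12, 7, 17, 3, 23, 1, 21, 20, 21, 16, 9, 7, 20, 15, 9, 4, 17, 15, 8, 3, 4, 19, 14, 2, 18, 18, 13, 9, 19, 13, 20, 3, 23, 20, 18, 3, 16, 1, 24, 8, 1, 11, 4, 14, 7, 13, 23, 9, 4, 7, 2, 8, 3, 16, 19, 7, 2, 23, 8, 19, 14, 17, 12, 14, 7, 17, 5, 15, 13, 22, 15, 1, 18, 3, 21, 2, 12, 23, 18, 21, 16, 4, 14, 20, 15, 23, 18, 17, 18, 13, 1, 4, 17, 12, 1, 21, 14, 12, 4, 20, 21]

/-- Scalars for the second matrix. -/
def witB : List Nat :=
  [1, 2, 5, 8, 20, 23, 4, 20, 8, 6, 23, 21, 6, 12, 10, 17, 15, 21, 21, 4, 8, 14, 12, 19, 17, 23, 23, 21, 9, 5, 14, 10, 21, 2, 3, 5, 10, 17, 18, 1, 2, 9, 14, 16, 17, 23, 24, 20, 2, 7, 14, 10, 17, 15, 3, 4, 8, 9, 20, 1, 4, 6, 9, 10, 24, 4, 3, 5, 8, 14, 19, 17, 2, 1, 5, 6, 19, 15, 22, 2, 9, 5, 12, 10, 23, 24, 3, 4, 15, 21, 24, 1, 4, 5, 19, 20, 23, 19, 3, 9, 14, 12, 20, 21, 17, 1, 8, 6, 19, 15, 24, 20, 6, 12, 13, 15, 20, 2, 3, 11, 12, 19, 24, 1, 2, 8]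

/-- The isotropic points. -/
def isoPts : List (Nat × Nat × Nat) :=
  [(0, 1, 2),
   (0, 1, 3),
   (0, 1, 6),
   (0, 1, 9),
   (0, 1, 21),
   (0, 1, 24),
   (1, 0, 2),
   (1, 0, 3),
   (1, 0, 6),
   (1, 0, 9),
   (1, 0, 21),
   (1, 0, 24),
   (1, 1, 5),
   (1, 1, 11),
   (1, 1, 14),
   (1, 1, 16),
   (1, 1, 19),
   (1, 1, 20),
   (1, 2, 0),
   (1, 3, 0),
   (1, 4, 5),
   (1, 4, 11),
   (1, 4, 14),
   (1, 4, 16),
   (1, 4, 19),
   (1, 4, 20),
   (1, 5, 1),
   (1, 5, 4),
   (1, 5, 12),
   (1, 5, 13),
   (1, 5, 17),
   (1, 5, 18),
   (1, 6, 0),
   (1, 7, 7),
   (1, 7, 8),
   (1, 7, 10),
   (1, 7, 15),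
   (1, 7, 22),
   (1, 7, 23),
   (1, 8, 7),
   (1, 8, 8),
   (1, 8, 10),
   (1, 8, 15),
   (1, 8, 22),
   (1, 8, 23),
   (1, 9, 0),
   (1, 10, 7),
   (1, 10, 8),
   (1, 10, 10),
   (1, 10, 15),
   (1, 10, 22),
   (1, 10, 23),
   (1, 11, 1),
   (1, 11, 4),
   (1, 11, 12),
   (1, 11, 13),
   (1, 11, 17),
   (1, 11, 18),
   (1, 12, 5),
   (1, 12, 11),
   (1, 12, 14),
   (1, 12, 16),
   (1, 12, 19),
   (1, 12, 20),
   (1, 13, 5),
   (1, 13, 11),
   (1, 13, 14),
   (1, 13, 16),
   (1, 13, 19),
   (1, 13, 20),
   (1, 14, 1),
   (1, 14, 4),
   (1, 14, 12),
   (1, 14, 13),
   (1, 14, 17),
   (1, 14, 18),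
   (1, 15, 7),
   (1, 15, 8),
   (1, 15, 10),
   (1, 15, 15),
   (1, 15, 22),
   (1, 15, 23),
   (1, 16, 1),
   (1, 16, 4),
   (1, 16, 12),
   (1, 16, 13),
   (1, 16, 17),
   (1, 16, 18),
   (1, 17, 5),
   (1, 17, 11),
   (1, 17, 14),
   (1, 17, 16),
   (1, 17, 19),
   (1, 17, 20),
   (1, 18, 5),
   (1, 18, 11),
   (1, 18, 14),
   (1, 18, 16),
   (1, 18, 19),
   (1, 18, 20),
   (1, 19, 1),
   (1, 19, 4),
   (1, 19, 12),
   (1, 19, 13),
   (1, 19, 17),
   (1, 19, 18),
   (1, 20, 1),
   (1, 20, 4),
   (1, 20, 12),
   (1, 20, 13),
   (1, 20, 17),
   (1, 20, 18),
   (1, 21, 0),
   (1, 22, 7),
   (1, 22, 8),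
   (1, 22, 10),
   (1, 22, 15),
   (1, 22, 22),
   (1, 22, 23),
   (1, 23, 7),
   (1, 23, 8),
   (1, 23, 10),
   (1, 23, 15),
   (1, 23, 22),
   (1, 23, 23),
   (1, 24, 0)]

/-- Words moving the first point. -/
def wordsZero : List (List Bool) :=
  [[],
   [false, false, true, false, true, false],
   [false, false, false, true, true, false, true, true],
   [true, true, true, false, false, false],
   [false, false, true, true, true, true],
   [true, true, false, true, true],
   [false, false, false, true, true, false],
   [false, true, true, false, false],
   [true, true, false, false, true],
   [true, true, true, false],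
   [false, false, true, true, false],
   [false, true, false, true, true],
   [true, true, true, true, false, false],
   [true, true, true, true],
   [false, true, true, false, true, true],
   [true, true, true, false, false],
   [true, true, true],
   [true, false, true, true, false],
   [true, false, true, true, false, true],
   [false, false, false, true, false, true],
   [false, false, false, true, false, false],
   [false, false, false, true, true],
   [true, true, true, true, true, false],
   [false, true, true, true, false, false, true],
   [false],
   [false, false, false, true, false, false, false],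
   [true, true, true, true, false, false, false],
   [false, false, true, true, false, false, true],
   [false, true, false, false],
   [true, true, false, false, true, false, true],
   [true, false, true, false, true, true],
   [true, false],
   [true, true, true, true, true, false, true],
   [false, false, false, true, true, true, true, true, false, true],
   [true, true, false, false, true, false],
   [false, true, false, true],
   [false, false, false, true, true, true],
   [false, true, true],
   [false, false, false, true],
   [false, true, true, true, false],
   [true, true, false, true, false, false],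
   [true, false, true, false, false, false],
   [false, false, false, true, true, true, true, true],
   [true, true, true, true, false, true],
   [false, true, false, false, true, false],
   [false, false, false, true, true, true, true],
   [true, false, true, false, false, true],
   [true, true, false],
   [true, true, false, false, false, true, true, false],
   [false, false, false, true, false, true, false],
   [true, true, false, false, false, true, true],
   [true, false, true, true],
   [false, true, true, true, false, false, true, true],
   [false, false, false, true, false],
   [false, false, true, true, false, true, false, false],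
   [true, true, false, false, false, true],
   [true],
   [false, true, true, false, true],
   [false, false],
   [false, true, false, true, false, false, false],
   [false, false, true, false, true, false, true],
   [true, true, false, true, false],
   [true, true, false, true, true, false],
   [false, true, true, true, false, true, false],
   [true, false, true, false, true, true, true, true, false],
   [true, true, false, true],
   [false, true, true, false],
   [false, false, true, false],
   [false, false, true, true, true, true, false],
   [false, false, false, true, true, false, false],
   [false, true, true, true, false, false],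
   [false, false, false, true, true, true, true, true, false],
   [false, false, true, true, true],
   [true, false, true],
   [true, true, false, true, false, false, false],
   [false, true, false, false, true, false, false],
   [false, true, false],
   [true, true, true, false, false, false, true],
   [true, true],
   [true, true, true, true, false],
   [false, true, false, true, false, false],
   [true, true, false, true, true, false, true, false],
   [false, true, false, true, false],
   [false, false, true, true, false, true, false],
   [true, false, true, false, true, true, true, true],
   [false, true, false, false, true, true, true],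
   [true, false, true, false],
   [true, false, true, false, false, false, true],
   [true, false, true, false, false, true, false],
   [true, false, true, false, true, true, true],
   [true, true, false, true, false, true],
   [false, true, true, true, false, true, true],
   [false, false, true, true, false, true],
   [false, false, true, false, true, true],
   [false, false, true, true],
   [false, false, false, true, true, true, false],
   [false, false, false],
   [false, false, false, true, true, false, true],
   [false, false, true, false, true, false, false],
   [false, true, true, true],
   [false, true, true, true, false, false, true, false],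
   [true, true, false, true, true, false, true],
   [true, false, true, false, true],
   [true, false, true, false, false],
   [false, false, false, true, true, true, true, false],
   [false, true, false, false, false],
   [false, false, true, true, true, false],
   [false, false, true, true, false, false],
   [true, false, true, true, false, false],
   [false, false, false, true, false, false, false, true],
   [false, true, false, false, true, true],
   [false, false, true, false, true, false, true, false],
   [false, true, false, false, true, false, false, true],
   [true, true, false, false, false],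
   [false, true, true, true, false, true],
   [false, false, false, true, true, false, true, false],
   [false, false, true, true, false, true, false, true],
   [true, true, false, false, true, false, true, false],
   [false, true, false, false, true],
   [false, false, true],
   [false, true],
   [true, true, false, true, false, true, true],
   [false, true, true, true, true],
   [false, false, true, false, true],
   [true, true, true, true, true],
   [true, true, false, false]]

/-- Words moving the second point. -/
def wordsOne : List (List Bool) :=
  [[],
   [],
   [false, false, true, true, false, true, true, false, false, false, false, false, false, false, false, false, true, true, true, true, true, true, true, true, true, true, true, true],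
   [false, true, false, true, true, false, true, true, true, true, true, true, true, true, true, true, true, true, false, false, false, true, true, true, true, true, true, true, true, true, true, true, true],
   [false, false, true, false, false, true, true, true, true, true, true, false, true, false, false, true, true, true, false, true, true, true, true, true, true, false, false, false, false, false, false, true, true, true, true, true, true, false, false, false, false, false, false, true, true, true, true, true, true, false, false, false],
   [false, true, true, false, false, true, true, true, false, false, true, false, true, false, false, true, true, true, true, true, true, false, false, false, false, false, false, false, false, false, true, true, true, true, true, true, true, true, true, true, true, true],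
   [false, false, true, true, true, false, false, true, true, true, true, true, true, true, true, true, true, true, true, false, false, false, false, false, false, true, true, true, true, true, true, false, false, false],
   [false, true, true, true, false, false, true, true, false, true, true, true, true, true, true, true, true, true, true, true, true, false, false, false, false, false, false, true, true, true, true, true, true, true, true, true, true, true, true, true, true, true, true, true, true, false, false, false],
   [true, true, false, false, true, false, false, true, true, true, true, true, true, false, false, false, true, true, true, true, true, true, true, true, true, true, true, true, true, true, true, true, true, true, false, false, false],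
   [true, true, false, false, true, false, true, false, true, false, false, false, true, true, true, true, true, true, true, true, true, true, true, true, false, false, false, true, true, true, true, true, true],
   [false, false, true, false, true, false, false, false, true, true, true, true, true, true, false, false, false, true, true, true, true, true, true, true, true, true, true, true, true, false, false, false],
   [false, true, false, true, false, true, false, false, false, false, false, false, true, true, false, true, true, true, false, false, false, false, false, false, true, true, true, true, true, true, false, false, false],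
   [false, true, true, false, false, true, false, true, true, false, false, true],
   [false, false, true, true, false, true, false, false, true, false, false, false, true, true, true, true, true, true, true, true, true, true, true, true, true, true, true, true, true, true, true, true, true, true, true, true, true, true, true, true, true, true, false, false, false, false, false, false, false, false, false],
   [true, true, false, false, true, true, false, false, false, false, false, false, false, false, false, true, true, true, true, true, true, false, false, false],
   [false, false, false, true, false, true, true, false, false, false, false, false, false, true, true, true, true, true, true, false, false, false, true, true, true, true, true, true],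
   [false, false, true, true, false, true, false, false, false, true, true, true, true, true, true, true, true, true, true, true, true, false, false, false, true, true, true, true, true, true, true, true, true, true, true, true, false, false, false, false, false, false, false, false, false],
   [true, true, true, false, false, false, true, false, true, true, true, true, true, true, false, false, false, false, false, false, false, false, false, true, true, true, true, true, true, false, false, false, true, true, true, true, true, true],
   [false, false, false, true, true, false, true, true, true, false, false, false, true, true, true, true, true, true, false, false, false, false, false, false, true, true, true, true, true, true, false, false, false],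
   [false, true, true, false, false, true, true, true, true, false, false, true, false, false, false, true, true, true, true, true, true],
   [true, true, false, true, false, false, true, false, false, false, true, true, true, true, true, true, false, false, false, true, true, false, true, true, false, true, false, false, true, true, true, true, true, true, true, true, true, true, true, true, true, true, true, true, true, true, false, false, false, false, false, false, false, false, false],
   [true, true, true, false, true, false, false, false, true, true, true, true, true, true, false, false, false, true, true, true, true, true, true],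
   [false, true, true, false, false, true, true, true, true, true, true, false, true, false, true, true, true, true, true, true, false, false, false, true, true, true, true, true, true, false, false, false, true, true, true, true, true, true, false, false, false, false, false, false],
   [true, false, true, false, true, false, true, true, true, true, true, true, true, true, true, true, true, true, false, false, false],
   [false, false, false, true, true, true, false, false, true, true, true, true, true, true, false, false, false, true, true, true, true, true, true, true, true, true, true, true, true, false, false, false, true, true, true, true, true, true, true, true, true, true, true, true],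
   [true, true, false, true, false, false, false, true, false, false, false, false, false, false, false, false, false],
   [false, false, true, true, false, false, true, true, false, false, false, true, true, true, true, false, true, true, false, false, false, true, true, true, true, true, true, false, false, false, true, true, true, true, true, true, true, true, true, true, true, true, true, true, true, true, true, true, false, false, false],
   [false, true, true, false, false, true, false, false, false, true, false, false, true, false, false, false, true, true, true, true, true, true, false, false, false, true, true, true, true, true, true, true, true, true, true, true, true],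
   [false, true, false, true, false, true, false, false, false, false, false, false, false, false, false, true, true, true, false, true, false, false, false, true, true, true, true, true, true, true, true, true, true, true, true, true, true, true, true, true, true],
   [true, true, true, true, false, false, false, true, false, false, false, true, true, true, true, true, true, true, true, true, true, true, true, false, false, false, false, false, false],
   [false, false, true, false, true, true, false, true, true, true, true, true, true, true, true, true, true, true, true, true, true, true, true, true, true, false, false, false],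
   [false, false, false, true, true, false, true, true, false, true, true, true, true, true, true, false, false, false, true, true, true, true, true, true, true, true, true, true, true, true, false, false, false, false, false, false],
   [false, true, true, true, false, true, false, false, true, true, true, true, true, true, false, false, false, false, false, false, true, true, true, true, true, true, true, true, true, true, true, true],
   [false, false, true, true, false, false, true, false, true, true, true, true, true, true, true, true, true, true, true, true, true, true, true, true, true, true, false, false, false, false, false, false, true, true, true, true, true, true, false, false, false],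
   [false, false, true, true, false, false, false, true, true, true, true, true, true, false, false, false, true, true, true, true, true, true, true, true, true, true, true, true, false, false, false, true, true, true, true, true, true],
   [false, true, true, false, false, true, false, false, false, true, true, false, false, true, false, false, false, false, false, false, false, false, false, true, true, true, true, true, true, true, true, true, true, true, true, true, true, true, true, true, true, true, true, true, true, true, true],
   [true, true, false, false, false, true, true, true, false, false, false, false, false, false, true, true, true, true, true, true, true, true, true, true, true, true, false, false, false, false, false, false, false, false, false],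
   [true, true, false, true, false, true, true, true, false, false, false, true, true, true, true, true, true, true, true, true, true, true, true, true, true, true, true, true, true, false, false, false],
   [true, true, true, true, false, false, true, false, false, false, false, false, false, false, false, false, true, true, true, true, true, true, false, false, false, true, true, true, true, true, true],
   [false, false, false, true, true, true, true, true, false, false, true, true, true, true, true, true, true, true, true, true, true, true, false, false, false, false, false, false, false, false, false, true, true, true, true, true, true, true, true, true, true, true, true],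
   [true, true, false, false, false, true, false, true, true, true, true, true, true, false, false, false, true, true, true, true, true, true, false, false, false, true, true, true, true, true, true, true, true, true, true, true, true],
   [false, true, true, false, false, true, false, false, true, true, true, true, false, true, false, false, false, true, true, true, true, true, true, true, true, true, true, true, true, true, true, true, true, true, true, true, true, true, true, true, true, true, true, true, true, true, true],
   [false, false, false, true, true, true, true, true, true, false, false, false, false, false, false, false, false, false, true, true, true, true, true, true, false, false, false, true, true, true, true, true, true, true, true, true, true, true, true],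
   [false, true, true, false, true, true, false, true, true, true, true, true, true, true, true, true, true, true, true, false, false, false, true, true, true, true, true, true],
   [false, false, true, false, false, true, true, true, true, true, true, true, true, true, true, true, false, false, true, true, true, true, true, true, false, false, false, false, false, false, false, false, false, true, true, true, true, true, true, true, true, true, true, true, true, true, true, true, true, true, true],
   [false, true, true, false, false, true, true, false, true, true, false, false, true, false, false, false, false, false, false, true, true, true, true, true, true, true, true, true, true, true, true, true, true, true, true, true, true, true, true, true, true, true, true],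
   [false, true, true, false, false, true, true, true, false, true, true, true, false, false, false, false, false, false, true, true, true, true, true, true, false, false, false],
   [false, true, true, true, false, true, true, true, false, false, false, false, false, false, true, true, true, true, true, true, false, false, false, false, false, false, false, false, false],
   [false, false, false, true, true, false, true, false, false, true, true, true, true, true, true, false, false, false, true, true, true, true, true, true, true, true, true, true, true, true, false, false, false, false, false, false, false, false, false],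
   [false, true, true, false, false, true, true, false, true, true, false, true, true, false, false, false, false, false, false, false, false, false, true, true, true, true, true, true, true, true, true, true, true, true, true, true, true, true, true, true],
   [true, true, true, true, true, true, false, false, false, false, false, false, true, true, true, true, true, true, true, true, true, true, true, true, false, false, false],
   [false, true, true, false, false, true, false, true, true, false, true, true, false, true, true, true, true, true, true, true, true, true, true, true, true, false, false, false, true, true, true, true, true, true],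
   [false, false, true, true, true, true, true, false, false, false, false, false, false, true, true, true, true, true, true, false, false, false, true, true, true, true, true, true, false, false, false, false, false, false],
   [false, true, false, false, true, false, false, false, true, true, true, true, true, true, true, true, true, true, true, true, true, true, true, true, true, true, true, true, true, true, true, true, false, false, false],
   [true, true, false, false, true, false, true, true, false, false, false, true, true, true, true, true, true, false, false, false, true, true, true, true, true, true, false, false, false, false, false, false, false, false, false],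
   [false, false, true, false, false, true, true, true, true, true, true, true, false, true, false, false, true, false, false, true, true, true, true, true, true, true, true, true, true, true, true, true, true, true, true, true, true, true, true, true, true, true, true, false, false, false, false, false, false, false, false, false],
   [false, true, true, false, false, true],
   [true, true, false, true, false, true, false, true, true, true, true, true, true, false, false, false, true, true, true, true, true, true, false, false, false, false, false, false, true, true, true, true, true, true, true, true, true, true, true, true],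
   [true, false, true, false, true, true, true, true, true, false, false, false, true, true, true, true, true, true, true, true, true, true, true, true, true, true, true, true, true, true, false, false, false, false, false, false, false, false, false],
   [false, true, true, false, false, true, false, false, true, false, true, false, true, false, false, true, true, true, true, true, true, true, true, true, true, true, true, false, false, false, true, true, true, true, true, true, false, false, false, true, true, true, true, true, true, true, true, true, true, true, true],
   [false, true, false, true, false, true, false, false, false, false, false, false, false, false, true, true, true, true, false, false, true, true, true, true, true, true, false, false, false, true, true, true, true, true, true, false, false, false, false, false, false, false, false, false],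
   [false, false, true, true, false, false, true, true, false, false, false],
   [false, true, true, false, false, true, true, true, false, true, true, false, false, true, true, true, true, true, true, true, true, true, true, true, true, false, false, false, true, true, true, true, true, true, true, true, true, true, true, true, true, true, true, true, true, true, false, false, false],
   [false, true, true, true, false, true, true, false, true, true, true, true, true, true, true, true, true, true, true, true, false, false, false, true, true, true, true, true, true, false, false, false],
   [true, true, false, true, false, false, true, false, false, false, true, true, true, true, true, true, false, false, false],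
   [false, true, true, false, false, true, true, false, true, true, true, false, false, false, true, true, true, true, true, true, false, false, false, false, false, false],
   [false, false, false, true, true, false, true, false, true, false, false, false, true, true, true, true, true, true, false, false, false, true, true, true, true, true, true, true, true, true, true, true, true, false, false, false, true, true, true, true, true, true, true, true, true, true, true, true],
   [false, false, false, true, false, false, false, true, true, false, false, false, true, true, true, true, true, true, true, true, true, true, true, true, false, false, false, false, false, false, false, false, false, true, true, true, true, true, true, true, true, true, true, true, true],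
   [false, false, true, true, true, false, true, false, false, false, true, true, true, true, true, true, false, false, false, false, false, false, true, true, true, true, true, true, true, true, true, true, true, true],
   [false, true, false, true, false, true, false, false, false, false, false, false],
   [false, true, false, false, false, true, false, false, false, true, true, true, true, true, true, true, true, true, true, true, true, false, false, false, false, false, false, false, false, false],
   [false, false, true, false, false, true, true, true, true, true, true, false, false, true, true, true, true, false, false, true, true, true, true, true, true, false, false, false, true, true, true, true, true, true, false, false, false, false, false, false, false, false, false],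
   [false, true, true, false, false, true, true, false, true, false, true, false, true, true, true, true, true, true, true, true, true, true, true, true, false, false, false],
   [false, true, true, false, false, true, false, true, true, false, true, true, true, false, false, false, true, true, true, true, true, true, true, true, true, true, true, true, true, true, true, true, true, true, false, false, false, false, false, false],
   [false, false, true, false, false, true, true, true, true, true, true, true, true, true, true, false, false, false, true, false, false, false, true, true, true, true, true, true, true, true, true, true, true, true, false, false, false, false, false, false],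
   [false, false, true, true, true, true, false, false, true, true, true, true, true, true, false, false, false, true, true, true, true, true, true, false, false, false, false, false, false, false, false, false],
   [true, true, false, false, true, false, true, false, false, true, true, true, true, true, true, false, false, false, false, false, false, false, false, false, true, true, true, true, true, true, true, true, true, true, true, true],
   [true, true, true, false, false, true, false, false, false, true, true, true, true, true, true],
   [true, false, true, false, false, true, false, false, true, true, true, true, true, true, true, true, true, true, true, true, true, true, true, true, true, true, true, true, true, true, true, true, false, false, false, false, false, false, false, false, false],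
   [false, false, false, true, true, true, true, false, false, true, true, true, true, true, true, false, false, false, false, false, false, true, true, true, true, true, true, false, false, false, true, true, true, true, true, true],
   [false, true, true, false, false, true, false, true, false, false, true, false, false, false, true, true, true, true, true, true, true, true, true, true, true, true, true, true, true, true, true, true, true, true, true, true, true, true, false, false, false],
   [false, true, false, true, false, false, false, true, false, false, false, false, false, false, true, true, true, true, true, true, true, true, true, true, true, true, true, true, true, true, true, true, false, false, false],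
   [false, true, true, true, false, false, false, true, true, true, true, true, true, true, true, true, true, true, true, false, false, false, true, true, true, true, true, true, false, false, false, false, false, false],
   [false, false, true, true, false, false, true, true, false, false, false, true, false, true, false, false, true, false, true, false, false, false, true, true, true, true, true, true, false, false, false, false, false, false, true, true, true, true, true, true, true, true, true, true, true, true, true, true, true, true, true, true, false, false, false],
   [false, true, true, false, false, true, false, true, true, true, true, false, true, true, true, true, true, true, false, false, false, false, false, false, true, true, true, true, true, true, false, false, false],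
   [false, false, true, true, false, false, true, true, false, false, false, true, true, false, true, true, false, false, true, true, true, true, true, true, true, true, true, true, true, true, false, false, false, true, true, true, true, true, true, true, true, true, true, true, true, true, true, true, true, true, true, false, false, false],
   [false, false, false, true, true, true, true, false, true, false, false, false, true, true, true, true, true, true, false, false, false, true, true, true, true, true, true, false, false, false, false, false, false],
   [false, true, true, false, false, true, false, false, true, true, true, true, true, false, false, false, false, false, false, true, true, true, true, true, true, false, false, false, true, true, true, true, true, true, false, false, false, false, false, false],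
   [true, true, true, true, false, true, false, true, true, true, true, true, true, true, true, true, true, true, true, true, true, true, true, true, true, false, false, false, false, false, false],
   [true, false, true, true, false, true, false, true, true, true, true, true, true, true, true, true, true, true, true, false, false, false, false, false, false],
   [true, false, true, true, true, false, false, false, true, true, true, true, true, true, false, false, false, false, false, false],
   [false, true, true, true, true, false, true, true, true, true, true, true, false, false, false, false, false, false, true, true, true, true, true, true, false, false, false],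
   [true, false, true, true, false, true, true, false, false, false, false, false, false, false, false, false, true, true, true, true, true, true, true, true, true, true, true, true, true, true, true, true, true, true],
   [false, true, true, false, false, true, false, true, true, true, false, false, true, true, false, true, true, true, true, true, true, true, true, true, true, true, true, false, false, false, false, false, false, true, true, true, true, true, true, true, true, true, true, true, true, true, true, true, true, true, true, false, false, false],
   [false, true, true, false, false, true, false, true, false, false, false, true, false, false, false, true, true, true, true, true, true, true, true, true, true, true, true, false, false, false, false, false, false, false, false, false],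
   [false, false, true, false, false, true, true, true, true, true, true, false, true, false, true, false, false, true, false, false, false, false, false, false, false, false, false, true, true, true, true, true, true, false, false, false, false, false, false, false, false, false],
   [false, true, true, false, false, true, false, false, true, true, true, true, false, false, true, true, true, true, true, true, false, false, false, true, true, true, true, true, true, false, false, false, false, false, false, false, false, false],
   [true, false, true, false, false, false, true, false, true, true, true, true, true, true, true, true, true, true, true, true, true, true, true, true, true, true, true, true, true, true, true, true, true, true, true, true, true, true],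
   [false, false, false, true, false, true, false, true, false, false, false, true, true, true, true, true, true, true, true, true, true, true, true, false, false, false],
   [false, true, true, true, false, false, true, false, true, false, false, false, false, false, false, true, true, true, true, true, true, false, false, false, true, true, true, true, true, true, false, false, false],
   [false, false, true, true, false, false, true, true, false, false, false, false, true, true, true, false, true, true, false, true, true, true, true, true, true, true, true, true, true, true, true, false, false, false, true, true, true, true, true, true, false, false, false],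
   [false, true, true, false, false, true, false, false, true, true, true, false, true, false, false, false, true, true, true, true, true, true, false, false, false, false, false, false, true, true, true, true, true, true, true, true, true, true, true, true],
   [true, false, true, false, false, false, true, true, false, false, false, true, true, true, true, true, true, false, false, false, true, true, true, true, true, true, false, false, false, true, true, true, true, true, true, false, false, false, false, false, false],
   [true, true, true, true, false, true, true, false, false, false, true, true, true, true, true, true, false, false, false, true, true, true, true, true, true, true, true, true, true, true, true, true, true, true, true, true, true, false, false, false],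
   [false, true, true, false, false, true, false, false, false, true, false, true, true, false, false, false, false, false, false, true, true, true, true, true, true, false, false, false, true, true, true, true, true, true],
   [false, true, true, false, false, true, false, true, true, true, false, false, false, true, true, true, true, true, true, true, true, true, true, true, true, false, false, false, true, true, true, true, true, true, false, false, false, false, false, false],
   [false, true, true, false, false, true, false, false, false, true, true, true, true, true, true, false, false, false, false, false, false, false, false, false, true, true, true, true, true, true, false, false, false, true, true, true, true, true, true, true, true, true, true, true, true],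
   [true, true, true, false, false, true, false, false, false, true, true, true, true, true, true, true, true, false, false, true, false, true, false, false, true, true, true, true, true, true, false, false, false, false, false, false, false, false, false, true, true, true, true, true, true, true, true, true, true, true, true],
   [true, true, false, true, true, true, false, false, false, false, false, false, true, true, true, true, true, true, false, false, false],
   [false, true, true, false, false, true, true, false, true, true, false, false, false, true, true, true, true, true, true, true, true, true, true, true, true, false, false, false, true, true, true, true, true, true, true, true, true, true, true, true, false, false, false],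
   [true, false, true, false, true, true, true, false, true, true, true, true, true, true, true, true, true, true, true, true, false, false, false, false, false, false, false, false, false],
   [false, false, true, false, true, false, true, false, false, true, true, true, true, true, true, true, true, true, true, true, true, false, false, false, true, true, true, true, true, true, false, false, false, true, true, true, true, true, true, true, true, true, true, true, true],
   [false, false, false, true, true, true, false, true, false, false, false, true, true, true, true, true, true, true, true, true, true, true, true, true, true, true, true, true, true],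
   [false, true, true, false, false, true, true, true, false, true, false, true, true, true, false, false, false, true, true, true, true, true, true, true, true, true, true, true, true, true, true, true, true, true, true, false, false, false],
   [true, true, true, false, false, false, true, true, false, false, false, false, false, false, true, true, true, true, true, true, false, false, false, false, false, false, true, true, true, true, true, true, false, false, false],
   [false, true, false, false, true, true, true, false, true, true, true, true, true, true, false, false, false, false, false, false, true, true, true, true, true, true, false, false, false, false, false, false, true, true, true, true, true, true, false, false, false],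
   [false, false, false, true, false, false, false, true, false, true, true, true, true, true, true, false, false, false, false, false, false, true, true, true, true, true, true, true, true, true, true, true, true, false, false, false, false, false, false],
   [false, false, true, false, false, true, true, true, true, true, true],
   [false, true, true, false, false, true, true, true, false, false, false, true, true, true, false, false, false, false, false, false, true, true, true, true, true, true, true, true, true, true, true, true, false, false, false, false, false, false, false, false, false],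
   [false, false, false, true, false, false, true, false, false, false, true, true, true, true, true, true, false, false, false, true, true, true, true, true, true, true, true, true, true, true, true],
   [false, true, true, true, true, true, false, false, false, false, false, false, true, true, true, true, true, true, true, true, true, true, true, true, false, false, false, false, false, false],
   [false, false, false, true, true, true, true, true, false, true, true, false, false, false, true, true, true, true, true, true, false, false, false, true, true, true, true, true, true, true, true, true, true, true, true, false, false, false, false, false, false],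
   [true, true, false, false, false, true, true, false, true, false, false, false, true, true, true, true, true, true, true, true, true, true, true, true, true, true, true, true, true, true, true, true, true, true, true, true, false, false, false, true, true, true, true, true, true, false, false, false, true, true, true, true, true, true],
   [false, false, true, true, true, true, false, true, false, false, false, true, true, true, true, true, true, true, true, true, true, true, true, true, true, true, true, true, true, true, true, true, true, true, true, true, true, true, true, true, true],
   [true, false, true, false, true, true, true, true, false, false, true, true, true, true, true, true, true, true, true, true, true, true, true, true, true, true, true, true, true, true, true, true, true, true, false, false, false, true, true, true, true, true, true, false, false, false, true, true, true, true, true, true],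
   [true, true, true, true, true, false, true, false, true, true, true, true, true, true, false, false, false, true, true, true, true, true, true, false, false, false, true, true, true, true, true, true, false, false, false, false, false, false]]

/-- A word of order 8 fixing two points. -/
def wordEight : List Bool :=
  [false, true, false, false, true, true, true, true, false, false, false, true, true, true, true, true, true, true, true, true, true, true, true, true, true, true, true, true, true, true, true, true, true, true, true, true, true, true, true, true, true, true, true, true, true, true, true, true, true, true, true, true, true, true, true, true, true, true, true, false, false, false, false, false, false, false, false, false, true, true, true, true, true, true, true, true, true, true, true, true, true, true, true, true, true, true, true, true, true, true, true, true, true, true, true, true, true, true, true, true, true, true, true, true, false, false, false, false, false, false, false, false, false, true, true, true, true, true, true, false, false, false, true, true, true, true, true, true, true, true, true, true, true, true, true, true, true, true, true, true]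

/-- Coordinates from dot products. -/
def coeffs : List (List Int) :=
  [[21, 42, 6, -6, -12, 3, 0, 3, 21, -9, 0, 0, 0, 6, 9, 6, -9, 0, -9, -15, -9, 9, 15, 0],
   [-3, 6, 6, -2, -20, 7, 2, 9, 7, -1, 8, 8, -6, -2, 19, 2, -11, -10, 7, -7, 7, 1, 15, 10],
   [-3, -6, -18, 8, -4, 11, 10, 21, 17, 7, -20, 10, 30, 32, -37, -8, -13, 10, 17, -5, -13, 23, 15, 20],
   [-3, 6, 6, 8, 20, -13, -8, -21, -43, -11, -2, -2, -36, -22, -1, -8, 29, -20, 17, 13, 17, -19, -45, -10],
   [-3, 6, 6, -2, 40, -23, 2, -21, -53, -1, 8, 8, -6, -2, -11, -28, 19, -10, 7, 23, 7, -29, -45, -20],
   [-3, 6, 6, -12, 0, -3, 12, -21, -33, 9, -12, -12, 24, 18, -21, 12, 9, 0, 27, 33, -3, -9, -15, 0],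
   [-3, 6, 6, 18, 0, 27, 12, 9, 27, 9, -12, 18, -6, -12, 9, 12, 9, 0, -3, -27, -3, 21, 15, 0],
   [-3, 6, 6, -2, 10, -23, 2, -21, -23, -1, 8, 8, -6, -2, -11, 2, 19, 20, 7, 23, 7, -29, -15, 10],
   [-3, 6, 6, 8, -10, 17, -8, 9, 17, 19, -2, -2, 24, 8, -1, -8, -1, 10, -13, -17, -13, 11, 15, 20],
   [-3, 6, 6, 8, 20, -13, -8, -21, -13, -11, -2, -2, -6, 8, -1, -8, -1, 10, 17, 13, 17, -19, -15, -10],
   [-3, 6, 6, -12, -30, 27, -18, 39, 27, 9, -12, 18, 24, 18, -21, -18, -21, 0, -3, 3, -3, 21, 15, 0],
   [-3, 6, 6, -12, -30, 27, -18, 39, -3, 9, -12, 18, -6, 18, -21, -18, -21, 0, -3, 3, -3, -9, -15, 0],
   [-3, 6, 6, 8, 20, -13, 22, -21, -13, 19, -2, -2, 24, 8, -31, -8, -1, 10, 17, 13, -13, 11, -15, -10],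
   [-3, -6, -18, -12, -24, 21, 0, 21, 27, -3, 0, 0, 0, -18, 33, 12, -3, 0, -3, -15, -3, 3, 15, 0],
   [-3, -6, -18, 8, -4, 11, 10, -9, -13, 7, 10, 10, 0, 2, -7, -8, 17, -20, 17, 25, -13, -7, -15, -10],
   [-3, -6, -18, -2, 16, -29, -10, -9, -53, 17, -10, -10, -30, -8, -17, -28, 7, -10, 7, 35, 37, -47, -45, -20],
   [-3, -6, -18, 18, 6, -9, 0, -9, -3, -3, 0, 0, 0, -18, 3, 12, -3, 0, -3, -15, -3, 3, 15, 0],
   [-3, -6, -18, -2, 16, 1, -10, -9, 7, -13, 20, -10, 0, -8, 13, 2, 7, 20, -23, -25, 7, 13, 15, 10],
   [-3, 6, 6, 18, 0, -3, 12, 9, -3, 9, -12, -12, -6, -12, 9, 12, 9, 0, -3, 3, -3, 21, 15, 0],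
   [-3, 6, 6, -12, 0, -3, -18, 9, -3, 9, 18, -12, -6, -12, 9, 12, 9, 0, -3, 3, -3, -9, 15, 0],
   [-3, -6, -18, -12, 6, -9, 0, -9, -3, -3, 0, 0, 0, 12, 3, 12, -3, 0, -3, 15, -3, 3, -15, 0],
   [-3, 6, 6, 18, 30, -33, 12, -21, -3, -21, 18, -12, -6, -12, 9, 12, 9, 0, -3, 3, 27, -9, -15, 0],
   [-3, 6, 6, -2, 10, 7, 2, 9, 7, -1, 8, -22, -6, -32, 19, 2, -11, -10, -23, -7, 7, 1, 15, 10],
   [-39, -18, 6, -6, -12, 3, 0, 3, 21, -9, 0, 0, 0, 6, 9, 6, -9, 0, -9, -15, -9, 9, 15, 0]]

/-- The selected basis. -/
def sel : List Nat :=
  [0, 1, 2, 3, 4, 5, 6, 7, 9, 10, 11, 12, 15, 16, 17, 18, 19, 21, 23, 24, 26, 27, 29, 35]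

end Cfsg.Agent.Lib.Leech.Stab352Data
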