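import Cfsg.Agent.Lib.Leech.Stab352
import Cfsg.Agent.Lib.Leech.Stab352Data
import Cfsg.Agent.Lib.MinIndexU35.Main
import Cfsg.Agent.Lib.PSUThreeTwo.Transport

/-!
The stabiliser of one of the 352 vectors is `PSU(3, 5)`.

The group acts on 126 pairs `{a, -v - a}` of minimal vectors as `PSU(3, 5)` on its 126 isotropic
points. The subgroup of the product generated by two matching pairs of generators has injective
projections and at least 126000 elements, so it is the graph of an isomorphism.
-/

set_option autoImplicit false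
set_option maxRecDepth 20000

namespace Cfsg.Agent.Lib.Leech.U35

open Cfsg
open Cfsg.Agent.Lib
open Cfsg.Agent.Lib.MinIndexU35 (TwentyFive PSU25 SU25 M25 Cond ofMat mk_eq_iff coe_mul_eq ofNums ofTriple)
open Matrix

/-- The third vector. -/
noncomputable def baseT : leechLattice := denL Stab352Data.baseX

theorem baseT_check : configOk hsVecV hsVecW 16 (-24) Stab352Data.baseX = true := by decide +kernel

theorem baseT_mem : baseT ∈ set352 hsBaseV hsBaseW :=
  configOk_mem (a := hsBaseV) (b := hsBaseW) baseT_check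

/-- The group. -/
noncomputable abbrev H35 : Subgroup Co0 := tripleStab hsBaseV hsBaseW baseT

theorem card_H35 : Nat.card ↥H35 = 126000 :=
  card_stab352 hsVec_check.2.2.1 hsVec_check.2.2.2.1 hsVec_check.2.2.2.2 baseT_mem

/-- The code of a representative. -/
def repCode (i : Fin 126) : List ℤ := Stab352Data.reps.getD i.val []

/-- A representative of a pair. -/
noncomputable def rep (i : Fin 126) : leechLattice := denL (repCode i)

/-- The code of the other member. -/
def repCode' (i : Fin 126) : List ℤ := toList (-(hsVecV + ofList (repCode i)))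

/-- A key, distinct on the 252 vectors. -/
def key352 (c : List ℤ) : ℕ :=
  (c.foldl (fun acc x => acc * 16 + (x + 8).toNat) 0) % 113921

theorem reps_ok : (∀ i, codeOk (repCode i) = true) ∧
    Orbit.Coding.keysOk key352
      ((List.finRange 126).map repCode ++ (List.finRange 126).map repCode') = true := by
  decide +kernel

theorem rep_coe (i : Fin 126) : (rep i : GolayPt → ℤ) = ofList (repCode i) :=
  denL_coe (reps_ok.1 i)

theorem codes_nodup :
    ((List.finRange 126).map repCode ++ (List.finRange 126).map repCode').Nodup :=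
  List.Nodup.of_map _ (Orbit.Coding.keysOk_nodup _ _ reps_ok.2)

theorem rep_other (i j : Fin 126) : rep i ≠ -hsBaseV - rep j := by
  intro h
  have h' := congrArg (fun z : leechLattice => toList (z : GolayPt → ℤ)) h
  have e : toList ((-hsBaseV - rep j : leechLattice) : GolayPt → ℤ) = repCode' j := by
    refine congrArg toList ?_
    simp only [AddSubgroup.coe_sub, AddSubgroup.coe_neg, rep_coe]
    funext k
    show -hsVecV k - ofList (repCode j) k = -(hsVecV k + ofList (repCode j) k)
    ring
  have e' : toList ((rep i : leechLattice) : GolayPt → ℤ) = repCode i := by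
    rw [rep_coe]
    have : (List.finRange 126).all (fun i => toList (ofList (repCode i)) == repCode i) = true := by
      decide +kernel
    exact beq_iff_eq.1 (List.all_eq_true.1 this i (List.mem_finRange i))
  simp only [e, e'] at h'
  exact (List.nodup_append.1 codes_nodup).2.2 _ (List.mem_map.2 ⟨i, List.mem_finRange i, rfl⟩) _
    (List.mem_map.2 ⟨j, List.mem_finRange j, rfl⟩) h'

theorem rep_inj {i j : Fin 126} (h : rep i = rep j) : i = j :=
  List.inj_on_of_nodup_map (List.nodup_append.1 codes_nodup).1 (List.mem_finRange i)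
    (List.mem_finRange j) (denL_inj (reps_ok.1 i) (reps_ok.1 j) h)

/-- The isotropic point. -/
def pnt (i : Fin 126) : Fin 3 → TwentyFive :=
  let t := Stab352Data.isoPts.getD i.val (0, 0, 0)
  ofTriple (Fin.ofNat 25 t.1, Fin.ofNat 25 t.2.1, Fin.ofNat 25 t.2.2)

theorem pnt_normal : ∀ i, pnt i 0 = 1 ∨ (pnt i 0 = 0 ∧ pnt i 1 = 1) := by decide +kernel

theorem pnt_nodup :
    ((List.finRange 126).map fun i =>
      ((pnt i 0).num.val * 625 + (pnt i 1).num.val * 25 + (pnt i 2).num.val)).Nodup := by
  refine List.Nodup.of_map (fun k => k % 113921) ?_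
  have h : Orbit.Coding.keysOk (fun k : ℕ => k % 113921) ((List.finRange 126).map fun i =>
      ((pnt i 0).num.val * 625 + (pnt i 1).num.val * 25 + (pnt i 2).num.val)) = true := by
    decide +kernel
  exact Orbit.Coding.keysOk_nodup _ _ h

theorem pnt_inj {i j : Fin 126} {l : TwentyFive} (h : pnt i = l • pnt j) : i = j := by
  have h0 := congrFun h 0
  have h1 := congrFun h 1
  simp only [Pi.smul_apply, smul_eq_mul] at h0 h1
  have hl : l = 1 := by
    rcases pnt_normal i with a | ⟨a, a'⟩ <;> rcases pnt_normal j with b | ⟨b, b'⟩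
    · rw [a, b, mul_one] at h0; exact h0.symm
    · rw [a, b, mul_zero] at h0; exact absurd h0 one_ne_zero
    · rw [a, b, mul_one] at h0; rw [a', ← h0, zero_mul] at h1; exact absurd h1 one_ne_zero
    · rw [a', b', mul_one] at h1; exact h1.symm
  rw [hl, one_smul] at h
  refine List.inj_on_of_nodup_map pnt_nodup (List.mem_finRange i) (List.mem_finRange j) ?_
  rw [h]

/-- How an element of the lattice group moves the pairs. -/
def ActsH (g : Co0) (σ : Fin 126 → Fin 126) : Prop :=
  ∀ i, g • rep i = rep (σ i) ∨ g • rep i = -hsBaseV - rep (σ i)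

/-- How an element of `PSU(3, 5)` moves the isotropic points. -/
def ActsU (u : PSU25) (σ : Fin 126 → Fin 126) : Prop :=
  ∃ s : SU25, QuotientGroup.mk s = u ∧ ∀ i, ∃ l : TwentyFive, s.1.1 *ᵥ pnt i = l • pnt (σ i)

theorem smul_sub352 {g : Co0} (hg : g • hsBaseV = hsBaseV) (y : leechLattice) :
    g • (-hsBaseV - y) = -hsBaseV - g • y := by
  rw [sub_eq_add_neg, sub_eq_add_neg, smul_add', smul_neg', smul_neg', hg]

theorem actsH_mul {g h : ↥H35} {σ τ : Fin 126 → Fin 126} (hg : ActsH g.1 σ) (hh : ActsH h.1 τ) :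
    ActsH (g * h).1 (σ ∘ τ) := by
  intro i
  have e : (g * h).1 • rep i = g.1 • h.1 • rep i := mul_smul _ _ _
  rw [e]
  rcases hh i with a | a <;> rcases hg (τ i) with b | b <;> rw [a]
  · exact Or.inl b
  · exact Or.inr b
  · rw [smul_sub352 g.2.1.1, b]; exact Or.inr rfl
  · rw [smul_sub352 g.2.1.1, b, sub_sub_cancel]; exact Or.inl rfl

theorem actsU_mul {u u' : PSU25} {σ τ : Fin 126 → Fin 126} (hu : ActsU u σ) (hu' : ActsU u' τ) :
    ActsU (u * u') (σ ∘ τ) := by
  obtain ⟨s, rfl, hs⟩ := hu
  obtain ⟨s', rfl, hs'⟩ := hu'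
  refine ⟨s * s', rfl, fun i => ?_⟩
  obtain ⟨l, hl⟩ := hs' i
  obtain ⟨m, hm⟩ := hs (τ i)
  exact ⟨l * m, by
    rw [coe_mul_eq, ← mulVec_mulVec, hl, mulVec_smul, hm, smul_smul]; rfl⟩

theorem actsH_unique {g : Co0} {σ τ : Fin 126 → Fin 126} (h : ActsH g σ) (h' : ActsH g τ) :
    σ = τ := by
  funext i
  rcases h i with a | a <;> rcases h' i with b | b <;> rw [a] at b
  · exact rep_inj b
  · exact absurd b (rep_other _ _)
  · exact absurd b.symm (rep_other _ _)
  · exact rep_inj (sub_right_injective b)

theorem actsH_injective {g : ↥H35} {σ : Fin 126 → Fin 126} (h : ActsH g.1 σ) :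
    Function.Injective σ := by
  intro x y hxy
  rcases h x with a | a <;> rcases h y with b | b <;> rw [hxy] at a
  · exact rep_inj (MulAction.injective g.1 (a.trans b.symm))
  · refine absurd (MulAction.injective g.1 ?_) (rep_other x y)
    show g.1 • rep x = g.1 • (-hsBaseV - rep y)
    rw [smul_sub352 g.2.1.1, a, b, sub_sub_cancel]
  · refine absurd (MulAction.injective g.1 ?_) (rep_other y x)
    show g.1 • rep y = g.1 • (-hsBaseV - rep x)
    rw [smul_sub352 g.2.1.1, a, b, sub_sub_cancel]
  · exact rep_inj (MulAction.injective g.1 (a.trans b.symm))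

theorem actsU_one {σ : Fin 126 → Fin 126} (h : ActsU 1 σ) : σ = id := by
  obtain ⟨s, hs, hp⟩ := h
  obtain ⟨l, hl⟩ := (mk_eq_iff 1 s).1 hs.symm
  funext i
  obtain ⟨m, hm⟩ := hp i
  have h1 : (1 : SU25).1.1 = (1 : M25) := rfl
  rw [hl, h1, smul_mulVec, one_mulVec] at hm
  have hl0 : l ≠ 0 := fun h0 => by
    have := s.1.2
    rw [hl, h0, zero_smul, Matrix.det_zero] at this
    exact zero_ne_one this
  have : pnt i = (l⁻¹ * m) • pnt (σ i) := by rw [← smul_smul, ← hm, inv_smul_smul₀ hl0]
  exact (pnt_inj this).symm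

/-- The basis points. -/
def quadPts : M25 := ofNums ![![0, 0, 1], ![1, 1, 0], ![2, 3, 2]]

/-- Its inverse. -/
def quadInv : M25 := ofNums ![![2, 3, 4], ![3, 3, 1], ![1, 0, 0]]

theorem quad_check : quadPts * quadInv = 1 ∧ (∀ r, quadPts r 0 = pnt 0 r) ∧
    (∀ r, quadPts r 1 = pnt 1 r) ∧ (∀ r, quadPts r 2 = pnt 6 r) ∧
    (∀ k, (quadInv *ᵥ pnt 7) k ≠ 0) ∧ quadPts *ᵥ (quadInv *ᵥ pnt 7) = pnt 7 ∧
    quadInv * quadPts = 1 := by
  decide +kernel

theorem actsU_id {u : PSU25} (h : ActsU u id) : u = 1 := by
  obtain ⟨s, rfl, hs⟩ := h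
  obtain ⟨l0, e0⟩ := hs 0
  obtain ⟨l1, e1⟩ := hs 1
  obtain ⟨l2, e2⟩ := hs 6
  obtain ⟨l3, e3⟩ := hs 7
  obtain ⟨h1, c0, c1, c2, hne, h7, h1'⟩ := quad_check
  set S : M25 := s.1.1 with hS
  have hSP : S * quadPts = quadPts * Matrix.diagonal ![l0, l1, l2] := by
    ext r k
    rw [Matrix.mul_apply, Matrix.mul_diagonal]
    fin_cases k
    · have := congrFun e0 r
      simp only [mulVec, dotProduct, Pi.smul_apply, smul_eq_mul, id_eq] at this
      show ∑ j, S r j * quadPts j 0 = quadPts r 0 * l0
      simp only [c0]; rw [this, mul_comm]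
    · have := congrFun e1 r
      simp only [mulVec, dotProduct, Pi.smul_apply, smul_eq_mul, id_eq] at this
      show ∑ j, S r j * quadPts j 1 = quadPts r 1 * l1
      simp only [c1]; rw [this, mul_comm]
    · have := congrFun e2 r
      simp only [mulVec, dotProduct, Pi.smul_apply, smul_eq_mul, id_eq] at this
      show ∑ j, S r j * quadPts j 2 = quadPts r 2 * l2
      simp only [c2]; rw [this, mul_comm]
  have hd : Matrix.diagonal ![l0, l1, l2] *ᵥ (quadInv *ᵥ pnt 7) = l3 • (quadInv *ᵥ pnt 7) := by
    have h := congrArg (fun z => quadInv *ᵥ z) e3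
    simp only [id_eq, mulVec_smul] at h
    rw [← h]
    calc Matrix.diagonal ![l0, l1, l2] *ᵥ (quadInv *ᵥ pnt 7)
        = (quadInv * (S * quadPts)) *ᵥ (quadInv *ᵥ pnt 7) := by
          rw [hSP, ← Matrix.mul_assoc, h1', Matrix.one_mul]
      _ = quadInv *ᵥ (S *ᵥ (quadPts *ᵥ (quadInv *ᵥ pnt 7))) := by
          simp only [mulVec_mulVec, Matrix.mul_assoc]
      _ = _ := by rw [h7]
  have hl : ∀ k, ![l0, l1, l2] k = l3 := fun k => by
    have := congrFun hd k
    rw [mulVec_diagonal, Pi.smul_apply, smul_eq_mul] at this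
    exact mul_right_cancel₀ (hne k) this
  refine ((mk_eq_iff 1 s).2 ⟨l3, ?_⟩).symm
  show S = l3 • (1 : M25)
  rw [show Matrix.diagonal ![l0, l1, l2] = l3 • (1 : M25) by
    ext a b
    rw [Matrix.diagonal_apply, Matrix.smul_apply, Matrix.one_apply, hl]
    split <;> simp] at hSP
  calc S = S * quadPts * quadInv := by rw [Matrix.mul_assoc, h1, Matrix.mul_one]
    _ = l3 • (1 : M25) := by rw [hSP, Matrix.mul_smul, Matrix.mul_one, Matrix.smul_mul, h1]

/-- The selected spanning vectors, doubled representatives shifted by `v`. -/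
def spanVec (k : Fin 24) : GolayPt → ℤ :=
  let n := Stab352Data.sel.getD k.val 0
  if n = 0 then hsVecV else if n = 1 then hsVecW else if n = 2 then ofList Stab352Data.baseX
  else fun p => 2 * ofList (repCode (Fin.ofNat 126 (n - 3))) p + hsVecV p

/-- The coefficients. -/
def coeff (p : GolayPt) (k : Fin 24) : ℤ :=
  ((Stab352Data.coeffs.getD (Golay.idx p).val []).getD k.val 0)

theorem coeff_check : ∀ p q : GolayPt,
    ∑ k, coeff p k * spanVec k q = if p = q then 240 else 0 := by
  decide +kernel

theorem coord_eq (f : GolayPt → ℤ) (p : GolayPt) :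
    240 * f p = ∑ k, coeff p k * dotInt (spanVec k) f := by
  simp only [dotInt, Finset.mul_sum]
  rw [Finset.sum_comm]
  simp only [← mul_assoc, ← Finset.sum_mul, coeff_check]
  simp

theorem sign_check :
    (∀ i : Fin 126, 2 * dotInt (ofList (repCode i)) (ofList (repCode 0))
      + dotInt hsVecV (ofList (repCode 0)) ≠ 0) ∧
    ¬ (240 : ℤ) ∣ ∑ k, coeff none k *
      ((if Stab352Data.sel.getD k.val 0 < 3 then 1 else -1) * dotInt (spanVec k) repA) := by
  decide +kernel

theorem actsH_id {g : ↥H35} (h : ActsH g.1 id) : g = 1 := by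
  have hdot : ∀ a b : leechLattice, dotInt ((g.1 • a : leechLattice) : GolayPt → ℤ)
      ((g.1 • b : leechLattice) : GolayPt → ℤ) = dotInt (a : GolayPt → ℤ) (b : GolayPt → ℤ) :=
    fun a b => dotInt_smul g.1 a b
  have hv : g.1 • hsBaseV = hsBaseV := g.2.1.1
  have hV : (hsBaseV : GolayPt → ℤ) = hsVecV := rfl
  have sub_coe : ∀ i, ((-hsBaseV - rep i : leechLattice) : GolayPt → ℤ)
      = -(hsVecV + ofList (repCode i)) := fun i => by
    simp only [AddSubgroup.coe_sub, AddSubgroup.coe_neg, rep_coe, hV]
    abel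
  -- all pairs are fixed or all are flipped
  have huni : (∀ i, g.1 • rep i = rep i) ∨ (∀ i, g.1 • rep i = -hsBaseV - rep i) := by
    rcases h 0 with h0 | h0
    · refine Or.inl fun i => (h i).resolve_right fun hi => sign_check.1 i ?_
      have := hdot (rep i) (rep 0)
      rw [hi, h0, id_eq, id_eq, sub_coe, rep_coe, rep_coe, dotInt_neg_left', dotInt_add_left'] at this
      omega
    · refine Or.inr fun i => (h i).resolve_left fun hi => sign_check.1 i ?_
      have := hdot (rep i) (rep 0)
      rw [hi, h0, id_eq, id_eq, sub_coe, rep_coe, rep_coe,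
        dotInt_comm _ (-(hsVecV + _)), dotInt_neg_left', dotInt_add_left',
        dotInt_comm (ofList (repCode 0)) (ofList (repCode i))] at this
      have hsym : dotInt hsVecV (ofList (repCode i)) = dotInt hsVecV (ofList (repCode 0)) := by
        have : (List.finRange 126).all (fun i => decide (dotInt hsVecV (ofList (repCode i))
            = dotInt hsVecV (ofList (repCode 0)))) = true := by decide +kernel
        exact of_decide_eq_true (List.all_eq_true.1 this i (List.mem_finRange i))
      omega
  have key : ∀ (ε : ℤ), (∀ (i : Fin 126) (y : leechLattice),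
      dotInt (fun p => 2 * ofList (repCode i) p + hsVecV p) (g.1 • y : leechLattice).1
        = ε * dotInt (fun p => 2 * ofList (repCode i) p + hsVecV p) y.1) →
      ∀ (y : leechLattice) p, 240 * (g.1 • y : leechLattice).1 p = ∑ k, coeff p k *
        ((if Stab352Data.sel.getD k.val 0 < 3 then 1 else ε) * dotInt (spanVec k) y.1) := by
    intro ε hε y p
    rw [coord_eq]
    refine Finset.sum_congr rfl fun k _ => congrArg (coeff p k * ·) ?_
    have hfix : ∀ a : leechLattice, g.1 • a = a →
        dotInt (a : GolayPt → ℤ) (g.1 • y : leechLattice).1 = dotInt (a : GolayPt → ℤ) y.1 :=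
      fun a ha => by
        have := hdot a y
        rwa [ha] at this
    unfold spanVec
    simp only
    generalize Stab352Data.sel.getD k.val 0 = n
    split_ifs <;> try omega
    · rw [one_mul]; exact hfix hsBaseV g.2.1.1
    · rw [one_mul]; exact hfix hsBaseW g.2.1.2
    · rw [one_mul]
      have := hfix baseT g.2.2
      rwa [baseT, denL_coe (by
        have := baseT_check
        simp only [configOk, Bool.and_eq_true] at this
        exact this.1.1.1)] at this
    · exact hε _ y
  have lin : ∀ (i : Fin 126) (f : GolayPt → ℤ),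
      dotInt (fun p => 2 * ofList (repCode i) p + hsVecV p) f
        = 2 * dotInt (ofList (repCode i)) f + dotInt hsVecV f := fun i f => by
    simp only [dotInt, Finset.mul_sum, ← Finset.sum_add_distrib]
    exact Finset.sum_congr rfl fun p _ => by ring
  rcases huni with hu | hu
  · refine Subtype.ext ?_
    refine FaithfulSMul.eq_of_smul_eq_smul fun y : leechLattice => Subtype.ext (funext fun p => ?_)
    have h1 := key 1 (fun i z => by
      have a := hdot (rep i) z
      have b := hdot hsBaseV z
      rw [hu, rep_coe] at a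
      rw [hv] at b
      simp only [hV] at b
      rw [one_mul, lin, lin]
      omega) y p
    have h2 := coord_eq y.1 p
    simp only [ite_self, one_mul] at h1
    rw [show ((1 : ↥H35) : ↥Co0) = 1 from rfl, one_smul]
    omega
  · exfalso
    refine sign_check.2 ⟨(g.1 • baseU : leechLattice).1 none, (key (-1) (fun i z => ?_) baseU none).symm⟩
    have a := hdot (rep i) z
    have b := hdot hsBaseV z
    rw [hu, sub_coe, rep_coe, dotInt_neg_left', dotInt_add_left'] at a
    rw [hv] at b
    simp only [hV] at b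
    rw [lin, lin]
    omega

/-- The two matrices. -/
def matU : Bool → M25
  | false => ofNums ![![23, 13, 20], ![0, 15, 6], ![3, 14, 9]]
  | true => ofNums ![![2, 4, 1], ![16, 15, 13], ![2, 5, 6]]

theorem matU_cond : ∀ b, Cond (matU b) := by decide +kernel

/-- The two generators. -/
def genU (b : Bool) : PSU25 := QuotientGroup.mk (ofMat (matU b) (matU_cond b))

/-- The two permutations. -/
def permG (b : Bool) (i : Fin 126) : Fin 126 :=
  Fin.ofNat 126 ((if b then Stab352Data.permB else Stab352Data.permA).getD i.val 0)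

/-- The scalars. -/
def scalG (b : Bool) (i : Fin 126) : TwentyFive :=
  ⟨Fin.ofNat 25 ((if b then Stab352Data.witB else Stab352Data.witA).getD i.val 0)⟩

/-- The two words. -/
def wordsG (b : Bool) : List Step := if b then Stab352Data.genB else Stab352Data.genA

theorem genU_check : ∀ b i, matU b *ᵥ pnt i = scalG b i • pnt (permG b i) := by decide +kernel

theorem genH_check : ∀ b, (wordsG b).all stepOk = true ∧
    pairValid hsBaseV hsBaseW (wordsG b) = true ∧
    runList (wordsG b) Stab352Data.baseX = Stab352Data.baseX ∧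
    (List.finRange 126).all (fun i =>
      runList (wordsG b) (repCode i) == repCode (permG b i) ||
      runList (wordsG b) (repCode i) == repCode' (permG b i)) = true := by
  decide +kernel

theorem baseT_code : codeOk Stab352Data.baseX = true := by decide +kernel

theorem genH_mem (b : Bool) : wordEl (wordsG b) ∈ H35 := by
  refine ⟨pairValid_mem (genH_check b).2.1, ?_⟩
  refine Subtype.ext ?_
  rw [wordEl_smul _ (genH_check b).1 baseT _ (denL_coe baseT_code).symm, (genH_check b).2.2.1]
  exact (denL_coe baseT_code).symm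

/-- The generators of the stabiliser. -/
noncomputable def genH (b : Bool) : ↥H35 := ⟨wordEl (wordsG b), genH_mem b⟩

theorem genH_acts (b : Bool) : ActsH (genH b).1 (permG b) := by
  intro i
  have e := wordEl_smul _ (genH_check b).1 (rep i) _ (rep_coe i).symm
  have h := List.all_eq_true.1 (genH_check b).2.2.2 i (List.mem_finRange i)
  rw [Bool.or_eq_true, beq_iff_eq, beq_iff_eq] at h
  rcases h with h | h
  · exact Or.inl (Subtype.ext (by rw [rep_coe, ← h]; exact e))
  · refine Or.inr (Subtype.ext ?_)
    refine e.trans ?_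
    rw [h, repCode', ofList_toList, AddSubgroup.coe_sub, AddSubgroup.coe_neg, rep_coe]
    funext k
    show -(hsVecV k + ofList (repCode (permG b i)) k) = -hsVecV k - ofList (repCode (permG b i)) k
    ring

/-- A matching pair with its permutation. -/
def Good (z : ↥H35 × PSU25) (σ : Fin 126 → Fin 126) : Prop := ActsH z.1.1 σ ∧ ActsU z.2 σ

theorem good_one : Good 1 id :=
  ⟨fun i => Or.inl (one_smul _ _), 1, rfl, fun i => ⟨1, by
    show ((1 : SU25).1.1) *ᵥ pnt i = _
    rw [one_smul, show ((1 : SU25).1.1 : M25) = 1 from rfl, one_mulVec]; rfl⟩⟩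

theorem good_gen (b : Bool) : Good (genH b, genU b) (permG b) :=
  ⟨genH_acts b, _, rfl, fun i => ⟨scalG b i, genU_check b i⟩⟩

/-- The matching pairs. -/
def graph : Submonoid (↥H35 × PSU25) where
  carrier := {z | ∃ σ, Good z σ}
  one_mem' := ⟨id, good_one⟩
  mul_mem' := fun ⟨σ, a, b⟩ ⟨τ, c, d⟩ => ⟨σ ∘ τ, actsH_mul a c, actsU_mul b d⟩

/-- The graph of the isomorphism. -/
noncomputable def K35 : Subgroup (↥H35 × PSU25) :=
  Subgroup.closure (Set.range fun b => (genH b, genU b))

instance finite_H35 : Finite ↥H35 := Nat.finite_of_card_ne_zero (by rw [card_H35]; norm_num)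

theorem K35_good {z : ↥H35 × PSU25} (hz : z ∈ K35) : ∃ σ, Good z σ := by
  have h : z ∈ Submonoid.closure (Set.range fun b => (genH b, genU b)) := by
    rw [← Subgroup.closure_toSubmonoid_of_finite]; exact hz
  exact (Submonoid.closure_le.2 (by rintro _ ⟨b, rfl⟩; exact ⟨_, good_gen b⟩) :
    Submonoid.closure (Set.range fun b => (genH b, genU b)) ≤ graph) h

/-- The permutation of a word. -/
def runW (w : List Bool) (i : Fin 126) : Fin 126 := w.foldl (fun j b => permG b j) i

/-- The element of a word. -/
noncomputable def eltW (w : List Bool) : ↥H35 × PSU25 :=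
  w.foldl (fun z b => (genH b, genU b) * z) 1

theorem eltW_spec (w : List Bool) : eltW w ∈ K35 ∧ Good (eltW w) (runW w) := by
  have main : ∀ (w : List Bool) (z : ↥H35 × PSU25) (σ : Fin 126 → Fin 126),
      z ∈ K35 → Good z σ →
      w.foldl (fun z b => (genH b, genU b) * z) z ∈ K35 ∧
        Good (w.foldl (fun z b => (genH b, genU b) * z) z) (fun i => runW w (σ i)) := by
    intro w
    induction w with
    | nil => intro z σ h h'; exact ⟨h, h'⟩
    | cons b w ih =>
      intro z σ h h'
      exact ih _ (permG b ∘ σ) (mul_mem (Subgroup.subset_closure ⟨b, rfl⟩) h)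
        ⟨actsH_mul (good_gen b).1 h'.1, actsU_mul (good_gen b).2 h'.2⟩
  exact main w 1 id (one_mem _) good_one

/-- The moving word for the first point. -/
def wordI (i : Fin 126) : List Bool := Stab352Data.wordsZero.getD i.val []

/-- The moving word for the second point. -/
def wordJ (j : Fin 125) : List Bool := Stab352Data.wordsOne.getD (j.val + 1) []

/-- Powers of the element of order eight. -/
def wordK : ℕ → List Bool
  | 0 => []
  | k + 1 => wordK k ++ Stab352Data.wordEight

theorem word_check : (∀ i, runW (wordI i) 0 = i) ∧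
    (∀ j : Fin 125, runW (wordJ j) 0 = 0 ∧ (runW (wordJ j) 1).val = j.val + 1) ∧
    runW Stab352Data.wordEight 0 = 0 ∧ runW Stab352Data.wordEight 1 = 1 ∧
    ((List.range 8).map fun k => (runW (wordK k) 6).val).Nodup := by
  decide +kernel

theorem runW_append (a b : List Bool) (i : Fin 126) : runW (a ++ b) i = runW b (runW a i) :=
  List.foldl_append

theorem wordK_fix (k : ℕ) : runW (wordK k) 0 = 0 ∧ runW (wordK k) 1 = 1 := by
  induction k with
  | zero => exact ⟨rfl, rfl⟩
  | succ k ih =>
    exact ⟨by rw [wordK, runW_append, ih.1, word_check.2.2.1],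
      by rw [wordK, runW_append, ih.2, word_check.2.2.2.1]⟩

theorem card_K35 : 126000 ≤ Nat.card ↥K35 := by
  let f : Fin 126 × Fin 125 × Fin 8 → ↥K35 := fun t =>
    ⟨eltW (wordK t.2.2.val ++ wordJ t.2.1 ++ wordI t.1), (eltW_spec _).1⟩
  have hf : Function.Injective f := by
    rintro ⟨i, j, k⟩ ⟨i', j', k'⟩ h
    have h' := congrArg Subtype.val h
    have h2' : eltW (wordK k.val ++ wordJ j ++ wordI i)
        = eltW (wordK k'.val ++ wordJ j' ++ wordI i') := h'
    have h3' := (eltW_spec (wordK k'.val ++ wordJ j' ++ wordI i')).2.1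
    rw [← h2'] at h3'
    have hσ := actsH_unique (eltW_spec (wordK k.val ++ wordJ j ++ wordI i)).2.1 h3'
    have e : ∀ x, runW (wordI i) (runW (wordJ j) (runW (wordK k.val) x))
        = runW (wordI i') (runW (wordJ j') (runW (wordK k'.val) x)) := fun x => by
      have := congrFun hσ x
      simpa only [runW_append] using this
    obtain ⟨c1, c2, -, -, c5⟩ := word_check
    have hi : i = i' := by
      have := e 0
      rwa [(wordK_fix _).1, (wordK_fix _).1, (c2 j).1, (c2 j').1, c1, c1] at this
    subst hi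
    have hinj : Function.Injective (runW (wordI i)) :=
      actsH_injective (eltW_spec (wordI i)).2.1
    have hjk : ∀ x, runW (wordJ j) (runW (wordK k.val) x)
        = runW (wordJ j') (runW (wordK k'.val) x) := fun x => hinj (e x)
    have hj : j = j' := by
      have := congrArg Fin.val (hjk 1)
      rw [(wordK_fix _).2, (wordK_fix _).2, (c2 j).2, (c2 j').2] at this
      exact Fin.ext (by omega)
    subst hj
    have hinj' : Function.Injective (runW (wordJ j)) :=
      actsH_injective (eltW_spec (wordJ j)).2.1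
    have hk : k = k' := by
      refine Fin.ext (List.inj_on_of_nodup_map c5 (List.mem_range.2 k.isLt)
        (List.mem_range.2 k'.isLt) ?_)
      exact congrArg Fin.val (hinj' (hjk 6))
    subst hk
    rfl
  have := Nat.card_le_card_of_injective f hf
  simpa using this

theorem psu35_iso : Nonempty (↥H35 ≃* PSU25) := by
  haveI : Finite ↥K35 := inferInstance
  let p1 : ↥K35 →* ↥H35 := (MonoidHom.fst _ _).comp K35.subtype
  let p2 : ↥K35 →* PSU25 := (MonoidHom.snd _ _).comp K35.subtype
  have h1 : Function.Injective p1 := by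
    rw [← MonoidHom.ker_eq_bot_iff, Subgroup.eq_bot_iff_forall]
    rintro ⟨⟨g, u⟩, hz⟩ hg
    obtain ⟨σ, hA, hU⟩ := K35_good hz
    obtain rfl : g = 1 := hg
    obtain rfl : σ = id := actsH_unique hA (fun i => Or.inl (one_smul _ _))
    exact Subtype.ext (Prod.ext rfl (actsU_id hU))
  have h2 : Function.Injective p2 := by
    rw [← MonoidHom.ker_eq_bot_iff, Subgroup.eq_bot_iff_forall]
    rintro ⟨⟨g, u⟩, hz⟩ hu
    obtain ⟨σ, hA, hU⟩ := K35_good hz
    obtain rfl : u = 1 := hu
    obtain rfl : σ = id := actsU_one hU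
    exact Subtype.ext (Prod.ext (actsH_id hA) rfl)
  have hc : Nat.card PSU25 = 126000 :=
    MinIndexU35.card_psu_five MinIndexU35.card_twentyFive
  haveI : Finite PSU25 := Nat.finite_of_card_ne_zero (by rw [hc]; norm_num)
  have hb1 : Function.Bijective p1 := (Nat.bijective_iff_injective_and_card _).2
    ⟨h1, le_antisymm (Nat.card_le_card_of_injective p1 h1) (card_H35.le.trans card_K35)⟩
  have hb2 : Function.Bijective p2 := (Nat.bijective_iff_injective_and_card _).2
    ⟨h2, le_antisymm (Nat.card_le_card_of_injective p2 h2) (hc.le.trans card_K35)⟩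
  exact ⟨(MulEquiv.ofBijective p1 hb1).symm.trans (MulEquiv.ofBijective p2 hb2)⟩

theorem stab352_psu {v w x : leechLattice} (hv : sqNorm (v : GolayPt → ℤ) = 48)
    (hw' : sqNorm (w : GolayPt → ℤ) = 48)
    (hvw : dotInt (v : GolayPt → ℤ) (w : GolayPt → ℤ) = -32) (hx : x ∈ set352 v w)
    (F : Type) [Field F] [Fintype F] (hF : Fintype.card F = 25) :
    Nonempty (↥(tripleStab v w x) ≃* Cfsg.PSU 3 F 5) := by
  obtain ⟨φ⟩ := psu35_iso
  obtain ⟨f, a, b, c⟩ := set352_frame hv hw' hvw hx
  obtain ⟨f', a', b', c'⟩ :=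
    set352_frame hsVec_check.2.2.1 hsVec_check.2.2.2.1 hsVec_check.2.2.2.2 baseT_mem
  have ψ := tripleStabEquiv (f * f'⁻¹) hsBaseV hsBaseW baseT
  rw [mul_smul, mul_smul, mul_smul, show f'⁻¹ • hsBaseV = hsBaseV from inv_smul_eq_iff.2 a'.symm,
    show f'⁻¹ • hsBaseW = hsBaseW from inv_smul_eq_iff.2 b'.symm,
    show f'⁻¹ • baseT = base352 from inv_smul_eq_iff.2 c'.symm, a, b, c] at ψ
  exact ⟨(ψ.symm.trans φ).trans (PSUThreeTwo.psuMap
    (FiniteField.ringEquivOfCardEq (MinIndexU35.card_twentyFive.trans hF.symm)))⟩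

end Cfsg.Agent.Lib.Leech.U35
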