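import Cfsg.Agent.Lib.Leech.Stab4600Data
import Cfsg.Agent.Lib.Golay.PSL34
import Cfsg.Agent.Lib.Orbit.Cert

/-!
Vectors of six coordinates over the field with four elements as pairs of bit masks, and the
totally isotropic planes of the data in that form.
-/

set_option autoImplicit false
set_option maxRecDepth 20000

namespace Cfsg.Agent.Lib.Leech.U62

open Cfsg.Agent.Lib
open Cfsg.Agent.Lib.Golay (Quad)
open Matrix

/-- A field element from two bits. -/
def ofBits : Bool → Bool → Quad
  | false, false => ⟨0⟩
  | true, false => ⟨1⟩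
  | false, true => ⟨2⟩
  | true, true => ⟨3⟩

/-- A code: the low and the high bits. -/
abbrev Code : Type := ℕ × ℕ

/-- The vector of a code. -/
def dec (c : Code) : Fin 6 → Quad := fun k => ofBits (c.1.testBit k.val) (c.2.testBit k.val)

/-- Sum of codes. -/
def cAdd (c d : Code) : Code := (c.1 ^^^ d.1, c.2 ^^^ d.2)

/-- Scalar multiple of a code. -/
def cScale (a : Quad) (c : Code) : Code :=
  if a.num = 0 then (0, 0) else if a.num = 1 then c
  else if a.num = 2 then (c.2, c.1 ^^^ c.2) else (c.1 ^^^ c.2, c.1)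

theorem ofBits_xor : ∀ a b a' b' : Bool,
    ofBits (a ^^ a') (b ^^ b') = ofBits a b + ofBits a' b' := by
  decide +kernel

theorem ofBits_scale : ∀ (a b : Bool),
    ofBits false false = (⟨0⟩ : Quad) * ofBits a b ∧ ofBits a b = (⟨1⟩ : Quad) * ofBits a b ∧
    ofBits b (a ^^ b) = (⟨2⟩ : Quad) * ofBits a b ∧
    ofBits (a ^^ b) a = (⟨3⟩ : Quad) * ofBits a b := by
  decide +kernel

theorem dec_add (c d : Code) : dec (cAdd c d) = dec c + dec d := funext fun k => by
  simp only [dec, cAdd, Nat.testBit_xor, Pi.add_apply]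
  exact ofBits_xor _ _ _ _

theorem dec_scale (a : Quad) (c : Code) : dec (cScale a c) = a • dec c := funext fun k => by
  obtain ⟨h0, h1, h2, h3⟩ := ofBits_scale (c.1.testBit k.val) (c.2.testBit k.val)
  obtain ⟨n⟩ := a
  fin_cases n
  · simpa [dec, cScale] using h0
  · simpa [dec, cScale] using h1
  · simpa [dec, cScale] using h2
  · simpa [dec, cScale] using h3

/-- Entry of a table in pieces of 33. -/
def lookup {α : Type} (l : List (List α)) (i : ℕ) (d : α) : α := (l.getD (i / 33) []).getD (i % 33) d

/-- The data of a plane. -/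
def planeD (i : Fin 891) : ℕ × ℕ × ℕ × Code × Code × Code :=
  lookup Stab4600Data.planes i.val (0, 0, 0, (0, 0), (0, 0), (0, 0))

/-- The pivots of a plane. -/
def piv (i : Fin 891) : Fin 3 → Fin 6 :=
  let p := planeD i
  ![Fin.ofNat 6 p.1, Fin.ofNat 6 p.2.1, Fin.ofNat 6 p.2.2.1]

/-- The basis of a plane, as codes. -/
def rowC (i : Fin 891) : Fin 3 → Code :=
  let p := planeD i
  ![p.2.2.2.1, p.2.2.2.2.1, p.2.2.2.2.2]

/-- The basis of a plane. -/
def row (i : Fin 891) (t : Fin 3) : Fin 6 → Quad := dec (rowC i t)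

/-- Lying in a plane. -/
def inPlane (v : Fin 6 → Quad) (j : Fin 891) : Prop :=
  ∀ k, v k = v (piv j 0) * row j 0 k + v (piv j 1) * row j 1 k + v (piv j 2) * row j 2 k

/-- The test on codes. -/
def inPlaneC (c : Code) (j : Fin 891) : Bool :=
  c == cAdd (cAdd (cScale (dec c (piv j 0)) (rowC j 0)) (cScale (dec c (piv j 1)) (rowC j 1)))
    (cScale (dec c (piv j 2)) (rowC j 2))

theorem inPlaneC_sound {c : Code} {j : Fin 891} (h : inPlaneC c j = true) : inPlane (dec c) j := by
  intro k
  rw [inPlaneC, beq_iff_eq] at h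
  conv_lhs => rw [h]
  simp only [dec_add, dec_scale, row, Pi.add_apply, Pi.smul_apply, smul_eq_mul]

theorem inPlane_eq {v : Fin 6 → Quad} {j : Fin 891} (h : inPlane v j) :
    v = v (piv j 0) • row j 0 + v (piv j 1) • row j 1 + v (piv j 2) • row j 2 := funext h

theorem inPlane_comb {u v w : Fin 6 → Quad} {j : Fin 891} (hu : inPlane u j) (hv : inPlane v j)
    (hw' : inPlane w j) (a b c : Quad) : inPlane (a • u + b • v + c • w) j := fun k => by
  simp only [Pi.add_apply, Pi.smul_apply, smul_eq_mul]
  linear_combination a * hu k + b * hv k + c * hw' k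

theorem inPlane_smul {v : Fin 6 → Quad} {j : Fin 891} (hv : inPlane v j) (a : Quad) :
    inPlane (a • v) j := fun k => by
  simp only [Pi.smul_apply, smul_eq_mul]
  linear_combination a * hv k

theorem planes_echelon : ∀ (i : Fin 891) (t : Fin 3),
    row i t (piv i t) = 1 ∧ (∀ s, s ≠ t → row i t (piv i s) = 0) ∧
    (∀ k, k < piv i t → row i t k = 0) ∧ (∀ s, t < s → piv i t < piv i s) := by
  decide +kernel

/-- A key of a plane. -/
def planeKey (i : Fin 891) : ℕ :=
  (((List.finRange 3).flatMap fun t => (List.finRange 6).map fun k => (row i t k).num.val).foldl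
    (fun a x => a * 4 + x) 0) % 14656

theorem planeKeys_ok : ((List.finRange 891).map planeKey).Nodup := by
  have h : (((List.finRange 891).map planeKey).foldl (fun acc c =>
      if acc.2.testBit c then (false, acc.2) else (acc.1, acc.2 ||| (1 <<< c)))
      (true, (0 : ℕ))).1 = true := by
    decide +kernel
  have := Orbit.Coding.keysOk_nodup id _ h
  rwa [List.map_id] at this

theorem strictMono_three : ∀ f : Fin 3 → Fin 3, (∀ a b, a < b → f a < f b) → ∀ a, f a = a := by
  decide +kernel

theorem plane_sep {i j : Fin 891} (h : ∀ t, inPlane (row i t) j) : i = j := by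
  have hpiv : ∀ t, ∃ s, piv i t = piv j s := by
    intro t
    by_contra hne
    push Not at hne
    have hp := h t (piv i t)
    rw [(planes_echelon i t).1] at hp
    have hz : ∀ s, row i t (piv j s) * row j s (piv i t) = 0 := fun s => by
      rcases lt_or_gt_of_ne (hne s) with hlt | hgt
      · rw [(planes_echelon j s).2.2.1 _ hlt, mul_zero]
      · rw [(planes_echelon i t).2.2.1 _ hgt, zero_mul]
    rw [hz, hz, hz, add_zero, add_zero] at hp
    exact one_ne_zero hp
  choose f hf using hpiv
  have hmono : ∀ a b, a < b → f a < f b := by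
    intro a b hab
    have hlt := (planes_echelon i a).2.2.2 b hab
    rw [hf a, hf b] at hlt
    rcases lt_trichotomy (f a) (f b) with q | q | q
    · exact q
    · rw [q] at hlt; exact absurd hlt (lt_irrefl _)
    · exact absurd hlt (lt_asymm ((planes_echelon j (f b)).2.2.2 (f a) q))
  have hid := strictMono_three f hmono
  have hp : ∀ t, piv i t = piv j t := fun t => (hf t).trans (by rw [hid t])
  have hrow : ∀ t k, row i t k = row j t k := by
    intro t k
    have := h t k
    rw [← hp 0, ← hp 1, ← hp 2] at this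
    rw [this]
    obtain ⟨h1, h0, -, -⟩ := planes_echelon i t
    fin_cases t
    · simp only [Fin.zero_eta] at h1 h0 ⊢
      rw [h1, h0 1 (by decide), h0 2 (by decide)]; ring
    · simp only [Fin.mk_one] at h1 h0 ⊢
      rw [h1, h0 0 (by decide), h0 2 (by decide)]; ring
    · simp only [Fin.reduceFinMk] at h1 h0 ⊢
      rw [h1, h0 0 (by decide), h0 1 (by decide)]; ring
  refine List.inj_on_of_nodup_map planeKeys_ok (List.mem_finRange i) (List.mem_finRange j) ?_
  simp only [planeKey, hrow]

end Cfsg.Agent.Lib.Leech.U62
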