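import Mathlib.Init

/-!
Certificate data: the 891 vectors for the stabiliser of two vectors with dot product `-16`.
-/

set_option autoImplicit false
set_option maxRecDepth 20000
set_option maxHeartbeats 4000000

namespace Cfsg.Agent.Lib.Leech.Stab4600Data

/-- A piece: The 891 vectors. -/
def reps0 : List (List Int) :=
  [[4, -4, 0, 0, 0, 0, 0, 0, 0, 0, 0, 0, 0, 0, 0, 0, 0, 0, 0, 0, 0, 0, 0, 0],
   [0, 0, 0, 0, 0, 0, 0, 0, 0, 0, 0, 0, 0, 0, 0, 0, 4, 0, 0, 0, 0, 0, 0, 4],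
   [0, 0, 0, 0, 0, 0, 0, 0, 0, 0, 0, 0, 0, 0, 0, 0, -4, 0, 0, 0, 0, 0, 0, 4],
   [0, 0, 0, 0, 0, 0, 0, 0, 0, 0, -4, 0, 0, 0, 0, 0, 0, 0, 0, 0, 0, 0, 0, 4],
   [2, -2, 0, 0, 0, 2, 0, 0, 0, 0, 2, 0, 2, 0, 0, 0, -2, 0, 0, 2, 0, 0, 0, 2],
   [2, -2, 0, 0, 0, -2, 0, 0, 0, 0, 2, 0, -2, 0, 0, 0, 2, 0, 0, -2, 0, 0, 0, 2],
   [0, 0, 0, 0, 0, 0, 0, 0, 0, 0, 4, 0, 0, 0, 0, 0, 0, 0, 0, 0, 0, 0, 0, 4],
   [2, -2, 0, 0, 0, -2, 0, 0, 0, 0, -2, 0, -2, 0, 0, 0, -2, 0, 0, -2, 0, 0, 0, 2],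
   [2, -2, 0, 0, 0, 2, 0, 0, 0, 0, -2, 0, 2, 0, 0, 0, 2, 0, 0, 2, 0, 0, 0, 2],
   [0, 0, 0, 0, 0, 0, 0, 0, 0, 0, 0, 0, 0, 0, 0, 0, 0, 0, 0, -4, 0, 0, 0, 4],
   [2, -2, 0, 0, 0, -2, 0, 0, 0, 0, -2, 0, 2, 0, 0, 0, -2, 0, 0, 2, 0, 0, 0, 2],
   [2, -2, 0, 0, 0, 2, 0, 0, 0, 0, 2, 0, -2, 0, 0, 0, 2, 0, 0, 2, 0, 0, 0, 2],
   [2, -2, 0, 0, 0, -2, 0, 0, 0, 0, 2, 0, 2, 0, 0, 0, 2, 0, 0, 2, 0, 0, 0, 2],
   [0, 0, 0, 0, 0, 0, 0, 0, 0, 0, 0, 0, -4, 0, 0, 0, 0, 0, 0, 0, 0, 0, 0, 4],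
   [2, -2, 0, 0, 0, 2, 0, 0, 0, 0, -2, 0, 2, 0, 0, 0, -2, 0, 0, -2, 0, 0, 0, 2],
   [2, -2, 0, 0, 0, 2, 0, 0, 0, 0, -2, 0, -2, 0, 0, 0, -2, 0, 0, 2, 0, 0, 0, 2],
   [2, -2, 0, 0, 0, 2, 0, 0, 0, 0, 2, 0, 2, 0, 0, 0, 2, 0, 0, -2, 0, 0, 0, 2],
   [0, 0, 0, 0, 0, -4, 0, 0, 0, 0, 0, 0, 0, 0, 0, 0, 0, 0, 0, 0, 0, 0, 0, 4],
   [0, 0, 0, 0, 0, 0, 0, 0, 0, 0, 0, 0, 0, 0, 0, 0, 0, 0, 0, 4, 0, 0, 0, 4],
   [2, -2, 0, 0, 0, 2, 0, 0, 0, 0, 2, 0, -2, 0, 0, 0, -2, 0, 0, -2, 0, 0, 0, 2],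
   [2, -2, 0, 0, 0, -2, 0, 0, 0, 0, -2, 0, 2, 0, 0, 0, 2, 0, 0, -2, 0, 0, 0, 2],
   [2, -2, 0, 0, 0, 2, 0, 0, 0, 0, -2, 0, -2, 0, 0, 0, 2, 0, 0, -2, 0, 0, 0, 2],
   [0, 0, 0, 0, 0, 0, 0, 0, 0, 0, 0, 0, 4, 0, 0, 0, 0, 0, 0, 0, 0, 0, 0, 4],
   [2, -2, 0, 0, 0, -2, 0, 0, 0, 0, 2, 0, -2, 0, 0, 0, -2, 0, 0, 2, 0, 0, 0, 2],
   [2, -2, 0, 0, 0, -2, 0, 0, 0, 0, 2, 0, 2, 0, 0, 0, -2, 0, 0, -2, 0, 0, 0, 2],
   [2, -2, 0, 0, 0, -2, 0, 0, 0, 0, -2, 0, -2, 0, 0, 0, 2, 0, 0, 2, 0, 0, 0, 2],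
   [0, 0, 0, 0, 0, 4, 0, 0, 0, 0, 0, 0, 0, 0, 0, 0, 0, 0, 0, 0, 0, 0, 0, 4],
   [0, 0, 4, 0, 0, 0, 0, 0, 0, 0, 0, 0, 0, 0, 0, 0, 0, 0, 0, 0, 0, 0, 0, 4],
   [2, -2, -2, 0, -2, 0, 0, 0, 0, 0, 0, 0, 0, 2, 0, 0, -2, 0, 0, 0, 0, 0, 2, 2],
   [2, -2, -2, 0, 2, 0, 0, 0, 0, 0, 0, 0, 0, -2, 0, 0, 2, 0, 0, 0, 0, 0, -2, 2],
   [2, -2, -2, 0, 0, 0, 0, 0, 0, 2, 2, 0, 0, 0, 0, -2, 0, 0, 0, 0, -2, 0, 0, 2],
   [1, -1, 1, 1, 1, -1, 1, -1, 1, -1, -1, -1, -1, -1, -1, 1, 1, 1, 1, -1, 1, 1, -1, 3],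
   [1, -1, 1, -1, -1, 1, -1, 1, -1, -1, -1, 1, 1, 1, 1, 1, -1, -1, -1, 1, 1, -1, 1, 3]]

/-- A piece: The 891 vectors. -/
def reps1 : List (List Int) :=
  [[2, -2, -2, 0, 0, 0, 0, 0, 0, -2, -2, 0, 0, 0, 0, 2, 0, 0, 0, 0, 2, 0, 0, 2],
   [1, -1, 1, -1, 1, 1, -1, 1, -1, 1, 1, 1, 1, -1, 1, -1, 1, -1, -1, 1, -1, -1, -1, 3],
   [1, -1, 1, 1, -1, -1, 1, -1, 1, 1, 1, -1, -1, 1, -1, -1, -1, 1, 1, -1, -1, 1, 1, 3],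
   [2, -2, -2, 0, 0, 0, -2, 2, 0, 0, 0, 0, 0, 0, 0, 0, 0, 0, 0, 2, 0, -2, 0, 2],
   [1, -1, 1, -1, 1, 1, 1, -1, 1, 1, 1, -1, -1, -1, 1, -1, 1, -1, 1, -1, -1, 1, -1, 3],
   [1, -1, 1, 1, -1, -1, 1, -1, -1, -1, -1, 1, 1, 1, -1, 1, -1, 1, -1, -1, 1, 1, 1, 3],
   [1, -1, 1, -1, -1, 1, 1, -1, 1, -1, -1, -1, -1, 1, 1, 1, -1, -1, 1, -1, 1, 1, 1, 3],
   [2, -2, -2, 0, 0, 0, 0, 0, -2, 0, 0, 2, 2, 0, 0, 0, 0, 0, -2, 0, 0, 0, 0, 2],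
   [1, -1, 1, 1, 1, -1, -1, 1, 1, 1, 1, -1, -1, -1, -1, -1, 1, 1, 1, 1, -1, -1, -1, 3],
   [1, -1, 1, 1, 1, -1, 1, -1, -1, 1, 1, 1, 1, -1, -1, -1, 1, 1, -1, -1, -1, 1, -1, 3],
   [1, -1, 1, 1, -1, -1, -1, 1, 1, -1, -1, -1, -1, 1, -1, 1, -1, 1, 1, 1, 1, -1, 1, 3],
   [2, -2, -2, -2, 0, 2, 0, 0, 0, 0, 0, 0, 0, 0, 2, 0, 0, -2, 0, 0, 0, 0, 0, 2],
   [2, -2, -2, 0, 0, 0, 2, -2, 0, 0, 0, 0, 0, 0, 0, 0, 0, 0, 0, -2, 0, 2, 0, 2],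
   [1, -1, 1, 1, 1, -1, -1, 1, -1, -1, -1, 1, 1, -1, -1, 1, 1, 1, -1, 1, 1, -1, -1, 3],
   [1, -1, 1, -1, -1, 1, -1, 1, 1, 1, 1, -1, -1, 1, 1, -1, -1, -1, 1, 1, -1, -1, 1, 3],
   [1, -1, 1, 1, -1, -1, -1, 1, -1, 1, 1, 1, 1, 1, -1, -1, -1, 1, -1, 1, -1, -1, 1, 3],
   [2, -2, -2, 0, 0, 0, 0, 0, 2, 0, 0, -2, -2, 0, 0, 0, 0, 0, 2, 0, 0, 0, 0, 2],
   [1, -1, 1, -1, 1, 1, 1, -1, -1, -1, -1, 1, 1, -1, 1, 1, 1, -1, -1, -1, 1, 1, -1, 3],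
   [1, -1, 1, -1, 1, 1, -1, 1, 1, -1, -1, -1, -1, -1, 1, 1, 1, -1, 1, 1, 1, -1, -1, 3],
   [1, -1, 1, -1, -1, 1, 1, -1, -1, 1, 1, 1, 1, 1, 1, -1, -1, -1, -1, -1, -1, 1, 1, 3],
   [2, -2, -2, 2, 0, -2, 0, 0, 0, 0, 0, 0, 0, 0, -2, 0, 0, 2, 0, 0, 0, 0, 0, 2],
   [0, 0, -4, 0, 0, 0, 0, 0, 0, 0, 0, 0, 0, 0, 0, 0, 0, 0, 0, 0, 0, 0, 0, 4],
   [2, -2, 2, 0, 2, 0, 0, 0, 0, 0, 0, 0, 0, -2, 0, 0, -2, 0, 0, 0, 0, 0, -2, 2],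
   [2, -2, 2, 0, -2, 0, 0, 0, 0, 0, 0, 0, 0, 2, 0, 0, 2, 0, 0, 0, 0, 0, 2, 2],
   [2, -2, 2, 0, 0, 0, 0, 0, 0, -2, 2, 0, 0, 0, 0, 2, 0, 0, 0, 0, 2, 0, 0, 2],
   [1, -1, -1, -1, -1, -1, -1, 1, -1, 1, -1, 1, -1, 1, 1, -1, 1, -1, -1, -1, -1, -1, 1, 3],
   [1, -1, -1, 1, 1, 1, 1, -1, 1, 1, -1, -1, 1, -1, -1, -1, -1, 1, 1, 1, -1, 1, -1, 3],
   [2, -2, 2, 0, 0, 0, 0, 0, 0, 2, -2, 0, 0, 0, 0, -2, 0, 0, 0, 0, -2, 0, 0, 2],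
   [1, -1, -1, 1, -1, 1, 1, -1, 1, -1, 1, -1, 1, 1, -1, 1, 1, 1, 1, 1, 1, 1, 1, 3],
   [1, -1, -1, -1, 1, -1, -1, 1, -1, -1, 1, 1, -1, -1, 1, 1, -1, -1, -1, -1, 1, -1, -1, 3],
   [2, -2, 2, 0, 0, 0, 2, -2, 0, 0, 0, 0, 0, 0, 0, 0, 0, 0, 0, 2, 0, 2, 0, 2],
   [1, -1, -1, 1, -1, 1, -1, 1, -1, -1, 1, 1, -1, 1, -1, 1, 1, 1, -1, -1, 1, -1, 1, 3],
   [1, -1, -1, -1, 1, -1, -1, 1, 1, 1, -1, -1, 1, -1, 1, -1, -1, -1, 1, -1, -1, -1, -1, 3]]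

/-- A piece: The 891 vectors. -/
def reps2 : List (List Int) :=
  [[1, -1, -1, 1, 1, 1, -1, 1, -1, 1, -1, 1, -1, -1, -1, -1, -1, 1, -1, -1, -1, -1, -1, 3],
   [2, -2, 2, 0, 0, 0, 0, 0, 2, 0, 0, -2, 2, 0, 0, 0, 0, 0, 2, 0, 0, 0, 0, 2],
   [1, -1, -1, -1, -1, -1, 1, -1, -1, -1, 1, 1, -1, 1, 1, 1, 1, -1, -1, 1, 1, 1, 1, 3],
   [1, -1, -1, -1, -1, -1, -1, 1, 1, -1, 1, -1, 1, 1, 1, 1, 1, -1, 1, -1, 1, -1, 1, 3],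
   [1, -1, -1, -1, 1, -1, 1, -1, -1, 1, -1, 1, -1, -1, 1, -1, -1, -1, -1, 1, -1, 1, -1, 3],
   [2, -2, 2, 2, 0, 2, 0, 0, 0, 0, 0, 0, 0, 0, -2, 0, 0, 2, 0, 0, 0, 0, 0, 2],
   [2, -2, 2, 0, 0, 0, -2, 2, 0, 0, 0, 0, 0, 0, 0, 0, 0, 0, 0, -2, 0, -2, 0, 2],
   [1, -1, -1, -1, -1, -1, 1, -1, 1, 1, -1, -1, 1, 1, 1, -1, 1, -1, 1, 1, -1, 1, 1, 3],
   [1, -1, -1, 1, 1, 1, 1, -1, -1, -1, 1, 1, -1, -1, -1, 1, -1, 1, -1, 1, 1, 1, -1, 3],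
   [1, -1, -1, -1, 1, -1, 1, -1, 1, -1, 1, -1, 1, -1, 1, 1, -1, -1, 1, 1, 1, 1, -1, 3],
   [2, -2, 2, 0, 0, 0, 0, 0, -2, 0, 0, 2, -2, 0, 0, 0, 0, 0, -2, 0, 0, 0, 0, 2],
   [1, -1, -1, 1, -1, 1, -1, 1, 1, 1, -1, -1, 1, 1, -1, -1, 1, 1, 1, -1, -1, -1, 1, 3],
   [1, -1, -1, 1, -1, 1, 1, -1, -1, 1, -1, 1, -1, 1, -1, -1, 1, 1, -1, 1, -1, 1, 1, 3],
   [1, -1, -1, 1, 1, 1, -1, 1, 1, -1, 1, -1, 1, -1, -1, 1, -1, 1, 1, -1, 1, -1, -1, 3],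
   [2, -2, 2, -2, 0, -2, 0, 0, 0, 0, 0, 0, 0, 0, 2, 0, 0, -2, 0, 0, 0, 0, 0, 2],
   [0, 0, 0, 0, 0, 0, 0, 0, 0, 0, 0, 0, 0, 0, 0, 4, 0, 0, 0, 0, 0, 0, 0, 4],
   [2, -2, 0, 0, 0, 0, -2, 0, 0, 0, 0, 2, 0, 0, 2, -2, -2, 0, 0, 0, 0, 0, 0, 2],
   [2, -2, 0, 0, 0, 0, 2, 0, 0, 0, 0, -2, 0, 0, -2, -2, 2, 0, 0, 0, 0, 0, 0, 2],
   [2, -2, 2, 0, 0, 0, 0, 0, 0, 2, 2, 0, 0, 0, 0, -2, 0, 0, 0, 0, 2, 0, 0, 2],
   [1, -1, -1, 1, -1, -1, 1, -1, -1, -1, -1, -1, -1, 1, -1, 1, 1, -1, 1, -1, -1, -1, 1, 3],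
   [1, -1, -1, -1, 1, 1, -1, 1, 1, -1, -1, 1, 1, -1, 1, 1, -1, 1, -1, 1, -1, 1, -1, 3],
   [2, -2, -2, 0, 0, 0, 0, 0, 0, -2, -2, 0, 0, 0, 0, -2, 0, 0, 0, 0, -2, 0, 0, 2],
   [1, -1, 1, -1, 1, 1, 1, 1, 1, 1, 1, -1, 1, -1, -1, 1, 1, 1, -1, 1, 1, 1, -1, 3],
   [1, -1, 1, 1, -1, -1, -1, -1, -1, 1, 1, 1, -1, 1, 1, 1, -1, -1, 1, -1, 1, -1, 1, 3],
   [2, -2, 0, 0, 0, 0, 0, 0, 0, 0, 0, 0, 0, -2, 0, -2, 0, 2, -2, 2, 0, 0, 0, 2],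
   [1, -1, 1, 1, 1, 1, 1, 1, 1, 1, 1, -1, -1, 1, -1, 1, 1, -1, 1, -1, 1, -1, 1, 3],
   [1, -1, -1, -1, -1, -1, -1, -1, -1, -1, -1, 1, 1, 1, 1, 1, -1, -1, 1, -1, -1, 1, -1, 3],
   [1, -1, -1, 1, 1, 1, -1, 1, 1, -1, -1, 1, -1, 1, 1, 1, -1, -1, 1, -1, -1, -1, 1, 3],
   [2, -2, 0, -2, 0, 0, 0, 0, 0, 0, 0, 0, 2, 0, 0, -2, 0, 0, 0, 0, 0, 2, -2, 2],
   [1, -1, 1, 1, -1, -1, 1, -1, -1, 1, 1, -1, -1, -1, -1, 1, 1, 1, -1, 1, 1, -1, 1, 3],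
   [1, -1, 1, -1, -1, -1, 1, -1, -1, 1, 1, -1, 1, 1, -1, 1, 1, -1, 1, -1, 1, 1, -1, 3],
   [1, -1, -1, 1, -1, -1, -1, -1, -1, -1, -1, 1, -1, -1, 1, 1, -1, 1, -1, 1, -1, -1, 1, 3],
   [2, -2, 0, 0, 2, 2, 0, 2, 2, 0, 0, 0, 0, 0, 0, -2, 0, 0, 0, 0, 0, 0, 0, 2]]

/-- A piece: The 891 vectors. -/
def reps3 : List (List Int) :=
  [[2, -2, 0, 0, 0, 0, 0, 0, 0, 0, 0, 0, 0, 2, 0, -2, 0, -2, 2, -2, 0, 0, 0, 2],
   [1, -1, -1, -1, -1, -1, 1, -1, -1, -1, -1, -1, 1, -1, -1, 1, 1, 1, -1, 1, -1, 1, -1, 3],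
   [1, -1, 1, 1, 1, 1, -1, 1, 1, 1, 1, 1, -1, -1, 1, 1, -1, 1, -1, 1, 1, -1, 1, 3],
   [1, -1, 1, -1, -1, -1, -1, -1, -1, 1, 1, 1, 1, -1, 1, 1, -1, 1, -1, 1, 1, 1, -1, 3],
   [2, -2, 0, 2, 0, 0, 0, 0, 0, 0, 0, 0, -2, 0, 0, -2, 0, 0, 0, 0, 0, -2, 2, 2],
   [1, -1, -1, -1, 1, 1, 1, 1, 1, -1, -1, -1, 1, 1, -1, 1, 1, -1, 1, -1, -1, 1, -1, 3],
   [1, -1, -1, 1, 1, 1, 1, 1, 1, -1, -1, -1, -1, -1, -1, 1, 1, 1, -1, 1, -1, -1, 1, 3],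
   [1, -1, 1, -1, 1, 1, -1, 1, 1, 1, 1, 1, 1, 1, 1, 1, -1, -1, 1, -1, 1, 1, -1, 3],
   [2, -2, 0, 0, -2, -2, 0, -2, -2, 0, 0, 0, 0, 0, 0, -2, 0, 0, 0, 0, 0, 0, 0, 2],
   [2, -2, -2, 0, 0, 0, 0, 0, 0, 2, -2, 0, 0, 0, 0, -2, 0, 0, 0, 0, 2, 0, 0, 2],
   [1, -1, 1, 1, 1, 1, 1, -1, -1, -1, 1, -1, 1, -1, -1, 1, 1, -1, 1, 1, -1, -1, -1, 3],
   [1, -1, 1, -1, -1, -1, -1, 1, 1, -1, 1, 1, -1, 1, 1, 1, -1, 1, -1, -1, -1, 1, 1, 3],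
   [0, 0, 0, 0, 0, 0, 0, 0, 0, -4, 0, 0, 0, 0, 0, 0, 0, 0, 0, 0, 0, 0, 0, 4],
   [2, -2, 0, -2, 0, 0, 0, 2, 0, 2, 0, 0, 0, 0, 0, 0, -2, 0, -2, 0, 0, 0, 0, 2],
   [2, -2, 0, 2, 0, 0, 0, -2, 0, 2, 0, 0, 0, 0, 0, 0, 2, 0, 2, 0, 0, 0, 0, 2],
   [2, -2, 2, 0, 0, 0, 0, 0, 0, 2, 2, 0, 0, 0, 0, 2, 0, 0, 0, 0, -2, 0, 0, 2],
   [1, -1, -1, 1, -1, -1, -1, -1, 1, -1, -1, 1, -1, 1, 1, -1, 1, 1, 1, -1, 1, 1, 1, 3],
   [1, -1, -1, -1, 1, 1, 1, 1, -1, -1, -1, -1, 1, -1, -1, -1, -1, -1, -1, 1, 1, -1, -1, 3],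
   [1, -1, 1, 1, 1, -1, 1, -1, 1, -1, 1, 1, 1, 1, 1, 1, 1, -1, 1, -1, -1, 1, 1, 3],
   [1, -1, -1, -1, -1, -1, -1, 1, -1, -1, -1, 1, -1, 1, -1, -1, -1, 1, -1, 1, 1, 1, -1, 3],
   [2, -2, 0, 0, 0, 2, 0, 0, 0, 2, 0, -2, 0, -2, 0, 0, 0, 0, 0, 0, 0, -2, 0, 2],
   [2, -2, 0, 0, 0, 0, 0, 0, -2, 2, 0, 0, 0, 0, -2, 0, 0, 0, 0, 2, 0, 0, -2, 2],
   [1, -1, 1, 1, -1, 1, -1, -1, 1, -1, 1, -1, -1, -1, 1, 1, 1, 1, 1, -1, -1, -1, 1, 3],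
   [1, -1, -1, -1, 1, -1, 1, 1, 1, -1, -1, 1, 1, 1, 1, -1, -1, -1, -1, -1, 1, 1, 1, 3],
   [1, -1, -1, -1, -1, 1, -1, 1, 1, -1, -1, -1, -1, -1, 1, -1, -1, 1, -1, -1, 1, -1, 1, 3],
   [2, -2, 0, 0, 2, 0, 2, 0, 0, 2, 0, 0, 2, 0, 0, 0, 0, -2, 0, 0, 0, 0, 0, 2],
   [1, -1, 1, 1, -1, -1, -1, -1, -1, -1, 1, 1, -1, 1, -1, 1, 1, 1, 1, 1, -1, 1, -1, 3],
   [1, -1, 1, -1, -1, 1, -1, 1, -1, -1, 1, -1, -1, -1, -1, 1, -1, 1, -1, 1, -1, -1, -1, 3],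
   [2, -2, 0, 0, 0, 0, 0, 0, 2, 2, 0, 0, 0, 0, 2, 0, 0, 0, 0, -2, 0, 0, 2, 2],
   [1, -1, -1, 1, 1, -1, 1, -1, -1, -1, -1, 1, 1, 1, -1, -1, 1, -1, 1, 1, 1, 1, -1, 3],
   [1, -1, -1, 1, 1, 1, 1, -1, 1, -1, -1, -1, 1, -1, 1, -1, 1, -1, 1, -1, 1, -1, 1, 3],
   [1, -1, 1, -1, 1, -1, 1, 1, -1, -1, 1, 1, 1, 1, -1, 1, -1, -1, -1, 1, -1, 1, -1, 3],
   [2, -2, 0, 0, -2, 0, -2, 0, 0, 2, 0, 0, -2, 0, 0, 0, 0, 2, 0, 0, 0, 0, 0, 2]]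

/-- A piece: The 891 vectors. -/
def reps4 : List (List Int) :=
  [[2, -2, 0, 0, 0, -2, 0, 0, 0, 2, 0, 2, 0, 2, 0, 0, 0, 0, 0, 0, 0, 2, 0, 2],
   [1, -1, -1, 1, -1, 1, -1, -1, -1, -1, -1, -1, -1, -1, -1, -1, 1, 1, 1, 1, 1, -1, -1, 3],
   [1, -1, 1, -1, 1, 1, 1, 1, 1, -1, 1, -1, 1, -1, 1, 1, -1, -1, -1, -1, -1, -1, 1, 3],
   [2, -2, 2, 0, 0, 0, 0, 0, 0, -2, 2, 0, 0, 0, 0, -2, 0, 0, 0, 0, -2, 0, 0, 2],
   [1, -1, -1, -1, -1, -1, 1, 1, 1, 1, -1, -1, -1, 1, -1, 1, 1, 1, -1, -1, 1, 1, 1, 3],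
   [1, -1, -1, 1, 1, 1, -1, -1, -1, 1, -1, 1, 1, -1, 1, 1, -1, -1, 1, 1, 1, -1, -1, 3],
   [2, -2, -2, 0, 0, 0, 0, 0, 0, 2, -2, 0, 0, 0, 0, 2, 0, 0, 0, 0, -2, 0, 0, 2],
   [1, -1, 1, 1, 1, 1, -1, -1, 1, -1, 1, 1, 1, -1, 1, -1, 1, 1, 1, 1, 1, 1, -1, 3],
   [1, -1, 1, -1, -1, -1, 1, 1, -1, -1, 1, -1, -1, 1, -1, -1, -1, -1, -1, -1, 1, -1, 1, 3],
   [0, 0, 0, 0, 0, 0, 0, 0, 0, 0, 0, 0, 0, 0, 0, 0, 0, 0, 0, 0, 4, 0, 0, 4],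
   [2, -2, 0, 0, 0, 0, 0, 0, -2, 0, 0, 0, 0, 0, 0, 0, -2, -2, 0, 0, -2, -2, 0, 2],
   [2, -2, 0, 0, 0, 0, 0, 0, 2, 0, 0, 0, 0, 0, 0, 0, 2, 2, 0, 0, -2, 2, 0, 2],
   [1, -1, -1, -1, -1, 1, -1, 1, -1, 1, -1, -1, -1, 1, -1, 1, -1, -1, 1, -1, 1, -1, -1, 3],
   [2, -2, 0, 0, 0, 0, 0, -2, 0, 0, 0, 0, 2, -2, 2, 0, 0, 0, 0, 0, -2, 0, 0, 2],
   [1, -1, 1, 1, 1, -1, 1, 1, 1, -1, 1, 1, -1, 1, -1, -1, 1, 1, -1, 1, 1, 1, 1, 3],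
   [1, -1, 1, -1, -1, -1, 1, -1, 1, -1, 1, -1, 1, -1, 1, -1, 1, 1, -1, -1, 1, 1, 1, 3],
   [1, -1, -1, 1, 1, -1, 1, 1, -1, 1, -1, 1, -1, 1, -1, 1, -1, -1, -1, 1, 1, -1, 1, 3],
   [2, -2, 0, 0, 0, 2, -2, 0, 0, 0, 0, 0, 0, 0, 0, 0, 0, 0, 2, 0, -2, 0, -2, 2],
   [2, -2, 0, 2, 2, 0, 0, 0, 0, 0, 0, 2, 0, 0, 0, 0, 0, 0, 0, 2, -2, 0, 0, 2],
   [1, -1, 1, -1, -1, 1, -1, 1, 1, -1, 1, -1, -1, 1, -1, -1, 1, 1, 1, -1, 1, 1, -1, 3],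
   [1, -1, -1, -1, -1, -1, 1, -1, -1, 1, -1, -1, 1, -1, 1, 1, -1, -1, -1, -1, 1, -1, 1, 3],
   [1, -1, -1, 1, 1, -1, 1, -1, 1, 1, -1, 1, 1, -1, 1, 1, 1, 1, -1, 1, 1, 1, 1, 3],
   [1, -1, 1, 1, 1, 1, -1, 1, -1, -1, 1, 1, -1, 1, -1, -1, -1, -1, 1, 1, 1, -1, -1, 3],
   [2, -2, 0, -2, -2, 0, 0, 0, 0, 0, 0, -2, 0, 0, 0, 0, 0, 0, 0, -2, -2, 0, 0, 2],
   [2, -2, 0, 0, 0, 0, 0, 2, 0, 0, 0, 0, -2, 2, -2, 0, 0, 0, 0, 0, -2, 0, 0, 2],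
   [1, -1, -1, -1, -1, 1, -1, -1, 1, 1, -1, -1, 1, -1, 1, 1, 1, 1, 1, -1, 1, 1, -1, 3],
   [1, -1, 1, 1, 1, -1, 1, -1, -1, -1, 1, 1, 1, -1, 1, -1, -1, -1, -1, 1, 1, -1, 1, 3],
   [1, -1, 1, -1, -1, 1, -1, -1, -1, -1, 1, -1, 1, -1, 1, -1, -1, -1, 1, -1, 1, -1, -1, 3],
   [2, -2, 0, 0, 0, -2, 2, 0, 0, 0, 0, 0, 0, 0, 0, 0, 0, 0, -2, 0, -2, 0, 2, 2],
   [1, -1, -1, 1, 1, 1, -1, 1, 1, 1, -1, 1, -1, 1, -1, 1, 1, 1, 1, 1, 1, 1, -1, 3],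
   [0, 0, 0, 0, 0, 0, 0, 0, 0, 0, 0, 0, 0, 0, 0, -4, 0, 0, 0, 0, 0, 0, 0, 4],
   [2, -2, 0, 0, 0, 0, 2, 0, 0, 0, 0, -2, 0, 0, -2, 2, -2, 0, 0, 0, 0, 0, 0, 2],
   [2, -2, 0, 0, 0, 0, -2, 0, 0, 0, 0, 2, 0, 0, 2, 2, 2, 0, 0, 0, 0, 0, 0, 2]]

/-- A piece: The 891 vectors. -/
def reps5 : List (List Int) :=
  [[2, -2, -2, 0, 0, 0, 0, 0, 0, -2, 2, 0, 0, 0, 0, 2, 0, 0, 0, 0, -2, 0, 0, 2],
   [1, -1, 1, -1, 1, -1, -1, 1, 1, 1, -1, 1, -1, -1, 1, -1, 1, 1, -1, -1, 1, 1, -1, 3],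
   [1, -1, 1, 1, -1, 1, 1, -1, -1, 1, -1, -1, 1, 1, -1, -1, -1, -1, 1, 1, 1, -1, 1, 3],
   [2, -2, 2, 0, 0, 0, 0, 0, 0, 2, -2, 0, 0, 0, 0, 2, 0, 0, 0, 0, 2, 0, 0, 2],
   [1, -1, -1, 1, -1, 1, -1, -1, -1, -1, 1, 1, 1, 1, 1, -1, 1, -1, 1, 1, -1, -1, 1, 3],
   [1, -1, -1, -1, 1, -1, 1, 1, 1, -1, 1, -1, -1, -1, -1, -1, -1, 1, -1, -1, -1, 1, -1, 3],
   [2, -2, 0, 0, 0, 0, 0, 0, 0, 0, 0, 0, 0, 2, 0, 2, 0, -2, 2, 2, 0, 0, 0, 2],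
   [1, -1, -1, -1, -1, 1, -1, -1, -1, -1, 1, 1, -1, -1, 1, -1, 1, 1, -1, -1, -1, 1, -1, 3],
   [1, -1, 1, 1, 1, -1, 1, 1, 1, 1, -1, -1, 1, -1, -1, -1, -1, 1, -1, -1, 1, -1, 1, 3],
   [1, -1, 1, -1, -1, 1, 1, -1, -1, 1, -1, -1, -1, -1, -1, -1, -1, 1, -1, -1, 1, 1, -1, 3],
   [2, -2, 0, 2, 0, 0, 0, 0, 0, 0, 0, 0, 2, 0, 0, 2, 0, 0, 0, 0, 0, -2, 2, 2],
   [1, -1, -1, -1, 1, -1, -1, 1, 1, -1, 1, 1, -1, 1, 1, -1, 1, -1, 1, 1, -1, 1, -1, 3],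
   [1, -1, -1, 1, 1, -1, -1, 1, 1, -1, 1, 1, 1, -1, 1, -1, 1, 1, -1, -1, -1, -1, 1, 3],
   [1, -1, 1, -1, 1, -1, 1, 1, 1, 1, -1, -1, -1, 1, -1, -1, -1, -1, 1, 1, 1, 1, -1, 3],
   [2, -2, 0, 0, -2, 2, 0, -2, -2, 0, 0, 0, 0, 0, 0, 2, 0, 0, 0, 0, 0, 0, 0, 2],
   [2, -2, 0, 0, 0, 0, 0, 0, 0, 0, 0, 0, 0, -2, 0, 2, 0, 2, -2, -2, 0, 0, 0, 2],
   [1, -1, 1, 1, 1, -1, -1, 1, 1, 1, -1, 1, 1, 1, 1, -1, 1, -1, 1, 1, 1, -1, 1, 3],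
   [1, -1, -1, -1, -1, 1, 1, -1, -1, -1, 1, -1, -1, 1, -1, -1, -1, -1, 1, 1, -1, 1, -1, 3],
   [1, -1, -1, 1, 1, -1, 1, 1, 1, -1, 1, -1, 1, 1, -1, -1, -1, -1, 1, 1, -1, -1, 1, 3],
   [2, -2, 0, -2, 0, 0, 0, 0, 0, 0, 0, 0, -2, 0, 0, 2, 0, 0, 0, 0, 0, 2, -2, 2],
   [1, -1, 1, 1, -1, 1, -1, -1, -1, 1, -1, 1, 1, -1, 1, -1, 1, 1, -1, -1, 1, -1, 1, 3],
   [1, -1, 1, -1, -1, 1, -1, -1, -1, 1, -1, 1, -1, 1, 1, -1, 1, -1, 1, 1, 1, 1, -1, 3],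
   [1, -1, -1, 1, -1, 1, 1, -1, -1, -1, 1, -1, 1, -1, -1, -1, -1, 1, -1, -1, -1, -1, 1, 3],
   [2, -2, 0, 0, 2, -2, 0, 2, 2, 0, 0, 0, 0, 0, 0, 2, 0, 0, 0, 0, 0, 0, 0, 2],
   [2, -2, 2, 0, 0, 0, 0, 0, 0, -2, -2, 0, 0, 0, 0, 2, 0, 0, 0, 0, -2, 0, 0, 2],
   [1, -1, -1, -1, -1, 1, -1, 1, 1, 1, 1, 1, 1, 1, 1, -1, 1, 1, -1, 1, 1, 1, 1, 3],
   [1, -1, -1, 1, 1, -1, 1, -1, -1, 1, 1, -1, -1, -1, -1, -1, -1, -1, 1, -1, 1, -1, -1, 3],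
   [0, 0, 0, 0, 0, 0, 0, 0, 0, 4, 0, 0, 0, 0, 0, 0, 0, 0, 0, 0, 0, 0, 0, 4],
   [2, -2, 0, 2, 0, 0, 0, -2, 0, -2, 0, 0, 0, 0, 0, 0, -2, 0, 2, 0, 0, 0, 0, 2],
   [2, -2, 0, -2, 0, 0, 0, 2, 0, -2, 0, 0, 0, 0, 0, 0, 2, 0, -2, 0, 0, 0, 0, 2],
   [2, -2, -2, 0, 0, 0, 0, 0, 0, -2, 2, 0, 0, 0, 0, -2, 0, 0, 0, 0, 2, 0, 0, 2],
   [1, -1, 1, -1, 1, -1, 1, 1, -1, 1, -1, -1, -1, -1, -1, 1, 1, -1, -1, -1, -1, -1, -1, 3],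
   [1, -1, 1, 1, -1, 1, -1, -1, 1, 1, -1, 1, 1, 1, 1, 1, -1, 1, 1, 1, -1, 1, 1, 3]]

/-- A piece: The 891 vectors. -/
def reps6 : List (List Int) :=
  [[1, -1, -1, -1, -1, -1, -1, 1, -1, 1, 1, -1, 1, -1, -1, -1, 1, 1, -1, -1, 1, -1, -1, 3],
   [1, -1, 1, 1, 1, -1, 1, -1, 1, 1, -1, -1, -1, -1, 1, 1, -1, -1, 1, 1, -1, -1, 1, 3],
   [2, -2, 0, 0, 0, 2, 0, 0, 0, -2, 0, 2, 0, 2, 0, 0, 0, 0, 0, 0, 0, 2, 0, 2],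
   [2, -2, 0, 0, 0, 0, 0, 0, 2, -2, 0, 0, 0, 0, 2, 0, 0, 0, 0, 2, 0, 0, 2, 2],
   [1, -1, -1, -1, 1, 1, 1, 1, -1, 1, 1, 1, -1, 1, -1, -1, 1, -1, -1, -1, 1, 1, -1, 3],
   [1, -1, 1, 1, -1, -1, -1, -1, -1, 1, -1, -1, 1, -1, -1, 1, -1, 1, 1, -1, -1, -1, -1, 3],
   [1, -1, 1, 1, 1, 1, 1, -1, -1, 1, -1, 1, -1, 1, -1, 1, -1, -1, 1, -1, -1, 1, -1, 3],
   [2, -2, 0, 0, -2, 0, -2, 0, 0, -2, 0, 0, 2, 0, 0, 0, 0, 2, 0, 0, 0, 0, 0, 2],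
   [1, -1, -1, -1, 1, -1, 1, 1, 1, 1, 1, -1, -1, -1, 1, -1, 1, -1, -1, 1, 1, -1, 1, 3],
   [1, -1, -1, 1, 1, 1, 1, -1, 1, 1, 1, 1, -1, 1, 1, -1, -1, -1, 1, 1, 1, 1, 1, 3],
   [2, -2, 0, 0, 0, 0, 0, 0, -2, -2, 0, 0, 0, 0, -2, 0, 0, 0, 0, -2, 0, 0, -2, 2],
   [1, -1, 1, -1, -1, -1, -1, 1, 1, 1, -1, -1, 1, -1, 1, 1, 1, 1, -1, 1, -1, -1, 1, 3],
   [1, -1, 1, -1, -1, 1, -1, 1, -1, 1, -1, 1, 1, 1, -1, 1, 1, 1, -1, -1, -1, 1, -1, 3],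
   [1, -1, -1, 1, -1, -1, -1, -1, 1, 1, 1, -1, 1, -1, 1, -1, -1, 1, 1, 1, 1, -1, 1, 3],
   [2, -2, 0, 0, 2, 0, 2, 0, 0, -2, 0, 0, -2, 0, 0, 0, 0, -2, 0, 0, 0, 0, 0, 2],
   [2, -2, 0, 0, 0, -2, 0, 0, 0, -2, 0, -2, 0, -2, 0, 0, 0, 0, 0, 0, 0, -2, 0, 2],
   [1, -1, 1, -1, 1, 1, 1, 1, 1, 1, -1, 1, -1, 1, 1, 1, 1, -1, -1, 1, -1, 1, 1, 3],
   [1, -1, -1, 1, -1, 1, -1, -1, -1, 1, 1, 1, 1, 1, -1, -1, -1, 1, 1, -1, 1, 1, -1, 3],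
   [2, -2, -2, 0, 0, 0, 0, 0, 0, 2, 2, 0, 0, 0, 0, 2, 0, 0, 0, 0, 2, 0, 0, 2],
   [1, -1, 1, 1, 1, -1, -1, -1, -1, -1, -1, 1, -1, -1, 1, -1, 1, -1, 1, -1, -1, -1, -1, 3],
   [1, -1, 1, -1, -1, 1, 1, 1, 1, -1, -1, -1, 1, 1, -1, -1, -1, 1, -1, 1, -1, 1, 1, 3],
   [2, -2, 2, 0, 0, 0, 0, 0, 0, -2, -2, 0, 0, 0, 0, -2, 0, 0, 0, 0, 2, 0, 0, 2],
   [1, -1, -1, -1, -1, 1, 1, 1, -1, 1, 1, -1, 1, 1, -1, 1, 1, -1, -1, 1, -1, -1, 1, 3],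
   [1, -1, -1, 1, 1, -1, -1, -1, 1, 1, 1, 1, -1, -1, 1, 1, -1, 1, 1, -1, -1, 1, -1, 3],
   [0, 0, 0, 0, 0, 0, 0, 0, 0, 0, 0, 0, 0, 0, 0, 0, 0, 0, 0, 0, -4, 0, 0, 4],
   [2, -2, 0, 0, 0, 0, 0, 0, 2, 0, 0, 0, 0, 0, 0, 0, -2, 2, 0, 0, 2, 2, 0, 2],
   [2, -2, 0, 0, 0, 0, 0, 0, -2, 0, 0, 0, 0, 0, 0, 0, 2, -2, 0, 0, 2, -2, 0, 2],
   [1, -1, 1, 1, 1, 1, 1, -1, 1, -1, -1, 1, -1, -1, 1, -1, -1, 1, -1, -1, -1, 1, 1, 3],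
   [2, -2, 0, 0, 0, 0, 0, 2, 0, 0, 0, 0, 2, 2, -2, 0, 0, 0, 0, 0, 2, 0, 0, 2],
   [1, -1, -1, -1, -1, -1, -1, -1, -1, 1, 1, -1, -1, -1, 1, 1, 1, -1, 1, 1, -1, -1, -1, 3],
   [1, -1, -1, 1, 1, -1, -1, 1, -1, 1, 1, 1, 1, 1, -1, 1, 1, -1, 1, -1, -1, -1, -1, 3],
   [1, -1, 1, -1, -1, -1, -1, -1, 1, -1, -1, -1, -1, -1, 1, -1, -1, 1, 1, 1, -1, 1, -1, 3],
   [2, -2, 0, 0, 0, 2, 2, 0, 0, 0, 0, 0, 0, 0, 0, 0, 0, 0, -2, 0, 2, 0, 2, 2]]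

/-- A piece: The 891 vectors. -/
def reps7 : List (List Int) :=
  [[2, -2, 0, -2, -2, 0, 0, 0, 0, 0, 0, -2, 0, 0, 0, 0, 0, 0, 0, 2, 2, 0, 0, 2],
   [1, -1, -1, 1, 1, 1, 1, -1, -1, 1, 1, 1, -1, -1, 1, 1, 1, -1, -1, -1, -1, -1, 1, 3],
   [1, -1, 1, 1, 1, -1, -1, 1, 1, -1, -1, 1, 1, 1, -1, -1, -1, 1, 1, -1, -1, 1, -1, 3],
   [1, -1, 1, -1, -1, -1, -1, 1, -1, -1, -1, -1, 1, 1, -1, -1, 1, -1, 1, 1, -1, -1, -1, 3],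
   [1, -1, -1, -1, -1, 1, 1, -1, 1, 1, 1, -1, -1, -1, 1, 1, -1, 1, -1, 1, -1, 1, 1, 3],
   [2, -2, 0, 2, 2, 0, 0, 0, 0, 0, 0, 2, 0, 0, 0, 0, 0, 0, 0, -2, 2, 0, 0, 2],
   [2, -2, 0, 0, 0, 0, 0, -2, 0, 0, 0, 0, -2, -2, 2, 0, 0, 0, 0, 0, 2, 0, 0, 2],
   [1, -1, 1, 1, 1, 1, 1, 1, -1, -1, -1, 1, 1, 1, -1, -1, 1, -1, -1, -1, -1, -1, 1, 3],
   [1, -1, -1, -1, -1, -1, -1, 1, 1, 1, 1, -1, 1, 1, -1, 1, -1, 1, 1, 1, -1, 1, -1, 3],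
   [1, -1, -1, 1, 1, 1, 1, 1, 1, 1, 1, 1, 1, 1, -1, 1, -1, 1, -1, -1, -1, 1, 1, 3],
   [2, -2, 0, 0, 0, -2, -2, 0, 0, 0, 0, 0, 0, 0, 0, 0, 0, 0, 2, 0, 2, 0, -2, 2],
   [1, -1, 1, -1, -1, 1, 1, -1, -1, -1, -1, -1, -1, -1, 1, -1, 1, -1, -1, 1, -1, -1, 1, 3],
   [2, -2, 0, 0, 0, 0, 0, 0, 0, 0, 0, 0, 0, -2, 0, 2, 0, -2, 2, -2, 0, 0, 0, 2],
   [1, -1, 1, -1, 1, -1, -1, -1, -1, -1, -1, 1, 1, 1, 1, -1, 1, 1, -1, 1, -1, 1, 1, 3],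
   [1, -1, -1, 1, -1, 1, 1, 1, 1, 1, 1, -1, -1, 1, -1, -1, -1, 1, -1, 1, 1, -1, -1, 3],
   [1, -1, -1, -1, 1, -1, 1, -1, -1, 1, 1, -1, 1, 1, -1, -1, -1, 1, -1, 1, 1, 1, 1, 3],
   [2, -2, 0, 2, 0, 0, 0, 0, 0, 0, 0, 0, -2, 0, 0, 2, 0, 0, 0, 0, 0, -2, -2, 2],
   [1, -1, 1, -1, -1, 1, -1, 1, 1, -1, -1, 1, 1, -1, 1, -1, 1, -1, 1, -1, -1, 1, 1, 3],
   [1, -1, 1, 1, -1, 1, -1, 1, 1, -1, -1, 1, -1, 1, 1, -1, 1, 1, -1, 1, -1, -1, -1, 3],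
   [1, -1, -1, -1, -1, 1, 1, 1, 1, 1, 1, -1, 1, -1, -1, -1, -1, -1, 1, -1, 1, 1, 1, 3],
   [2, -2, 0, 0, 2, -2, 0, -2, -2, 0, 0, 0, 0, 0, 0, 2, 0, 0, 0, 0, 0, 0, 0, 2],
   [2, -2, 0, 0, 0, 0, 0, 0, 0, 0, 0, 0, 0, 2, 0, 2, 0, 2, -2, 2, 0, 0, 0, 2],
   [1, -1, -1, 1, -1, 1, -1, 1, 1, 1, 1, 1, -1, -1, 1, -1, 1, -1, 1, -1, 1, -1, -1, 3],
   [1, -1, 1, -1, 1, -1, 1, -1, -1, -1, -1, -1, 1, -1, -1, -1, -1, -1, 1, -1, -1, 1, 1, 3],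
   [1, -1, 1, 1, -1, 1, 1, 1, 1, -1, -1, -1, -1, -1, -1, -1, -1, -1, 1, -1, -1, -1, -1, 3],
   [2, -2, 0, -2, 0, 0, 0, 0, 0, 0, 0, 0, 2, 0, 0, 2, 0, 0, 0, 0, 0, 2, 2, 2],
   [1, -1, -1, 1, 1, -1, -1, -1, -1, 1, 1, 1, -1, 1, 1, -1, 1, 1, -1, 1, 1, -1, -1, 3],
   [1, -1, -1, -1, 1, -1, -1, -1, -1, 1, 1, 1, 1, -1, 1, -1, 1, -1, 1, -1, 1, 1, 1, 3],
   [1, -1, 1, 1, 1, -1, 1, -1, -1, -1, -1, -1, -1, 1, -1, -1, -1, 1, -1, 1, -1, -1, -1, 3],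
   [2, -2, 0, 0, -2, 2, 0, 2, 2, 0, 0, 0, 0, 0, 0, 2, 0, 0, 0, 0, 0, 0, 0, 2],
   [1, -1, 1, -1, 1, 1, -1, 1, -1, 1, -1, -1, -1, 1, -1, -1, 1, 1, -1, 1, 1, -1, 1, 3],
   [1, -1, -1, 1, -1, 1, 1, -1, 1, 1, 1, -1, 1, 1, 1, 1, -1, -1, 1, -1, -1, -1, -1, 3],
   [2, -2, 0, 0, 0, -2, 0, 0, 0, -2, 0, 2, 0, -2, 0, 0, 0, 0, 0, 0, 0, 2, 0, 2]]

/-- A piece: The 891 vectors. -/
def reps8 : List (List Int) :=
  [[2, -2, 0, 0, 0, 0, 0, 0, 2, -2, 0, 0, 0, 0, 2, 0, 0, 0, 0, -2, 0, 0, -2, 2],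
   [1, -1, 1, -1, -1, -1, 1, 1, -1, 1, -1, 1, 1, -1, -1, -1, 1, -1, -1, 1, 1, 1, 1, 3],
   [1, -1, -1, 1, 1, 1, -1, -1, -1, 1, 1, -1, -1, 1, -1, 1, -1, 1, 1, 1, -1, -1, 1, 3],
   [1, -1, -1, 1, -1, -1, 1, -1, -1, 1, 1, 1, 1, -1, -1, 1, -1, -1, 1, 1, -1, 1, 1, 3],
   [2, -2, 0, 0, 2, 0, -2, 0, 0, -2, 0, 0, -2, 0, 0, 0, 0, 2, 0, 0, 0, 0, 0, 2],
   [1, -1, 1, -1, -1, 1, 1, 1, 1, 1, -1, -1, 1, 1, 1, -1, 1, -1, -1, -1, 1, -1, -1, 3],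
   [1, -1, 1, 1, -1, -1, 1, -1, 1, 1, -1, 1, 1, -1, 1, -1, -1, -1, 1, -1, 1, 1, -1, 3],
   [2, -2, 0, 0, 0, 0, 0, 0, -2, -2, 0, 0, 0, 0, -2, 0, 0, 0, 0, 2, 0, 0, 2, 2],
   [1, -1, -1, -1, 1, 1, -1, 1, 1, 1, 1, -1, -1, 1, 1, 1, 1, 1, -1, -1, -1, -1, -1, 3],
   [1, -1, -1, -1, 1, -1, -1, 1, -1, 1, 1, 1, -1, -1, -1, 1, 1, 1, -1, 1, -1, 1, 1, 3],
   [1, -1, 1, 1, 1, 1, -1, -1, 1, 1, -1, -1, -1, 1, 1, -1, -1, 1, 1, -1, 1, -1, -1, 3],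
   [2, -2, 0, 0, -2, 0, 2, 0, 0, -2, 0, 0, 2, 0, 0, 0, 0, -2, 0, 0, 0, 0, 0, 2],
   [2, -2, 0, 0, 0, 2, 0, 0, 0, -2, 0, -2, 0, 2, 0, 0, 0, 0, 0, 0, 0, -2, 0, 2],
   [1, -1, -1, -1, -1, -1, 1, 1, 1, 1, 1, 1, 1, -1, 1, 1, 1, -1, -1, -1, -1, 1, -1, 3],
   [1, -1, 1, 1, 1, -1, -1, -1, -1, 1, -1, 1, -1, -1, -1, -1, -1, 1, 1, 1, 1, 1, 1, 3],
   [1, -1, -1, 1, -1, -1, 1, -1, 1, -1, 1, 1, 1, 1, 1, -1, -1, 1, -1, 1, -1, 1, -1, 3],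
   [2, -2, 0, 0, 0, 0, 0, 2, 0, 0, 0, 0, -2, -2, -2, 0, 0, 0, 0, 0, 2, 0, 0, 2],
   [1, -1, 1, -1, 1, 1, -1, -1, -1, 1, -1, -1, 1, 1, 1, 1, 1, -1, 1, -1, -1, -1, 1, 3],
   [1, -1, 1, 1, -1, 1, -1, 1, -1, 1, -1, 1, -1, -1, -1, 1, 1, -1, 1, 1, -1, -1, 1, 3],
   [1, -1, -1, -1, 1, 1, -1, -1, 1, -1, 1, -1, 1, 1, 1, -1, -1, 1, 1, -1, -1, 1, 1, 3],
   [2, -2, 0, 0, 0, -2, 2, 0, 0, 0, 0, 0, 0, 0, 0, 0, 0, 0, -2, 0, 2, 0, -2, 2],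
   [2, -2, 0, -2, 2, 0, 0, 0, 0, 0, 0, -2, 0, 0, 0, 0, 0, 0, 0, -2, 2, 0, 0, 2],
   [1, -1, 1, 1, -1, -1, 1, -1, -1, 1, -1, 1, 1, 1, 1, 1, 1, -1, -1, 1, -1, -1, -1, 3],
   [1, -1, -1, 1, -1, 1, -1, 1, 1, -1, 1, 1, -1, -1, -1, -1, -1, 1, 1, 1, -1, 1, 1, 3],
   [1, -1, -1, -1, 1, 1, -1, 1, -1, -1, 1, -1, -1, -1, -1, -1, 1, -1, 1, -1, -1, -1, 1, 3],
   [1, -1, 1, -1, 1, -1, 1, -1, 1, 1, -1, -1, 1, 1, 1, 1, -1, 1, -1, -1, -1, 1, -1, 3],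
   [2, -2, 0, 2, -2, 0, 0, 0, 0, 0, 0, 2, 0, 0, 0, 0, 0, 0, 0, 2, 2, 0, 0, 2],
   [2, -2, 0, 0, 0, 0, 0, -2, 0, 0, 0, 0, 2, 2, 2, 0, 0, 0, 0, 0, 2, 0, 0, 2],
   [1, -1, -1, 1, -1, -1, 1, 1, -1, -1, 1, 1, -1, -1, -1, -1, 1, -1, -1, 1, -1, -1, -1, 3],
   [1, -1, 1, -1, 1, 1, -1, 1, 1, 1, -1, -1, -1, -1, -1, 1, -1, 1, 1, -1, -1, 1, 1, 3],
   [1, -1, 1, 1, -1, -1, 1, 1, 1, 1, -1, 1, -1, -1, -1, 1, -1, 1, -1, 1, -1, 1, -1, 3],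
   [2, -2, 0, 0, 0, 2, -2, 0, 0, 0, 0, 0, 0, 0, 0, 0, 0, 0, 2, 0, 2, 0, 2, 2],
   [1, -1, -1, -1, 1, -1, 1, -1, -1, -1, 1, -1, 1, 1, 1, -1, 1, -1, -1, -1, -1, -1, -1, 3]]

/-- A piece: The 891 vectors. -/
def reps9 : List (List Int) :=
  [[2, -2, 0, 0, 0, 0, 0, 0, 0, 0, 0, 0, 0, 2, 0, -2, 0, 2, -2, -2, 0, 0, 0, 2],
   [1, -1, -1, 1, -1, -1, 1, 1, 1, 1, -1, -1, 1, -1, -1, 1, 1, -1, 1, 1, 1, -1, -1, 3],
   [1, -1, 1, -1, 1, 1, -1, -1, -1, -1, 1, 1, -1, -1, 1, 1, -1, -1, 1, 1, -1, 1, 1, 3],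
   [1, -1, 1, 1, -1, -1, -1, 1, 1, -1, 1, 1, 1, -1, 1, 1, -1, -1, 1, 1, -1, -1, -1, 3],
   [2, -2, 0, -2, 0, 0, 0, 0, 0, 0, 0, 0, -2, 0, 0, -2, 0, 0, 0, 0, 0, 2, 2, 2],
   [1, -1, -1, 1, 1, 1, 1, -1, -1, 1, -1, -1, 1, 1, -1, 1, 1, 1, -1, -1, 1, -1, -1, 3],
   [1, -1, -1, -1, 1, 1, 1, -1, -1, 1, -1, -1, -1, -1, -1, 1, 1, -1, 1, 1, 1, 1, 1, 3],
   [1, -1, 1, 1, 1, 1, -1, -1, -1, -1, 1, 1, 1, 1, 1, 1, -1, 1, -1, -1, -1, -1, -1, 3],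
   [2, -2, 0, 0, -2, -2, 0, 2, 2, 0, 0, 0, 0, 0, 0, -2, 0, 0, 0, 0, 0, 0, 0, 2],
   [2, -2, 0, 0, 0, 0, 0, 0, 0, 0, 0, 0, 0, -2, 0, -2, 0, -2, 2, 2, 0, 0, 0, 2],
   [1, -1, 1, -1, 1, 1, 1, -1, -1, -1, 1, -1, -1, 1, -1, 1, 1, 1, -1, -1, -1, 1, 1, 3],
   [1, -1, -1, 1, -1, -1, -1, 1, 1, 1, -1, 1, 1, 1, 1, 1, -1, 1, -1, -1, 1, -1, -1, 3],
   [1, -1, -1, -1, 1, 1, -1, -1, -1, 1, -1, 1, -1, 1, 1, 1, -1, 1, -1, -1, 1, 1, 1, 3],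
   [2, -2, 0, 2, 0, 0, 0, 0, 0, 0, 0, 0, 2, 0, 0, -2, 0, 0, 0, 0, 0, -2, -2, 2],
   [1, -1, 1, -1, -1, -1, 1, 1, 1, -1, 1, -1, -1, -1, -1, 1, 1, -1, 1, 1, -1, 1, 1, 3],
   [1, -1, 1, 1, -1, -1, 1, 1, 1, -1, 1, -1, 1, 1, -1, 1, 1, 1, -1, -1, -1, -1, -1, 3],
   [1, -1, -1, -1, -1, -1, -1, 1, 1, 1, -1, 1, -1, -1, 1, 1, -1, -1, 1, 1, 1, 1, 1, 3],
   [2, -2, 0, 0, 2, 2, 0, -2, -2, 0, 0, 0, 0, 0, 0, -2, 0, 0, 0, 0, 0, 0, 0, 2],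
   [1, -1, -1, 1, -1, 1, 1, -1, 1, -1, -1, 1, -1, -1, 1, 1, 1, -1, 1, 1, -1, 1, -1, 3],
   [1, -1, 1, -1, 1, 1, -1, 1, -1, -1, 1, 1, 1, -1, -1, -1, -1, 1, -1, -1, 1, 1, 1, 3],
   [2, -2, 0, 0, 0, -2, 0, 0, 0, 2, 0, -2, 0, 2, 0, 0, 0, 0, 0, 0, 0, -2, 0, 2],
   [2, -2, 0, 0, 0, 0, 0, 0, -2, 2, 0, 0, 0, 0, -2, 0, 0, 0, 0, -2, 0, 0, 2, 2],
   [1, -1, -1, 1, 1, -1, -1, -1, 1, -1, -1, -1, 1, 1, 1, 1, 1, 1, 1, 1, -1, -1, -1, 3],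
   [1, -1, 1, -1, -1, 1, 1, 1, 1, -1, 1, 1, -1, -1, 1, -1, -1, -1, -1, 1, 1, 1, -1, 3],
   [1, -1, 1, -1, 1, -1, -1, 1, 1, -1, 1, -1, 1, 1, 1, -1, -1, 1, -1, 1, 1, -1, -1, 3],
   [2, -2, 0, 0, -2, 0, 2, 0, 0, 2, 0, 0, -2, 0, 0, 0, 0, -2, 0, 0, 0, 0, 0, 2],
   [1, -1, -1, 1, 1, 1, -1, -1, -1, -1, -1, 1, 1, -1, -1, 1, 1, 1, 1, -1, -1, 1, 1, 3],
   [1, -1, -1, -1, 1, -1, -1, 1, -1, -1, -1, -1, 1, 1, -1, 1, -1, 1, -1, -1, -1, -1, 1, 3],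
   [2, -2, 0, 0, 0, 0, 0, 0, 2, 2, 0, 0, 0, 0, 2, 0, 0, 0, 0, 2, 0, 0, -2, 2],
   [1, -1, 1, 1, -1, 1, 1, -1, -1, -1, 1, 1, -1, -1, -1, -1, 1, -1, 1, -1, 1, 1, 1, 3],
   [1, -1, 1, 1, -1, -1, 1, -1, 1, -1, 1, -1, -1, 1, 1, -1, 1, -1, 1, 1, 1, -1, -1, 3],
   [1, -1, -1, -1, -1, 1, 1, 1, -1, -1, -1, 1, -1, -1, -1, 1, -1, -1, -1, -1, -1, 1, 1, 3],
   [2, -2, 0, 0, 2, 0, -2, 0, 0, 2, 0, 0, 2, 0, 0, 0, 0, 2, 0, 0, 0, 0, 0, 2]]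

/-- A piece: The 891 vectors. -/
def reps10 : List (List Int) :=
  [[2, -2, 0, 0, 0, 2, 0, 0, 0, 2, 0, 2, 0, -2, 0, 0, 0, 0, 0, 0, 0, 2, 0, 2],
   [1, -1, 1, 1, 1, -1, -1, -1, -1, -1, 1, -1, 1, 1, -1, -1, 1, 1, 1, -1, 1, -1, 1, 3],
   [1, -1, -1, -1, -1, -1, 1, 1, 1, -1, -1, -1, -1, 1, 1, 1, -1, -1, -1, 1, -1, -1, -1, 3],
   [1, -1, 1, -1, 1, -1, -1, 1, -1, 1, 1, -1, 1, -1, -1, 1, -1, -1, 1, 1, 1, -1, 1, 3],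
   [2, -2, 0, 0, 0, 0, 0, -2, 0, 0, 0, 0, -2, 2, 2, 0, 0, 0, 0, 0, -2, 0, 0, 2],
   [1, -1, -1, 1, -1, 1, 1, 1, 1, -1, -1, 1, 1, -1, -1, -1, 1, 1, -1, -1, 1, 1, -1, 3],
   [1, -1, -1, -1, 1, 1, 1, -1, 1, -1, -1, -1, -1, 1, 1, -1, 1, 1, -1, 1, 1, 1, -1, 3],
   [1, -1, 1, 1, -1, 1, 1, 1, -1, 1, 1, 1, 1, -1, -1, 1, -1, -1, -1, -1, 1, -1, -1, 3],
   [2, -2, 0, 0, 0, -2, -2, 0, 0, 0, 0, 0, 0, 0, 0, 0, 0, 0, 2, 0, -2, 0, 2, 2],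
   [2, -2, 0, 2, -2, 0, 0, 0, 0, 0, 0, 2, 0, 0, 0, 0, 0, 0, 0, -2, -2, 0, 0, 2],
   [1, -1, -1, -1, 1, -1, -1, 1, 1, -1, -1, -1, 1, -1, -1, -1, 1, 1, 1, 1, 1, 1, 1, 3],
   [1, -1, 1, -1, 1, 1, 1, -1, -1, 1, 1, -1, -1, 1, 1, 1, -1, -1, -1, 1, 1, -1, -1, 3],
   [1, -1, 1, 1, -1, 1, 1, -1, 1, 1, 1, 1, -1, 1, 1, 1, 1, 1, -1, -1, 1, 1, -1, 3],
   [1, -1, -1, 1, -1, -1, -1, 1, -1, -1, -1, 1, 1, -1, -1, -1, -1, -1, 1, -1, 1, -1, 1, 3],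
   [2, -2, 0, -2, 2, 0, 0, 0, 0, 0, 0, -2, 0, 0, 0, 0, 0, 0, 0, 2, -2, 0, 0, 2],
   [2, -2, 0, 0, 0, 0, 0, 2, 0, 0, 0, 0, 2, -2, -2, 0, 0, 0, 0, 0, -2, 0, 0, 2],
   [1, -1, 1, -1, 1, -1, -1, -1, 1, 1, 1, -1, -1, 1, 1, 1, 1, 1, 1, 1, 1, 1, 1, 3],
   [1, -1, -1, 1, -1, 1, 1, -1, -1, -1, -1, 1, -1, 1, 1, -1, -1, -1, -1, -1, 1, -1, -1, 3],
   [1, -1, -1, -1, 1, -1, -1, -1, -1, -1, -1, -1, -1, 1, 1, -1, -1, -1, 1, 1, 1, -1, 1, 3],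
   [2, -2, 0, 0, 0, 2, 2, 0, 0, 0, 0, 0, 0, 0, 0, 0, 0, 0, -2, 0, -2, 0, -2, 2],
   [1, -1, 1, 1, -1, -1, -1, 1, 1, 1, 1, 1, 1, -1, -1, 1, 1, 1, 1, -1, 1, 1, 1, 3],
   [0, 0, 0, 0, 0, 0, 0, 0, 0, 0, 0, 0, 0, -4, 0, 0, 0, 0, 0, 0, 0, 0, 0, 4],
   [2, -2, 2, 0, 2, 0, 0, 0, 0, 0, 0, 0, 0, 2, 0, 0, -2, 0, 0, 0, 0, 0, 2, 2],
   [2, -2, -2, 0, -2, 0, 0, 0, 0, 0, 0, 0, 0, 2, 0, 0, 2, 0, 0, 0, 0, 0, -2, 2],
   [2, -2, -2, 0, 2, 0, 0, 0, 0, 0, 0, 0, 0, 2, 0, 0, 2, 0, 0, 0, 0, 0, 2, 2],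
   [0, 0, 0, 0, 0, 0, 0, 0, 0, 0, 0, 0, 0, 0, 0, 0, 0, 0, 0, 0, 0, 0, -4, 4],
   [2, -2, 2, 0, -2, 0, 0, 0, 0, 0, 0, 0, 0, -2, 0, 0, -2, 0, 0, 0, 0, 0, 2, 2],
   [2, -2, 2, 0, -2, 0, 0, 0, 0, 0, 0, 0, 0, 2, 0, 0, -2, 0, 0, 0, 0, 0, -2, 2],
   [2, -2, -2, 0, -2, 0, 0, 0, 0, 0, 0, 0, 0, -2, 0, 0, 2, 0, 0, 0, 0, 0, 2, 2],
   [0, 0, 0, 0, 4, 0, 0, 0, 0, 0, 0, 0, 0, 0, 0, 0, 0, 0, 0, 0, 0, 0, 0, 4],
   [0, 0, 0, 0, 0, 0, 0, 0, 0, 0, 0, 0, 0, 4, 0, 0, 0, 0, 0, 0, 0, 0, 0, 4],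
   [2, -2, -2, 0, -2, 0, 0, 0, 0, 0, 0, 0, 0, -2, 0, 0, -2, 0, 0, 0, 0, 0, -2, 2],
   [2, -2, 2, 0, 2, 0, 0, 0, 0, 0, 0, 0, 0, -2, 0, 0, 2, 0, 0, 0, 0, 0, 2, 2]]

/-- A piece: The 891 vectors. -/
def reps11 : List (List Int) :=
  [[2, -2, 2, 0, -2, 0, 0, 0, 0, 0, 0, 0, 0, -2, 0, 0, 2, 0, 0, 0, 0, 0, -2, 2],
   [0, 0, 0, 0, 0, 0, 0, 0, 0, 0, 0, 0, 0, 0, 0, 0, 0, 0, 0, 0, 0, 0, 4, 4],
   [2, -2, -2, 0, 2, 0, 0, 0, 0, 0, 0, 0, 0, 2, 0, 0, -2, 0, 0, 0, 0, 0, -2, 2],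
   [2, -2, -2, 0, 2, 0, 0, 0, 0, 0, 0, 0, 0, -2, 0, 0, -2, 0, 0, 0, 0, 0, 2, 2],
   [2, -2, 2, 0, 2, 0, 0, 0, 0, 0, 0, 0, 0, 2, 0, 0, 2, 0, 0, 0, 0, 0, -2, 2],
   [0, 0, 0, 0, -4, 0, 0, 0, 0, 0, 0, 0, 0, 0, 0, 0, 0, 0, 0, 0, 0, 0, 0, 4],
   [0, 0, 0, 0, 0, 0, 4, 0, 0, 0, 0, 0, 0, 0, 0, 0, 0, 0, 0, 0, 0, 0, 0, 4],
   [2, -2, 0, 0, 0, 0, -2, 0, 0, 0, 0, 2, 0, 0, -2, 2, -2, 0, 0, 0, 0, 0, 0, 2],
   [2, -2, 0, 0, 0, 0, -2, 0, 0, 0, 0, -2, 0, 0, 2, -2, 2, 0, 0, 0, 0, 0, 0, 2],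
   [0, 0, 0, 0, 0, 0, -4, 0, 0, 0, 0, 0, 0, 0, 0, 0, 0, 0, 0, 0, 0, 0, 0, 4],
   [2, -2, 0, 0, 0, 0, 2, 0, 0, 0, 0, -2, 0, 0, 2, -2, -2, 0, 0, 0, 0, 0, 0, 2],
   [2, -2, 0, 0, 0, 0, 2, 0, 0, 0, 0, 2, 0, 0, -2, 2, 2, 0, 0, 0, 0, 0, 0, 2],
   [2, -2, 0, 0, 0, 0, 2, 0, 0, 0, 0, -2, 0, 0, 2, 2, 2, 0, 0, 0, 0, 0, 0, 2],
   [0, 0, 0, 0, 0, 0, 0, 0, 0, 0, 0, 4, 0, 0, 0, 0, 0, 0, 0, 0, 0, 0, 0, 4],
   [2, -2, 0, 0, 0, 0, -2, 0, 0, 0, 0, -2, 0, 0, -2, -2, -2, 0, 0, 0, 0, 0, 0, 2],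
   [2, -2, 0, 0, 0, 0, -2, 0, 0, 0, 0, 2, 0, 0, -2, -2, 2, 0, 0, 0, 0, 0, 0, 2],
   [0, 0, 0, 0, 0, 0, 0, 0, 0, 0, 0, -4, 0, 0, 0, 0, 0, 0, 0, 0, 0, 0, 0, 4],
   [2, -2, 0, 0, 0, 0, 2, 0, 0, 0, 0, 2, 0, 0, 2, 2, -2, 0, 0, 0, 0, 0, 0, 2],
   [2, -2, 0, 0, 0, 0, -2, 0, 0, 0, 0, -2, 0, 0, 2, 2, -2, 0, 0, 0, 0, 0, 0, 2],
   [2, -2, 0, 0, 0, 0, 2, 0, 0, 0, 0, 2, 0, 0, 2, -2, 2, 0, 0, 0, 0, 0, 0, 2],
   [0, 0, 0, 0, 0, 0, 0, 0, 0, 0, 0, 0, 0, 0, -4, 0, 0, 0, 0, 0, 0, 0, 0, 4],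
   [2, -2, 0, 0, 0, 0, 2, 0, 0, 0, 0, 2, 0, 0, -2, -2, -2, 0, 0, 0, 0, 0, 0, 2],
   [2, -2, 0, 0, 0, 0, -2, 0, 0, 0, 0, -2, 0, 0, -2, 2, 2, 0, 0, 0, 0, 0, 0, 2],
   [0, 0, 0, 0, 0, 0, 0, 0, 0, 0, 0, 0, 0, 0, 4, 0, 0, 0, 0, 0, 0, 0, 0, 4],
   [2, -2, -2, 0, 0, 0, -2, 2, 0, 0, 0, 0, 0, 0, 0, 0, 0, 0, 0, -2, 0, 2, 0, 2],
   [1, -1, 1, -1, 1, -1, 1, -1, -1, 1, -1, -1, 1, -1, 1, -1, 1, 1, 1, 1, 1, -1, -1, 3],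
   [1, -1, 1, 1, -1, 1, 1, -1, 1, -1, 1, 1, -1, 1, -1, 1, -1, -1, -1, 1, -1, -1, 1, 3],
   [2, -2, -2, 0, 0, 0, 2, -2, 0, 0, 0, 0, 0, 0, 0, 0, 0, 0, 0, 2, 0, -2, 0, 2],
   [1, -1, 1, 1, 1, 1, -1, 1, 1, -1, 1, 1, -1, -1, -1, 1, 1, -1, -1, -1, -1, 1, -1, 3],
   [1, -1, 1, -1, -1, -1, -1, 1, -1, 1, -1, -1, 1, 1, 1, -1, -1, 1, 1, -1, 1, 1, 1, 3],
   [1, -1, 1, 1, -1, 1, -1, 1, 1, 1, -1, 1, -1, 1, -1, -1, -1, -1, -1, -1, 1, 1, 1, 3],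
   [2, -2, -2, 0, 0, 0, 0, 0, -2, 0, 0, -2, 2, 0, 0, 0, 0, 0, 2, 0, 0, 0, 0, 2],
   [1, -1, 1, -1, 1, -1, 1, -1, 1, -1, 1, 1, -1, -1, 1, 1, 1, 1, -1, 1, -1, -1, -1, 3]]

/-- A piece: The 891 vectors. -/
def reps12 : List (List Int) :=
  [[1, -1, 1, -1, -1, -1, 1, -1, -1, -1, 1, -1, 1, 1, 1, 1, -1, 1, 1, 1, -1, -1, 1, 3],
   [2, -2, -2, 0, 0, 0, 0, 0, 2, 0, 0, 2, -2, 0, 0, 0, 0, 0, -2, 0, 0, 0, 0, 2],
   [1, -1, 1, 1, 1, 1, -1, 1, -1, 1, -1, -1, 1, -1, -1, -1, 1, -1, 1, -1, 1, 1, -1, 3],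
   [1, -1, 1, 1, 1, 1, 1, -1, 1, 1, -1, 1, -1, -1, -1, -1, 1, -1, -1, 1, 1, -1, -1, 3],
   [1, -1, 1, 1, -1, 1, -1, 1, -1, -1, 1, -1, 1, 1, -1, 1, -1, -1, 1, -1, -1, 1, 1, 3],
   [2, -2, -2, -2, 0, -2, 0, 0, 0, 0, 0, 0, 0, 0, 2, 0, 0, 2, 0, 0, 0, 0, 0, 2],
   [1, -1, 1, -1, 1, -1, -1, 1, -1, -1, 1, -1, 1, -1, 1, 1, 1, 1, 1, -1, -1, 1, -1, 3],
   [1, -1, 1, -1, -1, -1, 1, -1, 1, 1, -1, 1, -1, 1, 1, -1, -1, 1, -1, 1, 1, -1, 1, 3],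
   [2, -2, -2, 2, 0, 2, 0, 0, 0, 0, 0, 0, 0, 0, -2, 0, 0, -2, 0, 0, 0, 0, 0, 2],
   [2, -2, 2, 0, 0, 0, -2, -2, 0, 0, 0, 0, 0, 0, 0, 0, 0, 0, 0, 2, 0, -2, 0, 2],
   [1, -1, -1, 1, -1, 1, 1, 1, 1, -1, 1, -1, -1, 1, 1, -1, 1, -1, -1, -1, -1, 1, 1, 3],
   [1, -1, -1, -1, 1, -1, 1, 1, -1, 1, -1, 1, 1, -1, -1, 1, -1, 1, 1, -1, 1, 1, -1, 3],
   [2, -2, 2, 0, 0, 0, 2, 2, 0, 0, 0, 0, 0, 0, 0, 0, 0, 0, 0, -2, 0, 2, 0, 2],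
   [1, -1, -1, -1, -1, -1, -1, -1, -1, 1, -1, 1, 1, 1, -1, 1, 1, 1, 1, 1, 1, -1, 1, 3],
   [1, -1, -1, 1, 1, 1, -1, -1, 1, -1, 1, -1, -1, -1, 1, -1, -1, -1, -1, 1, -1, -1, -1, 3],
   [1, -1, -1, -1, 1, -1, -1, -1, -1, -1, 1, 1, 1, -1, -1, -1, -1, 1, 1, 1, -1, -1, -1, 3],
   [2, -2, 2, 0, 0, 0, 0, 0, 2, 0, 0, -2, -2, 0, 0, 0, 0, 0, -2, 0, 0, 0, 0, 2],
   [1, -1, -1, 1, -1, 1, 1, 1, -1, 1, -1, 1, 1, 1, 1, 1, 1, -1, 1, -1, 1, 1, 1, 3],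
   [1, -1, -1, 1, 1, 1, 1, 1, 1, 1, -1, -1, -1, -1, 1, 1, -1, -1, -1, -1, 1, 1, -1, 3],
   [2, -2, 2, 0, 0, 0, 0, 0, -2, 0, 0, 2, 2, 0, 0, 0, 0, 0, 2, 0, 0, 0, 0, 2],
   [1, -1, -1, -1, -1, -1, -1, -1, 1, -1, 1, -1, -1, 1, -1, -1, 1, 1, -1, 1, -1, -1, 1, 3],
   [1, -1, -1, -1, -1, -1, 1, 1, -1, -1, 1, 1, 1, 1, -1, -1, 1, 1, 1, -1, -1, 1, 1, 3],
   [1, -1, -1, -1, 1, -1, -1, -1, 1, 1, -1, -1, -1, -1, -1, 1, -1, 1, -1, 1, 1, -1, -1, 3],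
   [2, -2, 2, 2, 0, 2, 0, 0, 0, 0, 0, 0, 0, 0, 2, 0, 0, -2, 0, 0, 0, 0, 0, 2],
   [1, -1, -1, 1, -1, 1, -1, -1, 1, 1, -1, -1, -1, 1, 1, 1, 1, -1, -1, 1, 1, -1, 1, 3],
   [1, -1, -1, 1, 1, 1, 1, 1, -1, -1, 1, 1, 1, -1, 1, -1, -1, -1, 1, -1, -1, 1, -1, 3],
   [2, -2, 2, -2, 0, -2, 0, 0, 0, 0, 0, 0, 0, 0, -2, 0, 0, 2, 0, 0, 0, 0, 0, 2],
   [2, -2, 2, 0, 0, 0, 2, -2, 0, 0, 0, 0, 0, 0, 0, 0, 0, 0, 0, -2, 0, -2, 0, 2],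
   [1, -1, -1, 1, -1, -1, -1, 1, 1, -1, -1, 1, 1, 1, -1, 1, 1, -1, -1, 1, -1, 1, 1, 3],
   [1, -1, -1, -1, 1, 1, -1, 1, -1, 1, 1, -1, -1, -1, 1, -1, -1, 1, 1, 1, 1, 1, -1, 3],
   [2, -2, 2, 0, 0, 0, -2, 2, 0, 0, 0, 0, 0, 0, 0, 0, 0, 0, 0, 2, 0, 2, 0, 2],
   [1, -1, -1, -1, -1, 1, 1, -1, -1, 1, 1, -1, -1, 1, 1, -1, 1, 1, 1, -1, 1, -1, 1, 3],
   [1, -1, -1, 1, 1, -1, 1, -1, 1, -1, -1, 1, 1, -1, -1, 1, -1, -1, -1, -1, -1, -1, -1, 3]]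

/-- A piece: The 891 vectors. -/
def reps13 : List (List Int) :=
  [[1, -1, -1, -1, 1, 1, 1, -1, -1, -1, -1, -1, -1, -1, 1, 1, -1, 1, 1, -1, -1, -1, -1, 3],
   [2, -2, 2, 0, 0, 0, 0, 0, 2, 0, 0, 2, 2, 0, 0, 0, 0, 0, -2, 0, 0, 0, 0, 2],
   [1, -1, -1, 1, -1, -1, -1, 1, -1, 1, 1, -1, -1, 1, -1, -1, 1, -1, 1, 1, 1, 1, 1, 3],
   [1, -1, -1, 1, 1, -1, -1, 1, 1, 1, 1, 1, 1, -1, -1, -1, -1, -1, -1, 1, 1, 1, -1, 3],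
   [2, -2, 2, 0, 0, 0, 0, 0, -2, 0, 0, -2, -2, 0, 0, 0, 0, 0, 2, 0, 0, 0, 0, 2],
   [1, -1, -1, -1, -1, 1, 1, -1, 1, -1, -1, 1, 1, 1, 1, 1, 1, 1, -1, -1, -1, -1, 1, 3],
   [1, -1, -1, 1, -1, -1, 1, -1, 1, 1, 1, 1, 1, 1, -1, -1, 1, -1, -1, -1, 1, -1, 1, 3],
   [1, -1, -1, 1, 1, -1, -1, 1, -1, -1, -1, -1, -1, -1, -1, 1, -1, -1, 1, 1, -1, 1, -1, 3],
   [2, -2, 2, -2, 0, 2, 0, 0, 0, 0, 0, 0, 0, 0, 2, 0, 0, 2, 0, 0, 0, 0, 0, 2],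
   [1, -1, -1, -1, -1, 1, -1, 1, -1, -1, -1, -1, -1, 1, 1, 1, 1, 1, 1, 1, -1, 1, 1, 3],
   [1, -1, -1, -1, 1, 1, 1, -1, 1, 1, 1, 1, 1, -1, 1, -1, -1, 1, -1, -1, 1, -1, -1, 3],
   [2, -2, 2, 2, 0, -2, 0, 0, 0, 0, 0, 0, 0, 0, -2, 0, 0, -2, 0, 0, 0, 0, 0, 2],
   [0, 0, 0, 0, 0, 0, 0, 4, 0, 0, 0, 0, 0, 0, 0, 0, 0, 0, 0, 0, 0, 0, 0, 4],
   [2, -2, 0, -2, 0, 0, 0, -2, 0, 2, 0, 0, 0, 0, 0, 0, -2, 0, 2, 0, 0, 0, 0, 2],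
   [2, -2, 0, 2, 0, 0, 0, -2, 0, -2, 0, 0, 0, 0, 0, 0, 2, 0, -2, 0, 0, 0, 0, 2],
   [0, 0, 0, 0, 0, 0, 0, -4, 0, 0, 0, 0, 0, 0, 0, 0, 0, 0, 0, 0, 0, 0, 0, 4],
   [2, -2, 0, 2, 0, 0, 0, 2, 0, -2, 0, 0, 0, 0, 0, 0, -2, 0, -2, 0, 0, 0, 0, 2],
   [2, -2, 0, -2, 0, 0, 0, 2, 0, 2, 0, 0, 0, 0, 0, 0, 2, 0, 2, 0, 0, 0, 0, 2],
   [2, -2, 0, 2, 0, 0, 0, 2, 0, 2, 0, 0, 0, 0, 0, 0, 2, 0, -2, 0, 0, 0, 0, 2],
   [0, 0, 0, 0, 0, 0, 0, 0, 0, 0, 0, 0, 0, 0, 0, 0, 0, 0, 4, 0, 0, 0, 0, 4],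
   [2, -2, 0, -2, 0, 0, 0, -2, 0, -2, 0, 0, 0, 0, 0, 0, -2, 0, -2, 0, 0, 0, 0, 2],
   [2, -2, 0, -2, 0, 0, 0, -2, 0, -2, 0, 0, 0, 0, 0, 0, 2, 0, 2, 0, 0, 0, 0, 2],
   [0, 0, 0, 0, 0, 0, 0, 0, 0, 0, 0, 0, 0, 0, 0, 0, 0, 0, -4, 0, 0, 0, 0, 4],
   [2, -2, 0, 2, 0, 0, 0, 2, 0, 2, 0, 0, 0, 0, 0, 0, -2, 0, 2, 0, 0, 0, 0, 2],
   [2, -2, 0, -2, 0, 0, 0, 2, 0, -2, 0, 0, 0, 0, 0, 0, -2, 0, 2, 0, 0, 0, 0, 2],
   [2, -2, 0, -2, 0, 0, 0, -2, 0, 2, 0, 0, 0, 0, 0, 0, 2, 0, -2, 0, 0, 0, 0, 2],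
   [0, 0, 0, 4, 0, 0, 0, 0, 0, 0, 0, 0, 0, 0, 0, 0, 0, 0, 0, 0, 0, 0, 0, 4],
   [2, -2, 0, 2, 0, 0, 0, -2, 0, 2, 0, 0, 0, 0, 0, 0, -2, 0, -2, 0, 0, 0, 0, 2],
   [2, -2, 0, 2, 0, 0, 0, 2, 0, -2, 0, 0, 0, 0, 0, 0, 2, 0, 2, 0, 0, 0, 0, 2],
   [0, 0, 0, -4, 0, 0, 0, 0, 0, 0, 0, 0, 0, 0, 0, 0, 0, 0, 0, 0, 0, 0, 0, 4],
   [2, -2, -2, 0, 0, 0, -2, -2, 0, 0, 0, 0, 0, 0, 0, 0, 0, 0, 0, 2, 0, 2, 0, 2],
   [1, -1, 1, 1, 1, 1, 1, 1, -1, -1, 1, -1, -1, -1, 1, -1, 1, 1, -1, -1, 1, -1, -1, 3],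
   [1, -1, 1, -1, -1, -1, 1, 1, 1, 1, -1, 1, 1, 1, -1, 1, -1, -1, 1, -1, -1, -1, 1, 3]]

/-- A piece: The 891 vectors. -/
def reps14 : List (List Int) :=
  [[2, -2, -2, 0, 0, 0, 2, 2, 0, 0, 0, 0, 0, 0, 0, 0, 0, 0, 0, -2, 0, -2, 0, 2],
   [1, -1, 1, -1, 1, -1, -1, -1, 1, 1, -1, 1, 1, -1, -1, 1, 1, -1, 1, 1, -1, 1, -1, 3],
   [1, -1, 1, 1, -1, 1, -1, -1, -1, -1, 1, -1, -1, 1, 1, -1, -1, 1, -1, 1, 1, 1, 1, 3],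
   [1, -1, 1, -1, -1, -1, -1, -1, 1, -1, 1, 1, 1, 1, -1, -1, -1, -1, 1, 1, 1, 1, 1, 3],
   [2, -2, -2, 0, 0, 0, 0, 0, -2, 0, 0, -2, -2, 0, 0, 0, 0, 0, -2, 0, 0, 0, 0, 2],
   [1, -1, 1, 1, 1, 1, 1, 1, 1, 1, -1, 1, 1, -1, 1, 1, 1, 1, 1, -1, -1, -1, -1, 3],
   [1, -1, 1, 1, -1, 1, 1, 1, -1, 1, -1, -1, -1, 1, 1, 1, -1, 1, -1, -1, -1, -1, 1, 3],
   [2, -2, -2, 0, 0, 0, 0, 0, 2, 0, 0, 2, 2, 0, 0, 0, 0, 0, 2, 0, 0, 0, 0, 2],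
   [1, -1, 1, -1, 1, -1, -1, -1, -1, -1, 1, -1, -1, -1, -1, -1, 1, -1, -1, 1, 1, 1, -1, 3],
   [1, -1, 1, 1, 1, 1, -1, -1, -1, 1, -1, -1, -1, -1, 1, 1, 1, 1, -1, 1, -1, 1, -1, 3],
   [1, -1, 1, 1, -1, 1, 1, 1, 1, -1, 1, 1, 1, 1, 1, -1, -1, 1, 1, -1, 1, -1, 1, 3],
   [2, -2, -2, -2, 0, -2, 0, 0, 0, 0, 0, 0, 0, 0, -2, 0, 0, -2, 0, 0, 0, 0, 0, 2],
   [1, -1, 1, -1, 1, -1, 1, 1, 1, -1, 1, 1, 1, -1, -1, -1, 1, -1, 1, -1, 1, -1, -1, 3],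
   [1, -1, 1, -1, -1, -1, -1, -1, -1, 1, -1, -1, -1, 1, -1, 1, -1, -1, -1, 1, -1, 1, 1, 3],
   [2, -2, -2, 2, 0, 2, 0, 0, 0, 0, 0, 0, 0, 0, 2, 0, 0, 2, 0, 0, 0, 0, 0, 2],
   [2, -2, -2, 0, 0, 0, -2, -2, 0, 0, 0, 0, 0, 0, 0, 0, 0, 0, 0, -2, 0, -2, 0, 2],
   [1, -1, 1, 1, 1, -1, 1, 1, 1, -1, -1, -1, 1, -1, 1, -1, 1, -1, -1, 1, -1, 1, -1, 3],
   [1, -1, 1, -1, -1, 1, 1, 1, -1, 1, 1, 1, -1, 1, -1, 1, -1, 1, 1, 1, 1, 1, 1, 3],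
   [2, -2, -2, 0, 0, 0, 2, 2, 0, 0, 0, 0, 0, 0, 0, 0, 0, 0, 0, 2, 0, 2, 0, 2],
   [1, -1, 1, -1, 1, 1, -1, -1, -1, 1, 1, 1, -1, -1, -1, 1, 1, 1, 1, -1, 1, -1, -1, 3],
   [1, -1, 1, 1, -1, -1, -1, -1, 1, -1, -1, -1, 1, 1, 1, -1, -1, -1, -1, -1, -1, -1, 1, 3],
   [1, -1, 1, 1, -1, -1, 1, 1, 1, 1, 1, -1, 1, 1, 1, 1, -1, -1, -1, 1, 1, 1, 1, 3],
   [2, -2, -2, 0, 0, 0, 0, 0, -2, 0, 0, 2, -2, 0, 0, 0, 0, 0, 2, 0, 0, 0, 0, 2],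
   [1, -1, 1, -1, 1, 1, -1, -1, 1, -1, -1, -1, 1, -1, -1, -1, 1, 1, -1, -1, -1, -1, -1, 3],
   [1, -1, 1, -1, -1, 1, -1, -1, -1, -1, -1, 1, -1, 1, -1, -1, -1, 1, 1, -1, -1, -1, 1, 3],
   [2, -2, -2, 0, 0, 0, 0, 0, 2, 0, 0, -2, 2, 0, 0, 0, 0, 0, -2, 0, 0, 0, 0, 2],
   [1, -1, 1, 1, 1, -1, 1, 1, -1, 1, 1, 1, -1, -1, 1, 1, 1, -1, 1, 1, 1, 1, -1, 3],
   [1, -1, 1, 1, 1, -1, -1, -1, 1, 1, 1, -1, 1, -1, 1, 1, 1, -1, -1, -1, 1, -1, -1, 3],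
   [1, -1, 1, 1, -1, -1, 1, 1, -1, -1, -1, 1, -1, 1, 1, -1, -1, -1, 1, 1, -1, 1, 1, 3],
   [2, -2, -2, -2, 0, 2, 0, 0, 0, 0, 0, 0, 0, 0, -2, 0, 0, 2, 0, 0, 0, 0, 0, 2],
   [1, -1, 1, -1, 1, 1, 1, 1, -1, -1, -1, 1, -1, -1, -1, -1, 1, 1, 1, 1, -1, 1, -1, 3],
   [1, -1, 1, -1, -1, 1, -1, -1, 1, 1, 1, -1, 1, 1, -1, 1, -1, 1, -1, -1, 1, -1, 1, 3],
   [2, -2, -2, 2, 0, -2, 0, 0, 0, 0, 0, 0, 0, 0, 2, 0, 0, -2, 0, 0, 0, 0, 0, 2]]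

/-- A piece: The 891 vectors. -/
def reps15 : List (List Int) :=
  [[2, -2, 2, 0, 0, 0, 2, 2, 0, 0, 0, 0, 0, 0, 0, 0, 0, 0, 0, 2, 0, -2, 0, 2],
   [1, -1, -1, -1, -1, 1, -1, -1, 1, 1, 1, 1, -1, 1, -1, 1, 1, -1, 1, -1, -1, 1, 1, 3],
   [1, -1, -1, 1, 1, -1, -1, -1, -1, -1, -1, -1, 1, -1, 1, -1, -1, 1, -1, -1, 1, 1, -1, 3],
   [2, -2, 2, 0, 0, 0, -2, -2, 0, 0, 0, 0, 0, 0, 0, 0, 0, 0, 0, -2, 0, 2, 0, 2],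
   [1, -1, -1, 1, -1, -1, 1, 1, -1, -1, -1, -1, 1, 1, 1, -1, 1, 1, -1, 1, 1, -1, 1, 3],
   [1, -1, -1, -1, 1, 1, 1, 1, 1, 1, 1, 1, -1, -1, -1, 1, -1, -1, 1, 1, -1, -1, -1, 3],
   [1, -1, -1, -1, 1, 1, -1, -1, 1, -1, -1, 1, -1, -1, -1, -1, -1, -1, 1, -1, 1, 1, -1, 3],
   [2, -2, 2, 0, 0, 0, 0, 0, -2, 0, 0, -2, 2, 0, 0, 0, 0, 0, -2, 0, 0, 0, 0, 2],
   [1, -1, -1, 1, -1, -1, 1, 1, 1, 1, 1, 1, -1, 1, 1, 1, 1, 1, 1, 1, -1, -1, 1, 3],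
   [1, -1, -1, 1, 1, -1, 1, 1, -1, 1, 1, -1, 1, -1, 1, 1, -1, 1, -1, 1, -1, -1, -1, 3],
   [2, -2, 2, 0, 0, 0, 0, 0, 2, 0, 0, 2, -2, 0, 0, 0, 0, 0, 2, 0, 0, 0, 0, 2],
   [1, -1, -1, -1, -1, 1, -1, -1, -1, -1, -1, -1, 1, 1, -1, -1, 1, -1, -1, -1, 1, 1, 1, 3],
   [1, -1, -1, -1, -1, 1, 1, 1, 1, -1, -1, 1, -1, 1, -1, -1, 1, -1, 1, 1, 1, -1, 1, 3],
   [1, -1, -1, -1, 1, 1, -1, -1, -1, 1, 1, -1, 1, -1, -1, 1, -1, -1, -1, -1, -1, 1, -1, 3],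
   [2, -2, 2, 2, 0, -2, 0, 0, 0, 0, 0, 0, 0, 0, 2, 0, 0, 2, 0, 0, 0, 0, 0, 2],
   [1, -1, -1, 1, -1, -1, -1, -1, -1, 1, 1, -1, 1, 1, 1, 1, 1, 1, -1, -1, -1, 1, 1, 3],
   [1, -1, -1, 1, 1, -1, 1, 1, 1, -1, -1, 1, -1, -1, 1, -1, -1, 1, 1, 1, 1, -1, -1, 3],
   [2, -2, 2, -2, 0, 2, 0, 0, 0, 0, 0, 0, 0, 0, -2, 0, 0, -2, 0, 0, 0, 0, 0, 2],
   [0, 0, 0, 0, 0, 0, 0, 0, 0, 0, 0, 0, 0, 0, 0, 0, 0, 0, 0, 0, 0, 4, 0, 4],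
   [2, -2, 0, 0, 0, 0, 0, 0, -2, 0, 0, 0, 0, 0, 0, 0, -2, 2, 0, 0, 2, -2, 0, 2],
   [2, -2, 0, 0, 0, 0, 0, 0, 2, 0, 0, 0, 0, 0, 0, 0, 2, -2, 0, 0, -2, -2, 0, 2],
   [0, 0, 0, 0, 0, 0, 0, 0, 0, 0, 0, 0, 0, 0, 0, 0, 0, 0, 0, 0, 0, -4, 0, 4],
   [2, -2, 0, 0, 0, 0, 0, 0, 2, 0, 0, 0, 0, 0, 0, 0, -2, -2, 0, 0, -2, 2, 0, 2],
   [2, -2, 0, 0, 0, 0, 0, 0, -2, 0, 0, 0, 0, 0, 0, 0, 2, 2, 0, 0, 2, 2, 0, 2],
   [2, -2, 0, 0, 0, 0, 0, 0, -2, 0, 0, 0, 0, 0, 0, 0, 2, 2, 0, 0, -2, -2, 0, 2],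
   [0, 0, 0, 0, 0, 0, 0, 0, 4, 0, 0, 0, 0, 0, 0, 0, 0, 0, 0, 0, 0, 0, 0, 4],
   [2, -2, 0, 0, 0, 0, 0, 0, -2, 0, 0, 0, 0, 0, 0, 0, -2, -2, 0, 0, 2, 2, 0, 2],
   [2, -2, 0, 0, 0, 0, 0, 0, 2, 0, 0, 0, 0, 0, 0, 0, 2, -2, 0, 0, 2, 2, 0, 2],
   [0, 0, 0, 0, 0, 0, 0, 0, -4, 0, 0, 0, 0, 0, 0, 0, 0, 0, 0, 0, 0, 0, 0, 4],
   [2, -2, 0, 0, 0, 0, 0, 0, 2, 0, 0, 0, 0, 0, 0, 0, -2, 2, 0, 0, -2, -2, 0, 2],
   [2, -2, 0, 0, 0, 0, 0, 0, -2, 0, 0, 0, 0, 0, 0, 0, -2, 2, 0, 0, -2, 2, 0, 2],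
   [2, -2, 0, 0, 0, 0, 0, 0, 2, 0, 0, 0, 0, 0, 0, 0, 2, 2, 0, 0, 2, -2, 0, 2],
   [0, 0, 0, 0, 0, 0, 0, 0, 0, 0, 0, 0, 0, 0, 0, 0, 0, -4, 0, 0, 0, 0, 0, 4]]

/-- A piece: The 891 vectors. -/
def reps16 : List (List Int) :=
  [[2, -2, 0, 0, 0, 0, 0, 0, 2, 0, 0, 0, 0, 0, 0, 0, -2, -2, 0, 0, 2, -2, 0, 2],
   [2, -2, 0, 0, 0, 0, 0, 0, -2, 0, 0, 0, 0, 0, 0, 0, 2, -2, 0, 0, -2, 2, 0, 2],
   [0, 0, 0, 0, 0, 0, 0, 0, 0, 0, 0, 0, 0, 0, 0, 0, 0, 4, 0, 0, 0, 0, 0, 4],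
   [2, -2, 0, -2, 0, 0, -2, 0, -2, 0, 2, 0, 0, 2, 0, 0, 0, 0, 0, 0, 0, 0, 0, 2],
   [1, -1, -1, 1, -1, -1, 1, -1, 1, 1, -1, -1, -1, -1, 1, -1, 1, 1, -1, -1, -1, -1, -1, 3],
   [1, -1, 1, 1, 1, 1, 1, 1, 1, -1, -1, 1, 1, -1, -1, 1, -1, -1, 1, 1, 1, 1, 1, 3],
   [1, -1, 1, 1, -1, 1, 1, -1, 1, -1, -1, -1, 1, -1, 1, 1, -1, 1, -1, 1, 1, -1, -1, 3],
   [2, -2, 0, 0, 0, 0, 0, 2, 0, 0, 2, 2, 0, 0, 0, 0, 0, -2, 0, 0, 0, 0, 2, 2],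
   [1, -1, -1, -1, 1, -1, -1, -1, -1, 1, -1, -1, -1, 1, -1, -1, 1, 1, 1, -1, -1, 1, -1, 3],
   [1, -1, -1, 1, 1, -1, 1, 1, 1, 1, -1, 1, -1, -1, -1, -1, 1, -1, 1, -1, -1, 1, 1, 3],
   [1, -1, 1, -1, 1, 1, -1, -1, -1, -1, -1, -1, 1, 1, -1, 1, -1, 1, 1, 1, 1, 1, -1, 3],
   [2, -2, 0, 0, -2, 0, 0, 0, 0, 0, 2, 0, 0, 0, 2, 0, 0, 0, -2, 0, 0, -2, 0, 2],
   [2, -2, 0, 2, 0, 0, 2, 0, 2, 0, 2, 0, 0, -2, 0, 0, 0, 0, 0, 0, 0, 0, 0, 2],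
   [1, -1, 1, -1, 1, -1, -1, 1, -1, -1, -1, 1, -1, 1, -1, 1, 1, -1, 1, -1, 1, 1, 1, 3],
   [1, -1, -1, -1, -1, 1, -1, -1, -1, 1, -1, -1, 1, 1, 1, -1, -1, 1, -1, 1, -1, -1, -1, 3],
   [1, -1, -1, -1, 1, 1, -1, 1, -1, 1, -1, 1, 1, 1, -1, -1, -1, -1, 1, 1, -1, 1, 1, 3],
   [2, -2, 0, 0, 0, 0, 0, -2, 0, 0, 2, -2, 0, 0, 0, 0, 0, 2, 0, 0, 0, 0, -2, 2],
   [1, -1, 1, 1, -1, -1, 1, 1, 1, -1, -1, 1, -1, -1, 1, 1, 1, -1, -1, -1, 1, -1, 1, 3],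
   [1, -1, 1, -1, -1, -1, -1, -1, -1, -1, -1, -1, -1, 1, 1, 1, 1, 1, -1, -1, 1, -1, -1, 3],
   [1, -1, -1, 1, -1, 1, 1, 1, 1, 1, -1, 1, 1, -1, 1, -1, -1, -1, -1, 1, -1, -1, 1, 3],
   [2, -2, 0, 0, 2, 0, 0, 0, 0, 0, 2, 0, 0, 0, -2, 0, 0, 0, 2, 0, 0, 2, 0, 2],
   [2, -2, 0, 0, 2, 0, 0, 0, 0, 0, 2, 0, 0, 0, 2, 0, 0, 0, 2, 0, 0, -2, 0, 2],
   [1, -1, 1, -1, -1, -1, 1, -1, 1, -1, -1, 1, -1, 1, -1, -1, 1, -1, -1, -1, -1, 1, -1, 3],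
   [1, -1, -1, 1, -1, 1, -1, 1, -1, 1, -1, -1, 1, -1, -1, 1, -1, 1, -1, 1, 1, 1, 1, 3],
   [2, -2, 0, 0, -2, 0, 0, 0, 0, 0, 2, 0, 0, 0, -2, 0, 0, 0, -2, 0, 0, 2, 0, 2],
   [1, -1, -1, 1, 1, -1, -1, 1, -1, 1, -1, -1, -1, -1, 1, 1, 1, 1, 1, -1, 1, -1, 1, 3],
   [1, -1, 1, -1, 1, 1, 1, -1, 1, -1, -1, 1, 1, 1, 1, -1, -1, -1, 1, 1, -1, -1, -1, 3],
   [1, -1, -1, -1, -1, 1, 1, -1, 1, 1, -1, 1, 1, 1, -1, 1, -1, -1, -1, 1, 1, 1, -1, 3],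
   [2, -2, 0, 2, 0, 0, -2, 0, -2, 0, 2, 0, 0, -2, 0, 0, 0, 0, 0, 0, 0, 0, 0, 2],
   [1, -1, 1, -1, 1, -1, 1, 1, 1, -1, -1, -1, -1, 1, 1, -1, 1, 1, 1, -1, -1, -1, 1, 3],
   [1, -1, 1, 1, 1, 1, -1, 1, -1, -1, -1, -1, 1, -1, 1, -1, -1, 1, 1, 1, -1, -1, 1, 3],
   [2, -2, 0, -2, 0, 0, 2, 0, 2, 0, 2, 0, 0, 2, 0, 0, 0, 0, 0, 0, 0, 0, 0, 2],
   [1, -1, -1, 1, -1, -1, -1, -1, -1, 1, -1, 1, -1, -1, -1, 1, 1, -1, -1, -1, 1, 1, -1, 3]]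

/-- A piece: The 891 vectors. -/
def reps17 : List (List Int) :=
  [[1, -1, -1, -1, 1, -1, 1, -1, 1, 1, -1, 1, -1, 1, 1, 1, 1, -1, 1, -1, 1, -1, -1, 3],
   [1, -1, 1, 1, -1, 1, -1, -1, -1, -1, -1, 1, 1, -1, -1, -1, -1, -1, -1, 1, -1, 1, -1, 3],
   [2, -2, 0, 0, 0, 0, 0, 2, 0, 0, 2, -2, 0, 0, 0, 0, 0, 2, 0, 0, 0, 0, 2, 2],
   [1, -1, 1, 1, -1, -1, -1, 1, -1, -1, -1, -1, -1, -1, -1, -1, 1, 1, -1, -1, -1, 1, 1, 3],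
   [1, -1, -1, -1, 1, 1, 1, 1, 1, 1, -1, -1, 1, 1, 1, 1, -1, 1, 1, 1, 1, -1, 1, 3],
   [2, -2, 0, 0, 0, 0, 0, -2, 0, 0, 2, 2, 0, 0, 0, 0, 0, -2, 0, 0, 0, 0, -2, 2],
   [1, -1, 1, 1, -1, 1, 1, 1, -1, -1, -1, -1, -1, 1, -1, 1, 1, -1, -1, 1, 1, 1, -1, 3],
   [1, -1, -1, -1, -1, 1, -1, 1, -1, 1, 1, 1, 1, -1, 1, 1, -1, 1, 1, -1, -1, -1, 1, 3],
   [2, -2, 0, 0, 2, -2, 0, -2, 2, 0, 0, 0, 0, 0, 0, -2, 0, 0, 0, 0, 0, 0, 0, 2],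
   [1, -1, 1, -1, 1, -1, -1, -1, 1, -1, -1, 1, 1, -1, 1, 1, -1, 1, 1, -1, 1, -1, 1, 3],
   [2, -2, 0, 0, 0, 0, 0, 0, 0, 0, 0, 0, 0, 2, 0, -2, 0, -2, -2, 2, 0, 0, 0, 2],
   [1, -1, -1, 1, -1, 1, 1, 1, -1, 1, 1, -1, -1, -1, -1, 1, 1, 1, 1, -1, -1, 1, -1, 3],
   [2, -2, 0, 0, 0, 0, 0, 0, 0, 0, 0, 0, 0, -2, 0, -2, 0, 2, 2, -2, 0, 0, 0, 2],
   [1, -1, 1, -1, 1, -1, 1, -1, 1, -1, -1, -1, 1, 1, -1, 1, 1, -1, -1, 1, 1, -1, 1, 3],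
   [1, -1, -1, 1, -1, 1, -1, 1, -1, 1, 1, 1, -1, 1, 1, 1, -1, -1, -1, 1, -1, 1, -1, 3],
   [1, -1, -1, 1, 1, -1, 1, -1, 1, 1, 1, -1, -1, 1, -1, 1, 1, -1, -1, 1, -1, 1, -1, 3],
   [1, -1, 1, 1, -1, 1, -1, 1, -1, -1, -1, 1, -1, -1, 1, 1, -1, 1, 1, -1, 1, 1, -1, 3],
   [2, -2, 0, -2, 0, 0, 0, 0, 0, 0, 0, 0, 2, 0, 0, -2, 0, 0, 0, 0, 0, -2, 2, 2],
   [2, -2, 0, 0, -2, 2, 0, 2, -2, 0, 0, 0, 0, 0, 0, -2, 0, 0, 0, 0, 0, 0, 0, 2],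
   [1, -1, -1, -1, 1, -1, 1, -1, 1, 1, 1, -1, 1, -1, -1, 1, 1, 1, 1, -1, -1, -1, 1, 3],
   [1, -1, 1, 1, 1, -1, -1, -1, 1, -1, -1, 1, -1, 1, 1, 1, -1, -1, -1, 1, 1, 1, -1, 3],
   [1, -1, -1, -1, 1, -1, -1, -1, 1, 1, 1, 1, 1, 1, 1, 1, -1, -1, -1, 1, -1, -1, 1, 3],
   [2, -2, 0, 2, 0, 0, 0, 0, 0, 0, 0, 0, -2, 0, 0, -2, 0, 0, 0, 0, 0, 2, -2, 2],
   [1, -1, 1, -1, -1, 1, 1, 1, -1, -1, -1, -1, 1, -1, -1, 1, 1, 1, 1, -1, 1, -1, 1, 3],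
   [1, -1, -1, -1, -1, -1, -1, -1, 1, 1, -1, 1, 1, -1, -1, -1, -1, 1, -1, -1, -1, 1, 1, 3],
   [2, -2, 0, 2, 2, 0, 0, 0, 0, 0, 0, -2, 0, 0, 0, 0, 0, 0, 0, 2, 2, 0, 0, 2],
   [1, -1, 1, -1, -1, 1, 1, 1, -1, -1, 1, 1, -1, 1, 1, 1, 1, -1, 1, -1, -1, -1, -1, 3],
   [1, -1, -1, 1, 1, 1, 1, 1, -1, 1, -1, -1, -1, 1, 1, -1, 1, -1, 1, 1, -1, -1, -1, 3],
   [1, -1, 1, -1, -1, 1, 1, -1, 1, -1, 1, 1, 1, -1, -1, 1, -1, 1, 1, -1, -1, 1, -1, 3],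
   [2, -2, 0, 0, 0, -2, -2, 0, 0, 0, 0, 0, 0, 0, 0, 0, 0, 0, -2, 0, 2, 0, 2, 2],
   [1, -1, 1, 1, 1, -1, -1, 1, -1, -1, 1, -1, -1, 1, 1, 1, 1, -1, -1, 1, -1, -1, 1, 3],
   [1, -1, -1, -1, -1, 1, 1, 1, 1, 1, -1, 1, -1, 1, 1, -1, -1, 1, 1, -1, -1, 1, -1, 3],
   [2, -2, 0, 0, 0, 0, 0, -2, 0, 0, 0, 0, 2, -2, -2, 0, 0, 0, 0, 0, 2, 0, 0, 2]]

/-- A piece: The 891 vectors. -/
def reps18 : List (List Int) :=
  [[2, -2, 0, -2, -2, 0, 0, 0, 0, 0, 0, 2, 0, 0, 0, 0, 0, 0, 0, -2, 2, 0, 0, 2],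
   [1, -1, -1, 1, 1, -1, -1, -1, -1, 1, -1, -1, 1, -1, -1, -1, 1, -1, -1, 1, -1, -1, 1, 3],
   [1, -1, 1, 1, 1, 1, 1, 1, 1, -1, 1, -1, -1, 1, 1, 1, -1, 1, 1, 1, -1, 1, -1, 3],
   [1, -1, 1, 1, 1, -1, -1, -1, 1, -1, 1, -1, 1, -1, -1, 1, -1, 1, -1, 1, -1, 1, 1, 3],
   [2, -2, 0, 0, 0, 0, 0, 2, 0, 0, 0, 0, -2, 2, 2, 0, 0, 0, 0, 0, 2, 0, 0, 2],
   [1, -1, -1, -1, -1, 1, 1, -1, -1, 1, -1, 1, 1, -1, -1, -1, 1, -1, 1, -1, -1, -1, -1, 3],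
   [2, -2, 0, 0, 0, 2, 2, 0, 0, 0, 0, 0, 0, 0, 0, 0, 0, 0, 2, 0, 2, 0, -2, 2],
   [1, -1, 1, -1, -1, -1, -1, -1, -1, -1, 1, 1, 1, -1, -1, 1, 1, -1, -1, -1, -1, -1, 1, 3],
   [1, -1, -1, 1, 1, -1, -1, 1, 1, 1, -1, -1, -1, 1, 1, -1, -1, 1, -1, 1, -1, 1, 1, 3],
   [1, -1, -1, 1, -1, -1, 1, 1, -1, 1, -1, -1, 1, 1, -1, -1, -1, -1, -1, -1, -1, 1, -1, 3],
   [2, -2, 0, 0, 0, 0, 0, 0, 0, 0, 0, 0, 0, -2, 0, 2, 0, 2, 2, 2, 0, 0, 0, 2],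
   [1, -1, 1, -1, 1, 1, -1, -1, 1, -1, 1, 1, -1, 1, 1, -1, 1, -1, -1, -1, 1, -1, 1, 3],
   [1, -1, -1, -1, 1, 1, -1, -1, 1, 1, -1, 1, -1, -1, 1, -1, 1, 1, 1, 1, -1, -1, 1, 3],
   [1, -1, 1, 1, 1, 1, 1, -1, 1, -1, 1, -1, 1, 1, -1, -1, -1, -1, -1, -1, 1, 1, -1, 3],
   [2, -2, 0, 0, -2, -2, 0, 2, -2, 0, 0, 0, 0, 0, 0, 2, 0, 0, 0, 0, 0, 0, 0, 2],
   [2, -2, 0, 0, 0, 0, 0, 0, 0, 0, 0, 0, 0, 2, 0, 2, 0, -2, -2, -2, 0, 0, 0, 2],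
   [1, -1, -1, 1, -1, -1, -1, 1, -1, 1, -1, 1, 1, -1, 1, -1, 1, 1, 1, 1, -1, 1, -1, 3],
   [1, -1, 1, -1, 1, 1, 1, -1, 1, -1, 1, -1, -1, -1, -1, -1, -1, 1, 1, 1, 1, -1, 1, 3],
   [1, -1, 1, -1, -1, -1, -1, 1, -1, -1, 1, 1, -1, -1, 1, -1, 1, 1, 1, 1, 1, -1, 1, 3],
   [1, -1, -1, -1, 1, 1, 1, -1, 1, 1, -1, -1, -1, 1, -1, -1, -1, -1, -1, -1, -1, -1, 1, 3],
   [2, -2, 0, 2, 0, 0, 0, 0, 0, 0, 0, 0, 2, 0, 0, 2, 0, 0, 0, 0, 0, 2, -2, 2],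
   [2, -2, 0, 0, 2, 2, 0, -2, 2, 0, 0, 0, 0, 0, 0, 2, 0, 0, 0, 0, 0, 0, 0, 2],
   [1, -1, 1, 1, -1, -1, -1, 1, -1, -1, 1, 1, 1, 1, 1, -1, 1, -1, -1, -1, 1, 1, -1, 3],
   [1, -1, -1, -1, -1, -1, 1, 1, -1, 1, -1, -1, -1, -1, -1, -1, -1, 1, 1, 1, -1, -1, 1, 3],
   [1, -1, 1, 1, -1, -1, 1, 1, -1, -1, 1, -1, 1, -1, -1, -1, -1, 1, 1, 1, 1, 1, -1, 3],
   [2, -2, 0, -2, 0, 0, 0, 0, 0, 0, 0, 0, -2, 0, 0, 2, 0, 0, 0, 0, 0, -2, 2, 2],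
   [1, -1, -1, 1, 1, 1, -1, -1, 1, 1, -1, 1, 1, 1, 1, -1, 1, -1, -1, -1, -1, 1, -1, 3],
   [2, -2, 0, -2, 0, 0, -2, 0, 2, 0, 2, 0, 0, -2, 0, 0, 0, 0, 0, 0, 0, 0, 0, 2],
   [1, -1, 1, 1, 1, -1, 1, -1, -1, 1, -1, -1, -1, 1, 1, -1, 1, -1, -1, -1, 1, 1, 1, 3],
   [1, -1, -1, 1, -1, 1, 1, 1, -1, -1, -1, 1, 1, 1, -1, 1, -1, 1, 1, 1, -1, -1, -1, 3],
   [2, -2, 0, 2, 0, 0, 2, 0, -2, 0, 2, 0, 0, 2, 0, 0, 0, 0, 0, 0, 0, 0, 0, 2],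
   [1, -1, -1, -1, -1, -1, -1, 1, 1, -1, -1, 1, -1, -1, -1, 1, 1, 1, 1, -1, -1, -1, -1, 3],
   [1, -1, 1, -1, 1, 1, -1, -1, 1, 1, -1, -1, 1, -1, 1, -1, -1, -1, -1, 1, 1, 1, 1, 3]]

/-- A piece: The 891 vectors. -/
def reps19 : List (List Int) :=
  [[1, -1, 1, -1, -1, 1, -1, 1, 1, 1, -1, 1, 1, -1, -1, -1, -1, 1, 1, 1, 1, -1, -1, 3],
   [2, -2, 0, 0, 0, 0, 0, -2, 0, 0, 2, -2, 0, 0, 0, 0, 0, -2, 0, 0, 0, 0, 2, 2],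
   [1, -1, -1, 1, 1, -1, 1, 1, -1, -1, -1, 1, -1, 1, 1, 1, 1, 1, -1, -1, -1, 1, -1, 3],
   [1, -1, -1, 1, 1, 1, 1, -1, -1, -1, -1, -1, 1, 1, 1, 1, -1, -1, -1, 1, -1, 1, 1, 3],
   [2, -2, 0, 0, 0, 0, 0, 2, 0, 0, 2, 2, 0, 0, 0, 0, 0, 2, 0, 0, 0, 0, -2, 2],
   [1, -1, 1, -1, -1, -1, -1, -1, 1, 1, -1, -1, -1, -1, -1, -1, 1, -1, 1, -1, 1, -1, 1, 3],
   [1, -1, 1, 1, -1, -1, 1, 1, -1, 1, -1, 1, -1, 1, -1, -1, 1, 1, 1, -1, 1, -1, -1, 3],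
   [1, -1, -1, -1, -1, 1, -1, -1, 1, -1, -1, -1, 1, -1, -1, 1, -1, -1, 1, 1, -1, -1, 1, 3],
   [2, -2, 0, 0, 2, 0, 0, 0, 0, 0, 2, 0, 0, 0, 2, 0, 0, 0, -2, 0, 0, 2, 0, 2],
   [1, -1, -1, -1, 1, -1, -1, -1, 1, -1, -1, -1, -1, -1, 1, 1, 1, -1, -1, -1, -1, 1, 1, 3],
   [1, -1, 1, 1, 1, 1, 1, 1, -1, 1, -1, 1, 1, 1, 1, -1, -1, 1, -1, 1, 1, 1, -1, 3],
   [2, -2, 0, 0, -2, 0, 0, 0, 0, 0, 2, 0, 0, 0, -2, 0, 0, 0, 2, 0, 0, -2, 0, 2],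
   [1, -1, 1, 1, 1, 1, 1, -1, -1, -1, -1, 1, -1, 1, 1, 1, 1, 1, 1, 1, 1, -1, 1, 3],
   [1, -1, -1, -1, -1, 1, -1, 1, 1, -1, 1, 1, 1, 1, -1, -1, -1, -1, -1, -1, -1, -1, -1, 3],
   [2, -2, 0, 0, 0, -2, 0, 0, 0, 2, 0, -2, 0, -2, 0, 0, 0, 0, 0, 0, 0, 2, 0, 2],
   [1, -1, 1, -1, -1, -1, -1, 1, 1, -1, -1, -1, 1, -1, -1, 1, -1, -1, -1, -1, 1, 1, -1, 3],
   [2, -2, 0, 0, 0, 0, 0, 0, -2, 2, 0, 0, 0, 0, 2, 0, 0, 0, 0, 2, 0, 0, 2, 2],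
   [1, -1, -1, 1, 1, 1, 1, -1, 1, -1, 1, 1, -1, 1, -1, -1, 1, 1, 1, -1, -1, -1, -1, 3],
   [1, -1, -1, 1, 1, -1, 1, -1, -1, -1, 1, -1, -1, -1, 1, -1, 1, 1, 1, 1, -1, 1, 1, 3],
   [1, -1, 1, -1, 1, 1, 1, 1, 1, -1, -1, 1, -1, 1, -1, 1, -1, 1, -1, -1, 1, -1, -1, 3],
   [2, -2, 0, 0, -2, 0, -2, 0, 0, 2, 0, 0, 2, 0, 0, 0, 0, -2, 0, 0, 0, 0, 0, 2],
   [2, -2, 0, 0, 0, 0, 0, 0, 2, 2, 0, 0, 0, 0, -2, 0, 0, 0, 0, -2, 0, 0, -2, 2],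
   [1, -1, 1, 1, -1, -1, -1, -1, -1, -1, -1, -1, 1, -1, 1, 1, 1, -1, 1, 1, 1, 1, 1, 3],
   [1, -1, -1, -1, 1, 1, 1, 1, -1, -1, 1, 1, -1, 1, 1, -1, -1, 1, -1, 1, -1, -1, 1, 3],
   [1, -1, -1, -1, -1, -1, -1, 1, -1, -1, 1, -1, 1, -1, 1, -1, -1, -1, -1, 1, -1, 1, 1, 3],
   [2, -2, 0, 0, 2, 0, 2, 0, 0, 2, 0, 0, -2, 0, 0, 0, 0, 2, 0, 0, 0, 0, 0, 2],
   [1, -1, 1, 1, -1, 1, -1, -1, 1, -1, -1, 1, 1, 1, -1, 1, 1, -1, 1, -1, 1, -1, -1, 3],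
   [2, -2, 0, 0, 0, 2, 0, 0, 0, 2, 0, 2, 0, 2, 0, 0, 0, 0, 0, 0, 0, -2, 0, 2],
   [1, -1, -1, 1, -1, -1, -1, -1, 1, -1, 1, -1, 1, -1, -1, -1, 1, -1, 1, -1, -1, 1, -1, 3],
   [1, -1, 1, -1, 1, -1, 1, 1, -1, -1, -1, -1, -1, -1, 1, 1, -1, 1, -1, 1, 1, 1, 1, 3],
   [1, -1, 1, 1, 1, -1, 1, 1, -1, -1, -1, -1, 1, 1, 1, 1, -1, -1, 1, -1, 1, -1, -1, 3],
   [2, -2, 0, -2, -2, 0, 0, 0, 0, 0, 0, 2, 0, 0, 0, 0, 0, 0, 0, 2, -2, 0, 0, 2],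
   [1, -1, -1, 1, 1, 1, -1, -1, 1, 1, 1, -1, -1, -1, -1, -1, 1, 1, -1, -1, 1, 1, 1, 3]]

/-- A piece: The 891 vectors. -/
def reps20 : List (List Int) :=
  [[1, -1, 1, -1, -1, 1, -1, -1, 1, -1, -1, 1, -1, -1, -1, 1, 1, 1, -1, 1, 1, 1, 1, 3],
   [1, -1, -1, 1, 1, 1, -1, 1, -1, 1, 1, -1, 1, 1, 1, -1, -1, -1, -1, -1, 1, -1, 1, 3],
   [2, -2, 0, 0, 0, -2, 2, 0, 0, 0, 0, 0, 0, 0, 0, 0, 0, 0, 2, 0, -2, 0, -2, 2],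
   [2, -2, 0, 2, 2, 0, 0, 0, 0, 0, 0, -2, 0, 0, 0, 0, 0, 0, 0, -2, -2, 0, 0, 2],
   [1, -1, 1, -1, -1, -1, 1, 1, 1, -1, -1, 1, 1, 1, 1, 1, 1, 1, 1, 1, 1, 1, -1, 3],
   [1, -1, -1, -1, -1, 1, -1, -1, -1, 1, 1, 1, -1, -1, -1, -1, -1, -1, -1, 1, 1, -1, 1, 3],
   [1, -1, -1, -1, -1, -1, 1, -1, 1, 1, 1, 1, -1, -1, -1, -1, 1, 1, 1, 1, 1, 1, -1, 3],
   [1, -1, 1, 1, 1, 1, -1, -1, -1, -1, -1, -1, -1, -1, -1, 1, -1, -1, -1, -1, 1, -1, 1, 3],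
   [2, -2, 0, 0, 0, 0, 0, 2, 0, 0, 0, 0, 2, 2, 2, 0, 0, 0, 0, 0, -2, 0, 0, 2],
   [1, -1, -1, -1, -1, -1, 1, 1, -1, 1, 1, 1, 1, 1, 1, -1, -1, -1, 1, 1, 1, -1, -1, 3],
   [2, -2, 0, 0, 0, 0, 0, -2, 0, 0, 0, 0, -2, -2, -2, 0, 0, 0, 0, 0, -2, 0, 0, 2],
   [1, -1, 1, 1, 1, 1, -1, 1, 1, -1, -1, -1, 1, 1, 1, 1, 1, 1, -1, -1, 1, 1, 1, 3],
   [2, -2, 0, 0, 0, 2, -2, 0, 0, 0, 0, 0, 0, 0, 0, 0, 0, 0, -2, 0, -2, 0, 2, 2],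
   [1, -1, -1, 1, 1, -1, 1, 1, 1, 1, 1, -1, 1, 1, 1, -1, 1, 1, 1, -1, 1, 1, -1, 3],
   [1, -1, 1, -1, -1, -1, 1, -1, -1, -1, -1, 1, -1, -1, -1, 1, -1, -1, 1, 1, 1, -1, -1, 3],
   [1, -1, -1, -1, -1, 1, -1, 1, 1, 1, -1, -1, -1, -1, -1, -1, 1, -1, -1, 1, -1, 1, -1, 3],
   [1, -1, 1, 1, 1, 1, 1, -1, -1, 1, 1, -1, 1, -1, 1, 1, -1, 1, 1, -1, 1, 1, 1, 3],
   [2, -2, 0, 0, 0, -2, 0, 0, 0, -2, 0, 2, 0, 2, 0, 0, 0, 0, 0, 0, 0, -2, 0, 2],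
   [1, -1, -1, 1, 1, -1, 1, -1, -1, 1, -1, 1, 1, 1, 1, -1, -1, 1, 1, -1, -1, -1, 1, 3],
   [2, -2, 0, 0, 0, 0, 0, 0, 2, -2, 0, 0, 0, 0, -2, 0, 0, 0, 0, 2, 0, 0, -2, 2],
   [1, -1, 1, -1, -1, 1, -1, 1, -1, 1, 1, -1, -1, -1, 1, 1, 1, -1, -1, -1, 1, 1, 1, 3],
   [1, -1, 1, -1, -1, -1, -1, 1, 1, 1, 1, 1, -1, 1, -1, 1, 1, -1, -1, 1, 1, -1, -1, 3],
   [1, -1, -1, 1, -1, 1, -1, -1, -1, 1, -1, -1, -1, -1, 1, -1, -1, -1, 1, -1, -1, 1, 1, 3],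
   [2, -2, 0, 0, 2, 0, 2, 0, 0, -2, 0, 0, 2, 0, 0, 0, 0, 2, 0, 0, 0, 0, 0, 2],
   [2, -2, 0, 0, 0, 0, 0, 0, -2, -2, 0, 0, 0, 0, 2, 0, 0, 0, 0, -2, 0, 0, 2, 2],
   [1, -1, -1, -1, 1, -1, 1, 1, 1, 1, -1, 1, 1, 1, -1, -1, 1, 1, -1, 1, -1, -1, -1, 3],
   [1, -1, 1, 1, -1, 1, -1, -1, 1, 1, 1, -1, -1, -1, -1, 1, -1, -1, 1, 1, 1, 1, -1, 3],
   [2, -2, 0, 0, 0, 2, 0, 0, 0, -2, 0, -2, 0, -2, 0, 0, 0, 0, 0, 0, 0, 2, 0, 2],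
   [1, -1, 1, -1, 1, -1, 1, 1, -1, 1, 1, 1, 1, 1, 1, 1, 1, 1, -1, -1, 1, -1, 1, 3],
   [1, -1, -1, 1, -1, -1, -1, -1, 1, 1, -1, 1, -1, 1, -1, -1, -1, -1, 1, 1, -1, -1, -1, 3],
   [1, -1, 1, 1, 1, -1, 1, -1, 1, 1, 1, 1, 1, 1, -1, 1, -1, 1, 1, 1, 1, -1, -1, 3],
   [2, -2, 0, 0, -2, 0, -2, 0, 0, -2, 0, 0, -2, 0, 0, 0, 0, -2, 0, 0, 0, 0, 0, 2],
   [1, -1, -1, -1, 1, 1, 1, 1, -1, 1, -1, -1, 1, -1, 1, -1, 1, 1, -1, -1, -1, 1, 1, 3]]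

/-- A piece: The 891 vectors. -/
def reps21 : List (List Int) :=
  [[2, -2, 0, 0, 0, 0, 0, -2, 0, 0, 2, 2, 0, 0, 0, 0, 0, 2, 0, 0, 0, 0, 2, 2],
   [1, -1, -1, 1, 1, -1, -1, 1, 1, -1, -1, -1, -1, 1, -1, -1, 1, -1, -1, -1, 1, -1, -1, 3],
   [1, -1, 1, -1, -1, 1, 1, 1, -1, 1, -1, -1, 1, -1, 1, 1, -1, -1, 1, 1, -1, 1, -1, 3],
   [2, -2, 0, 0, 0, 0, 0, 2, 0, 0, 2, -2, 0, 0, 0, 0, 0, -2, 0, 0, 0, 0, -2, 2],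
   [1, -1, 1, -1, -1, -1, 1, -1, -1, 1, -1, 1, -1, -1, 1, 1, 1, 1, 1, -1, -1, 1, 1, 3],
   [1, -1, -1, 1, 1, 1, -1, -1, 1, -1, -1, 1, 1, 1, -1, -1, -1, 1, -1, 1, 1, -1, 1, 3],
   [1, -1, -1, -1, -1, 1, 1, -1, -1, -1, -1, 1, 1, -1, 1, -1, -1, 1, 1, 1, 1, 1, 1, 3],
   [2, -2, 0, 0, 2, 0, 0, 0, 0, 0, 2, 0, 0, 0, -2, 0, 0, 0, -2, 0, 0, -2, 0, 2],
   [1, -1, 1, 1, -1, -1, -1, 1, 1, 1, -1, -1, -1, 1, 1, 1, 1, -1, 1, -1, -1, 1, -1, 3],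
   [1, -1, 1, 1, 1, 1, -1, 1, 1, 1, -1, -1, 1, 1, -1, 1, -1, -1, -1, 1, -1, -1, -1, 3],
   [2, -2, 0, 0, -2, 0, 0, 0, 0, 0, 2, 0, 0, 0, 2, 0, 0, 0, 2, 0, 0, 2, 0, 2],
   [1, -1, -1, -1, 1, -1, 1, -1, -1, -1, -1, 1, -1, -1, -1, -1, 1, 1, -1, -1, 1, -1, 1, 3],
   [1, -1, 1, 1, 1, -1, -1, -1, 1, 1, -1, 1, -1, 1, -1, 1, 1, 1, -1, -1, -1, -1, 1, 3],
   [1, -1, -1, 1, -1, 1, -1, 1, 1, -1, -1, -1, 1, 1, 1, -1, -1, -1, 1, 1, 1, 1, -1, 3],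
   [2, -2, 0, -2, 0, 0, 2, 0, -2, 0, 2, 0, 0, -2, 0, 0, 0, 0, 0, 0, 0, 0, 0, 2],
   [1, -1, -1, -1, -1, -1, 1, 1, -1, -1, -1, -1, -1, -1, 1, -1, 1, -1, 1, -1, 1, 1, -1, 3],
   [1, -1, 1, -1, 1, 1, 1, -1, -1, 1, -1, 1, 1, -1, -1, 1, -1, 1, -1, 1, -1, -1, 1, 3],
   [2, -2, 0, 2, 0, 0, -2, 0, 2, 0, 2, 0, 0, 2, 0, 0, 0, 0, 0, 0, 0, 0, 0, 2],
   [2, -2, 0, 2, 0, 0, 2, 0, 2, 0, -2, 0, 0, 2, 0, 0, 0, 0, 0, 0, 0, 0, 0, 2],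
   [1, -1, -1, -1, -1, 1, -1, 1, -1, -1, 1, 1, 1, -1, -1, 1, 1, -1, 1, 1, 1, 1, -1, 3],
   [1, -1, 1, -1, 1, -1, -1, -1, -1, 1, 1, -1, -1, -1, 1, -1, -1, 1, -1, -1, -1, -1, 1, 3],
   [1, -1, 1, -1, -1, -1, -1, 1, -1, 1, 1, 1, -1, -1, -1, -1, -1, -1, 1, -1, -1, 1, -1, 3],
   [2, -2, 0, 0, 0, 0, 0, -2, 0, 0, -2, -2, 0, 0, 0, 0, 0, 2, 0, 0, 0, 0, 2, 2],
   [1, -1, -1, 1, 1, 1, 1, 1, 1, -1, 1, 1, 1, 1, 1, 1, 1, -1, -1, 1, 1, -1, -1, 3],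
   [1, -1, -1, -1, 1, 1, -1, -1, -1, -1, 1, -1, 1, -1, 1, 1, 1, 1, -1, 1, 1, -1, 1, 3],
   [1, -1, 1, 1, 1, -1, 1, 1, 1, 1, 1, 1, -1, 1, 1, -1, -1, -1, -1, -1, -1, -1, -1, 3],
   [2, -2, 0, 0, -2, 0, 0, 0, 0, 0, -2, 0, 0, 0, -2, 0, 0, 0, 2, 0, 0, 2, 0, 2],
   [2, -2, 0, -2, 0, 0, -2, 0, -2, 0, -2, 0, 0, -2, 0, 0, 0, 0, 0, 0, 0, 0, 0, 2],
   [1, -1, 1, 1, 1, 1, 1, -1, 1, 1, 1, -1, 1, 1, 1, -1, 1, 1, -1, 1, -1, -1, 1, 3],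
   [1, -1, -1, 1, -1, -1, 1, 1, 1, -1, 1, 1, -1, 1, -1, 1, -1, -1, 1, -1, 1, 1, -1, 3],
   [1, -1, -1, 1, 1, -1, 1, -1, 1, -1, 1, -1, -1, 1, 1, 1, -1, 1, -1, -1, 1, -1, 1, 3],
   [2, -2, 0, 0, 0, 0, 0, 2, 0, 0, -2, 2, 0, 0, 0, 0, 0, -2, 0, 0, 0, 0, -2, 2],
   [1, -1, 1, -1, -1, 1, -1, -1, -1, 1, 1, -1, 1, -1, -1, -1, 1, 1, 1, 1, -1, 1, 1, 3]]

/-- A piece: The 891 vectors. -/
def reps22 : List (List Int) :=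
  [[1, -1, 1, 1, -1, 1, 1, 1, 1, 1, 1, 1, 1, 1, -1, -1, 1, -1, 1, 1, -1, 1, -1, 3],
   [1, -1, -1, -1, -1, -1, -1, -1, -1, -1, 1, -1, -1, -1, -1, 1, -1, 1, 1, -1, 1, 1, 1, 3],
   [2, -2, 0, 0, 2, 0, 0, 0, 0, 0, -2, 0, 0, 0, 2, 0, 0, 0, -2, 0, 0, -2, 0, 2],
   [2, -2, 0, 0, 0, 0, 0, -2, 0, 0, -2, -2, 0, 0, 0, 0, 0, -2, 0, 0, 0, 0, -2, 2],
   [1, -1, 1, 1, -1, 1, 1, 1, -1, -1, 1, 1, 1, -1, 1, 1, 1, 1, -1, 1, -1, 1, 1, 3],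
   [1, -1, -1, -1, 1, -1, -1, 1, 1, 1, 1, 1, -1, 1, -1, -1, -1, 1, 1, -1, 1, -1, 1, 3],
   [2, -2, 0, 0, 0, 0, 0, 2, 0, 0, -2, 2, 0, 0, 0, 0, 0, 2, 0, 0, 0, 0, 2, 2],
   [1, -1, -1, -1, 1, 1, -1, -1, 1, 1, 1, -1, 1, 1, -1, -1, 1, -1, 1, 1, 1, -1, -1, 3],
   [1, -1, 1, 1, -1, -1, 1, -1, -1, -1, 1, -1, -1, -1, 1, 1, -1, -1, -1, -1, -1, 1, -1, 3],
   [1, -1, 1, -1, 1, -1, -1, -1, 1, -1, 1, -1, -1, 1, -1, 1, -1, -1, 1, -1, -1, -1, -1, 3],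
   [2, -2, 0, 0, -2, 0, 0, 0, 0, 0, -2, 0, 0, 0, 2, 0, 0, 0, -2, 0, 0, 2, 0, 2],
   [1, -1, -1, 1, 1, 1, 1, 1, -1, 1, 1, 1, 1, -1, -1, -1, 1, 1, 1, 1, 1, -1, 1, 3],
   [1, -1, -1, 1, -1, -1, 1, 1, -1, 1, 1, 1, -1, -1, 1, -1, -1, 1, -1, -1, 1, 1, 1, 3],
   [2, -2, 0, 0, 2, 0, 0, 0, 0, 0, -2, 0, 0, 0, -2, 0, 0, 0, 2, 0, 0, -2, 0, 2],
   [1, -1, 1, -1, -1, 1, -1, -1, 1, -1, 1, -1, 1, 1, 1, 1, 1, -1, -1, 1, -1, 1, -1, 3],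
   [1, -1, -1, 1, -1, 1, 1, -1, -1, 1, 1, -1, 1, -1, 1, -1, 1, -1, -1, 1, 1, 1, -1, 3],
   [1, -1, 1, 1, 1, -1, 1, 1, -1, -1, 1, 1, -1, -1, -1, 1, -1, 1, 1, -1, -1, -1, 1, 3],
   [2, -2, 0, -2, 0, 0, -2, 0, 2, 0, -2, 0, 0, 2, 0, 0, 0, 0, 0, 0, 0, 0, 0, 2],
   [1, -1, 1, -1, 1, 1, -1, 1, 1, -1, 1, 1, 1, 1, -1, 1, 1, 1, 1, 1, -1, -1, 1, 3],
   [1, -1, -1, -1, -1, -1, -1, -1, 1, 1, 1, -1, -1, 1, 1, -1, -1, -1, -1, -1, 1, 1, -1, 3],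
   [2, -2, 0, 2, 0, 0, 2, 0, -2, 0, -2, 0, 0, -2, 0, 0, 0, 0, 0, 0, 0, 0, 0, 2],
   [1, -1, 1, -1, -1, 1, 1, 1, 1, 1, 1, 1, -1, -1, -1, -1, 1, 1, -1, -1, -1, -1, 1, 3],
   [1, -1, -1, 1, 1, -1, -1, -1, 1, 1, -1, -1, 1, 1, -1, 1, -1, -1, 1, -1, 1, 1, 1, 3],
   [2, -2, 0, 0, 0, 0, 0, 0, -2, -2, 0, 0, 0, 0, 2, 0, 0, 0, 0, 2, 0, 0, -2, 2],
   [1, -1, 1, 1, 1, -1, -1, -1, -1, 1, 1, -1, 1, 1, 1, -1, -1, -1, 1, 1, -1, 1, -1, 3],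
   [2, -2, 0, 0, -2, 0, 2, 0, 0, -2, 0, 0, -2, 0, 0, 0, 0, 2, 0, 0, 0, 0, 0, 2],
   [1, -1, -1, -1, 1, 1, -1, 1, 1, 1, -1, 1, 1, -1, -1, 1, 1, -1, -1, -1, 1, -1, 1, 3],
   [1, -1, -1, -1, -1, 1, 1, 1, -1, 1, -1, 1, -1, -1, 1, 1, 1, 1, -1, 1, 1, -1, -1, 3],
   [1, -1, 1, 1, 1, 1, -1, -1, 1, 1, 1, 1, 1, -1, -1, -1, -1, -1, 1, -1, -1, -1, 1, 3],
   [2, -2, 0, 0, 0, -2, 0, 0, 0, -2, 0, -2, 0, 2, 0, 0, 0, 0, 0, 0, 0, 2, 0, 2],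
   [2, -2, 0, 0, 2, 0, -2, 0, 0, -2, 0, 0, 2, 0, 0, 0, 0, -2, 0, 0, 0, 0, 0, 2],
   [1, -1, 1, -1, -1, -1, 1, 1, -1, 1, 1, -1, -1, 1, 1, -1, 1, 1, -1, 1, -1, 1, -1, 3],
   [1, -1, -1, 1, -1, 1, 1, -1, 1, 1, -1, 1, -1, -1, -1, 1, -1, 1, 1, -1, 1, -1, 1, 3]]

/-- A piece: The 891 vectors. -/
def reps23 : List (List Int) :=
  [[2, -2, 0, 0, 0, 0, 0, 0, 2, -2, 0, 0, 0, 0, -2, 0, 0, 0, 0, -2, 0, 0, 2, 2],
   [1, -1, -1, -1, 1, -1, -1, 1, -1, 1, -1, -1, 1, 1, 1, 1, 1, -1, -1, 1, 1, 1, -1, 3],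
   [1, -1, 1, 1, -1, 1, 1, -1, -1, 1, 1, 1, -1, -1, 1, -1, -1, 1, 1, 1, -1, -1, -1, 3],
   [1, -1, -1, 1, -1, -1, 1, -1, -1, 1, -1, -1, -1, 1, 1, 1, -1, 1, 1, 1, 1, 1, -1, 3],
   [2, -2, 0, 0, 0, 2, 0, 0, 0, -2, 0, 2, 0, -2, 0, 0, 0, 0, 0, 0, 0, -2, 0, 2],
   [1, -1, 1, -1, 1, -1, -1, 1, 1, 1, 1, -1, 1, 1, -1, -1, 1, -1, -1, -1, -1, 1, 1, 3],
   [1, -1, -1, 1, 1, -1, -1, 1, -1, -1, 1, 1, 1, 1, 1, 1, -1, 1, 1, 1, 1, 1, 1, 3],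
   [2, -2, 0, -2, 0, 0, 0, 0, 0, 0, 0, 0, -2, 0, 0, -2, 0, 0, 0, 0, 0, -2, -2, 2],
   [1, -1, 1, 1, -1, 1, 1, -1, 1, 1, -1, -1, 1, -1, -1, 1, 1, -1, -1, -1, -1, 1, 1, 3],
   [1, -1, -1, -1, -1, 1, 1, -1, 1, -1, 1, -1, -1, -1, -1, 1, 1, -1, -1, -1, 1, -1, -1, 3],
   [1, -1, 1, 1, 1, -1, -1, 1, -1, 1, -1, 1, 1, -1, 1, 1, -1, -1, -1, -1, -1, 1, 1, 3],
   [2, -2, 0, 0, 0, 0, 0, 0, 0, 0, 0, 0, 0, 2, 0, -2, 0, 2, 2, 2, 0, 0, 0, 2],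
   [2, -2, 0, 2, 0, 0, 0, 0, 0, 0, 0, 0, 2, 0, 0, -2, 0, 0, 0, 0, 0, 2, 2, 2],
   [1, -1, -1, -1, 1, -1, 1, 1, -1, -1, 1, -1, -1, 1, -1, 1, 1, 1, 1, 1, 1, -1, -1, 3],
   [1, -1, 1, -1, -1, 1, -1, -1, 1, 1, -1, 1, -1, -1, 1, 1, -1, -1, -1, -1, -1, -1, -1, 3],
   [1, -1, 1, -1, -1, 1, 1, -1, 1, 1, -1, -1, -1, 1, -1, 1, 1, 1, 1, 1, -1, -1, -1, 3],
   [1, -1, -1, 1, -1, 1, -1, -1, 1, -1, 1, 1, 1, -1, 1, 1, -1, -1, -1, -1, 1, 1, 1, 3],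
   [2, -2, 0, 0, 2, -2, 0, 2, -2, 0, 0, 0, 0, 0, 0, -2, 0, 0, 0, 0, 0, 0, 0, 2],
   [1, -1, 1, -1, 1, -1, -1, 1, -1, 1, -1, 1, -1, 1, 1, 1, -1, 1, 1, 1, -1, -1, -1, 3],
   [2, -2, 0, 0, -2, 2, 0, -2, 2, 0, 0, 0, 0, 0, 0, -2, 0, 0, 0, 0, 0, 0, 0, 2],
   [1, -1, -1, 1, 1, -1, 1, 1, -1, -1, 1, -1, 1, -1, -1, 1, 1, -1, -1, -1, 1, 1, 1, 3],
   [2, -2, 0, 0, 0, 0, 0, 0, 0, 0, 0, 0, 0, -2, 0, -2, 0, -2, -2, -2, 0, 0, 0, 2],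
   [1, -1, 1, 1, 1, -1, 1, 1, -1, 1, -1, -1, 1, 1, -1, 1, 1, 1, 1, 1, -1, 1, 1, 3],
   [1, -1, -1, -1, -1, 1, -1, -1, 1, -1, 1, 1, -1, 1, 1, 1, -1, 1, 1, 1, 1, -1, -1, 3],
   [1, -1, -1, 1, 1, 1, -1, -1, -1, -1, 1, -1, -1, 1, 1, 1, 1, -1, 1, -1, 1, 1, -1, 3],
   [1, -1, 1, -1, -1, -1, 1, 1, -1, -1, -1, 1, 1, -1, 1, -1, -1, 1, -1, -1, -1, -1, -1, 3],
   [2, -2, 0, 0, 0, 0, 0, 0, 2, 2, 0, 0, 0, 0, -2, 0, 0, 0, 0, 2, 0, 0, 2, 2],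
   [1, -1, -1, -1, -1, -1, 1, 1, 1, -1, 1, 1, 1, -1, -1, 1, -1, 1, -1, 1, 1, -1, 1, 3],
   [2, -2, 0, 0, 2, 0, -2, 0, 0, 2, 0, 0, -2, 0, 0, 0, 0, -2, 0, 0, 0, 0, 0, 2],
   [1, -1, 1, 1, -1, 1, 1, -1, -1, -1, -1, -1, 1, 1, 1, -1, 1, 1, 1, -1, -1, 1, -1, 3],
   [2, -2, 0, 0, -2, 0, 2, 0, 0, 2, 0, 0, 2, 0, 0, 0, 0, 2, 0, 0, 0, 0, 0, 2],
   [1, -1, -1, 1, 1, -1, -1, -1, 1, -1, 1, 1, -1, -1, -1, 1, 1, -1, 1, 1, 1, -1, 1, 3],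
   [1, -1, 1, -1, 1, 1, -1, 1, -1, -1, -1, -1, -1, 1, 1, -1, -1, -1, -1, -1, -1, 1, -1, 3]]

/-- A piece: The 891 vectors. -/
def reps24 : List (List Int) :=
  [[1, -1, 1, 1, 1, 1, -1, -1, 1, -1, -1, -1, -1, 1, -1, -1, 1, -1, 1, 1, -1, 1, 1, 3],
   [1, -1, -1, -1, -1, 1, 1, 1, -1, -1, 1, -1, 1, 1, 1, 1, -1, 1, -1, -1, 1, 1, -1, 3],
   [2, -2, 0, 0, 0, -2, 0, 0, 0, 2, 0, 2, 0, -2, 0, 0, 0, 0, 0, 0, 0, -2, 0, 2],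
   [2, -2, 0, 0, 0, 0, 0, 0, -2, 2, 0, 0, 0, 0, 2, 0, 0, 0, 0, -2, 0, 0, -2, 2],
   [1, -1, 1, 1, -1, -1, 1, -1, 1, -1, -1, 1, 1, -1, -1, -1, 1, 1, 1, 1, -1, -1, 1, 3],
   [1, -1, -1, -1, 1, 1, -1, 1, 1, -1, 1, -1, -1, 1, -1, 1, -1, -1, -1, 1, 1, 1, 1, 3],
   [1, -1, 1, -1, 1, -1, -1, 1, 1, -1, -1, 1, -1, -1, -1, -1, -1, -1, -1, 1, -1, -1, 1, 3],
   [2, -2, 0, 0, 0, 2, 0, 0, 0, 2, 0, -2, 0, 2, 0, 0, 0, 0, 0, 0, 0, 2, 0, 2],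
   [1, -1, -1, 1, -1, -1, 1, -1, -1, -1, 1, 1, 1, -1, 1, 1, 1, 1, 1, -1, 1, -1, -1, 3],
   [2, -2, 0, 0, -2, 0, 0, 0, 0, 0, -2, 0, 0, 0, -2, 0, 0, 0, -2, 0, 0, -2, 0, 2],
   [1, -1, -1, 1, 1, 1, -1, 1, 1, 1, 1, -1, 1, -1, 1, 1, 1, -1, 1, 1, -1, 1, 1, 3],
   [1, -1, 1, -1, 1, -1, 1, -1, -1, -1, 1, 1, -1, 1, 1, -1, -1, 1, 1, -1, 1, 1, -1, 3],
   [2, -2, 0, 0, 2, 0, 0, 0, 0, 0, -2, 0, 0, 0, 2, 0, 0, 0, 2, 0, 0, 2, 0, 2],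
   [1, -1, 1, -1, -1, 1, 1, -1, -1, -1, 1, 1, 1, 1, -1, -1, 1, 1, -1, 1, 1, -1, -1, 3],
   [1, -1, -1, 1, -1, -1, -1, 1, 1, 1, 1, -1, -1, -1, -1, 1, -1, -1, -1, -1, -1, -1, 1, 3],
   [1, -1, 1, 1, 1, -1, -1, 1, 1, -1, 1, -1, -1, -1, 1, -1, -1, -1, 1, -1, 1, 1, 1, 3],
   [2, -2, 0, -2, 0, 0, 2, 0, -2, 0, -2, 0, 0, 2, 0, 0, 0, 0, 0, 0, 0, 0, 0, 2],
   [1, -1, -1, 1, -1, 1, -1, -1, 1, 1, 1, 1, 1, -1, -1, 1, 1, 1, -1, 1, -1, -1, -1, 3],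
   [1, -1, -1, -1, -1, -1, 1, -1, -1, 1, 1, 1, -1, 1, -1, 1, -1, 1, -1, -1, -1, -1, -1, 3],
   [2, -2, 0, 2, 0, 0, -2, 0, 2, 0, -2, 0, 0, -2, 0, 0, 0, 0, 0, 0, 0, 0, 0, 2],
   [1, -1, 1, -1, 1, 1, 1, 1, -1, -1, 1, -1, 1, 1, 1, -1, 1, -1, 1, 1, 1, 1, 1, 3],
   [1, -1, 1, 1, -1, 1, -1, 1, 1, -1, 1, -1, 1, -1, -1, -1, 1, -1, -1, 1, 1, -1, 1, 3],
   [1, -1, -1, -1, 1, -1, 1, 1, -1, 1, 1, -1, -1, 1, 1, 1, -1, -1, 1, -1, -1, 1, 1, 3],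
   [2, -2, 0, 0, 0, 0, 0, -2, 0, 0, -2, 2, 0, 0, 0, 0, 0, 2, 0, 0, 0, 0, -2, 2],
   [1, -1, -1, -1, 1, 1, 1, -1, -1, 1, 1, 1, 1, 1, 1, 1, 1, 1, 1, 1, -1, 1, -1, 3],
   [1, -1, 1, 1, -1, -1, -1, -1, 1, -1, 1, 1, -1, -1, -1, -1, -1, 1, -1, -1, 1, -1, -1, 3],
   [2, -2, 0, 0, 0, 0, 0, 2, 0, 0, -2, -2, 0, 0, 0, 0, 0, -2, 0, 0, 0, 0, 2, 2],
   [1, -1, 1, -1, 1, -1, 1, 1, 1, 1, 1, 1, 1, -1, 1, -1, -1, 1, 1, 1, -1, 1, 1, 3],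
   [2, -2, 0, 0, 0, 0, 0, -2, 0, 0, 0, 0, -2, 2, -2, 0, 0, 0, 0, 0, 2, 0, 0, 2],
   [1, -1, -1, 1, -1, 1, -1, 1, -1, -1, -1, -1, 1, -1, 1, 1, 1, -1, -1, -1, -1, -1, -1, 3],
   [1, -1, 1, 1, -1, 1, -1, -1, -1, 1, 1, -1, -1, 1, -1, -1, 1, -1, -1, -1, -1, -1, -1, 3],
   [1, -1, -1, 1, -1, -1, 1, 1, 1, -1, -1, -1, 1, -1, 1, 1, -1, 1, 1, -1, -1, 1, 1, 3],
   [2, -2, 0, -2, 2, 0, 0, 0, 0, 0, 0, 2, 0, 0, 0, 0, 0, 0, 0, 2, 2, 0, 0, 2]]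

/-- A piece: The 891 vectors. -/
def reps25 : List (List Int) :=
  [[1, -1, -1, -1, 1, 1, -1, -1, -1, -1, -1, 1, -1, 1, -1, 1, 1, -1, -1, 1, -1, -1, -1, 3],
   [1, -1, 1, 1, -1, 1, -1, 1, 1, 1, 1, -1, 1, -1, 1, -1, -1, 1, -1, -1, -1, 1, -1, 3],
   [2, -2, 0, 0, 0, -2, 2, 0, 0, 0, 0, 0, 0, 0, 0, 0, 0, 0, 2, 0, 2, 0, 2, 2],
   [2, -2, 0, 0, 0, 0, 0, 2, 0, 0, 0, 0, 2, -2, 2, 0, 0, 0, 0, 0, 2, 0, 0, 2],
   [1, -1, 1, -1, 1, -1, 1, -1, -1, 1, 1, 1, -1, 1, -1, -1, 1, -1, 1, 1, -1, -1, 1, 3],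
   [1, -1, -1, 1, -1, 1, -1, -1, 1, -1, -1, -1, -1, 1, -1, 1, -1, 1, -1, -1, -1, 1, -1, 3],
   [1, -1, -1, -1, 1, -1, 1, -1, 1, -1, -1, 1, -1, 1, -1, 1, -1, 1, 1, 1, -1, 1, 1, 3],
   [2, -2, 0, 0, 0, 2, -2, 0, 0, 0, 0, 0, 0, 0, 0, 0, 0, 0, -2, 0, 2, 0, -2, 2],
   [1, -1, 1, 1, -1, -1, 1, 1, -1, 1, 1, -1, 1, -1, 1, -1, 1, -1, 1, -1, -1, -1, 1, 3],
   [2, -2, 0, 2, -2, 0, 0, 0, 0, 0, 0, -2, 0, 0, 0, 0, 0, 0, 0, -2, 2, 0, 0, 2],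
   [1, -1, -1, -1, 1, -1, 1, 1, -1, -1, -1, 1, 1, -1, 1, 1, 1, -1, 1, 1, -1, -1, 1, 3],
   [1, -1, 1, -1, 1, 1, -1, -1, 1, 1, 1, 1, -1, 1, -1, -1, -1, 1, -1, 1, -1, 1, -1, 3],
   [1, -1, 1, -1, -1, -1, 1, -1, 1, 1, 1, -1, 1, -1, -1, -1, -1, -1, -1, 1, -1, -1, -1, 3],
   [2, -2, 0, 2, 0, 0, 0, 0, 0, 0, 0, 0, -2, 0, 0, 2, 0, 0, 0, 0, 0, 2, 2, 2],
   [1, -1, -1, -1, 1, 1, -1, 1, -1, -1, -1, 1, 1, 1, 1, -1, 1, 1, 1, -1, 1, -1, -1, 3],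
   [1, -1, 1, 1, 1, 1, -1, 1, -1, 1, 1, 1, -1, 1, 1, -1, 1, 1, 1, -1, -1, 1, 1, 3],
   [1, -1, -1, -1, -1, -1, 1, -1, 1, -1, -1, -1, 1, 1, -1, -1, -1, 1, 1, -1, 1, -1, -1, 3],
   [2, -2, 0, 0, 0, 0, 0, 0, 0, 0, 0, 0, 0, -2, 0, 2, 0, -2, -2, 2, 0, 0, 0, 2],
   [2, -2, 0, -2, 0, 0, 0, 0, 0, 0, 0, 0, 2, 0, 0, 2, 0, 0, 0, 0, 0, -2, -2, 2],
   [1, -1, 1, 1, -1, -1, -1, -1, 1, 1, 1, 1, -1, -1, 1, -1, 1, -1, -1, 1, -1, 1, 1, 3],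
   [1, -1, -1, 1, 1, 1, 1, 1, -1, -1, -1, -1, -1, 1, -1, -1, -1, 1, 1, -1, 1, 1, 1, 3],
   [1, -1, -1, 1, 1, 1, -1, 1, -1, -1, -1, 1, -1, -1, 1, -1, 1, -1, -1, 1, 1, 1, 1, 3],
   [1, -1, 1, -1, 1, 1, 1, 1, -1, 1, 1, -1, 1, 1, -1, -1, -1, 1, 1, -1, -1, -1, -1, 3],
   [2, -2, 0, 0, -2, -2, 0, -2, 2, 0, 0, 0, 0, 0, 0, 2, 0, 0, 0, 0, 0, 0, 0, 2],
   [2, -2, 0, 0, 0, 0, 0, 0, 0, 0, 0, 0, 0, 2, 0, 2, 0, 2, 2, -2, 0, 0, 0, 2],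
   [1, -1, -1, -1, -1, -1, -1, -1, 1, -1, -1, 1, 1, -1, 1, -1, 1, -1, -1, 1, 1, -1, -1, 3],
   [1, -1, 1, 1, 1, 1, 1, 1, -1, 1, 1, -1, -1, -1, -1, -1, -1, -1, -1, 1, -1, 1, 1, 3],
   [1, -1, -1, 1, -1, -1, 1, -1, 1, -1, -1, -1, -1, -1, -1, -1, -1, -1, -1, 1, 1, 1, 1, 3],
   [2, -2, 0, 0, 2, 2, 0, 2, -2, 0, 0, 0, 0, 0, 0, 2, 0, 0, 0, 0, 0, 0, 0, 2],
   [1, -1, 1, -1, -1, -1, -1, -1, 1, 1, 1, 1, 1, 1, 1, -1, 1, 1, 1, -1, -1, -1, -1, 3],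
   [1, -1, -1, -1, 1, 1, 1, 1, 1, -1, 1, 1, -1, -1, 1, 1, 1, 1, 1, -1, 1, 1, 1, 3],
   [1, -1, 1, -1, 1, -1, -1, -1, -1, 1, -1, 1, 1, 1, -1, -1, -1, -1, -1, -1, 1, -1, -1, 3],
   [2, -2, 0, 2, -2, 0, 0, 0, 0, 0, 0, -2, 0, 0, 0, 0, 0, 0, 0, 2, -2, 0, 0, 2]]

/-- A piece: The 891 vectors. -/
def reps26 : List (List Int) :=
  [[1, -1, -1, 1, -1, -1, -1, -1, -1, -1, 1, -1, 1, 1, -1, 1, -1, -1, -1, 1, 1, -1, -1, 3],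
   [2, -2, 0, 0, 0, 0, 0, 2, 0, 0, 0, 0, -2, -2, 2, 0, 0, 0, 0, 0, -2, 0, 0, 2],
   [1, -1, 1, -1, 1, 1, 1, -1, 1, 1, -1, 1, 1, 1, -1, -1, 1, 1, 1, -1, 1, 1, 1, 3],
   [1, -1, 1, 1, -1, 1, 1, 1, 1, 1, -1, -1, -1, -1, 1, -1, 1, 1, 1, 1, 1, 1, 1, 3],
   [1, -1, -1, -1, 1, 1, 1, -1, -1, -1, 1, 1, 1, 1, -1, 1, -1, -1, 1, -1, 1, -1, 1, 3],
   [2, -2, 0, 0, 0, -2, -2, 0, 0, 0, 0, 0, 0, 0, 0, 0, 0, 0, -2, 0, -2, 0, -2, 2],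
   [2, -2, 0, 0, 0, 0, 0, -2, 0, 0, 0, 0, 2, 2, -2, 0, 0, 0, 0, 0, -2, 0, 0, 2],
   [1, -1, -1, 1, -1, -1, -1, 1, 1, -1, 1, -1, -1, -1, 1, 1, 1, 1, -1, 1, 1, 1, -1, 3],
   [1, -1, 1, -1, 1, 1, 1, 1, -1, 1, -1, 1, -1, -1, 1, -1, -1, -1, 1, -1, 1, -1, 1, 3],
   [1, -1, 1, 1, -1, -1, -1, 1, -1, 1, -1, -1, -1, -1, 1, -1, -1, -1, -1, 1, 1, -1, -1, 3],
   [2, -2, 0, 0, 0, 2, 2, 0, 0, 0, 0, 0, 0, 0, 0, 0, 0, 0, 2, 0, -2, 0, 2, 2],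
   [1, -1, -1, -1, 1, -1, -1, -1, 1, -1, 1, 1, 1, 1, -1, 1, 1, 1, -1, -1, 1, 1, -1, 3],
   [2, -2, 0, -2, 2, 0, 0, 0, 0, 0, 0, 2, 0, 0, 0, 0, 0, 0, 0, -2, -2, 0, 0, 2],
   [1, -1, 1, 1, -1, -1, -1, -1, 1, 1, -1, -1, 1, 1, -1, -1, 1, 1, -1, 1, 1, 1, -1, 3],
   [1, -1, -1, 1, -1, 1, 1, 1, -1, -1, 1, -1, -1, -1, 1, 1, -1, -1, 1, 1, 1, -1, 1, 3],
   [2, -2, 0, 2, 0, 0, -2, 0, -2, 0, -2, 0, 0, 2, 0, 0, 0, 0, 0, 0, 0, 0, 0, 2],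
   [1, -1, -1, -1, -1, 1, 1, 1, 1, -1, 1, -1, 1, -1, 1, -1, 1, 1, 1, 1, -1, -1, -1, 3],
   [1, -1, 1, -1, 1, -1, 1, -1, 1, 1, 1, 1, -1, -1, -1, 1, -1, -1, -1, -1, 1, 1, 1, 3],
   [2, -2, 0, -2, 0, 0, 2, 0, 2, 0, -2, 0, 0, -2, 0, 0, 0, 0, 0, 0, 0, 0, 0, 2],
   [1, -1, 1, 1, 1, 1, -1, -1, -1, 1, 1, 1, 1, 1, -1, 1, 1, -1, -1, 1, 1, 1, 1, 3],
   [1, -1, -1, 1, -1, -1, -1, 1, -1, -1, 1, -1, -1, 1, 1, -1, -1, 1, 1, -1, -1, -1, -1, 3],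
   [1, -1, -1, 1, 1, -1, -1, -1, -1, -1, 1, 1, -1, 1, -1, -1, -1, -1, -1, -1, -1, 1, 1, 3],
   [2, -2, 0, 0, 0, 0, 0, 2, 0, 0, -2, -2, 0, 0, 0, 0, 0, 2, 0, 0, 0, 0, -2, 2],
   [1, -1, 1, -1, -1, 1, 1, -1, 1, 1, 1, 1, 1, -1, 1, 1, 1, -1, 1, 1, 1, -1, 1, 3],
   [1, -1, 1, -1, -1, -1, 1, 1, 1, 1, 1, -1, -1, -1, 1, 1, -1, 1, 1, -1, 1, -1, -1, 3],
   [2, -2, 0, 0, 0, 0, 0, -2, 0, 0, -2, 2, 0, 0, 0, 0, 0, -2, 0, 0, 0, 0, 2, 2],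
   [1, -1, -1, 1, 1, 1, -1, 1, -1, -1, 1, -1, 1, 1, -1, -1, 1, 1, -1, 1, -1, 1, -1, 3],
   [1, -1, -1, -1, 1, 1, 1, -1, 1, -1, 1, 1, 1, -1, -1, -1, 1, -1, -1, 1, -1, 1, 1, 3],
   [1, -1, 1, 1, 1, -1, -1, 1, -1, 1, 1, -1, -1, 1, -1, 1, -1, 1, -1, -1, 1, 1, -1, 3],
   [2, -2, 0, 0, -2, 0, 0, 0, 0, 0, -2, 0, 0, 0, 2, 0, 0, 0, 2, 0, 0, -2, 0, 2],
   [1, -1, 1, 1, -1, 1, -1, 1, -1, 1, 1, -1, 1, 1, 1, 1, 1, 1, 1, 1, 1, -1, -1, 3],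
   [1, -1, -1, -1, -1, -1, 1, -1, 1, -1, 1, 1, -1, -1, 1, -1, -1, -1, 1, -1, -1, -1, 1, 3],
   [2, -2, 0, 0, 2, 0, 0, 0, 0, 0, -2, 0, 0, 0, -2, 0, 0, 0, -2, 0, 0, 2, 0, 2]]

/-- The 891 vectors. -/
def reps : List (List (List Int)) :=
  [reps0, reps1, reps2, reps3, reps4, reps5, reps6, reps7, reps8, reps9, reps10, reps11, reps12, reps13, reps14, reps15, reps16, reps17, reps18, reps19, reps20, reps21, reps22, reps23, reps24, reps25, reps26]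

/-- A piece: The totally isotropic planes in echelon form. -/
def planes0 : List (Nat × Nat × Nat × (Nat × Nat) × (Nat × Nat) × (Nat × Nat)) :=
  [(0, 2, 4, (3, 0), (12, 0), (48, 0)),
   (0, 2, 4, (1, 2), (12, 0), (48, 0)),
   (0, 2, 4, (3, 2), (12, 0), (48, 0)),
   (0, 2, 4, (3, 0), (4, 8), (48, 0)),
   (0, 2, 4, (1, 2), (4, 8), (48, 0)),
   (0, 2, 4, (3, 2), (4, 8), (48, 0)),
   (0, 2, 4, (3, 0), (12, 8), (48, 0)),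
   (0, 2, 4, (1, 2), (12, 8), (48, 0)),
   (0, 2, 4, (3, 2), (12, 8), (48, 0)),
   (0, 1, 4, (5, 0), (10, 0), (48, 0)),
   (0, 1, 4, (1, 4), (10, 0), (48, 0)),
   (0, 1, 4, (5, 4), (10, 0), (48, 0)),
   (0, 1, 4, (5, 0), (2, 8), (48, 0)),
   (0, 1, 4, (1, 4), (2, 8), (48, 0)),
   (0, 1, 4, (5, 4), (2, 8), (48, 0)),
   (0, 1, 4, (5, 0), (10, 8), (48, 0)),
   (0, 1, 4, (1, 4), (10, 8), (48, 0)),
   (0, 1, 4, (5, 4), (10, 8), (48, 0)),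
   (0, 1, 4, (9, 0), (6, 0), (48, 0)),
   (0, 1, 4, (1, 8), (6, 0), (48, 0)),
   (0, 1, 4, (9, 8), (6, 0), (48, 0)),
   (0, 1, 4, (9, 0), (2, 4), (48, 0)),
   (0, 1, 4, (1, 8), (2, 4), (48, 0)),
   (0, 1, 4, (9, 8), (2, 4), (48, 0)),
   (0, 1, 4, (9, 0), (6, 4), (48, 0)),
   (0, 1, 4, (1, 8), (6, 4), (48, 0)),
   (0, 1, 4, (9, 8), (6, 4), (48, 0)),
   (0, 2, 4, (3, 0), (12, 0), (16, 32)),
   (0, 2, 4, (1, 2), (12, 0), (16, 32)),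
   (0, 2, 4, (3, 2), (12, 0), (16, 32)),
   (0, 2, 4, (3, 0), (4, 8), (16, 32)),
   (0, 2, 4, (1, 2), (4, 8), (16, 32)),
   (0, 2, 4, (3, 2), (4, 8), (16, 32))]

/-- A piece: The totally isotropic planes in echelon form. -/
def planes1 : List (Nat × Nat × Nat × (Nat × Nat) × (Nat × Nat) × (Nat × Nat)) :=
  [(0, 2, 4, (3, 0), (12, 8), (16, 32)),
   (0, 2, 4, (1, 2), (12, 8), (16, 32)),
   (0, 2, 4, (3, 2), (12, 8), (16, 32)),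
   (0, 1, 4, (5, 0), (10, 0), (16, 32)),
   (0, 1, 4, (1, 4), (10, 0), (16, 32)),
   (0, 1, 4, (5, 4), (10, 0), (16, 32)),
   (0, 1, 4, (5, 0), (2, 8), (16, 32)),
   (0, 1, 4, (1, 4), (2, 8), (16, 32)),
   (0, 1, 4, (5, 4), (2, 8), (16, 32)),
   (0, 1, 4, (5, 0), (10, 8), (16, 32)),
   (0, 1, 4, (1, 4), (10, 8), (16, 32)),
   (0, 1, 4, (5, 4), (10, 8), (16, 32)),
   (0, 1, 4, (9, 0), (6, 0), (16, 32)),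
   (0, 1, 4, (1, 8), (6, 0), (16, 32)),
   (0, 1, 4, (9, 8), (6, 0), (16, 32)),
   (0, 1, 4, (9, 0), (2, 4), (16, 32)),
   (0, 1, 4, (1, 8), (2, 4), (16, 32)),
   (0, 1, 4, (9, 8), (2, 4), (16, 32)),
   (0, 1, 4, (9, 0), (6, 4), (16, 32)),
   (0, 1, 4, (1, 8), (6, 4), (16, 32)),
   (0, 1, 4, (9, 8), (6, 4), (16, 32)),
   (0, 2, 4, (3, 0), (12, 0), (48, 32)),
   (0, 2, 4, (1, 2), (12, 0), (48, 32)),
   (0, 2, 4, (3, 2), (12, 0), (48, 32)),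
   (0, 2, 4, (3, 0), (4, 8), (48, 32)),
   (0, 2, 4, (1, 2), (4, 8), (48, 32)),
   (0, 2, 4, (3, 2), (4, 8), (48, 32)),
   (0, 2, 4, (3, 0), (12, 8), (48, 32)),
   (0, 2, 4, (1, 2), (12, 8), (48, 32)),
   (0, 2, 4, (3, 2), (12, 8), (48, 32)),
   (0, 1, 4, (5, 0), (10, 0), (48, 32)),
   (0, 1, 4, (1, 4), (10, 0), (48, 32)),
   (0, 1, 4, (5, 4), (10, 0), (48, 32))]

/-- A piece: The totally isotropic planes in echelon form. -/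
def planes2 : List (Nat × Nat × Nat × (Nat × Nat) × (Nat × Nat) × (Nat × Nat)) :=
  [(0, 1, 4, (5, 0), (2, 8), (48, 32)),
   (0, 1, 4, (1, 4), (2, 8), (48, 32)),
   (0, 1, 4, (5, 4), (2, 8), (48, 32)),
   (0, 1, 4, (5, 0), (10, 8), (48, 32)),
   (0, 1, 4, (1, 4), (10, 8), (48, 32)),
   (0, 1, 4, (5, 4), (10, 8), (48, 32)),
   (0, 1, 4, (9, 0), (6, 0), (48, 32)),
   (0, 1, 4, (1, 8), (6, 0), (48, 32)),
   (0, 1, 4, (9, 8), (6, 0), (48, 32)),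
   (0, 1, 4, (9, 0), (2, 4), (48, 32)),
   (0, 1, 4, (1, 8), (2, 4), (48, 32)),
   (0, 1, 4, (9, 8), (2, 4), (48, 32)),
   (0, 1, 4, (9, 0), (6, 4), (48, 32)),
   (0, 1, 4, (1, 8), (6, 4), (48, 32)),
   (0, 1, 4, (9, 8), (6, 4), (48, 32)),
   (0, 2, 3, (3, 0), (20, 0), (40, 0)),
   (0, 2, 3, (1, 2), (20, 0), (40, 0)),
   (0, 2, 3, (3, 2), (20, 0), (40, 0)),
   (0, 2, 3, (3, 0), (4, 16), (40, 0)),
   (0, 2, 3, (1, 2), (4, 16), (40, 0)),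
   (0, 2, 3, (3, 2), (4, 16), (40, 0)),
   (0, 2, 3, (3, 0), (20, 16), (40, 0)),
   (0, 2, 3, (1, 2), (20, 16), (40, 0)),
   (0, 2, 3, (3, 2), (20, 16), (40, 0)),
   (0, 1, 3, (5, 0), (18, 0), (40, 0)),
   (0, 1, 3, (1, 4), (18, 0), (40, 0)),
   (0, 1, 3, (5, 4), (18, 0), (40, 0)),
   (0, 1, 3, (5, 0), (2, 16), (40, 0)),
   (0, 1, 3, (1, 4), (2, 16), (40, 0)),
   (0, 1, 3, (5, 4), (2, 16), (40, 0)),
   (0, 1, 3, (5, 0), (18, 16), (40, 0)),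
   (0, 1, 3, (1, 4), (18, 16), (40, 0)),
   (0, 1, 3, (5, 4), (18, 16), (40, 0))]

/-- A piece: The totally isotropic planes in echelon form. -/
def planes3 : List (Nat × Nat × Nat × (Nat × Nat) × (Nat × Nat) × (Nat × Nat)) :=
  [(0, 1, 3, (17, 0), (6, 0), (40, 0)),
   (0, 1, 3, (1, 16), (6, 0), (40, 0)),
   (0, 1, 3, (17, 16), (6, 0), (40, 0)),
   (0, 1, 3, (17, 0), (2, 4), (40, 0)),
   (0, 1, 3, (1, 16), (2, 4), (40, 0)),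
   (0, 1, 3, (17, 16), (2, 4), (40, 0)),
   (0, 1, 3, (17, 0), (6, 4), (40, 0)),
   (0, 1, 3, (1, 16), (6, 4), (40, 0)),
   (0, 1, 3, (17, 16), (6, 4), (40, 0)),
   (0, 2, 3, (3, 0), (20, 0), (8, 32)),
   (0, 2, 3, (1, 2), (20, 0), (8, 32)),
   (0, 2, 3, (3, 2), (20, 0), (8, 32)),
   (0, 2, 3, (3, 0), (4, 16), (8, 32)),
   (0, 2, 3, (1, 2), (4, 16), (8, 32)),
   (0, 2, 3, (3, 2), (4, 16), (8, 32)),
   (0, 2, 3, (3, 0), (20, 16), (8, 32)),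
   (0, 2, 3, (1, 2), (20, 16), (8, 32)),
   (0, 2, 3, (3, 2), (20, 16), (8, 32)),
   (0, 1, 3, (5, 0), (18, 0), (8, 32)),
   (0, 1, 3, (1, 4), (18, 0), (8, 32)),
   (0, 1, 3, (5, 4), (18, 0), (8, 32)),
   (0, 1, 3, (5, 0), (2, 16), (8, 32)),
   (0, 1, 3, (1, 4), (2, 16), (8, 32)),
   (0, 1, 3, (5, 4), (2, 16), (8, 32)),
   (0, 1, 3, (5, 0), (18, 16), (8, 32)),
   (0, 1, 3, (1, 4), (18, 16), (8, 32)),
   (0, 1, 3, (5, 4), (18, 16), (8, 32)),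
   (0, 1, 3, (17, 0), (6, 0), (8, 32)),
   (0, 1, 3, (1, 16), (6, 0), (8, 32)),
   (0, 1, 3, (17, 16), (6, 0), (8, 32)),
   (0, 1, 3, (17, 0), (2, 4), (8, 32)),
   (0, 1, 3, (1, 16), (2, 4), (8, 32)),
   (0, 1, 3, (17, 16), (2, 4), (8, 32))]

/-- A piece: The totally isotropic planes in echelon form. -/
def planes4 : List (Nat × Nat × Nat × (Nat × Nat) × (Nat × Nat) × (Nat × Nat)) :=
  [(0, 1, 3, (17, 0), (6, 4), (8, 32)),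
   (0, 1, 3, (1, 16), (6, 4), (8, 32)),
   (0, 1, 3, (17, 16), (6, 4), (8, 32)),
   (0, 2, 3, (3, 0), (20, 0), (40, 32)),
   (0, 2, 3, (1, 2), (20, 0), (40, 32)),
   (0, 2, 3, (3, 2), (20, 0), (40, 32)),
   (0, 2, 3, (3, 0), (4, 16), (40, 32)),
   (0, 2, 3, (1, 2), (4, 16), (40, 32)),
   (0, 2, 3, (3, 2), (4, 16), (40, 32)),
   (0, 2, 3, (3, 0), (20, 16), (40, 32)),
   (0, 2, 3, (1, 2), (20, 16), (40, 32)),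
   (0, 2, 3, (3, 2), (20, 16), (40, 32)),
   (0, 1, 3, (5, 0), (18, 0), (40, 32)),
   (0, 1, 3, (1, 4), (18, 0), (40, 32)),
   (0, 1, 3, (5, 4), (18, 0), (40, 32)),
   (0, 1, 3, (5, 0), (2, 16), (40, 32)),
   (0, 1, 3, (1, 4), (2, 16), (40, 32)),
   (0, 1, 3, (5, 4), (2, 16), (40, 32)),
   (0, 1, 3, (5, 0), (18, 16), (40, 32)),
   (0, 1, 3, (1, 4), (18, 16), (40, 32)),
   (0, 1, 3, (5, 4), (18, 16), (40, 32)),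
   (0, 1, 3, (17, 0), (6, 0), (40, 32)),
   (0, 1, 3, (1, 16), (6, 0), (40, 32)),
   (0, 1, 3, (17, 16), (6, 0), (40, 32)),
   (0, 1, 3, (17, 0), (2, 4), (40, 32)),
   (0, 1, 3, (1, 16), (2, 4), (40, 32)),
   (0, 1, 3, (17, 16), (2, 4), (40, 32)),
   (0, 1, 3, (17, 0), (6, 4), (40, 32)),
   (0, 1, 3, (1, 16), (6, 4), (40, 32)),
   (0, 1, 3, (17, 16), (6, 4), (40, 32)),
   (0, 2, 3, (3, 0), (36, 0), (24, 0)),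
   (0, 2, 3, (1, 2), (36, 0), (24, 0)),
   (0, 2, 3, (3, 2), (36, 0), (24, 0))]

/-- A piece: The totally isotropic planes in echelon form. -/
def planes5 : List (Nat × Nat × Nat × (Nat × Nat) × (Nat × Nat) × (Nat × Nat)) :=
  [(0, 2, 3, (3, 0), (4, 32), (24, 0)),
   (0, 2, 3, (1, 2), (4, 32), (24, 0)),
   (0, 2, 3, (3, 2), (4, 32), (24, 0)),
   (0, 2, 3, (3, 0), (36, 32), (24, 0)),
   (0, 2, 3, (1, 2), (36, 32), (24, 0)),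
   (0, 2, 3, (3, 2), (36, 32), (24, 0)),
   (0, 1, 3, (5, 0), (34, 0), (24, 0)),
   (0, 1, 3, (1, 4), (34, 0), (24, 0)),
   (0, 1, 3, (5, 4), (34, 0), (24, 0)),
   (0, 1, 3, (5, 0), (2, 32), (24, 0)),
   (0, 1, 3, (1, 4), (2, 32), (24, 0)),
   (0, 1, 3, (5, 4), (2, 32), (24, 0)),
   (0, 1, 3, (5, 0), (34, 32), (24, 0)),
   (0, 1, 3, (1, 4), (34, 32), (24, 0)),
   (0, 1, 3, (5, 4), (34, 32), (24, 0)),
   (0, 1, 3, (33, 0), (6, 0), (24, 0)),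
   (0, 1, 3, (1, 32), (6, 0), (24, 0)),
   (0, 1, 3, (33, 32), (6, 0), (24, 0)),
   (0, 1, 3, (33, 0), (2, 4), (24, 0)),
   (0, 1, 3, (1, 32), (2, 4), (24, 0)),
   (0, 1, 3, (33, 32), (2, 4), (24, 0)),
   (0, 1, 3, (33, 0), (6, 4), (24, 0)),
   (0, 1, 3, (1, 32), (6, 4), (24, 0)),
   (0, 1, 3, (33, 32), (6, 4), (24, 0)),
   (0, 2, 3, (3, 0), (36, 0), (8, 16)),
   (0, 2, 3, (1, 2), (36, 0), (8, 16)),
   (0, 2, 3, (3, 2), (36, 0), (8, 16)),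
   (0, 2, 3, (3, 0), (4, 32), (8, 16)),
   (0, 2, 3, (1, 2), (4, 32), (8, 16)),
   (0, 2, 3, (3, 2), (4, 32), (8, 16)),
   (0, 2, 3, (3, 0), (36, 32), (8, 16)),
   (0, 2, 3, (1, 2), (36, 32), (8, 16)),
   (0, 2, 3, (3, 2), (36, 32), (8, 16))]

/-- A piece: The totally isotropic planes in echelon form. -/
def planes6 : List (Nat × Nat × Nat × (Nat × Nat) × (Nat × Nat) × (Nat × Nat)) :=
  [(0, 1, 3, (5, 0), (34, 0), (8, 16)),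
   (0, 1, 3, (1, 4), (34, 0), (8, 16)),
   (0, 1, 3, (5, 4), (34, 0), (8, 16)),
   (0, 1, 3, (5, 0), (2, 32), (8, 16)),
   (0, 1, 3, (1, 4), (2, 32), (8, 16)),
   (0, 1, 3, (5, 4), (2, 32), (8, 16)),
   (0, 1, 3, (5, 0), (34, 32), (8, 16)),
   (0, 1, 3, (1, 4), (34, 32), (8, 16)),
   (0, 1, 3, (5, 4), (34, 32), (8, 16)),
   (0, 1, 3, (33, 0), (6, 0), (8, 16)),
   (0, 1, 3, (1, 32), (6, 0), (8, 16)),
   (0, 1, 3, (33, 32), (6, 0), (8, 16)),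
   (0, 1, 3, (33, 0), (2, 4), (8, 16)),
   (0, 1, 3, (1, 32), (2, 4), (8, 16)),
   (0, 1, 3, (33, 32), (2, 4), (8, 16)),
   (0, 1, 3, (33, 0), (6, 4), (8, 16)),
   (0, 1, 3, (1, 32), (6, 4), (8, 16)),
   (0, 1, 3, (33, 32), (6, 4), (8, 16)),
   (0, 2, 3, (3, 0), (36, 0), (24, 16)),
   (0, 2, 3, (1, 2), (36, 0), (24, 16)),
   (0, 2, 3, (3, 2), (36, 0), (24, 16)),
   (0, 2, 3, (3, 0), (4, 32), (24, 16)),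
   (0, 2, 3, (1, 2), (4, 32), (24, 16)),
   (0, 2, 3, (3, 2), (4, 32), (24, 16)),
   (0, 2, 3, (3, 0), (36, 32), (24, 16)),
   (0, 2, 3, (1, 2), (36, 32), (24, 16)),
   (0, 2, 3, (3, 2), (36, 32), (24, 16)),
   (0, 1, 3, (5, 0), (34, 0), (24, 16)),
   (0, 1, 3, (1, 4), (34, 0), (24, 16)),
   (0, 1, 3, (5, 4), (34, 0), (24, 16)),
   (0, 1, 3, (5, 0), (2, 32), (24, 16)),
   (0, 1, 3, (1, 4), (2, 32), (24, 16)),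
   (0, 1, 3, (5, 4), (2, 32), (24, 16))]

/-- A piece: The totally isotropic planes in echelon form. -/
def planes7 : List (Nat × Nat × Nat × (Nat × Nat) × (Nat × Nat) × (Nat × Nat)) :=
  [(0, 1, 3, (5, 0), (34, 32), (24, 16)),
   (0, 1, 3, (1, 4), (34, 32), (24, 16)),
   (0, 1, 3, (5, 4), (34, 32), (24, 16)),
   (0, 1, 3, (33, 0), (6, 0), (24, 16)),
   (0, 1, 3, (1, 32), (6, 0), (24, 16)),
   (0, 1, 3, (33, 32), (6, 0), (24, 16)),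
   (0, 1, 3, (33, 0), (2, 4), (24, 16)),
   (0, 1, 3, (1, 32), (2, 4), (24, 16)),
   (0, 1, 3, (33, 32), (2, 4), (24, 16)),
   (0, 1, 3, (33, 0), (6, 4), (24, 16)),
   (0, 1, 3, (1, 32), (6, 4), (24, 16)),
   (0, 1, 3, (33, 32), (6, 4), (24, 16)),
   (0, 1, 2, (9, 0), (18, 0), (36, 0)),
   (0, 1, 2, (1, 8), (18, 0), (36, 0)),
   (0, 1, 2, (9, 8), (18, 0), (36, 0)),
   (0, 1, 2, (9, 0), (2, 16), (36, 0)),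
   (0, 1, 2, (1, 8), (2, 16), (36, 0)),
   (0, 1, 2, (9, 8), (2, 16), (36, 0)),
   (0, 1, 2, (9, 0), (18, 16), (36, 0)),
   (0, 1, 2, (1, 8), (18, 16), (36, 0)),
   (0, 1, 2, (9, 8), (18, 16), (36, 0)),
   (0, 1, 2, (17, 0), (10, 0), (36, 0)),
   (0, 1, 2, (1, 16), (10, 0), (36, 0)),
   (0, 1, 2, (17, 16), (10, 0), (36, 0)),
   (0, 1, 2, (17, 0), (2, 8), (36, 0)),
   (0, 1, 2, (1, 16), (2, 8), (36, 0)),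
   (0, 1, 2, (17, 16), (2, 8), (36, 0)),
   (0, 1, 2, (17, 0), (10, 8), (36, 0)),
   (0, 1, 2, (1, 16), (10, 8), (36, 0)),
   (0, 1, 2, (17, 16), (10, 8), (36, 0)),
   (0, 1, 2, (9, 0), (18, 0), (4, 32)),
   (0, 1, 2, (1, 8), (18, 0), (4, 32)),
   (0, 1, 2, (9, 8), (18, 0), (4, 32))]

/-- A piece: The totally isotropic planes in echelon form. -/
def planes8 : List (Nat × Nat × Nat × (Nat × Nat) × (Nat × Nat) × (Nat × Nat)) :=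
  [(0, 1, 2, (9, 0), (2, 16), (4, 32)),
   (0, 1, 2, (1, 8), (2, 16), (4, 32)),
   (0, 1, 2, (9, 8), (2, 16), (4, 32)),
   (0, 1, 2, (9, 0), (18, 16), (4, 32)),
   (0, 1, 2, (1, 8), (18, 16), (4, 32)),
   (0, 1, 2, (9, 8), (18, 16), (4, 32)),
   (0, 1, 2, (17, 0), (10, 0), (4, 32)),
   (0, 1, 2, (1, 16), (10, 0), (4, 32)),
   (0, 1, 2, (17, 16), (10, 0), (4, 32)),
   (0, 1, 2, (17, 0), (2, 8), (4, 32)),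
   (0, 1, 2, (1, 16), (2, 8), (4, 32)),
   (0, 1, 2, (17, 16), (2, 8), (4, 32)),
   (0, 1, 2, (17, 0), (10, 8), (4, 32)),
   (0, 1, 2, (1, 16), (10, 8), (4, 32)),
   (0, 1, 2, (17, 16), (10, 8), (4, 32)),
   (0, 1, 2, (9, 0), (18, 0), (36, 32)),
   (0, 1, 2, (1, 8), (18, 0), (36, 32)),
   (0, 1, 2, (9, 8), (18, 0), (36, 32)),
   (0, 1, 2, (9, 0), (2, 16), (36, 32)),
   (0, 1, 2, (1, 8), (2, 16), (36, 32)),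
   (0, 1, 2, (9, 8), (2, 16), (36, 32)),
   (0, 1, 2, (9, 0), (18, 16), (36, 32)),
   (0, 1, 2, (1, 8), (18, 16), (36, 32)),
   (0, 1, 2, (9, 8), (18, 16), (36, 32)),
   (0, 1, 2, (17, 0), (10, 0), (36, 32)),
   (0, 1, 2, (1, 16), (10, 0), (36, 32)),
   (0, 1, 2, (17, 16), (10, 0), (36, 32)),
   (0, 1, 2, (17, 0), (2, 8), (36, 32)),
   (0, 1, 2, (1, 16), (2, 8), (36, 32)),
   (0, 1, 2, (17, 16), (2, 8), (36, 32)),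
   (0, 1, 2, (17, 0), (10, 8), (36, 32)),
   (0, 1, 2, (1, 16), (10, 8), (36, 32)),
   (0, 1, 2, (17, 16), (10, 8), (36, 32))]

/-- A piece: The totally isotropic planes in echelon form. -/
def planes9 : List (Nat × Nat × Nat × (Nat × Nat) × (Nat × Nat) × (Nat × Nat)) :=
  [(0, 1, 2, (9, 0), (34, 0), (20, 0)),
   (0, 1, 2, (1, 8), (34, 0), (20, 0)),
   (0, 1, 2, (9, 8), (34, 0), (20, 0)),
   (0, 1, 2, (9, 0), (2, 32), (20, 0)),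
   (0, 1, 2, (1, 8), (2, 32), (20, 0)),
   (0, 1, 2, (9, 8), (2, 32), (20, 0)),
   (0, 1, 2, (9, 0), (34, 32), (20, 0)),
   (0, 1, 2, (1, 8), (34, 32), (20, 0)),
   (0, 1, 2, (9, 8), (34, 32), (20, 0)),
   (0, 1, 2, (33, 0), (10, 0), (20, 0)),
   (0, 1, 2, (1, 32), (10, 0), (20, 0)),
   (0, 1, 2, (33, 32), (10, 0), (20, 0)),
   (0, 1, 2, (33, 0), (2, 8), (20, 0)),
   (0, 1, 2, (1, 32), (2, 8), (20, 0)),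
   (0, 1, 2, (33, 32), (2, 8), (20, 0)),
   (0, 1, 2, (33, 0), (10, 8), (20, 0)),
   (0, 1, 2, (1, 32), (10, 8), (20, 0)),
   (0, 1, 2, (33, 32), (10, 8), (20, 0)),
   (0, 1, 2, (9, 0), (34, 0), (4, 16)),
   (0, 1, 2, (1, 8), (34, 0), (4, 16)),
   (0, 1, 2, (9, 8), (34, 0), (4, 16)),
   (0, 1, 2, (9, 0), (2, 32), (4, 16)),
   (0, 1, 2, (1, 8), (2, 32), (4, 16)),
   (0, 1, 2, (9, 8), (2, 32), (4, 16)),
   (0, 1, 2, (9, 0), (34, 32), (4, 16)),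
   (0, 1, 2, (1, 8), (34, 32), (4, 16)),
   (0, 1, 2, (9, 8), (34, 32), (4, 16)),
   (0, 1, 2, (33, 0), (10, 0), (4, 16)),
   (0, 1, 2, (1, 32), (10, 0), (4, 16)),
   (0, 1, 2, (33, 32), (10, 0), (4, 16)),
   (0, 1, 2, (33, 0), (2, 8), (4, 16)),
   (0, 1, 2, (1, 32), (2, 8), (4, 16)),
   (0, 1, 2, (33, 32), (2, 8), (4, 16))]

/-- A piece: The totally isotropic planes in echelon form. -/
def planes10 : List (Nat × Nat × Nat × (Nat × Nat) × (Nat × Nat) × (Nat × Nat)) :=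
  [(0, 1, 2, (33, 0), (10, 8), (4, 16)),
   (0, 1, 2, (1, 32), (10, 8), (4, 16)),
   (0, 1, 2, (33, 32), (10, 8), (4, 16)),
   (0, 1, 2, (9, 0), (34, 0), (20, 16)),
   (0, 1, 2, (1, 8), (34, 0), (20, 16)),
   (0, 1, 2, (9, 8), (34, 0), (20, 16)),
   (0, 1, 2, (9, 0), (2, 32), (20, 16)),
   (0, 1, 2, (1, 8), (2, 32), (20, 16)),
   (0, 1, 2, (9, 8), (2, 32), (20, 16)),
   (0, 1, 2, (9, 0), (34, 32), (20, 16)),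
   (0, 1, 2, (1, 8), (34, 32), (20, 16)),
   (0, 1, 2, (9, 8), (34, 32), (20, 16)),
   (0, 1, 2, (33, 0), (10, 0), (20, 16)),
   (0, 1, 2, (1, 32), (10, 0), (20, 16)),
   (0, 1, 2, (33, 32), (10, 0), (20, 16)),
   (0, 1, 2, (33, 0), (2, 8), (20, 16)),
   (0, 1, 2, (1, 32), (2, 8), (20, 16)),
   (0, 1, 2, (33, 32), (2, 8), (20, 16)),
   (0, 1, 2, (33, 0), (10, 8), (20, 16)),
   (0, 1, 2, (1, 32), (10, 8), (20, 16)),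
   (0, 1, 2, (33, 32), (10, 8), (20, 16)),
   (0, 1, 2, (17, 0), (34, 0), (12, 0)),
   (0, 1, 2, (1, 16), (34, 0), (12, 0)),
   (0, 1, 2, (17, 16), (34, 0), (12, 0)),
   (0, 1, 2, (17, 0), (2, 32), (12, 0)),
   (0, 1, 2, (1, 16), (2, 32), (12, 0)),
   (0, 1, 2, (17, 16), (2, 32), (12, 0)),
   (0, 1, 2, (17, 0), (34, 32), (12, 0)),
   (0, 1, 2, (1, 16), (34, 32), (12, 0)),
   (0, 1, 2, (17, 16), (34, 32), (12, 0)),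
   (0, 1, 2, (33, 0), (18, 0), (12, 0)),
   (0, 1, 2, (1, 32), (18, 0), (12, 0)),
   (0, 1, 2, (33, 32), (18, 0), (12, 0))]

/-- A piece: The totally isotropic planes in echelon form. -/
def planes11 : List (Nat × Nat × Nat × (Nat × Nat) × (Nat × Nat) × (Nat × Nat)) :=
  [(0, 1, 2, (33, 0), (2, 16), (12, 0)),
   (0, 1, 2, (1, 32), (2, 16), (12, 0)),
   (0, 1, 2, (33, 32), (2, 16), (12, 0)),
   (0, 1, 2, (33, 0), (18, 16), (12, 0)),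
   (0, 1, 2, (1, 32), (18, 16), (12, 0)),
   (0, 1, 2, (33, 32), (18, 16), (12, 0)),
   (0, 1, 2, (25, 48), (42, 48), (60, 0)),
   (0, 1, 2, (49, 40), (42, 48), (60, 0)),
   (0, 1, 2, (41, 24), (42, 48), (60, 0)),
   (0, 1, 2, (41, 48), (26, 48), (60, 0)),
   (0, 1, 2, (49, 24), (26, 48), (60, 0)),
   (0, 1, 2, (25, 40), (26, 48), (60, 0)),
   (0, 1, 2, (41, 48), (50, 40), (60, 0)),
   (0, 1, 2, (49, 24), (50, 40), (60, 0)),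
   (0, 1, 2, (25, 40), (50, 40), (60, 0)),
   (0, 1, 2, (25, 48), (50, 24), (60, 0)),
   (0, 1, 2, (49, 40), (50, 24), (60, 0)),
   (0, 1, 2, (41, 24), (50, 24), (60, 0)),
   (0, 1, 2, (25, 48), (26, 40), (60, 0)),
   (0, 1, 2, (49, 40), (26, 40), (60, 0)),
   (0, 1, 2, (41, 24), (26, 40), (60, 0)),
   (0, 1, 2, (41, 48), (42, 24), (60, 0)),
   (0, 1, 2, (49, 24), (42, 24), (60, 0)),
   (0, 1, 2, (25, 40), (42, 24), (60, 0)),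
   (0, 1, 2, (57, 48), (42, 16), (28, 32)),
   (0, 1, 2, (49, 8), (42, 16), (28, 32)),
   (0, 1, 2, (9, 56), (42, 16), (28, 32)),
   (0, 1, 2, (41, 16), (58, 48), (28, 32)),
   (0, 1, 2, (17, 56), (58, 48), (28, 32)),
   (0, 1, 2, (57, 40), (58, 48), (28, 32)),
   (0, 1, 2, (41, 16), (50, 8), (28, 32)),
   (0, 1, 2, (17, 56), (50, 8), (28, 32)),
   (0, 1, 2, (57, 40), (50, 8), (28, 32))]

/-- A piece: The totally isotropic planes in echelon form. -/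
def planes12 : List (Nat × Nat × Nat × (Nat × Nat) × (Nat × Nat) × (Nat × Nat)) :=
  [(0, 1, 2, (57, 48), (18, 56), (28, 32)),
   (0, 1, 2, (49, 8), (18, 56), (28, 32)),
   (0, 1, 2, (9, 56), (18, 56), (28, 32)),
   (0, 1, 2, (57, 48), (58, 40), (28, 32)),
   (0, 1, 2, (49, 8), (58, 40), (28, 32)),
   (0, 1, 2, (9, 56), (58, 40), (28, 32)),
   (0, 1, 2, (41, 16), (10, 56), (28, 32)),
   (0, 1, 2, (17, 56), (10, 56), (28, 32)),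
   (0, 1, 2, (57, 40), (10, 56), (28, 32)),
   (0, 1, 2, (57, 16), (10, 48), (60, 32)),
   (0, 1, 2, (17, 40), (10, 48), (60, 32)),
   (0, 1, 2, (41, 56), (10, 48), (60, 32)),
   (0, 1, 2, (9, 48), (58, 16), (60, 32)),
   (0, 1, 2, (49, 56), (58, 16), (60, 32)),
   (0, 1, 2, (57, 8), (58, 16), (60, 32)),
   (0, 1, 2, (9, 48), (18, 40), (60, 32)),
   (0, 1, 2, (49, 56), (18, 40), (60, 32)),
   (0, 1, 2, (57, 8), (18, 40), (60, 32)),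
   (0, 1, 2, (57, 16), (50, 56), (60, 32)),
   (0, 1, 2, (17, 40), (50, 56), (60, 32)),
   (0, 1, 2, (41, 56), (50, 56), (60, 32)),
   (0, 1, 2, (57, 16), (58, 8), (60, 32)),
   (0, 1, 2, (17, 40), (58, 8), (60, 32)),
   (0, 1, 2, (41, 56), (58, 8), (60, 32)),
   (0, 1, 2, (9, 48), (42, 56), (60, 32)),
   (0, 1, 2, (49, 56), (42, 56), (60, 32)),
   (0, 1, 2, (57, 8), (42, 56), (60, 32)),
   (0, 1, 2, (57, 48), (26, 32), (44, 16)),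
   (0, 1, 2, (49, 8), (26, 32), (44, 16)),
   (0, 1, 2, (9, 56), (26, 32), (44, 16)),
   (0, 1, 2, (25, 32), (58, 48), (44, 16)),
   (0, 1, 2, (33, 56), (58, 48), (44, 16)),
   (0, 1, 2, (57, 24), (58, 48), (44, 16))]

/-- A piece: The totally isotropic planes in echelon form. -/
def planes13 : List (Nat × Nat × Nat × (Nat × Nat) × (Nat × Nat) × (Nat × Nat)) :=
  [(0, 1, 2, (25, 32), (50, 8), (44, 16)),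
   (0, 1, 2, (33, 56), (50, 8), (44, 16)),
   (0, 1, 2, (57, 24), (50, 8), (44, 16)),
   (0, 1, 2, (57, 48), (34, 56), (44, 16)),
   (0, 1, 2, (49, 8), (34, 56), (44, 16)),
   (0, 1, 2, (9, 56), (34, 56), (44, 16)),
   (0, 1, 2, (25, 32), (10, 56), (44, 16)),
   (0, 1, 2, (33, 56), (10, 56), (44, 16)),
   (0, 1, 2, (57, 24), (10, 56), (44, 16)),
   (0, 1, 2, (57, 48), (58, 24), (44, 16)),
   (0, 1, 2, (49, 8), (58, 24), (44, 16)),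
   (0, 1, 2, (9, 56), (58, 24), (44, 16)),
   (0, 1, 2, (57, 16), (58, 32), (12, 48)),
   (0, 1, 2, (17, 40), (58, 32), (12, 48)),
   (0, 1, 2, (41, 56), (58, 32), (12, 48)),
   (0, 1, 2, (57, 32), (58, 16), (12, 48)),
   (0, 1, 2, (33, 24), (58, 16), (12, 48)),
   (0, 1, 2, (25, 56), (58, 16), (12, 48)),
   (0, 1, 2, (57, 32), (18, 40), (12, 48)),
   (0, 1, 2, (33, 24), (18, 40), (12, 48)),
   (0, 1, 2, (25, 56), (18, 40), (12, 48)),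
   (0, 1, 2, (57, 16), (34, 24), (12, 48)),
   (0, 1, 2, (17, 40), (34, 24), (12, 48)),
   (0, 1, 2, (41, 56), (34, 24), (12, 48)),
   (0, 1, 2, (57, 32), (42, 56), (12, 48)),
   (0, 1, 2, (33, 24), (42, 56), (12, 48)),
   (0, 1, 2, (25, 56), (42, 56), (12, 48)),
   (0, 1, 2, (57, 16), (26, 56), (12, 48)),
   (0, 1, 2, (17, 40), (26, 56), (12, 48)),
   (0, 1, 2, (41, 56), (26, 56), (12, 48)),
   (0, 1, 2, (25, 48), (58, 0), (44, 48)),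
   (0, 1, 2, (49, 40), (58, 0), (44, 48)),
   (0, 1, 2, (41, 24), (58, 0), (44, 48))]

/-- A piece: The totally isotropic planes in echelon form. -/
def planes14 : List (Nat × Nat × Nat × (Nat × Nat) × (Nat × Nat) × (Nat × Nat)) :=
  [(0, 1, 2, (57, 0), (26, 48), (44, 48)),
   (0, 1, 2, (1, 56), (26, 48), (44, 48)),
   (0, 1, 2, (57, 56), (26, 48), (44, 48)),
   (0, 1, 2, (57, 0), (50, 40), (44, 48)),
   (0, 1, 2, (1, 56), (50, 40), (44, 48)),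
   (0, 1, 2, (57, 56), (50, 40), (44, 48)),
   (0, 1, 2, (25, 48), (2, 56), (44, 48)),
   (0, 1, 2, (49, 40), (2, 56), (44, 48)),
   (0, 1, 2, (41, 24), (2, 56), (44, 48)),
   (0, 1, 2, (57, 0), (42, 24), (44, 48)),
   (0, 1, 2, (1, 56), (42, 24), (44, 48)),
   (0, 1, 2, (57, 56), (42, 24), (44, 48)),
   (0, 1, 2, (25, 48), (58, 56), (44, 48)),
   (0, 1, 2, (49, 40), (58, 56), (44, 48)),
   (0, 1, 2, (41, 24), (58, 56), (44, 48)),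
   (0, 1, 2, (9, 48), (58, 32), (60, 16)),
   (0, 1, 2, (49, 56), (58, 32), (60, 16)),
   (0, 1, 2, (57, 8), (58, 32), (60, 16)),
   (0, 1, 2, (57, 32), (10, 48), (60, 16)),
   (0, 1, 2, (33, 24), (10, 48), (60, 16)),
   (0, 1, 2, (25, 56), (10, 48), (60, 16)),
   (0, 1, 2, (9, 48), (34, 24), (60, 16)),
   (0, 1, 2, (49, 56), (34, 24), (60, 16)),
   (0, 1, 2, (57, 8), (34, 24), (60, 16)),
   (0, 1, 2, (57, 32), (50, 56), (60, 16)),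
   (0, 1, 2, (33, 24), (50, 56), (60, 16)),
   (0, 1, 2, (25, 56), (50, 56), (60, 16)),
   (0, 1, 2, (57, 32), (58, 8), (60, 16)),
   (0, 1, 2, (33, 24), (58, 8), (60, 16)),
   (0, 1, 2, (25, 56), (58, 8), (60, 16)),
   (0, 1, 2, (9, 48), (26, 56), (60, 16)),
   (0, 1, 2, (49, 56), (26, 56), (60, 16)),
   (0, 1, 2, (57, 8), (26, 56), (60, 16))]

/-- A piece: The totally isotropic planes in echelon form. -/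
def planes15 : List (Nat × Nat × Nat × (Nat × Nat) × (Nat × Nat) × (Nat × Nat)) :=
  [(0, 1, 2, (41, 48), (58, 0), (28, 48)),
   (0, 1, 2, (49, 24), (58, 0), (28, 48)),
   (0, 1, 2, (25, 40), (58, 0), (28, 48)),
   (0, 1, 2, (57, 0), (42, 48), (28, 48)),
   (0, 1, 2, (1, 56), (42, 48), (28, 48)),
   (0, 1, 2, (57, 56), (42, 48), (28, 48)),
   (0, 1, 2, (41, 48), (2, 56), (28, 48)),
   (0, 1, 2, (49, 24), (2, 56), (28, 48)),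
   (0, 1, 2, (25, 40), (2, 56), (28, 48)),
   (0, 1, 2, (57, 0), (50, 24), (28, 48)),
   (0, 1, 2, (1, 56), (50, 24), (28, 48)),
   (0, 1, 2, (57, 56), (50, 24), (28, 48)),
   (0, 1, 2, (57, 0), (26, 40), (28, 48)),
   (0, 1, 2, (1, 56), (26, 40), (28, 48)),
   (0, 1, 2, (57, 56), (26, 40), (28, 48)),
   (0, 1, 2, (41, 48), (58, 56), (28, 48)),
   (0, 1, 2, (49, 24), (58, 56), (28, 48)),
   (0, 1, 2, (25, 40), (58, 56), (28, 48)),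
   (0, 1, 2, (41, 16), (26, 32), (60, 48)),
   (0, 1, 2, (17, 56), (26, 32), (60, 48)),
   (0, 1, 2, (57, 40), (26, 32), (60, 48)),
   (0, 1, 2, (25, 32), (42, 16), (60, 48)),
   (0, 1, 2, (33, 56), (42, 16), (60, 48)),
   (0, 1, 2, (57, 24), (42, 16), (60, 48)),
   (0, 1, 2, (41, 16), (34, 56), (60, 48)),
   (0, 1, 2, (17, 56), (34, 56), (60, 48)),
   (0, 1, 2, (57, 40), (34, 56), (60, 48)),
   (0, 1, 2, (25, 32), (18, 56), (60, 48)),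
   (0, 1, 2, (33, 56), (18, 56), (60, 48)),
   (0, 1, 2, (57, 24), (18, 56), (60, 48)),
   (0, 1, 2, (25, 32), (58, 40), (60, 48)),
   (0, 1, 2, (33, 56), (58, 40), (60, 48)),
   (0, 1, 2, (57, 24), (58, 40), (60, 48))]

/-- A piece: The totally isotropic planes in echelon form. -/
def planes16 : List (Nat × Nat × Nat × (Nat × Nat) × (Nat × Nat) × (Nat × Nat)) :=
  [(0, 1, 2, (41, 16), (58, 24), (60, 48)),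
   (0, 1, 2, (17, 56), (58, 24), (60, 48)),
   (0, 1, 2, (57, 40), (58, 24), (60, 48)),
   (0, 1, 2, (17, 0), (34, 0), (4, 8)),
   (0, 1, 2, (1, 16), (34, 0), (4, 8)),
   (0, 1, 2, (17, 16), (34, 0), (4, 8)),
   (0, 1, 2, (17, 0), (2, 32), (4, 8)),
   (0, 1, 2, (1, 16), (2, 32), (4, 8)),
   (0, 1, 2, (17, 16), (2, 32), (4, 8)),
   (0, 1, 2, (17, 0), (34, 32), (4, 8)),
   (0, 1, 2, (1, 16), (34, 32), (4, 8)),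
   (0, 1, 2, (17, 16), (34, 32), (4, 8)),
   (0, 1, 2, (33, 0), (18, 0), (4, 8)),
   (0, 1, 2, (1, 32), (18, 0), (4, 8)),
   (0, 1, 2, (33, 32), (18, 0), (4, 8)),
   (0, 1, 2, (33, 0), (2, 16), (4, 8)),
   (0, 1, 2, (1, 32), (2, 16), (4, 8)),
   (0, 1, 2, (33, 32), (2, 16), (4, 8)),
   (0, 1, 2, (33, 0), (18, 16), (4, 8)),
   (0, 1, 2, (1, 32), (18, 16), (4, 8)),
   (0, 1, 2, (33, 32), (18, 16), (4, 8)),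
   (0, 1, 2, (41, 16), (26, 32), (52, 8)),
   (0, 1, 2, (17, 56), (26, 32), (52, 8)),
   (0, 1, 2, (57, 40), (26, 32), (52, 8)),
   (0, 1, 2, (25, 32), (42, 16), (52, 8)),
   (0, 1, 2, (33, 56), (42, 16), (52, 8)),
   (0, 1, 2, (57, 24), (42, 16), (52, 8)),
   (0, 1, 2, (41, 16), (34, 56), (52, 8)),
   (0, 1, 2, (17, 56), (34, 56), (52, 8)),
   (0, 1, 2, (57, 40), (34, 56), (52, 8)),
   (0, 1, 2, (25, 32), (18, 56), (52, 8)),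
   (0, 1, 2, (33, 56), (18, 56), (52, 8)),
   (0, 1, 2, (57, 24), (18, 56), (52, 8))]

/-- A piece: The totally isotropic planes in echelon form. -/
def planes17 : List (Nat × Nat × Nat × (Nat × Nat) × (Nat × Nat) × (Nat × Nat)) :=
  [(0, 1, 2, (25, 32), (58, 40), (52, 8)),
   (0, 1, 2, (33, 56), (58, 40), (52, 8)),
   (0, 1, 2, (57, 24), (58, 40), (52, 8)),
   (0, 1, 2, (41, 16), (58, 24), (52, 8)),
   (0, 1, 2, (17, 56), (58, 24), (52, 8)),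
   (0, 1, 2, (57, 40), (58, 24), (52, 8)),
   (0, 1, 2, (9, 48), (58, 32), (20, 40)),
   (0, 1, 2, (49, 56), (58, 32), (20, 40)),
   (0, 1, 2, (57, 8), (58, 32), (20, 40)),
   (0, 1, 2, (57, 32), (10, 48), (20, 40)),
   (0, 1, 2, (33, 24), (10, 48), (20, 40)),
   (0, 1, 2, (25, 56), (10, 48), (20, 40)),
   (0, 1, 2, (9, 48), (34, 24), (20, 40)),
   (0, 1, 2, (49, 56), (34, 24), (20, 40)),
   (0, 1, 2, (57, 8), (34, 24), (20, 40)),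
   (0, 1, 2, (57, 32), (50, 56), (20, 40)),
   (0, 1, 2, (33, 24), (50, 56), (20, 40)),
   (0, 1, 2, (25, 56), (50, 56), (20, 40)),
   (0, 1, 2, (57, 32), (58, 8), (20, 40)),
   (0, 1, 2, (33, 24), (58, 8), (20, 40)),
   (0, 1, 2, (25, 56), (58, 8), (20, 40)),
   (0, 1, 2, (9, 48), (26, 56), (20, 40)),
   (0, 1, 2, (49, 56), (26, 56), (20, 40)),
   (0, 1, 2, (57, 8), (26, 56), (20, 40)),
   (0, 1, 2, (41, 48), (58, 0), (52, 40)),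
   (0, 1, 2, (49, 24), (58, 0), (52, 40)),
   (0, 1, 2, (25, 40), (58, 0), (52, 40)),
   (0, 1, 2, (57, 0), (42, 48), (52, 40)),
   (0, 1, 2, (1, 56), (42, 48), (52, 40)),
   (0, 1, 2, (57, 56), (42, 48), (52, 40)),
   (0, 1, 2, (41, 48), (2, 56), (52, 40)),
   (0, 1, 2, (49, 24), (2, 56), (52, 40)),
   (0, 1, 2, (25, 40), (2, 56), (52, 40))]

/-- A piece: The totally isotropic planes in echelon form. -/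
def planes18 : List (Nat × Nat × Nat × (Nat × Nat) × (Nat × Nat) × (Nat × Nat)) :=
  [(0, 1, 2, (57, 0), (50, 24), (52, 40)),
   (0, 1, 2, (1, 56), (50, 24), (52, 40)),
   (0, 1, 2, (57, 56), (50, 24), (52, 40)),
   (0, 1, 2, (57, 0), (26, 40), (52, 40)),
   (0, 1, 2, (1, 56), (26, 40), (52, 40)),
   (0, 1, 2, (57, 56), (26, 40), (52, 40)),
   (0, 1, 2, (41, 48), (58, 56), (52, 40)),
   (0, 1, 2, (49, 24), (58, 56), (52, 40)),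
   (0, 1, 2, (25, 40), (58, 56), (52, 40)),
   (0, 1, 2, (57, 16), (10, 48), (36, 24)),
   (0, 1, 2, (17, 40), (10, 48), (36, 24)),
   (0, 1, 2, (41, 56), (10, 48), (36, 24)),
   (0, 1, 2, (9, 48), (58, 16), (36, 24)),
   (0, 1, 2, (49, 56), (58, 16), (36, 24)),
   (0, 1, 2, (57, 8), (58, 16), (36, 24)),
   (0, 1, 2, (9, 48), (18, 40), (36, 24)),
   (0, 1, 2, (49, 56), (18, 40), (36, 24)),
   (0, 1, 2, (57, 8), (18, 40), (36, 24)),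
   (0, 1, 2, (57, 16), (50, 56), (36, 24)),
   (0, 1, 2, (17, 40), (50, 56), (36, 24)),
   (0, 1, 2, (41, 56), (50, 56), (36, 24)),
   (0, 1, 2, (57, 16), (58, 8), (36, 24)),
   (0, 1, 2, (17, 40), (58, 8), (36, 24)),
   (0, 1, 2, (41, 56), (58, 8), (36, 24)),
   (0, 1, 2, (9, 48), (42, 56), (36, 24)),
   (0, 1, 2, (49, 56), (42, 56), (36, 24)),
   (0, 1, 2, (57, 8), (42, 56), (36, 24)),
   (0, 1, 2, (25, 48), (42, 48), (4, 56)),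
   (0, 1, 2, (49, 40), (42, 48), (4, 56)),
   (0, 1, 2, (41, 24), (42, 48), (4, 56)),
   (0, 1, 2, (41, 48), (26, 48), (4, 56)),
   (0, 1, 2, (49, 24), (26, 48), (4, 56)),
   (0, 1, 2, (25, 40), (26, 48), (4, 56))]

/-- A piece: The totally isotropic planes in echelon form. -/
def planes19 : List (Nat × Nat × Nat × (Nat × Nat) × (Nat × Nat) × (Nat × Nat)) :=
  [(0, 1, 2, (41, 48), (50, 40), (4, 56)),
   (0, 1, 2, (49, 24), (50, 40), (4, 56)),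
   (0, 1, 2, (25, 40), (50, 40), (4, 56)),
   (0, 1, 2, (25, 48), (50, 24), (4, 56)),
   (0, 1, 2, (49, 40), (50, 24), (4, 56)),
   (0, 1, 2, (41, 24), (50, 24), (4, 56)),
   (0, 1, 2, (25, 48), (26, 40), (4, 56)),
   (0, 1, 2, (49, 40), (26, 40), (4, 56)),
   (0, 1, 2, (41, 24), (26, 40), (4, 56)),
   (0, 1, 2, (41, 48), (42, 24), (4, 56)),
   (0, 1, 2, (49, 24), (42, 24), (4, 56)),
   (0, 1, 2, (25, 40), (42, 24), (4, 56)),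
   (0, 1, 2, (57, 48), (42, 16), (36, 56)),
   (0, 1, 2, (49, 8), (42, 16), (36, 56)),
   (0, 1, 2, (9, 56), (42, 16), (36, 56)),
   (0, 1, 2, (41, 16), (58, 48), (36, 56)),
   (0, 1, 2, (17, 56), (58, 48), (36, 56)),
   (0, 1, 2, (57, 40), (58, 48), (36, 56)),
   (0, 1, 2, (41, 16), (50, 8), (36, 56)),
   (0, 1, 2, (17, 56), (50, 8), (36, 56)),
   (0, 1, 2, (57, 40), (50, 8), (36, 56)),
   (0, 1, 2, (57, 48), (18, 56), (36, 56)),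
   (0, 1, 2, (49, 8), (18, 56), (36, 56)),
   (0, 1, 2, (9, 56), (18, 56), (36, 56)),
   (0, 1, 2, (57, 48), (58, 40), (36, 56)),
   (0, 1, 2, (49, 8), (58, 40), (36, 56)),
   (0, 1, 2, (9, 56), (58, 40), (36, 56)),
   (0, 1, 2, (41, 16), (10, 56), (36, 56)),
   (0, 1, 2, (17, 56), (10, 56), (36, 56)),
   (0, 1, 2, (57, 40), (10, 56), (36, 56)),
   (0, 1, 2, (25, 48), (58, 0), (52, 24)),
   (0, 1, 2, (49, 40), (58, 0), (52, 24)),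
   (0, 1, 2, (41, 24), (58, 0), (52, 24))]

/-- A piece: The totally isotropic planes in echelon form. -/
def planes20 : List (Nat × Nat × Nat × (Nat × Nat) × (Nat × Nat) × (Nat × Nat)) :=
  [(0, 1, 2, (57, 0), (26, 48), (52, 24)),
   (0, 1, 2, (1, 56), (26, 48), (52, 24)),
   (0, 1, 2, (57, 56), (26, 48), (52, 24)),
   (0, 1, 2, (57, 0), (50, 40), (52, 24)),
   (0, 1, 2, (1, 56), (50, 40), (52, 24)),
   (0, 1, 2, (57, 56), (50, 40), (52, 24)),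
   (0, 1, 2, (25, 48), (2, 56), (52, 24)),
   (0, 1, 2, (49, 40), (2, 56), (52, 24)),
   (0, 1, 2, (41, 24), (2, 56), (52, 24)),
   (0, 1, 2, (57, 0), (42, 24), (52, 24)),
   (0, 1, 2, (1, 56), (42, 24), (52, 24)),
   (0, 1, 2, (57, 56), (42, 24), (52, 24)),
   (0, 1, 2, (25, 48), (58, 56), (52, 24)),
   (0, 1, 2, (49, 40), (58, 56), (52, 24)),
   (0, 1, 2, (41, 24), (58, 56), (52, 24)),
   (0, 1, 2, (57, 48), (26, 32), (20, 56)),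
   (0, 1, 2, (49, 8), (26, 32), (20, 56)),
   (0, 1, 2, (9, 56), (26, 32), (20, 56)),
   (0, 1, 2, (25, 32), (58, 48), (20, 56)),
   (0, 1, 2, (33, 56), (58, 48), (20, 56)),
   (0, 1, 2, (57, 24), (58, 48), (20, 56)),
   (0, 1, 2, (25, 32), (50, 8), (20, 56)),
   (0, 1, 2, (33, 56), (50, 8), (20, 56)),
   (0, 1, 2, (57, 24), (50, 8), (20, 56)),
   (0, 1, 2, (57, 48), (34, 56), (20, 56)),
   (0, 1, 2, (49, 8), (34, 56), (20, 56)),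
   (0, 1, 2, (9, 56), (34, 56), (20, 56)),
   (0, 1, 2, (25, 32), (10, 56), (20, 56)),
   (0, 1, 2, (33, 56), (10, 56), (20, 56)),
   (0, 1, 2, (57, 24), (10, 56), (20, 56)),
   (0, 1, 2, (57, 48), (58, 24), (20, 56)),
   (0, 1, 2, (49, 8), (58, 24), (20, 56)),
   (0, 1, 2, (9, 56), (58, 24), (20, 56))]

/-- A piece: The totally isotropic planes in echelon form. -/
def planes21 : List (Nat × Nat × Nat × (Nat × Nat) × (Nat × Nat) × (Nat × Nat)) :=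
  [(0, 1, 2, (57, 16), (58, 32), (52, 56)),
   (0, 1, 2, (17, 40), (58, 32), (52, 56)),
   (0, 1, 2, (41, 56), (58, 32), (52, 56)),
   (0, 1, 2, (57, 32), (58, 16), (52, 56)),
   (0, 1, 2, (33, 24), (58, 16), (52, 56)),
   (0, 1, 2, (25, 56), (58, 16), (52, 56)),
   (0, 1, 2, (57, 32), (18, 40), (52, 56)),
   (0, 1, 2, (33, 24), (18, 40), (52, 56)),
   (0, 1, 2, (25, 56), (18, 40), (52, 56)),
   (0, 1, 2, (57, 16), (34, 24), (52, 56)),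
   (0, 1, 2, (17, 40), (34, 24), (52, 56)),
   (0, 1, 2, (41, 56), (34, 24), (52, 56)),
   (0, 1, 2, (57, 32), (42, 56), (52, 56)),
   (0, 1, 2, (33, 24), (42, 56), (52, 56)),
   (0, 1, 2, (25, 56), (42, 56), (52, 56)),
   (0, 1, 2, (57, 16), (26, 56), (52, 56)),
   (0, 1, 2, (17, 40), (26, 56), (52, 56)),
   (0, 1, 2, (41, 56), (26, 56), (52, 56)),
   (0, 1, 2, (17, 0), (34, 0), (12, 8)),
   (0, 1, 2, (1, 16), (34, 0), (12, 8)),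
   (0, 1, 2, (17, 16), (34, 0), (12, 8)),
   (0, 1, 2, (17, 0), (2, 32), (12, 8)),
   (0, 1, 2, (1, 16), (2, 32), (12, 8)),
   (0, 1, 2, (17, 16), (2, 32), (12, 8)),
   (0, 1, 2, (17, 0), (34, 32), (12, 8)),
   (0, 1, 2, (1, 16), (34, 32), (12, 8)),
   (0, 1, 2, (17, 16), (34, 32), (12, 8)),
   (0, 1, 2, (33, 0), (18, 0), (12, 8)),
   (0, 1, 2, (1, 32), (18, 0), (12, 8)),
   (0, 1, 2, (33, 32), (18, 0), (12, 8)),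
   (0, 1, 2, (33, 0), (2, 16), (12, 8)),
   (0, 1, 2, (1, 32), (2, 16), (12, 8)),
   (0, 1, 2, (33, 32), (2, 16), (12, 8))]

/-- A piece: The totally isotropic planes in echelon form. -/
def planes22 : List (Nat × Nat × Nat × (Nat × Nat) × (Nat × Nat) × (Nat × Nat)) :=
  [(0, 1, 2, (33, 0), (18, 16), (12, 8)),
   (0, 1, 2, (1, 32), (18, 16), (12, 8)),
   (0, 1, 2, (33, 32), (18, 16), (12, 8)),
   (0, 1, 2, (57, 16), (58, 32), (60, 8)),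
   (0, 1, 2, (17, 40), (58, 32), (60, 8)),
   (0, 1, 2, (41, 56), (58, 32), (60, 8)),
   (0, 1, 2, (57, 32), (58, 16), (60, 8)),
   (0, 1, 2, (33, 24), (58, 16), (60, 8)),
   (0, 1, 2, (25, 56), (58, 16), (60, 8)),
   (0, 1, 2, (57, 32), (18, 40), (60, 8)),
   (0, 1, 2, (33, 24), (18, 40), (60, 8)),
   (0, 1, 2, (25, 56), (18, 40), (60, 8)),
   (0, 1, 2, (57, 16), (34, 24), (60, 8)),
   (0, 1, 2, (17, 40), (34, 24), (60, 8)),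
   (0, 1, 2, (41, 56), (34, 24), (60, 8)),
   (0, 1, 2, (57, 32), (42, 56), (60, 8)),
   (0, 1, 2, (33, 24), (42, 56), (60, 8)),
   (0, 1, 2, (25, 56), (42, 56), (60, 8)),
   (0, 1, 2, (57, 16), (26, 56), (60, 8)),
   (0, 1, 2, (17, 40), (26, 56), (60, 8)),
   (0, 1, 2, (41, 56), (26, 56), (60, 8)),
   (0, 1, 2, (25, 48), (58, 0), (28, 40)),
   (0, 1, 2, (49, 40), (58, 0), (28, 40)),
   (0, 1, 2, (41, 24), (58, 0), (28, 40)),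
   (0, 1, 2, (57, 0), (26, 48), (28, 40)),
   (0, 1, 2, (1, 56), (26, 48), (28, 40)),
   (0, 1, 2, (57, 56), (26, 48), (28, 40)),
   (0, 1, 2, (57, 0), (50, 40), (28, 40)),
   (0, 1, 2, (1, 56), (50, 40), (28, 40)),
   (0, 1, 2, (57, 56), (50, 40), (28, 40)),
   (0, 1, 2, (25, 48), (2, 56), (28, 40)),
   (0, 1, 2, (49, 40), (2, 56), (28, 40)),
   (0, 1, 2, (41, 24), (2, 56), (28, 40))]

/-- A piece: The totally isotropic planes in echelon form. -/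
def planes23 : List (Nat × Nat × Nat × (Nat × Nat) × (Nat × Nat) × (Nat × Nat)) :=
  [(0, 1, 2, (57, 0), (42, 24), (28, 40)),
   (0, 1, 2, (1, 56), (42, 24), (28, 40)),
   (0, 1, 2, (57, 56), (42, 24), (28, 40)),
   (0, 1, 2, (25, 48), (58, 56), (28, 40)),
   (0, 1, 2, (49, 40), (58, 56), (28, 40)),
   (0, 1, 2, (41, 24), (58, 56), (28, 40)),
   (0, 1, 2, (57, 48), (26, 32), (60, 40)),
   (0, 1, 2, (49, 8), (26, 32), (60, 40)),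
   (0, 1, 2, (9, 56), (26, 32), (60, 40)),
   (0, 1, 2, (25, 32), (58, 48), (60, 40)),
   (0, 1, 2, (33, 56), (58, 48), (60, 40)),
   (0, 1, 2, (57, 24), (58, 48), (60, 40)),
   (0, 1, 2, (25, 32), (50, 8), (60, 40)),
   (0, 1, 2, (33, 56), (50, 8), (60, 40)),
   (0, 1, 2, (57, 24), (50, 8), (60, 40)),
   (0, 1, 2, (57, 48), (34, 56), (60, 40)),
   (0, 1, 2, (49, 8), (34, 56), (60, 40)),
   (0, 1, 2, (9, 56), (34, 56), (60, 40)),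
   (0, 1, 2, (25, 32), (10, 56), (60, 40)),
   (0, 1, 2, (33, 56), (10, 56), (60, 40)),
   (0, 1, 2, (57, 24), (10, 56), (60, 40)),
   (0, 1, 2, (57, 48), (58, 24), (60, 40)),
   (0, 1, 2, (49, 8), (58, 24), (60, 40)),
   (0, 1, 2, (9, 56), (58, 24), (60, 40)),
   (0, 1, 2, (41, 48), (58, 0), (44, 24)),
   (0, 1, 2, (49, 24), (58, 0), (44, 24)),
   (0, 1, 2, (25, 40), (58, 0), (44, 24)),
   (0, 1, 2, (57, 0), (42, 48), (44, 24)),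
   (0, 1, 2, (1, 56), (42, 48), (44, 24)),
   (0, 1, 2, (57, 56), (42, 48), (44, 24)),
   (0, 1, 2, (41, 48), (2, 56), (44, 24)),
   (0, 1, 2, (49, 24), (2, 56), (44, 24)),
   (0, 1, 2, (25, 40), (2, 56), (44, 24))]

/-- A piece: The totally isotropic planes in echelon form. -/
def planes24 : List (Nat × Nat × Nat × (Nat × Nat) × (Nat × Nat) × (Nat × Nat)) :=
  [(0, 1, 2, (57, 0), (50, 24), (44, 24)),
   (0, 1, 2, (1, 56), (50, 24), (44, 24)),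
   (0, 1, 2, (57, 56), (50, 24), (44, 24)),
   (0, 1, 2, (57, 0), (26, 40), (44, 24)),
   (0, 1, 2, (1, 56), (26, 40), (44, 24)),
   (0, 1, 2, (57, 56), (26, 40), (44, 24)),
   (0, 1, 2, (41, 48), (58, 56), (44, 24)),
   (0, 1, 2, (49, 24), (58, 56), (44, 24)),
   (0, 1, 2, (25, 40), (58, 56), (44, 24)),
   (0, 1, 2, (41, 16), (26, 32), (12, 56)),
   (0, 1, 2, (17, 56), (26, 32), (12, 56)),
   (0, 1, 2, (57, 40), (26, 32), (12, 56)),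
   (0, 1, 2, (25, 32), (42, 16), (12, 56)),
   (0, 1, 2, (33, 56), (42, 16), (12, 56)),
   (0, 1, 2, (57, 24), (42, 16), (12, 56)),
   (0, 1, 2, (41, 16), (34, 56), (12, 56)),
   (0, 1, 2, (17, 56), (34, 56), (12, 56)),
   (0, 1, 2, (57, 40), (34, 56), (12, 56)),
   (0, 1, 2, (25, 32), (18, 56), (12, 56)),
   (0, 1, 2, (33, 56), (18, 56), (12, 56)),
   (0, 1, 2, (57, 24), (18, 56), (12, 56)),
   (0, 1, 2, (25, 32), (58, 40), (12, 56)),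
   (0, 1, 2, (33, 56), (58, 40), (12, 56)),
   (0, 1, 2, (57, 24), (58, 40), (12, 56)),
   (0, 1, 2, (41, 16), (58, 24), (12, 56)),
   (0, 1, 2, (17, 56), (58, 24), (12, 56)),
   (0, 1, 2, (57, 40), (58, 24), (12, 56)),
   (0, 1, 2, (9, 48), (58, 32), (44, 56)),
   (0, 1, 2, (49, 56), (58, 32), (44, 56)),
   (0, 1, 2, (57, 8), (58, 32), (44, 56)),
   (0, 1, 2, (57, 32), (10, 48), (44, 56)),
   (0, 1, 2, (33, 24), (10, 48), (44, 56)),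
   (0, 1, 2, (25, 56), (10, 48), (44, 56))]

/-- A piece: The totally isotropic planes in echelon form. -/
def planes25 : List (Nat × Nat × Nat × (Nat × Nat) × (Nat × Nat) × (Nat × Nat)) :=
  [(0, 1, 2, (9, 48), (34, 24), (44, 56)),
   (0, 1, 2, (49, 56), (34, 24), (44, 56)),
   (0, 1, 2, (57, 8), (34, 24), (44, 56)),
   (0, 1, 2, (57, 32), (50, 56), (44, 56)),
   (0, 1, 2, (33, 24), (50, 56), (44, 56)),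
   (0, 1, 2, (25, 56), (50, 56), (44, 56)),
   (0, 1, 2, (57, 32), (58, 8), (44, 56)),
   (0, 1, 2, (33, 24), (58, 8), (44, 56)),
   (0, 1, 2, (25, 56), (58, 8), (44, 56)),
   (0, 1, 2, (9, 48), (26, 56), (44, 56)),
   (0, 1, 2, (49, 56), (26, 56), (44, 56)),
   (0, 1, 2, (57, 8), (26, 56), (44, 56)),
   (0, 1, 2, (57, 48), (42, 16), (60, 24)),
   (0, 1, 2, (49, 8), (42, 16), (60, 24)),
   (0, 1, 2, (9, 56), (42, 16), (60, 24)),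
   (0, 1, 2, (41, 16), (58, 48), (60, 24)),
   (0, 1, 2, (17, 56), (58, 48), (60, 24)),
   (0, 1, 2, (57, 40), (58, 48), (60, 24)),
   (0, 1, 2, (41, 16), (50, 8), (60, 24)),
   (0, 1, 2, (17, 56), (50, 8), (60, 24)),
   (0, 1, 2, (57, 40), (50, 8), (60, 24)),
   (0, 1, 2, (57, 48), (18, 56), (60, 24)),
   (0, 1, 2, (49, 8), (18, 56), (60, 24)),
   (0, 1, 2, (9, 56), (18, 56), (60, 24)),
   (0, 1, 2, (57, 48), (58, 40), (60, 24)),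
   (0, 1, 2, (49, 8), (58, 40), (60, 24)),
   (0, 1, 2, (9, 56), (58, 40), (60, 24)),
   (0, 1, 2, (41, 16), (10, 56), (60, 24)),
   (0, 1, 2, (17, 56), (10, 56), (60, 24)),
   (0, 1, 2, (57, 40), (10, 56), (60, 24)),
   (0, 1, 2, (57, 16), (10, 48), (28, 56)),
   (0, 1, 2, (17, 40), (10, 48), (28, 56)),
   (0, 1, 2, (41, 56), (10, 48), (28, 56))]

/-- A piece: The totally isotropic planes in echelon form. -/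
def planes26 : List (Nat × Nat × Nat × (Nat × Nat) × (Nat × Nat) × (Nat × Nat)) :=
  [(0, 1, 2, (9, 48), (58, 16), (28, 56)),
   (0, 1, 2, (49, 56), (58, 16), (28, 56)),
   (0, 1, 2, (57, 8), (58, 16), (28, 56)),
   (0, 1, 2, (9, 48), (18, 40), (28, 56)),
   (0, 1, 2, (49, 56), (18, 40), (28, 56)),
   (0, 1, 2, (57, 8), (18, 40), (28, 56)),
   (0, 1, 2, (57, 16), (50, 56), (28, 56)),
   (0, 1, 2, (17, 40), (50, 56), (28, 56)),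
   (0, 1, 2, (41, 56), (50, 56), (28, 56)),
   (0, 1, 2, (57, 16), (58, 8), (28, 56)),
   (0, 1, 2, (17, 40), (58, 8), (28, 56)),
   (0, 1, 2, (41, 56), (58, 8), (28, 56)),
   (0, 1, 2, (9, 48), (42, 56), (28, 56)),
   (0, 1, 2, (49, 56), (42, 56), (28, 56)),
   (0, 1, 2, (57, 8), (42, 56), (28, 56)),
   (0, 1, 2, (25, 48), (42, 48), (60, 56)),
   (0, 1, 2, (49, 40), (42, 48), (60, 56)),
   (0, 1, 2, (41, 24), (42, 48), (60, 56)),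
   (0, 1, 2, (41, 48), (26, 48), (60, 56)),
   (0, 1, 2, (49, 24), (26, 48), (60, 56)),
   (0, 1, 2, (25, 40), (26, 48), (60, 56)),
   (0, 1, 2, (41, 48), (50, 40), (60, 56)),
   (0, 1, 2, (49, 24), (50, 40), (60, 56)),
   (0, 1, 2, (25, 40), (50, 40), (60, 56)),
   (0, 1, 2, (25, 48), (50, 24), (60, 56)),
   (0, 1, 2, (49, 40), (50, 24), (60, 56)),
   (0, 1, 2, (41, 24), (50, 24), (60, 56)),
   (0, 1, 2, (25, 48), (26, 40), (60, 56)),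
   (0, 1, 2, (49, 40), (26, 40), (60, 56)),
   (0, 1, 2, (41, 24), (26, 40), (60, 56)),
   (0, 1, 2, (41, 48), (42, 24), (60, 56)),
   (0, 1, 2, (49, 24), (42, 24), (60, 56)),
   (0, 1, 2, (25, 40), (42, 24), (60, 56))]

/-- The totally isotropic planes in echelon form. -/
def planes : List (List (Nat × Nat × Nat × (Nat × Nat) × (Nat × Nat) × (Nat × Nat))) :=
  [planes0, planes1, planes2, planes3, planes4, planes5, planes6, planes7, planes8, planes9, planes10, planes11, planes12, planes13, planes14, planes15, planes16, planes17, planes18, planes19, planes20, planes21, planes22, planes23, planes24, planes25, planes26]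

/-- The generators. -/
def gens : List (List (Option (List Nat × Nat))) :=
  [[some ([0, 1, 18, 11, 20, 2, 7, 9, 10, 13, 17, 4, 14, 22, 8, 15, 5, 12, 21, 3, 19, 16, 6, 23], 3432)],
   [some ([0, 1, 12, 10, 2, 19, 14, 7, 21, 17, 4, 15, 3, 18, 16, 6, 11, 5, 22, 20, 9, 13, 8, 23], 3660)],
   [some ([0, 1, 17, 12, 15, 9, 7, 10, 20, 5, 14, 21, 8, 13, 6, 2, 19, 4, 16, 22, 3, 11, 18, 23], 2120)],
   [some ([0, 1, 2, 3, 4, 5, 6, 7, 8, 9, 10, 11, 12, 13, 14, 15, 16, 17, 18, 19, 20, 21, 22, 23], 8)],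
   [some ([0, 1, 2, 3, 4, 5, 6, 7, 8, 9, 10, 11, 12, 13, 14, 15, 16, 17, 18, 19, 20, 21, 22, 23], 20)],
   [some ([0, 1, 2, 3, 4, 5, 6, 7, 8, 9, 10, 11, 12, 13, 14, 15, 16, 17, 18, 19, 20, 21, 22, 23], 36)],
   [some ([0, 1, 2, 3, 4, 5, 6, 7, 8, 9, 10, 11, 12, 13, 14, 15, 16, 17, 18, 19, 20, 21, 22, 23], 68)],
   [some ([0, 1, 2, 3, 4, 5, 6, 7, 8, 9, 10, 11, 12, 13, 14, 15, 16, 17, 18, 19, 20, 21, 22, 23], 128)],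
   [some ([0, 1, 2, 3, 4, 5, 6, 7, 8, 9, 10, 11, 12, 13, 14, 15, 16, 17, 18, 19, 20, 21, 22, 23], 256)],
   [some ([0, 1, 2, 3, 4, 5, 6, 7, 8, 9, 10, 11, 12, 13, 14, 15, 16, 17, 18, 19, 20, 21, 22, 23], 512)],
   [some ([0, 1, 2, 3, 4, 5, 6, 7, 8, 9, 10, 11, 12, 13, 14, 15, 16, 17, 18, 19, 20, 21, 22, 23], 1028)],
   [some ([0, 1, 2, 3, 4, 5, 6, 7, 8, 9, 10, 11, 12, 13, 14, 15, 16, 17, 18, 19, 20, 21, 22, 23], 2052)],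
   [some ([16, 19, 12, 15, 6, 2, 10, 0, 22, 4, 21, 7, 17, 3, 20, 14, 13, 9, 11, 1, 18, 23, 8, 5], 1035), none, some ([6, 21, 14, 4, 17, 0, 10, 16, 12, 22, 23, 20, 2, 3, 9, 15, 7, 11, 13, 1, 18, 8, 5, 19], 3)]]

/-- A permutation. -/
def perm0 : List (List Nat) :=
  [[0, 513, 516, 520, 142, 518, 523, 526, 517, 141, 515, 525, 529, 530, 528, 524, 521, 1, 222, 514, 522, 223, 527, 519, 224, 143, 2, 17, 654, 687, 579, 31, 582],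
   [615, 651, 633, 672, 618, 561, 690, 44, 564, 708, 705, 4, 600, 636, 48, 58, 71, 75, 597, 669, 21, 26, 213, 132, 251, 190, 255, 305, 204, 717, 662, 309, 813],
   [123, 440, 816, 877, 874, 7, 590, 726, 429, 109, 401, 393, 592, 667, 12, 81, 578, 583, 776, 342, 634, 778, 436, 688, 87, 886, 881, 493, 306, 629, 488, 434, 377],
   [84, 315, 324, 835, 297, 686, 830, 333, 382, 98, 734, 409, 444, 36, 408, 608, 860, 410, 96, 606, 445, 859, 38, 733, 698, 696, 697, 97, 226, 37, 607, 227, 732],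
   [446, 225, 858, 107, 161, 134, 260, 254, 257, 359, 539, 719, 101, 275, 536, 128, 272, 356, 155, 278, 716, 104, 713, 290, 131, 533, 296, 158, 353, 293, 162, 247, 256],
   [179, 340, 718, 188, 52, 133, 114, 699, 694, 511, 609, 725, 506, 41, 380, 33, 764, 761, 822, 604, 122, 819, 347, 385, 848, 543, 460, 441, 423, 459, 314, 865, 461],
   [846, 312, 442, 864, 425, 545, 882, 883, 884, 847, 237, 424, 313, 238, 544, 443, 239, 866, 853, 147, 689, 569, 575, 584, 368, 739, 635, 841, 787, 730, 680, 796, 365],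
   [150, 793, 632, 844, 623, 285, 683, 745, 282, 144, 362, 279, 57, 73, 66, 588, 180, 465, 585, 154, 375, 138, 316, 327, 817, 171, 692, 812, 532, 370, 602, 337, 450],
   [593, 176, 468, 587, 715, 432, 474, 334, 551, 438, 173, 566, 456, 712, 557, 599, 268, 483, 110, 167, 29, 586, 277, 486, 464, 298, 870, 124, 172, 43, 625, 352, 741],
   [108, 391, 396, 601, 770, 414, 596, 152, 378, 135, 762, 752, 565, 780, 125, 560, 744, 373, 589, 348, 447, 598, 767, 411, 595, 631, 39, 420, 345, 803, 42, 782, 818],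
   [453, 622, 809, 591, 789, 501, 59, 62, 56, 594, 792, 504, 407, 605, 857, 691, 781, 439, 721, 361, 541, 111, 317, 330, 799, 351, 677, 794, 200, 379, 192, 763, 755],
   [263, 360, 119, 276, 641, 376, 355, 619, 771, 364, 310, 184, 614, 458, 103, 301, 455, 843, 175, 94, 13, 766, 838, 22, 295, 478, 810, 349, 727, 181, 731, 419, 100],
   [286, 491, 807, 170, 89, 8, 649, 685, 19, 160, 215, 51, 241, 214, 187, 242, 53, 106, 79, 80, 78, 186, 105, 24, 240, 159, 25, 284, 496, 558, 338, 637, 768],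
   [534, 473, 840, 288, 509, 555, 202, 121, 10, 197, 116, 5, 372, 495, 45, 369, 477, 426, 387, 27, 390, 63, 54, 72, 405, 480, 9, 462, 498, 18, 868, 497, 681],
   [832, 311, 678, 829, 476, 642, 308, 512, 645, 823, 856, 11, 470, 503, 14, 230, 655, 777, 149, 656, 435, 228, 437, 852, 403, 404, 402, 779, 854, 15, 229, 148, 16],
   [863, 479, 129, 827, 620, 126, 611, 494, 210, 821, 422, 207, 836, 872, 20, 413, 485, 23, 448, 728, 552, 451, 638, 804, 736, 383, 549, 548, 386, 801, 887, 890, 6],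
   [700, 703, 3, 643, 335, 735, 428, 531, 861, 151, 199, 40, 208, 346, 547, 47, 746, 869, 153, 640, 433, 502, 666, 93, 484, 671, 837, 500, 684, 871, 482, 120, 855],
   [88, 889, 873, 115, 702, 707, 221, 32, 83, 574, 30, 577, 219, 576, 568, 572, 570, 571, 82, 567, 580, 220, 573, 581, 507, 663, 102, 826, 674, 354, 510, 627, 212],
   [824, 406, 203, 85, 329, 320, 55, 68, 77, 253, 189, 246, 218, 191, 164, 216, 248, 259, 244, 245, 243, 163, 258, 249, 217, 252, 250, 271, 673, 773, 795, 660, 183],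
   [798, 624, 157, 262, 720, 146, 166, 389, 394, 61, 65, 76, 289, 665, 457, 790, 668, 174, 788, 418, 535, 280, 117, 542, 169, 880, 875, 112, 326, 319, 489, 658, 845],
   [831, 661, 363, 834, 463, 650, 492, 723, 647, 34, 751, 748, 28, 398, 395, 287, 657, 454, 269, 670, 765, 273, 472, 729, 291, 675, 742, 193, 760, 747, 196, 693, 706],
   [808, 659, 300, 556, 664, 613, 554, 466, 350, 806, 415, 336, 136, 754, 749, 139, 332, 318, 648, 299, 499, 612, 711, 508, 630, 198, 505, 201, 603, 481, 302, 621, 490],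
   [714, 639, 487, 540, 92, 261, 743, 851, 800, 95, 469, 791, 839, 412, 267, 421, 546, 785, 475, 737, 264, 118, 91, 145, 833, 815, 797, 86, 140, 113, 628, 610, 646],
   [820, 802, 784, 467, 449, 431, 281, 90, 722, 74, 69, 60, 99, 471, 786, 294, 862, 371, 209, 384, 783, 195, 701, 709, 676, 850, 156, 825, 563, 270, 724, 307, 211],
   [35, 137, 194, 828, 550, 266, 416, 452, 50, 397, 400, 388, 67, 70, 64, 331, 325, 328, 753, 759, 750, 879, 888, 876, 695, 704, 710, 234, 652, 775, 738, 653, 344],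
   [235, 343, 367, 756, 757, 758, 774, 366, 616, 236, 740, 617, 292, 849, 626, 392, 399, 165, 842, 417, 274, 283, 867, 374, 168, 885, 878, 644, 381, 265, 538, 206, 339],
   [232, 205, 178, 233, 341, 358, 322, 323, 321, 177, 357, 303, 231, 537, 304, 127, 562, 772, 679, 814, 185, 427, 811, 130, 46, 559, 682, 182, 553, 430, 769, 805, 49]]

/-- A permutation. -/
def perm1 : List (List Nat) :=
  [[0, 383, 386, 455, 44, 422, 458, 509, 404, 17, 476, 512, 491, 27, 494, 419, 473, 530, 26, 80, 53, 440, 54, 437, 401, 71, 527, 359, 539, 719, 658, 31, 661],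
   [834, 543, 395, 579, 463, 723, 489, 28, 492, 831, 460, 647, 848, 845, 34, 650, 363, 748, 398, 582, 751, 368, 804, 700, 285, 48, 315, 150, 768, 392, 615, 140, 610],
   [490, 29, 493, 198, 197, 212, 776, 809, 39, 157, 352, 292, 389, 708, 329, 379, 82, 374, 870, 95, 706, 290, 104, 713, 200, 196, 211, 867, 469, 307, 580, 464, 724],
   [794, 61, 791, 283, 76, 298, 567, 65, 693, 339, 303, 321, 141, 668, 670, 344, 817, 413, 418, 472, 529, 868, 470, 308, 616, 138, 611, 812, 863, 758, 560, 565, 135],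
   [524, 326, 760, 824, 312, 682, 857, 501, 688, 9, 643, 679, 833, 459, 646, 869, 468, 306, 15, 474, 510, 830, 866, 12, 495, 655, 309, 258, 252, 255, 376, 375, 377],
   [231, 233, 232, 663, 665, 664, 119, 465, 629, 117, 466, 627, 118, 467, 628, 755, 66, 881, 753, 67, 879, 754, 68, 880, 586, 640, 697, 222, 237, 226, 594, 781, 410],
   [417, 471, 528, 832, 461, 645, 199, 195, 210, 773, 827, 884, 183, 172, 168, 518, 702, 889, 155, 278, 716, 236, 220, 229, 18, 264, 318, 581, 462, 725, 617, 139, 609],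
   [16, 475, 511, 737, 740, 7, 498, 148, 874, 332, 573, 877, 641, 698, 587, 434, 433, 432, 154, 277, 715, 276, 714, 153, 488, 487, 486, 585, 639, 696, 238, 227, 223],
   [241, 240, 242, 235, 219, 228, 221, 230, 234, 218, 217, 216, 224, 239, 225, 782, 408, 595, 851, 850, 849, 20, 266, 320, 265, 319, 19, 477, 479, 478, 596, 780, 409],
   [677, 572, 626, 425, 430, 85, 767, 348, 631, 330, 574, 878, 482, 484, 88, 772, 826, 883, 686, 122, 519, 160, 133, 106, 839, 114, 852, 499, 149, 875, 481, 483, 87],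
   [517, 704, 888, 692, 405, 722, 653, 814, 90, 23, 335, 281, 735, 738, 8, 480, 485, 89, 185, 171, 170, 513, 728, 638, 801, 448, 635, 549, 552, 3, 516, 703, 890],
   [548, 451, 887, 736, 739, 6, 81, 373, 378, 162, 164, 163, 385, 2, 382, 384, 1, 381, 371, 370, 369, 380, 83, 372, 305, 323, 341, 179, 178, 177, 718, 358, 538],
   [717, 357, 537, 204, 206, 205, 340, 304, 322, 314, 681, 823, 188, 187, 186, 699, 367, 806, 701, 366, 805, 786, 788, 787, 822, 313, 683, 251, 245, 248, 98, 601, 762],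
   [649, 365, 747, 592, 362, 858, 810, 861, 756, 813, 92, 652, 441, 145, 820, 444, 598, 345, 156, 351, 291, 593, 360, 859, 828, 864, 13, 334, 280, 22, 778, 541, 504],
   [608, 59, 605, 439, 56, 436, 591, 361, 860, 792, 62, 789, 407, 721, 691, 107, 161, 134, 260, 254, 257, 272, 356, 128, 158, 353, 293, 536, 101, 275, 533, 296, 131],
   [853, 837, 115, 569, 64, 695, 270, 354, 126, 438, 55, 435, 337, 73, 268, 416, 577, 124, 520, 684, 120, 523, 325, 759, 271, 355, 127, 648, 364, 749, 201, 208, 192],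
   [795, 785, 111, 578, 125, 414, 783, 112, 796, 294, 129, 531, 184, 173, 169, 547, 450, 886, 331, 575, 876, 720, 690, 406, 559, 564, 137, 262, 301, 46, 846, 843, 35],
   [203, 207, 194, 146, 821, 442, 91, 651, 815, 497, 654, 311, 263, 302, 47, 774, 807, 40, 535, 100, 274, 542, 505, 779, 279, 21, 333, 282, 75, 297, 261, 300, 45],
   [24, 78, 51, 336, 72, 267, 243, 246, 249, 503, 687, 856, 562, 561, 563, 317, 287, 50, 316, 286, 49, 729, 731, 730, 855, 502, 689, 94, 705, 872, 619, 618, 620],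
   [421, 454, 43, 420, 453, 42, 742, 741, 743, 871, 93, 707, 667, 669, 143, 673, 672, 674, 660, 657, 30, 662, 659, 32, 190, 189, 191, 142, 666, 671, 553, 4, 550],
   [607, 58, 604, 25, 79, 52, 589, 622, 36, 568, 63, 694, 571, 625, 676, 726, 636, 514, 97, 600, 764, 847, 844, 33, 590, 623, 37, 522, 324, 761, 429, 84, 424],
   [449, 633, 802, 446, 597, 347, 775, 808, 41, 588, 621, 38, 259, 253, 256, 350, 630, 766, 247, 250, 244, 819, 443, 144, 506, 777, 540, 771, 825, 882, 546, 452, 885],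
   [500, 147, 873, 113, 797, 784, 445, 599, 346, 388, 710, 328, 110, 746, 733, 496, 656, 310, 116, 854, 838, 130, 532, 295, 606, 57, 603, 400, 70, 526, 108, 744, 734],
   [284, 77, 299, 121, 521, 685, 123, 415, 576, 96, 602, 763, 397, 584, 750, 109, 745, 732, 558, 566, 136, 132, 105, 159, 632, 765, 349, 793, 60, 790, 165, 174, 181],
   [399, 69, 525, 338, 74, 269, 637, 515, 727, 624, 675, 570, 811, 862, 757, 166, 175, 182, 396, 583, 752, 202, 209, 193, 634, 803, 447, 86, 423, 431, 829, 865, 14],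
   [167, 176, 180, 387, 709, 327, 534, 99, 273, 5, 551, 554, 816, 412, 343, 798, 800, 799, 394, 836, 545, 393, 835, 544, 213, 215, 214, 342, 818, 411, 642, 678, 11],
   [427, 426, 428, 391, 152, 770, 390, 151, 769, 840, 842, 841, 10, 644, 680, 103, 712, 289, 614, 613, 612, 403, 457, 508, 402, 456, 507, 555, 557, 556, 288, 102, 711]]

/-- A permutation. -/
def perm2 : List (List Nat) :=
  [[0, 448, 451, 444, 112, 457, 441, 443, 442, 1, 449, 452, 453, 455, 454, 456, 446, 111, 2, 447, 450, 113, 458, 445, 194, 193, 192, 81, 571, 573, 579, 31, 582],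
   [569, 568, 567, 82, 572, 574, 576, 578, 577, 584, 581, 30, 83, 570, 575, 32, 583, 580, 221, 220, 219, 162, 180, 171, 188, 169, 174, 179, 178, 177, 163, 181, 172],
   [185, 184, 183, 176, 187, 168, 164, 182, 173, 170, 175, 186, 167, 166, 165, 359, 539, 719, 260, 128, 713, 107, 293, 716, 356, 161, 296, 257, 155, 533, 104, 158, 131],
   [353, 254, 101, 134, 290, 536, 278, 272, 275, 778, 407, 591, 17, 672, 600, 853, 327, 585, 772, 482, 330, 14, 488, 416, 844, 491, 657, 769, 11, 841, 666, 324, 419],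
   [276, 270, 273, 608, 792, 439, 314, 882, 424, 520, 40, 433, 620, 707, 43, 311, 698, 795, 514, 701, 885, 611, 308, 529, 873, 37, 786, 277, 271, 274, 368, 890, 549],
   [776, 121, 555, 615, 669, 564, 365, 833, 660, 767, 824, 878, 612, 830, 124, 362, 782, 603, 118, 663, 881, 262, 265, 268, 251, 47, 335, 26, 284, 338, 305, 323, 341],
   [248, 74, 317, 23, 77, 50, 302, 80, 287, 245, 20, 299, 281, 320, 53, 263, 266, 269, 98, 800, 475, 848, 543, 460, 523, 412, 469, 95, 743, 421, 839, 734, 785],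
   [517, 737, 546, 92, 851, 526, 540, 409, 791, 261, 264, 267, 29, 396, 393, 218, 236, 227, 89, 675, 683, 352, 253, 100, 560, 344, 472, 874, 38, 787, 197, 202, 213],
   [5, 634, 637, 116, 509, 496, 768, 10, 840, 558, 342, 473, 132, 288, 534, 140, 811, 816, 137, 757, 759, 143, 862, 867, 610, 307, 528, 559, 343, 471, 667, 325, 417],
   [56, 501, 504, 62, 857, 860, 59, 688, 691, 361, 781, 605, 721, 594, 436, 541, 410, 789, 191, 209, 200, 8, 803, 806, 110, 404, 388, 244, 19, 298, 722, 595, 437],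
   [119, 664, 879, 86, 624, 632, 35, 752, 749, 224, 229, 240, 91, 850, 525, 720, 596, 435, 279, 318, 51, 351, 252, 99, 770, 9, 842, 609, 306, 530, 360, 780, 604],
   [243, 18, 297, 90, 849, 527, 383, 728, 703, 386, 552, 739, 548, 516, 736, 887, 513, 700, 635, 638, 3, 801, 804, 6, 371, 589, 148, 384, 553, 740, 420, 94, 742],
   [130, 103, 157, 758, 760, 135, 402, 389, 108, 380, 431, 485, 385, 554, 738, 784, 838, 733, 659, 843, 490, 234, 225, 216, 207, 198, 189, 374, 348, 826, 381, 726, 704],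
   [42, 619, 706, 123, 614, 829, 507, 497, 114, 750, 747, 33, 372, 349, 827, 369, 590, 149, 295, 355, 160, 662, 364, 832, 863, 868, 141, 230, 241, 222, 373, 350, 825],
   [378, 429, 483, 332, 771, 481, 877, 766, 823, 676, 681, 87, 625, 630, 84, 382, 727, 702, 377, 467, 68, 797, 310, 697, 286, 301, 79, 855, 858, 60, 203, 214, 195],
   [370, 588, 147, 375, 465, 66, 532, 256, 154, 316, 247, 73, 689, 692, 57, 812, 817, 138, 379, 430, 484, 376, 466, 67, 415, 13, 487, 49, 22, 76, 502, 505, 54],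
   [397, 394, 27, 668, 326, 418, 875, 36, 788, 133, 289, 535, 280, 319, 52, 542, 408, 790, 117, 665, 880, 631, 85, 626, 818, 139, 810, 613, 828, 125, 102, 156, 129],
   [644, 152, 426, 649, 836, 462, 748, 34, 751, 395, 28, 398, 363, 831, 661, 845, 489, 658, 647, 492, 723, 650, 834, 463, 242, 223, 228, 215, 196, 201, 765, 822, 876],
   [515, 699, 886, 656, 710, 599, 648, 835, 464, 506, 55, 503, 761, 136, 756, 354, 159, 294, 300, 78, 285, 652, 69, 562, 642, 150, 427, 859, 61, 856, 226, 217, 235],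
   [773, 480, 331, 246, 72, 315, 653, 70, 563, 645, 493, 724, 690, 58, 687, 636, 4, 633, 618, 705, 44, 21, 75, 48, 651, 71, 561, 654, 708, 597, 869, 142, 861],
   [199, 190, 208, 518, 735, 547, 255, 153, 531, 640, 746, 346, 643, 151, 428, 682, 88, 677, 805, 7, 802, 93, 741, 422, 12, 486, 414, 641, 744, 347, 646, 494, 725],
   [495, 115, 508, 387, 109, 403, 837, 732, 783, 309, 696, 796, 639, 745, 345, 655, 709, 598, 820, 65, 730, 821, 63, 731, 819, 64, 729, 145, 479, 694, 146, 477, 695],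
   [144, 478, 693, 45, 333, 249, 405, 592, 779, 629, 628, 627, 813, 815, 814, 250, 46, 334, 777, 406, 593, 282, 336, 24, 793, 440, 606, 754, 753, 755, 401, 400, 399],
   [25, 283, 337, 607, 794, 438, 321, 339, 303, 537, 717, 357, 231, 233, 232, 204, 206, 205, 304, 322, 340, 358, 538, 718, 673, 601, 15, 798, 476, 96, 512, 511, 510],
   [762, 764, 763, 16, 674, 602, 97, 799, 474, 883, 425, 312, 544, 461, 846, 865, 864, 866, 238, 237, 239, 313, 884, 423, 847, 545, 459, 126, 711, 258, 413, 470, 524],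
   [678, 680, 679, 621, 623, 622, 259, 127, 712, 522, 411, 468, 328, 586, 854, 888, 550, 366, 870, 872, 871, 211, 210, 212, 367, 889, 551, 852, 329, 587, 41, 434, 521],
   [122, 556, 774, 686, 685, 684, 808, 807, 809, 775, 120, 557, 519, 39, 432, 291, 714, 105, 670, 565, 616, 499, 498, 500, 391, 390, 392, 617, 671, 566, 106, 292, 715]]

/-- A permutation. -/
def perm3 : List (List Nat) :=
  [[0, 1, 2, 3, 19, 12, 6, 10, 21, 18, 7, 16, 5, 22, 15, 14, 11, 17, 9, 4, 25, 8, 13, 24, 23, 20, 26, 27, 361, 354, 30, 574, 577],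
   [33, 840, 837, 387, 721, 674, 534, 484, 764, 829, 642, 476, 390, 541, 826, 714, 487, 639, 671, 761, 473, 54, 352, 363, 57, 610, 613, 60, 768, 765, 423, 712, 602],
   [543, 412, 800, 865, 678, 512, 426, 532, 862, 723, 415, 675, 599, 797, 509, 81, 82, 83, 84, 100, 93, 87, 91, 102, 99, 88, 97, 86, 103, 96, 95, 92, 98],
   [90, 85, 106, 89, 94, 105, 104, 101, 107, 108, 307, 300, 111, 452, 454, 114, 850, 845, 395, 343, 799, 318, 740, 511, 706, 652, 601, 400, 325, 704, 336, 742, 647],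
   [794, 506, 596, 135, 298, 309, 138, 605, 618, 141, 525, 515, 551, 334, 474, 327, 407, 672, 870, 813, 762, 561, 316, 857, 345, 420, 803, 464, 662, 752, 162, 163, 164],
   [165, 181, 174, 168, 172, 183, 180, 169, 178, 167, 184, 177, 176, 173, 179, 171, 166, 187, 170, 175, 186, 185, 182, 188, 189, 253, 246, 192, 449, 457, 195, 781, 773],
   [431, 289, 763, 264, 737, 475, 709, 691, 673, 439, 271, 701, 282, 745, 683, 755, 467, 665, 216, 244, 255, 219, 572, 582, 222, 528, 518, 554, 280, 510, 273, 482, 600],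
   [834, 816, 798, 564, 262, 824, 291, 492, 806, 500, 590, 788, 252, 217, 250, 191, 256, 249, 248, 245, 251, 243, 190, 259, 218, 247, 258, 257, 254, 260, 398, 235, 677],
   [201, 633, 508, 810, 756, 861, 403, 208, 802, 228, 626, 751, 687, 503, 856, 889, 226, 471, 210, 410, 827, 586, 697, 640, 884, 199, 594, 237, 417, 702, 461, 832, 645],
   [306, 136, 304, 110, 310, 303, 302, 299, 305, 297, 109, 313, 137, 301, 312, 311, 308, 314, 434, 154, 641, 120, 636, 472, 807, 789, 825, 436, 127, 805, 147, 623, 787],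
   [654, 470, 823, 886, 145, 507, 129, 479, 863, 658, 694, 676, 881, 118, 663, 156, 489, 699, 497, 868, 681, 360, 55, 358, 29, 364, 357, 356, 353, 359, 351, 28, 367],
   [56, 355, 366, 365, 362, 368, 369, 370, 371, 372, 373, 374, 375, 376, 377, 378, 379, 380, 381, 382, 383, 384, 385, 386, 36, 622, 589, 45, 744, 867, 627, 466, 117],
   [734, 469, 261, 860, 126, 494, 591, 270, 491, 498, 874, 148, 495, 560, 283, 879, 67, 753, 565, 76, 655, 292, 748, 437, 157, 650, 440, 63, 625, 661, 72, 741, 831],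
   [630, 505, 198, 731, 502, 315, 666, 324, 419, 821, 207, 422, 441, 456, 450, 444, 453, 447, 446, 451, 193, 443, 448, 112, 445, 113, 458, 442, 194, 455, 477, 812, 294],
   [480, 705, 159, 817, 394, 214, 695, 397, 331, 281, 320, 53, 146, 203, 44, 459, 557, 337, 462, 877, 229, 882, 40, 792, 562, 49, 688, 346, 784, 404, 238, 686, 401],
   [408, 809, 348, 405, 708, 240, 698, 433, 277, 814, 430, 133, 335, 266, 80, 227, 122, 71, 516, 521, 143, 513, 524, 224, 529, 520, 514, 526, 523, 517, 142, 522, 530],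
   [223, 519, 527, 556, 73, 646, 39, 631, 595, 685, 667, 703, 559, 46, 682, 66, 628, 664, 649, 592, 700, 635, 796, 144, 638, 760, 225, 758, 531, 478, 791, 540, 409],
   [153, 486, 696, 234, 414, 693, 584, 575, 569, 581, 573, 220, 571, 31, 568, 580, 32, 583, 579, 576, 570, 221, 578, 567, 689, 285, 730, 692, 389, 241, 402, 547, 820],
   [290, 536, 134, 735, 828, 78, 230, 125, 65, 617, 609, 139, 620, 611, 608, 604, 58, 607, 616, 59, 619, 615, 612, 603, 140, 614, 606, 710, 388, 328, 707, 424, 274],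
   [393, 544, 835, 429, 535, 871, 265, 830, 549, 319, 866, 552, 50, 287, 317, 43, 795, 885, 296, 533, 131, 785, 546, 421, 878, 124, 660, 330, 416, 657, 656, 339, 733],
   [653, 425, 160, 344, 545, 215, 435, 538, 859, 738, 864, 51, 149, 206, 38, 77, 341, 263, 70, 759, 888, 350, 542, 212, 749, 537, 493, 276, 488, 585, 875, 205, 588],
   [566, 340, 468, 563, 286, 501, 347, 548, 209, 293, 539, 128, 463, 123, 624, 499, 204, 621, 876, 64, 750, 48, 729, 855, 783, 819, 801, 873, 37, 786, 75, 732, 822],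
   [747, 858, 804, 715, 587, 432, 724, 659, 396, 597, 887, 202, 669, 890, 121, 427, 130, 811, 391, 211, 808, 726, 418, 684, 713, 275, 161, 413, 836, 213, 268, 833, 555],
   [679, 553, 52, 152, 200, 41, 62, 771, 774, 61, 777, 780, 766, 779, 197, 767, 782, 776, 769, 778, 772, 770, 196, 775, 717, 490, 648, 722, 329, 242, 322, 869, 558],
   [485, 872, 132, 643, 550, 79, 233, 119, 68, 719, 272, 158, 728, 326, 239, 321, 746, 496, 267, 743, 460, 151, 504, 883, 232, 465, 880, 718, 593, 438, 725, 332, 236],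
   [323, 47, 284, 598, 42, 634, 428, 295, 757, 231, 629, 754, 35, 843, 846, 34, 852, 849, 838, 854, 116, 839, 851, 848, 842, 115, 847, 841, 853, 844, 716, 278, 155],
   [727, 668, 399, 269, 74, 338, 670, 69, 637, 392, 349, 790, 150, 632, 793, 720, 406, 690, 711, 481, 651, 411, 818, 342, 483, 815, 288, 644, 333, 736, 680, 279, 739]]

/-- A permutation. -/
def perm4 : List (List Nat) :=
  [[0, 2, 1, 3, 16, 23, 6, 25, 14, 18, 20, 19, 24, 13, 8, 21, 4, 17, 9, 11, 10, 15, 22, 5, 12, 7, 26, 54, 367, 356, 114, 852, 839],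
   [219, 568, 576, 72, 235, 128, 336, 415, 806, 267, 694, 437, 63, 343, 272, 228, 412, 699, 123, 816, 440, 27, 358, 365, 195, 777, 767, 138, 607, 612, 45, 154, 209],
   [282, 487, 803, 321, 697, 404, 36, 289, 326, 147, 484, 702, 204, 813, 401, 162, 164, 163, 216, 259, 248, 189, 250, 257, 243, 245, 244, 249, 256, 191, 246, 217, 260],
   [252, 254, 253, 258, 247, 218, 255, 190, 251, 168, 187, 176, 111, 446, 456, 30, 581, 584, 279, 541, 119, 318, 410, 664, 51, 789, 879, 288, 325, 38, 534, 417, 787],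
   [132, 667, 874, 165, 178, 185, 60, 775, 772, 141, 519, 517, 261, 145, 722, 75, 633, 672, 339, 797, 388, 270, 64, 344, 156, 626, 800, 717, 662, 393, 81, 83, 82],
   [135, 313, 302, 108, 304, 311, 297, 299, 298, 303, 310, 110, 300, 136, 314, 306, 308, 307, 312, 301, 137, 309, 109, 305, 87, 106, 95, 192, 443, 453, 57, 617, 620],
   [333, 532, 200, 264, 479, 595, 78, 756, 882, 342, 271, 65, 543, 489, 751, 213, 592, 877, 84, 97, 104, 33, 847, 844, 222, 522, 514, 315, 226, 713, 48, 636, 600],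
   [285, 761, 424, 324, 37, 290, 237, 623, 764, 726, 590, 429, 90, 92, 91, 96, 103, 86, 93, 88, 107, 99, 101, 100, 105, 94, 89, 102, 85, 98, 144, 721, 263],
   [201, 407, 822, 42, 691, 565, 153, 208, 47, 714, 420, 683, 276, 819, 560, 117, 280, 542, 66, 740, 827, 231, 678, 391, 126, 73, 236, 291, 742, 675, 537, 832, 396],
   [171, 173, 172, 177, 184, 167, 174, 169, 188, 180, 182, 181, 186, 175, 170, 183, 166, 179, 225, 712, 317, 120, 482, 855, 69, 652, 562, 234, 127, 74, 723, 492, 647],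
   [330, 858, 557, 198, 334, 533, 39, 737, 863, 150, 642, 427, 207, 46, 155, 345, 745, 639, 546, 868, 432, 351, 353, 352, 357, 364, 29, 354, 55, 368, 360, 362, 361],
   [366, 355, 56, 363, 28, 359, 369, 378, 381, 372, 375, 384, 373, 376, 385, 370, 379, 382, 371, 380, 383, 374, 377, 386, 426, 152, 644, 423, 287, 760, 161, 502, 889],
   [296, 505, 551, 758, 884, 80, 651, 561, 71, 477, 596, 265, 480, 856, 121, 601, 49, 637, 861, 40, 735, 130, 632, 476, 274, 730, 473, 390, 233, 680, 387, 341, 796],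
   [242, 469, 886, 350, 466, 554, 690, 564, 44, 791, 881, 53, 441, 454, 193, 444, 457, 112, 452, 451, 450, 449, 448, 447, 194, 442, 455, 113, 445, 458, 498, 872, 685],
   [495, 585, 783, 869, 433, 547, 588, 430, 727, 682, 716, 422, 786, 536, 419, 405, 823, 202, 408, 665, 319, 673, 76, 634, 825, 67, 738, 211, 629, 512, 328, 733, 509],
   [462, 836, 649, 459, 657, 747, 660, 394, 718, 833, 397, 538, 646, 725, 494, 750, 545, 491, 513, 224, 524, 516, 143, 521, 142, 520, 518, 223, 523, 515, 529, 528, 530],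
   [526, 525, 527, 531, 199, 335, 129, 631, 475, 294, 506, 549, 540, 118, 281, 210, 628, 511, 348, 467, 552, 539, 831, 398, 548, 867, 434, 860, 556, 332, 821, 559, 278],
   [403, 323, 696, 436, 269, 693, 845, 34, 848, 850, 849, 851, 842, 841, 840, 35, 846, 843, 853, 837, 115, 854, 838, 116, 463, 834, 650, 468, 885, 241, 878, 214, 593],
   [824, 203, 406, 655, 598, 709, 230, 411, 701, 781, 780, 782, 773, 61, 776, 770, 769, 768, 62, 774, 771, 778, 765, 196, 779, 766, 197, 621, 762, 238, 624, 798, 157],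
   [752, 544, 490, 788, 535, 418, 148, 485, 703, 229, 413, 700, 347, 744, 641, 340, 795, 389, 734, 507, 329, 785, 497, 587, 402, 322, 698, 654, 597, 708, 499, 870, 686],
   [501, 888, 160, 857, 122, 481, 875, 133, 668, 688, 670, 706, 149, 483, 704, 293, 741, 677, 286, 759, 425, 731, 471, 275, 749, 461, 659, 687, 669, 705, 435, 268, 695],
   [566, 43, 692, 563, 70, 653, 50, 638, 602, 77, 635, 674, 689, 671, 707, 656, 599, 710, 711, 316, 227, 273, 729, 472, 159, 503, 890, 720, 262, 146, 327, 732, 508],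
   [240, 470, 887, 715, 421, 681, 724, 493, 645, 416, 804, 337, 488, 801, 283, 676, 292, 743, 640, 346, 746, 500, 871, 684, 510, 212, 627, 866, 809, 755, 205, 814, 399],
   [679, 392, 232, 622, 763, 239, 616, 619, 59, 611, 610, 609, 614, 140, 606, 613, 139, 608, 58, 615, 618, 604, 603, 605, 464, 835, 648, 474, 131, 630, 124, 817, 438],
   [830, 812, 794, 643, 428, 151, 625, 799, 158, 739, 826, 68, 736, 862, 41, 865, 808, 754, 829, 811, 793, 79, 757, 883, 52, 790, 880, 277, 820, 558, 266, 478, 594],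
   [486, 802, 284, 828, 810, 792, 550, 295, 504, 586, 784, 496, 580, 583, 32, 575, 574, 573, 578, 221, 567, 577, 220, 569, 571, 570, 572, 31, 579, 582, 320, 409, 663],
   [331, 859, 555, 414, 805, 338, 864, 807, 753, 553, 349, 465, 658, 748, 460, 873, 134, 666, 876, 215, 591, 125, 818, 439, 206, 815, 400, 589, 431, 728, 661, 395, 719]]

/-- A permutation. -/
def perm5 : List (List Nat) :=
  [[0, 1, 2, 3, 23, 16, 6, 14, 25, 9, 15, 12, 11, 22, 7, 10, 5, 26, 18, 24, 21, 20, 13, 4, 19, 8, 17, 54, 357, 362, 114, 129, 118],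
   [219, 273, 262, 426, 580, 347, 841, 76, 802, 232, 706, 422, 423, 846, 239, 575, 67, 704, 340, 810, 419, 27, 366, 353, 195, 210, 199, 138, 327, 316, 390, 616, 293],
   [769, 49, 805, 151, 709, 494, 387, 774, 158, 611, 40, 701, 286, 807, 491, 162, 370, 375, 216, 788, 798, 189, 206, 215, 842, 673, 486, 233, 619, 741, 427, 562, 188],
   [849, 242, 432, 665, 614, 557, 478, 731, 179, 168, 645, 640, 111, 112, 113, 30, 653, 656, 644, 32, 641, 643, 655, 646, 642, 652, 169, 651, 648, 639, 31, 650, 647],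
   [654, 649, 170, 165, 269, 278, 60, 790, 793, 141, 525, 515, 392, 670, 716, 768, 637, 338, 150, 69, 174, 399, 765, 155, 668, 632, 74, 727, 349, 181, 81, 373, 378],
   [135, 752, 762, 108, 125, 134, 770, 601, 414, 152, 583, 744, 391, 565, 107, 780, 161, 396, 596, 578, 560, 409, 734, 98, 87, 681, 676, 192, 193, 194, 57, 692, 689],
   [680, 59, 677, 679, 688, 682, 678, 691, 88, 690, 684, 675, 58, 686, 683, 687, 685, 89, 84, 323, 332, 33, 757, 754, 222, 528, 518, 428, 598, 725, 840, 634, 284],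
   [231, 42, 93, 438, 837, 236, 593, 629, 47, 718, 295, 100, 573, 825, 483, 341, 771, 625, 424, 882, 314, 571, 350, 429, 823, 766, 877, 481, 630, 305, 760, 35, 763],
   [759, 753, 750, 761, 756, 136, 758, 749, 764, 34, 748, 751, 755, 747, 137, 389, 828, 536, 610, 735, 230, 285, 78, 300, 402, 613, 290, 820, 730, 65, 547, 241, 307],
   [609, 861, 411, 287, 843, 622, 388, 879, 260, 604, 296, 393, 856, 838, 874, 406, 627, 251, 796, 62, 799, 795, 792, 786, 797, 789, 217, 791, 785, 800, 61, 784, 787],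
   [794, 783, 218, 425, 864, 545, 574, 738, 149, 339, 51, 246, 435, 577, 344, 859, 733, 38, 538, 160, 253, 351, 365, 56, 367, 364, 361, 28, 363, 359, 360, 356, 29],
   [358, 355, 352, 55, 354, 368, 369, 82, 385, 372, 163, 382, 83, 376, 381, 164, 379, 384, 377, 374, 386, 380, 371, 383, 72, 303, 279, 63, 177, 144, 308, 433, 885],
   [182, 430, 553, 153, 878, 512, 288, 555, 509, 459, 312, 866, 462, 186, 597, 299, 487, 633, 173, 484, 740, 587, 626, 53, 871, 742, 44, 45, 249, 333, 36, 96, 225],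
   [254, 397, 888, 101, 394, 550, 342, 558, 473, 234, 875, 476, 441, 442, 443, 444, 445, 446, 447, 448, 449, 450, 451, 452, 453, 454, 455, 456, 457, 458, 405, 779, 592],
   [408, 606, 858, 782, 502, 537, 603, 505, 717, 595, 722, 437, 855, 542, 440, 498, 105, 669, 495, 258, 830, 245, 415, 636, 92, 412, 737, 659, 623, 80, 835, 745, 71],
   [480, 854, 667, 477, 567, 819, 570, 466, 726, 851, 469, 546, 664, 713, 404, 822, 533, 401, 516, 521, 143, 513, 524, 224, 529, 520, 514, 526, 523, 517, 142, 522, 530],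
   [223, 519, 527, 531, 767, 511, 852, 631, 281, 467, 348, 552, 540, 839, 475, 777, 628, 335, 506, 294, 549, 548, 434, 867, 539, 398, 831, 403, 556, 104, 436, 559, 185],
   [860, 97, 696, 821, 178, 693, 499, 714, 615, 501, 252, 833, 243, 336, 48, 721, 343, 184, 608, 37, 698, 836, 175, 708, 773, 586, 417, 781, 889, 832, 884, 461, 237],
   [594, 471, 183, 410, 226, 697, 827, 172, 702, 468, 306, 869, 463, 723, 579, 297, 282, 75, 712, 289, 103, 569, 64, 695, 872, 94, 705, 621, 302, 490, 624, 248, 418],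
   [313, 544, 238, 259, 535, 157, 413, 229, 700, 485, 148, 703, 128, 110, 119, 123, 120, 117, 109, 122, 131, 127, 133, 130, 126, 124, 115, 132, 121, 116, 845, 658, 489],
   [850, 886, 868, 663, 507, 102, 881, 497, 156, 479, 145, 694, 863, 91, 699, 209, 191, 200, 204, 201, 198, 190, 203, 212, 208, 214, 211, 213, 202, 197, 207, 205, 196],
   [566, 671, 617, 563, 599, 581, 674, 635, 77, 602, 638, 50, 620, 43, 707, 584, 70, 710, 711, 612, 508, 568, 729, 146, 470, 240, 887, 720, 576, 472, 607, 732, 227],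
   [503, 159, 890, 715, 292, 106, 724, 346, 187, 283, 801, 488, 337, 804, 416, 95, 421, 743, 176, 493, 746, 277, 274, 271, 266, 275, 166, 265, 221, 276, 268, 220, 270],
   [264, 261, 267, 167, 263, 272, 154, 256, 532, 147, 66, 171, 247, 812, 585, 73, 817, 853, 543, 848, 460, 180, 588, 465, 331, 328, 325, 320, 329, 85, 322, 139, 324],
   [319, 140, 330, 318, 315, 321, 86, 317, 326, 736, 41, 862, 739, 68, 826, 79, 808, 844, 52, 811, 772, 865, 847, 883, 829, 775, 880, 500, 291, 564, 510, 255, 824],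
   [244, 806, 600, 280, 816, 482, 554, 590, 572, 834, 492, 582, 235, 310, 541, 228, 39, 90, 301, 809, 657, 46, 814, 778, 99, 660, 504, 534, 776, 496, 474, 309, 857],
   [464, 345, 561, 298, 803, 672, 334, 813, 407, 551, 662, 605, 870, 420, 618, 873, 311, 439, 876, 257, 400, 304, 818, 666, 250, 815, 591, 395, 661, 719, 431, 589, 728]]

/-- A permutation. -/
def perm6 : List (List Nat) :=
  [[0, 1, 2, 3, 19, 12, 6, 10, 21, 18, 7, 16, 5, 22, 15, 14, 11, 17, 9, 4, 25, 8, 13, 24, 23, 20, 26, 54, 356, 367, 84, 319, 328],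
   [189, 202, 211, 408, 733, 97, 634, 76, 673, 257, 823, 512, 405, 629, 250, 738, 67, 825, 104, 665, 509, 27, 365, 358, 165, 265, 274, 108, 121, 130, 477, 730, 178],
   [637, 49, 601, 311, 856, 476, 480, 632, 304, 735, 40, 861, 185, 596, 473, 81, 384, 371, 30, 649, 646, 219, 272, 267, 297, 802, 674, 533, 766, 510, 227, 38, 98],
   [306, 546, 240, 810, 771, 51, 671, 500, 107, 60, 783, 786, 111, 112, 113, 216, 796, 791, 790, 784, 799, 795, 61, 798, 218, 787, 800, 793, 785, 217, 792, 62, 789],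
   [794, 788, 797, 195, 209, 204, 168, 644, 651, 222, 521, 526, 695, 820, 177, 416, 769, 600, 236, 874, 475, 705, 421, 231, 828, 774, 879, 182, 590, 467, 162, 381, 374],
   [57, 685, 682, 138, 326, 321, 243, 805, 602, 542, 838, 474, 146, 65, 179, 252, 537, 159, 807, 843, 78, 599, 464, 188, 33, 747, 750, 192, 193, 194, 135, 760, 758],
   [757, 748, 763, 759, 34, 762, 137, 751, 764, 754, 749, 136, 753, 35, 756, 755, 752, 761, 114, 128, 123, 87, 680, 690, 141, 524, 529, 698, 859, 96, 488, 841, 672],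
   [155, 877, 511, 708, 493, 150, 864, 846, 882, 101, 662, 506, 171, 704, 826, 713, 614, 507, 335, 47, 251, 180, 726, 348, 706, 619, 42, 829, 497, 260, 692, 686, 677],
   [679, 58, 676, 89, 683, 675, 689, 684, 88, 688, 59, 691, 687, 681, 678, 817, 668, 303, 413, 611, 863, 344, 560, 472, 812, 418, 339, 670, 616, 565, 308, 868, 470],
   [90, 701, 862, 722, 578, 471, 281, 74, 305, 99, 717, 294, 709, 583, 69, 865, 461, 314, 653, 650, 641, 643, 31, 640, 170, 647, 639, 656, 648, 169, 655, 32, 652],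
   [654, 645, 642, 814, 593, 249, 485, 575, 827, 290, 557, 508, 809, 490, 285, 598, 580, 562, 254, 832, 503, 360, 366, 363, 362, 355, 28, 361, 56, 359, 351, 357, 354],
   [353, 364, 55, 352, 29, 368, 372, 380, 83, 369, 377, 164, 385, 376, 373, 382, 379, 370, 163, 378, 386, 82, 375, 383, 495, 536, 775, 498, 716, 617, 547, 433, 869],
   [727, 430, 588, 620, 872, 422, 772, 585, 419, 45, 813, 777, 36, 697, 607, 803, 487, 282, 702, 484, 147, 612, 289, 404, 767, 154, 401, 459, 545, 847, 462, 725, 581],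
   [538, 397, 833, 718, 394, 660, 844, 657, 491, 584, 836, 494, 441, 442, 443, 444, 445, 446, 447, 448, 449, 450, 451, 452, 453, 454, 455, 456, 457, 458, 423, 884, 313],
   [426, 561, 187, 889, 502, 161, 551, 505, 296, 302, 287, 80, 176, 152, 71, 63, 694, 568, 72, 816, 852, 806, 415, 336, 699, 412, 228, 576, 343, 437, 839, 235, 440],
   [387, 881, 259, 390, 564, 106, 554, 466, 350, 886, 469, 242, 248, 341, 53, 95, 233, 44, 516, 525, 522, 513, 528, 519, 518, 520, 142, 515, 523, 223, 514, 143, 527],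
   [517, 224, 530, 707, 871, 93, 830, 535, 388, 181, 429, 552, 710, 835, 174, 866, 544, 424, 100, 393, 549, 548, 850, 468, 539, 781, 501, 773, 624, 340, 845, 621, 286],
   [463, 347, 563, 499, 293, 566, 821, 479, 569, 831, 780, 888, 770, 636, 337, 489, 623, 301, 579, 346, 428, 875, 310, 438, 403, 663, 712, 398, 782, 160, 779, 627, 334],
   [658, 622, 79, 723, 345, 186, 149, 68, 173, 867, 849, 885, 860, 410, 608, 842, 633, 283, 417, 626, 247, 615, 292, 392, 878, 256, 399, 559, 595, 577, 556, 664, 613],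
   [592, 628, 46, 667, 631, 73, 610, 39, 700, 574, 66, 703, 323, 320, 317, 332, 318, 139, 331, 86, 322, 325, 85, 316, 140, 329, 315, 330, 327, 324, 436, 594, 721],
   [434, 851, 241, 586, 625, 52, 854, 630, 280, 714, 291, 105, 230, 41, 92, 269, 266, 263, 278, 264, 220, 277, 167, 268, 271, 166, 262, 276, 273, 270, 221, 275, 261],
   [693, 478, 144, 696, 409, 225, 486, 635, 298, 414, 638, 244, 153, 255, 531, 234, 309, 540, 811, 587, 246, 669, 715, 391, 307, 432, 887, 808, 659, 300, 597, 724, 427],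
   [253, 396, 890, 729, 64, 819, 732, 37, 858, 75, 801, 840, 48, 804, 768, 822, 765, 876, 855, 837, 873, 190, 199, 208, 191, 205, 214, 210, 207, 213, 212, 198, 197],
   [201, 196, 215, 203, 200, 206, 742, 94, 420, 740, 148, 573, 103, 402, 555, 157, 389, 776, 407, 778, 591, 571, 553, 589, 109, 118, 127, 110, 124, 133, 131, 117, 116],
   [129, 126, 132, 120, 115, 134, 122, 119, 125, 736, 91, 411, 739, 172, 483, 183, 720, 342, 102, 711, 288, 406, 333, 815, 481, 279, 818, 731, 145, 567, 741, 43, 870],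
   [50, 245, 338, 156, 258, 534, 570, 349, 431, 857, 541, 439, 745, 175, 492, 737, 229, 609, 184, 435, 558, 238, 425, 848, 604, 550, 661, 482, 853, 666, 744, 70, 834],
   [734, 226, 606, 77, 299, 284, 237, 312, 543, 603, 295, 395, 824, 532, 400, 746, 151, 582, 743, 232, 618, 158, 880, 496, 239, 883, 460, 605, 504, 719, 572, 465, 728]]

/-- A permutation. -/
def perm7 : List (List Nat) :=
  [[0, 1, 2, 3, 19, 12, 6, 10, 21, 18, 7, 16, 5, 22, 15, 14, 11, 17, 9, 4, 25, 8, 13, 24, 23, 20, 26, 27, 28, 29, 216, 478, 486],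
   [87, 481, 483, 477, 88, 490, 218, 484, 489, 488, 482, 491, 480, 217, 493, 89, 487, 492, 485, 479, 494, 54, 55, 56, 135, 409, 414, 168, 406, 411, 408, 169, 418],
   [137, 412, 417, 416, 407, 419, 405, 136, 421, 170, 415, 420, 413, 410, 422, 162, 370, 375, 114, 499, 501, 33, 37, 48, 243, 721, 118, 698, 184, 833, 757, 343, 615],
   [252, 708, 754, 714, 175, 336, 129, 836, 608, 138, 460, 465, 111, 442, 447, 84, 424, 429, 146, 92, 119, 795, 813, 831, 634, 652, 616, 159, 785, 629, 105, 803, 647],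
   [132, 821, 611, 57, 73, 66, 108, 391, 396, 222, 514, 522, 542, 280, 117, 311, 678, 832, 236, 740, 617, 537, 304, 231, 291, 675, 742, 126, 827, 620, 81, 373, 378],
   [195, 463, 468, 60, 64, 75, 297, 712, 199, 695, 103, 869, 790, 289, 579, 306, 705, 793, 723, 94, 282, 210, 872, 569, 219, 496, 504, 192, 445, 450, 165, 388, 393],
   [227, 173, 200, 759, 816, 867, 637, 691, 580, 240, 749, 632, 186, 806, 683, 213, 860, 575, 30, 46, 39, 189, 427, 432, 141, 517, 519, 533, 334, 198, 257, 642, 868],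
   [155, 737, 581, 546, 250, 150, 345, 639, 745, 207, 863, 584, 90, 541, 262, 814, 310, 660, 653, 235, 776, 99, 809, 656, 534, 301, 228, 273, 657, 778, 281, 245, 263],
   [679, 697, 661, 738, 756, 774, 294, 684, 733, 258, 702, 751, 276, 666, 769, 722, 145, 261, 185, 797, 662, 344, 633, 775, 717, 178, 339, 156, 800, 626, 270, 672, 772],
   [171, 532, 316, 817, 256, 588, 692, 154, 848, 180, 812, 689, 543, 247, 147, 327, 585, 853, 335, 299, 317, 643, 694, 589, 735, 789, 846, 348, 648, 730, 312, 699, 787],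
   [330, 591, 841, 713, 226, 315, 104, 761, 590, 290, 636, 847, 726, 97, 285, 237, 764, 623, 324, 600, 844, 351, 352, 353, 354, 355, 356, 357, 358, 359, 360, 361, 362],
   [363, 364, 365, 366, 367, 368, 369, 82, 385, 372, 163, 382, 83, 376, 381, 164, 379, 384, 377, 374, 386, 380, 371, 383, 459, 196, 472, 462, 139, 475, 197, 466, 474],
   [140, 469, 471, 467, 464, 473, 470, 461, 476, 72, 61, 70, 63, 58, 79, 62, 67, 78, 59, 76, 69, 68, 65, 71, 77, 74, 80, 495, 115, 508, 498, 220, 511],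
   [116, 505, 510, 221, 502, 507, 503, 497, 512, 506, 500, 509, 444, 112, 457, 441, 193, 454, 113, 451, 453, 194, 448, 456, 449, 446, 455, 452, 443, 458, 387, 109, 403],
   [390, 166, 400, 110, 394, 399, 167, 397, 402, 398, 389, 401, 395, 392, 404, 36, 31, 52, 45, 34, 43, 35, 40, 51, 32, 49, 42, 41, 38, 44, 50, 47, 53],
   [423, 190, 436, 426, 85, 439, 86, 433, 435, 191, 430, 438, 434, 425, 440, 431, 428, 437, 513, 142, 526, 516, 223, 529, 224, 520, 525, 143, 523, 528, 521, 515, 530],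
   [524, 518, 527, 531, 298, 225, 255, 693, 760, 153, 791, 638, 540, 244, 144, 309, 696, 796, 234, 758, 635, 700, 664, 682, 703, 595, 646, 592, 556, 574, 667, 559, 610],
   [685, 577, 628, 649, 613, 631, 788, 665, 188, 798, 849, 741, 842, 557, 215, 673, 562, 619, 179, 206, 233, 731, 614, 242, 313, 663, 805, 302, 320, 338, 331, 555, 859],
   [658, 553, 607, 807, 864, 753, 349, 612, 748, 762, 780, 744, 752, 596, 107, 770, 560, 134, 601, 565, 583, 98, 125, 152, 734, 578, 161, 621, 781, 347, 624, 850, 293],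
   [773, 563, 128, 845, 566, 209, 286, 123, 548, 340, 204, 539, 238, 782, 641, 229, 318, 716, 779, 554, 131, 325, 564, 862, 727, 124, 249, 654, 865, 254, 259, 594, 802],
   [248, 266, 284, 586, 550, 568, 277, 558, 820, 810, 828, 792, 295, 576, 784, 157, 851, 677, 148, 264, 725, 854, 551, 212, 271, 561, 826, 687, 829, 308, 718, 205, 303],
   [535, 319, 174, 544, 265, 93, 328, 549, 871, 274, 552, 835, 181, 830, 707, 100, 866, 710, 711, 172, 333, 102, 818, 644, 288, 690, 736, 720, 91, 279, 183, 815, 680],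
   [342, 651, 739, 880, 326, 582, 883, 272, 618, 321, 719, 232, 267, 728, 151, 572, 158, 743, 605, 239, 746, 881, 602, 208, 886, 275, 606, 599, 101, 755, 268, 96, 547],
   [201, 536, 337, 603, 763, 346, 879, 843, 861, 874, 278, 609, 838, 296, 627, 269, 287, 251, 856, 260, 645, 604, 622, 640, 884, 674, 127, 889, 329, 567, 322, 177, 538],
   [671, 182, 794, 120, 545, 283, 570, 799, 292, 887, 659, 130, 890, 587, 211, 597, 808, 253, 669, 811, 307, 121, 246, 724, 202, 300, 715, 875, 668, 133, 888, 852, 870],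
   [839, 686, 160, 670, 688, 706, 122, 149, 95, 857, 704, 106, 882, 771, 825, 877, 332, 573, 766, 350, 630, 323, 341, 305, 571, 625, 676, 823, 314, 681, 885, 777, 834],
   [878, 593, 214, 767, 650, 241, 598, 655, 709, 203, 230, 176, 824, 701, 187, 873, 768, 819, 876, 840, 858, 765, 729, 747, 837, 732, 783, 855, 750, 801, 822, 786, 804]]

/-- A permutation. -/
def perm8 : List (List Nat) :=
  [[0, 2, 1, 3, 16, 23, 6, 25, 14, 18, 20, 19, 24, 13, 8, 21, 4, 17, 9, 11, 10, 15, 22, 5, 12, 7, 26, 27, 358, 365, 216, 259, 248],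
   [87, 106, 95, 387, 341, 796, 242, 469, 886, 690, 564, 44, 390, 233, 680, 350, 466, 554, 791, 881, 53, 54, 367, 356, 135, 313, 302, 168, 187, 176, 423, 287, 760],
   [161, 502, 889, 651, 561, 71, 426, 152, 644, 296, 505, 551, 758, 884, 80, 162, 164, 163, 114, 852, 839, 33, 847, 844, 849, 851, 850, 846, 843, 35, 837, 115, 853],
   [842, 841, 840, 854, 838, 116, 845, 34, 848, 138, 607, 612, 111, 446, 456, 84, 97, 104, 158, 625, 799, 648, 464, 835, 438, 124, 817, 151, 643, 428, 630, 474, 131],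
   [794, 830, 812, 57, 617, 620, 108, 304, 311, 222, 522, 514, 675, 291, 742, 396, 537, 832, 236, 126, 73, 678, 391, 231, 280, 542, 117, 740, 827, 66, 81, 83, 82],
   [195, 777, 767, 60, 775, 772, 780, 782, 781, 774, 771, 62, 765, 196, 778, 770, 769, 768, 779, 766, 197, 773, 61, 776, 219, 568, 576, 192, 443, 453, 165, 178, 185],
   [239, 622, 763, 684, 500, 871, 399, 205, 814, 232, 679, 392, 627, 510, 212, 755, 866, 809, 30, 581, 584, 189, 250, 257, 141, 519, 517, 639, 345, 745, 432, 546, 868],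
   [155, 207, 46, 642, 427, 150, 334, 533, 198, 737, 863, 39, 571, 570, 572, 580, 583, 32, 577, 220, 569, 573, 575, 574, 567, 578, 221, 582, 31, 579, 293, 741, 677],
   [749, 461, 659, 435, 268, 695, 286, 759, 425, 731, 471, 275, 687, 669, 705, 800, 156, 626, 393, 717, 662, 344, 270, 64, 797, 388, 339, 145, 722, 261, 633, 672, 75],
   [604, 603, 605, 616, 619, 59, 613, 139, 608, 609, 611, 610, 606, 614, 140, 618, 58, 615, 347, 744, 641, 785, 497, 587, 402, 322, 698, 340, 795, 389, 734, 507, 329],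
   [654, 597, 708, 764, 237, 623, 429, 726, 590, 290, 324, 37, 761, 424, 285, 226, 713, 315, 636, 600, 48, 360, 362, 361, 366, 355, 56, 363, 28, 359, 351, 353, 352],
   [357, 364, 29, 354, 55, 368, 369, 378, 381, 372, 375, 384, 373, 376, 385, 370, 379, 382, 371, 380, 383, 374, 377, 386, 36, 289, 326, 45, 154, 209, 282, 487, 803],
   [147, 484, 702, 204, 813, 401, 321, 697, 404, 498, 872, 685, 495, 585, 783, 869, 433, 547, 588, 430, 727, 786, 536, 419, 682, 716, 422, 63, 343, 272, 72, 235, 128],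
   [336, 415, 806, 228, 412, 699, 267, 694, 437, 123, 816, 440, 441, 454, 193, 444, 457, 112, 452, 451, 450, 449, 448, 447, 194, 442, 455, 113, 445, 458, 477, 596, 265],
   [480, 856, 121, 601, 49, 637, 861, 40, 735, 274, 730, 473, 130, 632, 476, 459, 657, 747, 462, 836, 649, 833, 397, 538, 660, 394, 718, 750, 545, 491, 646, 725, 494],
   [408, 665, 319, 405, 823, 202, 825, 67, 738, 673, 76, 634, 328, 733, 509, 211, 629, 512, 516, 143, 521, 513, 224, 524, 223, 523, 515, 142, 520, 518, 526, 525, 527],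
   [529, 528, 530, 621, 762, 238, 788, 535, 418, 148, 485, 703, 624, 798, 157, 752, 544, 490, 229, 413, 700, 635, 674, 77, 638, 602, 50, 599, 710, 656, 671, 707, 689],
   [70, 653, 563, 43, 692, 566, 255, 190, 251, 244, 243, 245, 252, 254, 253, 191, 249, 256, 260, 246, 217, 258, 247, 218, 409, 663, 320, 414, 805, 338, 807, 753, 864],
   [658, 748, 460, 331, 859, 555, 349, 465, 553, 298, 297, 299, 309, 109, 305, 306, 308, 307, 110, 303, 310, 314, 300, 136, 312, 301, 137, 531, 199, 335, 540, 118, 281],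
   [210, 628, 511, 129, 631, 475, 294, 506, 549, 348, 467, 552, 225, 712, 317, 234, 127, 74, 723, 492, 647, 120, 482, 855, 69, 652, 562, 330, 858, 557, 478, 594, 266],
   [486, 802, 284, 586, 784, 496, 810, 792, 828, 277, 820, 558, 295, 504, 550, 144, 721, 263, 153, 208, 47, 714, 420, 683, 201, 407, 822, 276, 819, 560, 42, 691, 565],
   [693, 436, 269, 696, 403, 323, 434, 548, 867, 398, 539, 831, 278, 821, 559, 332, 860, 556, 746, 640, 346, 681, 715, 421, 283, 488, 801, 743, 676, 292, 645, 724, 493],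
   [337, 416, 804, 729, 472, 273, 732, 508, 327, 470, 887, 240, 503, 890, 159, 262, 146, 720, 316, 227, 711, 479, 595, 264, 489, 751, 543, 592, 877, 213, 756, 882, 78],
   [271, 65, 342, 532, 200, 333, 177, 184, 167, 182, 181, 180, 175, 170, 186, 174, 169, 188, 166, 179, 183, 171, 173, 172, 410, 664, 318, 417, 787, 534, 789, 879, 51],
   [667, 874, 132, 325, 38, 288, 541, 119, 279, 719, 661, 395, 728, 589, 431, 591, 876, 215, 666, 873, 134, 400, 206, 815, 439, 125, 818, 688, 670, 706, 686, 499, 870],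
   [501, 888, 160, 668, 875, 133, 704, 149, 483, 857, 122, 481, 96, 103, 86, 101, 100, 99, 94, 89, 105, 93, 88, 107, 90, 92, 91, 85, 98, 102, 650, 463, 834],
   [655, 598, 709, 468, 885, 241, 593, 878, 214, 701, 230, 411, 824, 203, 406, 811, 793, 829, 808, 754, 865, 790, 880, 52, 757, 883, 79, 862, 41, 736, 826, 68, 739]]

/-- A permutation. -/
def perm9 : List (List Nat) :=
  [[0, 2, 1, 3, 16, 23, 6, 25, 14, 18, 20, 19, 24, 13, 8, 21, 4, 17, 9, 11, 10, 15, 22, 5, 12, 7, 26, 27, 353, 366, 195, 199, 210],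
   [138, 316, 327, 387, 611, 286, 774, 40, 807, 158, 701, 491, 390, 769, 151, 616, 49, 709, 293, 805, 494, 54, 362, 357, 114, 118, 129, 219, 262, 273, 423, 575, 340],
   [846, 67, 810, 239, 704, 419, 426, 841, 232, 580, 76, 706, 347, 802, 422, 81, 378, 373, 135, 762, 752, 108, 134, 125, 780, 596, 409, 161, 578, 734, 396, 560, 98],
   [770, 152, 391, 601, 583, 565, 414, 744, 107, 87, 676, 681, 192, 194, 193, 57, 689, 692, 690, 58, 687, 684, 686, 685, 675, 683, 89, 680, 679, 678, 59, 688, 691],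
   [677, 682, 88, 84, 332, 323, 33, 754, 757, 222, 518, 528, 438, 593, 718, 837, 629, 295, 236, 47, 100, 428, 840, 231, 598, 634, 42, 725, 284, 93, 162, 375, 370],
   [216, 798, 788, 189, 215, 206, 849, 665, 478, 242, 614, 731, 432, 557, 179, 842, 233, 427, 673, 619, 562, 486, 741, 188, 168, 640, 645, 111, 113, 112, 30, 656, 653],
   [651, 31, 654, 648, 650, 649, 639, 647, 170, 644, 643, 642, 32, 655, 652, 641, 646, 169, 165, 278, 269, 60, 793, 790, 141, 515, 525, 399, 668, 727, 765, 632, 349],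
   [155, 74, 181, 392, 768, 150, 670, 637, 69, 716, 338, 174, 604, 856, 406, 296, 838, 627, 393, 874, 251, 609, 287, 388, 861, 843, 879, 411, 622, 260, 791, 61, 794],
   [785, 784, 783, 800, 787, 218, 796, 795, 797, 62, 792, 789, 799, 786, 217, 435, 859, 538, 577, 733, 160, 344, 38, 253, 425, 574, 339, 864, 738, 51, 545, 149, 246],
   [571, 823, 481, 350, 766, 630, 429, 877, 305, 573, 341, 424, 825, 771, 882, 483, 625, 314, 758, 34, 755, 749, 748, 747, 764, 751, 137, 760, 759, 761, 35, 753, 756],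
   [763, 750, 136, 402, 820, 547, 613, 730, 241, 290, 65, 307, 389, 610, 285, 828, 735, 78, 536, 230, 300, 351, 367, 28, 365, 364, 363, 56, 361, 359, 360, 358, 55],
   [356, 355, 354, 29, 352, 368, 369, 164, 377, 372, 83, 380, 163, 376, 371, 82, 379, 374, 385, 384, 386, 382, 381, 383, 36, 254, 342, 45, 101, 234, 249, 394, 875],
   [96, 397, 558, 225, 888, 473, 333, 550, 476, 498, 245, 835, 495, 92, 659, 258, 412, 623, 105, 415, 745, 669, 636, 71, 830, 737, 80, 63, 308, 288, 72, 182, 153],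
   [303, 430, 878, 177, 433, 555, 279, 553, 512, 144, 885, 509, 441, 450, 456, 444, 447, 453, 445, 448, 454, 442, 451, 457, 446, 449, 455, 443, 452, 458, 477, 851, 664],
   [480, 570, 822, 854, 466, 533, 567, 469, 713, 667, 726, 401, 819, 546, 404, 459, 173, 587, 462, 299, 871, 312, 484, 626, 186, 487, 742, 597, 633, 44, 866, 740, 53],
   [408, 782, 595, 405, 603, 855, 606, 502, 722, 779, 505, 542, 592, 717, 440, 858, 537, 437, 516, 529, 223, 513, 526, 142, 521, 520, 519, 524, 523, 522, 224, 517, 530],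
   [143, 514, 527, 531, 852, 467, 767, 631, 348, 511, 281, 552, 540, 777, 506, 839, 628, 294, 475, 335, 549, 548, 403, 821, 539, 436, 860, 434, 556, 178, 398, 559, 97],
   [831, 185, 696, 867, 104, 693, 468, 712, 569, 463, 297, 872, 306, 289, 64, 723, 282, 94, 579, 75, 705, 869, 103, 695, 850, 663, 479, 845, 881, 863, 886, 507, 145],
   [658, 497, 91, 489, 156, 699, 868, 102, 694, 499, 243, 836, 501, 721, 608, 252, 343, 37, 714, 336, 175, 615, 48, 708, 833, 184, 698, 621, 259, 413, 624, 313, 485],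
   [248, 544, 148, 302, 535, 229, 490, 157, 700, 418, 238, 703, 204, 190, 213, 209, 208, 207, 191, 214, 205, 201, 203, 202, 198, 212, 197, 200, 211, 196, 781, 594, 410],
   [773, 884, 827, 586, 461, 172, 889, 471, 226, 417, 237, 702, 832, 183, 697, 123, 109, 132, 128, 127, 126, 110, 133, 124, 120, 122, 121, 119, 130, 115, 117, 131, 116],
   [566, 602, 584, 563, 674, 620, 599, 635, 43, 671, 638, 70, 581, 77, 707, 617, 50, 710, 711, 568, 470, 612, 729, 240, 508, 146, 887, 720, 607, 503, 576, 732, 159],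
   [472, 227, 890, 715, 337, 176, 724, 283, 95, 346, 801, 421, 292, 804, 493, 187, 488, 743, 106, 416, 746, 320, 319, 318, 331, 322, 86, 328, 139, 317, 329, 140, 315],
   [325, 324, 326, 85, 330, 321, 228, 301, 534, 235, 46, 99, 310, 814, 660, 39, 809, 776, 541, 778, 504, 90, 657, 496, 266, 265, 264, 277, 268, 167, 275, 221, 261],
   [274, 220, 263, 271, 270, 272, 166, 276, 267, 736, 79, 829, 739, 52, 865, 41, 808, 775, 68, 811, 847, 826, 772, 883, 862, 844, 880, 474, 334, 551, 464, 298, 870],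
   [309, 813, 662, 345, 803, 420, 561, 672, 618, 857, 407, 605, 147, 247, 543, 154, 73, 180, 256, 817, 588, 66, 812, 848, 171, 585, 460, 532, 853, 465, 500, 244, 834],
   [510, 280, 554, 255, 816, 590, 291, 806, 492, 564, 600, 582, 824, 482, 572, 873, 250, 395, 876, 304, 431, 257, 818, 589, 311, 815, 661, 439, 591, 719, 400, 666, 728]]

/-- A permutation. -/
def perm10 : List (List Nat) :=
  [[0, 2, 1, 6, 8, 7, 3, 5, 4, 9, 12, 15, 10, 13, 16, 11, 14, 17, 18, 21, 24, 19, 22, 25, 20, 23, 26, 54, 363, 352, 60, 723, 712],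
   [57, 543, 532, 426, 613, 800, 768, 415, 602, 678, 865, 512, 423, 765, 675, 610, 412, 862, 797, 599, 509, 27, 354, 361, 33, 714, 721, 30, 534, 541, 390, 577, 764],
   [840, 487, 674, 642, 829, 476, 387, 837, 639, 574, 484, 826, 761, 671, 473, 81, 378, 373, 108, 734, 744, 135, 565, 560, 770, 414, 601, 391, 578, 762, 152, 125, 98],
   [780, 396, 161, 409, 583, 134, 596, 752, 107, 84, 630, 625, 111, 446, 456, 138, 817, 812, 428, 612, 799, 643, 830, 474, 151, 124, 97, 438, 648, 158, 607, 835, 131],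
   [794, 464, 104, 87, 882, 877, 114, 698, 708, 141, 529, 524, 680, 864, 511, 841, 488, 672, 150, 123, 96, 690, 846, 155, 859, 493, 128, 506, 662, 101, 162, 375, 370],
   [189, 731, 741, 216, 562, 557, 842, 486, 673, 427, 614, 798, 233, 206, 179, 849, 432, 242, 478, 619, 215, 665, 788, 188, 165, 627, 622, 192, 443, 453, 219, 814, 809],
   [392, 576, 763, 679, 866, 510, 232, 205, 178, 399, 684, 239, 568, 871, 212, 755, 500, 185, 168, 879, 874, 195, 695, 705, 222, 526, 521, 644, 828, 475, 769, 416, 600],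
   [231, 204, 177, 651, 774, 236, 820, 421, 209, 467, 590, 182, 609, 411, 861, 388, 838, 640, 287, 269, 251, 604, 393, 296, 406, 843, 278, 856, 645, 260, 425, 767, 677],
   [759, 669, 471, 286, 268, 250, 435, 749, 293, 777, 659, 275, 687, 461, 257, 796, 598, 508, 575, 485, 827, 285, 267, 249, 791, 580, 290, 593, 490, 272, 503, 832, 254],
   [573, 483, 825, 424, 766, 676, 341, 323, 305, 571, 429, 350, 481, 771, 332, 823, 681, 314, 389, 839, 641, 795, 597, 507, 340, 322, 304, 402, 785, 347, 852, 587, 329],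
   [654, 497, 311, 760, 670, 472, 611, 413, 863, 339, 321, 303, 758, 616, 344, 668, 418, 326, 470, 868, 308, 360, 29, 356, 55, 364, 353, 358, 357, 359, 351, 56, 365],
   [28, 355, 362, 367, 366, 368, 369, 164, 377, 372, 83, 380, 163, 376, 371, 82, 379, 374, 385, 384, 386, 382, 381, 383, 72, 246, 315, 63, 93, 198, 253, 502, 831],
   [100, 505, 661, 207, 821, 422, 324, 666, 419, 459, 255, 688, 462, 102, 792, 244, 49, 337, 91, 40, 229, 784, 346, 404, 686, 238, 401, 45, 300, 261, 36, 174, 117],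
   [307, 469, 867, 181, 466, 589, 270, 591, 491, 126, 860, 494, 441, 454, 193, 444, 457, 112, 452, 451, 450, 449, 448, 447, 194, 442, 455, 113, 445, 458, 405, 845, 277],
   [408, 582, 133, 850, 433, 240, 572, 430, 348, 266, 335, 80, 122, 227, 71, 498, 183, 753, 495, 309, 655, 298, 76, 283, 172, 67, 148, 748, 292, 437, 650, 157, 440],
   [480, 773, 331, 477, 618, 214, 605, 394, 294, 781, 397, 159, 320, 281, 53, 203, 146, 44, 516, 518, 517, 513, 515, 514, 525, 520, 224, 528, 523, 143, 519, 223, 527],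
   [522, 142, 530, 720, 35, 716, 61, 724, 713, 718, 717, 719, 711, 62, 725, 34, 715, 722, 727, 726, 728, 890, 889, 888, 887, 886, 885, 881, 873, 170, 884, 876, 89],
   [875, 169, 880, 878, 88, 883, 872, 210, 569, 869, 306, 468, 297, 75, 282, 199, 64, 94, 579, 289, 790, 463, 103, 793, 854, 586, 328, 851, 434, 241, 436, 747, 291],
   [594, 750, 105, 319, 280, 52, 230, 92, 41, 833, 252, 501, 836, 129, 608, 243, 48, 336, 118, 37, 175, 615, 343, 757, 499, 184, 754, 743, 191, 730, 746, 110, 733],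
   [190, 729, 742, 109, 732, 745, 738, 740, 739, 735, 737, 736, 74, 248, 317, 69, 120, 225, 259, 855, 647, 127, 858, 492, 234, 652, 775, 330, 482, 772, 779, 658, 274],
   [782, 398, 160, 663, 786, 186, 403, 783, 345, 265, 334, 79, 149, 173, 68, 47, 302, 263, 42, 201, 144, 313, 822, 683, 208, 819, 420, 276, 407, 844, 153, 691, 847],
   [815, 807, 220, 818, 810, 139, 805, 804, 806, 802, 801, 803, 221, 813, 808, 140, 816, 811, 540, 32, 536, 58, 544, 533, 538, 537, 539, 531, 59, 545, 31, 535, 542],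
   [547, 546, 548, 628, 623, 166, 631, 626, 85, 636, 638, 637, 633, 635, 634, 167, 629, 621, 86, 632, 624, 592, 489, 271, 595, 751, 106, 479, 620, 213, 756, 617, 342],
   [264, 333, 78, 95, 200, 65, 46, 301, 262, 39, 228, 90, 310, 656, 496, 235, 653, 776, 273, 778, 657, 99, 504, 660, 667, 417, 325, 664, 787, 187, 789, 581, 288],
   [410, 584, 132, 318, 279, 51, 176, 119, 38, 703, 702, 704, 700, 699, 701, 694, 707, 197, 697, 710, 116, 706, 196, 693, 709, 115, 696, 685, 237, 400, 682, 312, 824],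
   [299, 77, 284, 226, 70, 121, 395, 295, 603, 834, 130, 606, 73, 247, 316, 66, 147, 171, 256, 689, 460, 154, 692, 848, 180, 465, 588, 327, 853, 585, 646, 258, 857],
   [649, 156, 439, 245, 50, 338, 145, 43, 202, 431, 349, 570, 870, 211, 567, 556, 218, 561, 559, 137, 564, 217, 563, 555, 136, 566, 558, 554, 553, 552, 551, 550, 549]]

/-- A permutation. -/
def perm11 : List (List Nat) :=
  [[0, 2, 1, 3, 11, 24, 6, 20, 15, 9, 25, 4, 23, 22, 21, 8, 19, 17, 18, 16, 7, 14, 13, 12, 5, 10, 26, 54, 56, 55, 84, 428, 438],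
   [189, 425, 435, 426, 439, 85, 434, 433, 432, 191, 424, 437, 423, 436, 190, 431, 430, 429, 86, 427, 440, 27, 29, 28, 165, 392, 399, 108, 389, 402, 390, 400, 166],
   [398, 397, 396, 110, 388, 404, 387, 403, 109, 395, 394, 393, 167, 391, 401, 81, 371, 384, 30, 38, 51, 219, 500, 510, 306, 240, 546, 671, 766, 267, 810, 649, 98],
   [297, 674, 802, 227, 771, 646, 533, 272, 107, 60, 74, 69, 111, 446, 456, 216, 482, 492, 723, 234, 330, 120, 775, 557, 248, 652, 858, 712, 127, 259, 225, 772, 647],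
   [317, 562, 855, 195, 461, 471, 168, 410, 417, 222, 518, 528, 210, 237, 183, 889, 781, 832, 586, 640, 697, 199, 884, 594, 226, 773, 645, 172, 827, 702, 162, 374, 381],
   [57, 65, 78, 138, 464, 474, 252, 159, 537, 599, 838, 321, 807, 685, 179, 243, 602, 805, 146, 843, 682, 542, 326, 188, 33, 47, 42, 192, 443, 453, 135, 407, 420],
   [714, 153, 276, 201, 847, 560, 302, 691, 819, 721, 208, 313, 144, 844, 683, 263, 565, 822, 114, 497, 507, 87, 479, 489, 141, 515, 525, 129, 156, 102, 886, 850, 868],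
   [658, 676, 694, 118, 881, 663, 145, 845, 681, 91, 863, 699, 180, 348, 726, 829, 614, 123, 706, 747, 251, 171, 826, 704, 335, 619, 750, 713, 128, 260, 543, 342, 213],
   [264, 617, 877, 95, 756, 592, 532, 271, 106, 333, 620, 751, 200, 882, 595, 327, 345, 309, 551, 605, 662, 870, 762, 813, 316, 561, 857, 334, 618, 752, 298, 672, 803],
   [99, 294, 717, 865, 578, 204, 709, 783, 305, 90, 862, 701, 281, 583, 786, 722, 209, 314, 534, 288, 132, 318, 581, 874, 176, 789, 667, 541, 325, 187, 279, 584, 787],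
   [119, 879, 664, 273, 291, 255, 554, 572, 590, 834, 798, 816, 262, 564, 824, 280, 582, 788, 244, 600, 806, 351, 354, 357, 352, 355, 358, 353, 356, 359, 360, 363, 366],
   [361, 364, 367, 362, 365, 368, 369, 385, 82, 372, 382, 163, 380, 379, 378, 377, 376, 375, 164, 373, 383, 83, 370, 386, 72, 70, 61, 63, 79, 58, 77, 76, 75],
   [68, 67, 66, 59, 64, 80, 62, 73, 71, 459, 472, 196, 462, 475, 139, 470, 469, 468, 467, 466, 465, 140, 463, 476, 197, 460, 473, 45, 43, 34, 36, 52, 31],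
   [50, 49, 48, 41, 40, 39, 35, 46, 44, 32, 37, 53, 441, 454, 193, 444, 457, 112, 452, 451, 450, 449, 448, 447, 194, 442, 455, 113, 445, 458, 405, 421, 136],
   [408, 418, 169, 416, 415, 414, 413, 412, 411, 137, 406, 422, 170, 409, 419, 498, 511, 220, 495, 508, 115, 503, 502, 501, 506, 505, 504, 221, 499, 512, 116, 496, 509],
   [480, 493, 217, 477, 490, 88, 485, 484, 483, 488, 487, 486, 218, 481, 494, 89, 478, 491, 516, 529, 223, 513, 526, 142, 521, 520, 519, 524, 523, 522, 224, 517, 530],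
   [143, 514, 527, 531, 270, 105, 315, 563, 856, 173, 825, 703, 540, 324, 186, 261, 566, 823, 92, 861, 700, 635, 841, 282, 638, 769, 336, 774, 556, 122, 846, 559, 203],
   [289, 133, 535, 343, 214, 544, 623, 680, 569, 636, 770, 337, 780, 831, 888, 690, 821, 301, 579, 875, 319, 346, 310, 328, 632, 150, 793, 637, 768, 338, 765, 269, 670],
   [155, 278, 716, 790, 668, 174, 349, 727, 181, 633, 842, 283, 626, 644, 608, 849, 867, 885, 651, 860, 247, 615, 878, 265, 292, 256, 274, 621, 678, 567, 624, 642, 606],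
   [675, 693, 657, 639, 696, 585, 603, 660, 549, 570, 588, 552, 630, 151, 794, 625, 643, 607, 158, 104, 131, 648, 97, 812, 612, 124, 830, 799, 817, 835, 629, 231, 754],
   [634, 840, 284, 236, 332, 725, 837, 323, 598, 757, 593, 93, 295, 718, 100, 627, 232, 755, 622, 679, 568, 239, 185, 212, 684, 178, 809, 763, 814, 871, 576, 205, 866],
   [628, 233, 753, 631, 152, 792, 242, 548, 308, 161, 539, 254, 748, 249, 707, 784, 303, 710, 711, 126, 258, 198, 883, 596, 299, 673, 801, 720, 207, 312, 117, 880, 665],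
   [245, 601, 804, 815, 872, 764, 818, 836, 800, 869, 887, 851, 833, 890, 782, 761, 779, 743, 797, 854, 746, 250, 705, 749, 257, 275, 293, 695, 659, 677, 268, 669, 767],
   [759, 777, 741, 286, 687, 731, 591, 94, 758, 589, 553, 571, 103, 130, 157, 555, 121, 776, 760, 778, 742, 573, 148, 740, 304, 708, 785, 311, 329, 347, 322, 597, 839],
   [698, 587, 641, 795, 852, 744, 340, 654, 734, 719, 101, 296, 728, 182, 350, 177, 808, 686, 96, 811, 650, 287, 688, 729, 341, 655, 732, 206, 864, 577, 215, 545, 344],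
   [538, 253, 160, 859, 246, 653, 574, 149, 738, 339, 656, 733, 666, 175, 791, 661, 550, 604, 184, 211, 238, 558, 202, 848, 609, 229, 737, 796, 853, 745, 134, 536, 290],
   [125, 828, 613, 547, 307, 241, 820, 300, 692, 610, 230, 735, 285, 689, 730, 873, 320, 580, 876, 266, 616, 331, 724, 235, 277, 715, 154, 611, 228, 736, 575, 147, 739]]

/-- A permutation. -/
def perm12 : List (List Nat) :=
  [[1, 15, 24, 0, 9, 18, 2, 12, 21, 4, 5, 3, 13, 10, 16, 20, 26, 23, 7, 22, 11, 8, 19, 17, 6, 25, 14, 28, 42, 51, 355, 201, 318],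
   [362, 144, 279, 196, 706, 693, 771, 481, 332, 782, 160, 398, 139, 619, 603, 810, 478, 295, 818, 215, 395, 55, 69, 78, 364, 120, 264, 353, 225, 333, 115, 709, 696],
   [843, 406, 278, 851, 241, 434, 220, 583, 570, 807, 409, 349, 815, 134, 431, 352, 198, 315, 54, 63, 72, 363, 93, 246, 625, 630, 84, 502, 253, 831, 207, 422, 821],
   [741, 505, 324, 731, 100, 419, 189, 661, 666, 29, 39, 48, 356, 228, 336, 360, 90, 243, 464, 794, 104, 561, 218, 556, 345, 783, 403, 461, 884, 237, 687, 89, 685],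
   [257, 876, 400, 368, 150, 285, 367, 123, 267, 366, 96, 249, 124, 151, 97, 287, 251, 269, 546, 547, 548, 268, 152, 726, 286, 98, 727, 250, 125, 728, 361, 117, 261],
   [27, 36, 45, 354, 174, 300, 622, 627, 165, 469, 307, 867, 126, 494, 860, 744, 466, 270, 734, 181, 491, 108, 589, 591, 56, 66, 75, 365, 147, 282, 351, 171, 297],
   [500, 755, 185, 564, 137, 559, 291, 747, 436, 497, 881, 156, 654, 170, 649, 311, 873, 439, 359, 231, 339, 358, 204, 321, 357, 177, 303, 205, 232, 178, 341, 305, 323],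
   [537, 538, 539, 322, 233, 717, 340, 179, 718, 304, 206, 719, 812, 131, 428, 221, 574, 579, 801, 421, 346, 705, 116, 703, 275, 840, 418, 425, 848, 238, 138, 607, 612],
   [813, 484, 289, 803, 209, 404, 195, 697, 702, 777, 487, 326, 767, 154, 401, 817, 835, 799, 808, 826, 790, 802, 820, 784, 695, 710, 704, 659, 674, 668, 677, 692, 686],
   [809, 212, 392, 140, 610, 615, 804, 493, 292, 708, 197, 700, 329, 768, 490, 389, 776, 157, 219, 568, 576, 816, 412, 343, 806, 128, 437, 114, 694, 699, 852, 415, 272],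
   [839, 235, 440, 814, 871, 763, 811, 862, 757, 805, 859, 748, 698, 707, 701, 587, 602, 593, 641, 653, 650, 453, 510, 399, 471, 528, 417, 435, 492, 381, 456, 474, 438],
   [507, 525, 489, 402, 420, 384, 193, 688, 675, 112, 655, 639, 792, 514, 277, 753, 517, 331, 764, 133, 380, 800, 214, 377, 34, 49, 38, 31, 32, 30, 40, 37, 43],
   [35, 46, 44, 33, 52, 41, 47, 53, 50, 136, 562, 549, 169, 652, 642, 882, 424, 314, 756, 427, 294, 761, 188, 506, 890, 159, 503, 61, 76, 65, 58, 59, 57],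
   [67, 64, 70, 62, 73, 71, 74, 80, 77, 60, 79, 68, 142, 673, 660, 223, 601, 588, 825, 373, 350, 861, 370, 296, 833, 161, 449, 869, 242, 452, 166, 634, 624],
   [109, 598, 585, 738, 463, 276, 864, 460, 313, 743, 187, 488, 872, 132, 485, 88, 691, 678, 217, 565, 552, 879, 388, 260, 789, 391, 348, 797, 107, 467, 887, 240, 470],
   [85, 637, 621, 190, 670, 657, 828, 496, 259, 735, 499, 330, 746, 106, 416, 836, 213, 413, 82, 580, 567, 163, 616, 606, 774, 445, 258, 846, 442, 312, 854, 105, 521],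
   [779, 186, 524, 192, 679, 684, 759, 523, 325, 749, 127, 383, 111, 643, 648, 795, 520, 271, 785, 208, 386, 379, 290, 870, 376, 344, 834, 236, 458, 857, 155, 455, 824],
   [586, 594, 222, 658, 663, 141, 883, 847, 865, 563, 560, 554, 874, 838, 856, 581, 578, 572, 599, 596, 590, 886, 850, 868, 631, 636, 167, 729, 472, 273, 475, 310, 855],
   [737, 184, 482, 110, 595, 600, 129, 479, 863, 566, 557, 551, 880, 775, 829, 877, 766, 823, 617, 614, 605, 671, 665, 662, 889, 781, 832, 441, 459, 423, 444, 495, 387],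
   [462, 513, 405, 498, 516, 480, 390, 408, 372, 426, 477, 369, 715, 337, 176, 535, 536, 534, 229, 175, 202, 716, 301, 203, 714, 319, 230, 302, 320, 338, 628, 633, 86],
   [732, 508, 327, 740, 103, 407, 511, 256, 822, 191, 664, 672, 210, 410, 827, 724, 283, 95, 544, 545, 543, 148, 94, 121, 725, 247, 122, 248, 266, 284, 723, 265, 149],
   [530, 842, 99, 527, 770, 180, 573, 81, 571, 609, 162, 604, 252, 780, 448, 306, 849, 451, 443, 866, 239, 669, 143, 667, 293, 858, 382, 446, 830, 158, 597, 224, 592],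
   [347, 819, 385, 522, 486, 504, 519, 414, 465, 483, 378, 429, 411, 375, 393, 501, 396, 447, 468, 432, 450, 623, 635, 632, 745, 796, 853, 739, 793, 844, 680, 689, 683],
   [730, 787, 841, 569, 584, 575, 713, 298, 200, 533, 531, 532, 172, 199, 226, 711, 316, 227, 317, 335, 299, 712, 334, 173, 626, 638, 629, 742, 760, 778, 644, 656, 647],
   [736, 754, 772, 733, 751, 769, 608, 620, 611, 374, 791, 211, 371, 758, 130, 651, 113, 646, 690, 194, 682, 328, 750, 526, 274, 786, 529, 878, 153, 512, 555, 135, 553],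
   [168, 640, 645, 288, 762, 430, 509, 752, 182, 885, 433, 308, 722, 244, 119, 542, 540, 541, 91, 118, 145, 720, 262, 146, 721, 280, 92, 263, 281, 245, 558, 216, 550],
   [875, 234, 476, 87, 676, 681, 342, 798, 394, 473, 788, 101, 888, 397, 254, 454, 255, 765, 457, 309, 837, 102, 515, 845, 183, 518, 773, 577, 582, 83, 613, 618, 164]]

/-- The permutations. -/
def perms : List (List (List Nat)) :=
  [perm0, perm1, perm2, perm3, perm4, perm5, perm6, perm7, perm8, perm9, perm10, perm11, perm12]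

/-- The columns of the matrices. -/
def cols : List (List (Nat × Nat)) :=
  [[(19, 54), (16, 9), (4, 38), (59, 42), (7, 49), (59, 1)],
   [(2, 38), (50, 41), (56, 46), (11, 30), (17, 44), (30, 32)],
   [(34, 36), (33, 27), (31, 26), (32, 37), (12, 40), (48, 36)],
   [(60, 1), (60, 2), (3, 7), (3, 11), (3, 19), (3, 35)],
   [(62, 0), (61, 0), (55, 0), (59, 0), (47, 0), (31, 0)],
   [(13, 48), (14, 48), (55, 0), (59, 0), (47, 3), (31, 3)],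
   [(61, 12), (62, 12), (52, 51), (56, 51), (35, 12), (19, 12)],
   [(1, 13), (2, 14), (55, 4), (59, 8), (16, 28), (32, 44)],
   [(62, 62), (61, 61), (55, 7), (59, 11), (19, 31), (35, 47)],
   [(14, 48), (13, 48), (55, 0), (59, 0), (31, 3), (47, 3)],
   [(2, 50), (1, 49), (8, 8), (4, 4), (35, 32), (19, 16)],
   [(12, 14), (12, 13), (51, 4), (51, 8), (12, 44), (12, 28)],
   [(9, 12), (5, 12), (48, 2), (61, 0), (2, 31), (2, 47)]]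

/-- Seven points in general position. -/
def seven : List (Nat × Nat) :=
  [(51, 12), (63, 48), (21, 22), (31, 50), (43, 42), (31, 42), (19, 20)]

/-- Two planes through each of the seven points. -/
def sevenPlanes : List (Nat × Nat) :=
  [(0, 145), (0, 150), (82, 122), (56, 117), (83, 317), (35, 147), (84, 124)]

/-- The columns of the inverse of the first six points. -/
def inverse : List (Nat × Nat) :=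
  [(7, 63), (5, 60), (34, 60), (12, 45), (36, 5), (54, 57)]

/-- Coordinates from dot products. -/
def coeffs : List (List Int) :=
  [[0, -1, 1, 0, 0, 0, 0, 0, 0, 0, 0, 0, 0, 0, 0, 0, 0, 0, 0, 0, 0, 0, 0, 0],
   [0, -1, -1, 0, 0, 0, 0, 0, 0, 0, 0, 0, 0, 0, 0, 0, 0, 0, 0, 0, 0, 0, 0, 0],
   [-2, -1, 1, 0, 0, 0, 0, 0, 2, 0, 0, 0, 0, 0, 0, 0, 0, 0, 0, 0, 0, 0, 0, 0],
   [10, 5, -1, 0, 0, 0, -2, 0, 0, -2, 2, 0, -4, -4, 0, 2, -2, 0, 0, 2, 0, -2, -2, -2],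
   [2, 1, -1, -2, 0, 0, 0, 0, -2, -2, 0, 0, 0, 0, 0, 0, 0, 0, 0, 2, 0, 2, 0, 0],
   [-2, -1, 1, 0, 2, 2, 0, -2, 0, 0, 0, 0, 0, 0, 0, 0, 0, 0, 0, 0, 0, 0, 0, 0],
   [-2, -1, 1, 0, 0, 0, 0, 0, 0, 0, 0, 0, 0, 0, 0, 0, 0, 0, 0, 0, 0, 0, 2, 0],
   [14, 7, -1, -2, 0, -2, -2, -2, 2, 0, 2, 0, 0, -4, -2, -2, -2, -4, -2, 0, 2, 0, 0, -2],
   [-10, -5, 1, 4, -2, 0, 2, 4, 0, 2, -2, 0, 0, 4, 0, 2, -2, 0, 2, 2, -2, -2, 0, 2],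
   [-6, -3, 1, 0, 2, 0, 0, 0, 0, 0, 2, 0, 0, 0, 2, 0, 2, 0, 0, 0, 0, 0, 0, 0],
   [2, 1, -1, 0, -2, 0, 0, 0, 0, 0, 0, 0, 0, 0, 0, 0, 0, 0, 0, 0, 0, 0, 0, 0],
   [-6, -3, 1, 2, 0, 0, 0, 0, 0, 0, 0, 0, 0, 0, 0, 2, 0, 0, 0, 0, 0, 0, 2, 2],
   [-6, -3, 1, 2, 0, 2, 2, 2, 0, 0, 0, 0, 0, 0, 0, 0, 0, 0, 0, 0, 0, 0, 0, 0],
   [2, 1, 1, 0, 0, 0, 0, 0, 0, 0, 0, 0, 0, 0, 0, 0, 0, 0, -2, 0, -2, 0, 0, 0],
   [-2, -1, 1, 0, 0, 0, 0, 0, 0, 0, 0, 0, 0, 0, 2, 2, 0, 0, 0, 0, 0, 0, 0, -2],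
   [-2, -1, 1, 0, 0, 0, 0, 0, 0, 0, 0, 0, 0, 0, 2, 0, 0, 0, 0, 0, 0, 0, 0, 0],
   [-2, -1, 1, 2, 0, 0, 0, 0, 0, 0, 0, 0, 0, 0, 0, 0, 0, 0, 0, 0, 0, 0, 0, 0],
   [-18, -9, 3, 0, 2, 2, 2, -2, 2, 2, 2, 4, 4, 0, 2, 0, 2, 0, 0, -2, 0, 2, 2, 0],
   [-14, -7, 1, 0, 2, 2, 0, -2, 2, 2, 2, 4, 4, 0, 0, 0, 2, 0, -2, -2, 2, 2, 2, 0],
   [2, 1, -1, 0, 0, 0, -2, 0, 0, 0, 0, 0, 0, 0, 0, 0, 0, 0, 0, 0, 0, 0, 0, 0],
   [2, 1, -1, 0, 0, 0, 0, 0, -2, 0, -2, 0, 0, 0, 0, 0, 2, 0, 0, 0, 0, 0, 0, 0],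
   [22, 11, -3, -2, 0, -2, -4, -2, 0, 0, 2, 0, -4, -4, -2, -2, -2, -4, -2, 0, 2, 0, -2, -2],
   [-6, -3, -1, 0, 0, 0, 0, 0, 0, 2, 0, 0, 0, 0, 0, 0, 0, 0, 2, 2, 2, 2, 0, 0],
   [2, 1, -1, 0, 0, 0, 0, 0, 0, 0, 0, 0, 0, 0, 0, 0, 0, 0, 0, 0, 0, 0, 0, 0]]

/-- The selected basis. -/
def sel : List Nat :=
  [0, 1, 2, 3, 5, 6, 11, 12, 29, 30, 32, 33, 38, 39, 83, 84, 86, 87, 92, 93, 245, 246, 371, 372]

/-- A piece: The words of one level of the chain. -/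
def wordsA0 : List (List Nat) :=
  [[],
   [12],
   [12, 4],
   [12, 1, 2],
   [12, 12, 10, 11],
   [12, 4, 12, 11],
   [12, 1, 2, 10],
   [12, 12, 3, 5],
   [12, 12, 11],
   [12, 2, 2, 2],
   [12, 12, 5],
   [12, 12, 10],
   [12, 4, 12, 4],
   [12, 1, 0],
   [12, 12, 3],
   [12, 12],
   [12, 12, 3, 10],
   [12, 2, 0, 0],
   [12, 2, 2, 2, 3],
   [12, 4, 12, 5],
   [12, 12, 12],
   [12, 12, 4],
   [12, 1, 0, 3],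
   [12, 4, 12, 3],
   [12, 4, 12],
   [12, 12, 5, 11],
   [12, 2, 0, 0, 5],
   [12, 2, 0],
   [12, 2, 0, 12],
   [12, 1, 1, 1, 12, 10],
   [12, 12, 1, 2, 7],
   [12, 12, 2, 0, 7, 12],
   [12, 0, 12, 12, 2, 8]]

/-- A piece: The words of one level of the chain. -/
def wordsA1 : List (List Nat) :=
  [[12, 12, 4, 1, 2],
   [12, 0, 1, 12, 2, 12, 5],
   [12, 1, 12, 11, 12, 0],
   [12, 0, 1, 12, 0, 7],
   [12, 1, 12, 0, 1, 12],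
   [12, 0, 12, 6, 12, 10],
   [12, 2, 12, 0, 12, 10],
   [12, 0, 12, 0, 1],
   [12, 4, 12, 1, 12],
   [12, 2, 0, 12, 12],
   [12, 2, 12, 12, 7, 10],
   [12, 12, 1, 3, 4],
   [12, 12, 2, 9, 0],
   [12, 0, 12, 12, 0, 5],
   [12, 0, 12, 11, 12, 10],
   [12, 0, 2, 12, 12, 9],
   [12, 12, 0, 9, 2],
   [12, 12, 1, 6, 12],
   [12, 12, 1, 4, 12, 7],
   [12, 12, 1, 12, 9, 2],
   [12, 12, 1, 5],
   [12, 2, 0, 4],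
   [12, 2, 0, 4, 12],
   [12, 2, 0, 12, 11],
   [12, 4, 12, 1, 2, 7],
   [12, 0, 12, 12, 10, 11],
   [12, 4, 12, 0, 12, 2],
   [12, 12, 1, 1, 1],
   [12, 1, 1, 12, 0, 12],
   [12, 12, 0, 12, 2, 10],
   [12, 12, 12, 2, 0],
   [12, 0, 2, 12, 12, 5],
   [12, 1, 12, 1, 12, 10]]

/-- A piece: The words of one level of the chain. -/
def wordsA2 : List (List Nat) :=
  [[12, 0, 12, 12, 0, 9],
   [12, 12, 0, 8, 2],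
   [12, 12, 4, 1, 12],
   [12, 0, 2, 12, 12, 2],
   [12, 0, 12, 12, 3, 12],
   [12, 12, 1, 7],
   [12, 12, 2, 7, 0],
   [12, 12, 1, 12, 2],
   [12, 1, 12, 9, 12, 10],
   [12, 1, 1, 12, 12, 4],
   [12, 12, 0, 2],
   [12, 12, 1, 3, 12],
   [12, 2, 0, 12, 11, 12],
   [12, 1, 12, 12, 2, 1],
   [12, 4, 12, 1, 4],
   [12, 1, 1, 1],
   [12, 0, 12],
   [12, 2, 12, 9],
   [12, 12, 1, 2, 4],
   [12, 1, 12, 12, 8, 0],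
   [12, 0, 12, 9, 12, 0],
   [12, 4, 12, 1, 2, 10],
   [12, 0, 1, 12, 0, 12],
   [12, 12, 0, 10, 12, 2],
   [12, 0, 12, 6, 0, 0],
   [12, 1, 12, 0, 12],
   [12, 0, 1, 12, 12, 10],
   [12, 0, 12, 12, 0, 8],
   [12, 0, 12, 0, 9],
   [12, 2, 1, 12, 12, 7],
   [12, 0, 3, 12, 12, 0],
   [12, 12, 0, 12, 0, 9],
   [12, 12, 1, 2, 2]]

/-- A piece: The words of one level of the chain. -/
def wordsA3 : List (List Nat) :=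
  [[12, 0, 12, 11, 0, 0],
   [12, 1, 5, 12, 0, 12],
   [12, 12, 2, 12, 12],
   [12, 0, 1, 12, 12, 9],
   [12, 1, 5, 12, 0],
   [12, 12, 2, 4, 12, 7],
   [12, 0, 2, 12, 9, 12],
   [12, 0, 12, 12, 12, 6],
   [12, 0, 1, 12, 0, 1],
   [12, 12, 1, 6, 2],
   [12, 12, 2, 0, 12],
   [12, 1, 12, 12, 8, 12],
   [12, 2, 1, 0],
   [12, 1, 1, 6, 12],
   [12, 12, 2, 4],
   [12, 12, 1, 2, 6],
   [12, 1, 12, 12, 10, 1],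
   [12, 0, 12, 0, 9, 12, 12],
   [12, 0, 3, 12, 12],
   [12, 12, 0, 6, 12, 1],
   [12, 12, 1, 12, 12, 2],
   [12, 12, 0, 4, 1],
   [12, 2, 12, 12, 5],
   [12, 1, 12, 12, 2, 4],
   [12, 0, 12, 11, 12, 9],
   [12, 12, 1, 1, 6],
   [12, 0, 1, 12, 12, 3],
   [12, 0, 12, 12, 5, 9],
   [12, 0, 2, 12, 1, 3],
   [12, 1, 1, 12, 12, 0],
   [12, 1, 12, 11, 12, 6],
   [12, 0, 12, 5, 12, 9],
   [12, 12, 1, 1, 4]]

/-- A piece: The words of one level of the chain. -/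
def wordsA4 : List (List Nat) :=
  [[12, 2, 0, 12, 0, 5],
   [12, 1, 12, 4, 12],
   [12, 0, 1, 12, 0, 12, 9],
   [12, 4, 12, 1, 2],
   [12, 2, 1, 12, 0, 12],
   [12, 4, 12, 2, 12, 2],
   [12, 12, 10, 1, 2],
   [12, 2, 12, 12, 2, 0],
   [12, 0, 12, 12, 1, 11],
   [12, 0, 2, 0, 2],
   [12, 12, 0, 8, 9],
   [12, 12, 0, 10],
   [12, 0, 12, 4, 12, 4],
   [12, 12, 0, 1, 0],
   [12, 0, 3, 12, 12, 7],
   [12, 1, 1, 12, 12],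
   [12, 12, 0, 12, 12, 2],
   [12, 0, 2, 12, 1, 1],
   [12, 0, 12, 0, 7, 2],
   [12, 2, 12, 12, 7, 1],
   [12, 12, 1, 12, 2, 8],
   [12, 12, 1, 12, 5, 0],
   [12, 0, 12, 12, 0, 10],
   [12, 12, 1, 2, 1],
   [12, 0, 1, 12, 1, 9],
   [12, 0, 12, 11, 12, 7],
   [12, 0, 3, 12, 12, 8],
   [12, 12, 1, 12, 10],
   [12, 12, 5, 2, 2],
   [12, 12, 3, 2, 12],
   [12, 1, 1, 1, 4],
   [12, 0, 3, 12],
   [12, 0, 12, 4]]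

/-- A piece: The words of one level of the chain. -/
def wordsA5 : List (List Nat) :=
  [[12, 12, 1, 2, 9],
   [12, 4, 12, 2, 0, 12],
   [12, 0, 1, 12, 9, 12, 1],
   [12, 12, 1, 2, 10],
   [12, 0, 12, 12, 9, 0],
   [12, 2, 12, 12, 9, 12],
   [12, 0, 12, 0, 8, 0],
   [12, 0, 1, 12, 12, 5],
   [12, 12, 0, 12, 2, 1],
   [12, 4, 12, 0, 12, 4],
   [12, 1, 12, 1, 0],
   [12, 12, 2, 12, 7],
   [12, 12, 0, 6, 12],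
   [12, 0, 12, 12, 7, 12],
   [12, 12, 1, 1, 1, 2],
   [12, 0, 3, 12, 0, 0],
   [12, 0, 12, 0, 5, 12],
   [12, 2, 1, 12, 12, 12],
   [12, 12, 0, 12, 4],
   [12, 0, 12, 0, 5],
   [12, 4, 12, 2, 12, 7],
   [12, 0, 12, 12, 1, 0],
   [12, 2, 12, 12, 0, 11],
   [12, 12, 1, 2, 2, 5],
   [12, 4, 12, 1, 6, 2],
   [12, 0, 12, 12, 9, 1],
   [12, 1, 12, 12, 0, 10],
   [12, 2, 1, 0, 9],
   [12, 1, 1, 12],
   [12, 4, 12, 2],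
   [12, 12, 3, 1, 2],
   [12, 1, 12, 0, 12, 1],
   [12, 0, 12, 4, 12, 2]]

/-- A piece: The words of one level of the chain. -/
def wordsA6 : List (List Nat) :=
  [[12, 0, 12, 12],
   [12, 1, 12, 12, 0, 8],
   [12, 2, 0, 12, 0, 9],
   [12, 12, 10, 0, 1],
   [12, 0, 12, 5, 12, 5],
   [12, 12, 0, 12, 0, 11],
   [12, 1, 12, 9, 12, 9],
   [12, 4, 12, 1, 1],
   [12, 1, 12, 1, 12, 6],
   [12, 12, 1, 12, 0],
   [12, 12, 0, 1, 6],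
   [12, 0, 12, 11, 12, 5],
   [12, 0, 12, 9, 12, 6],
   [12, 2, 12, 12, 9],
   [12, 12, 1, 7, 1],
   [12, 2, 0, 4, 12, 0],
   [12, 0, 12, 5, 11, 12],
   [12, 12, 0, 12, 5, 0],
   [12, 12, 1, 2],
   [12, 1, 12, 12, 10, 11],
   [12, 2, 12, 12, 5, 12],
   [12, 12, 1, 5, 2],
   [12, 0, 12, 0, 12, 3],
   [12, 12, 0, 4, 12, 0],
   [12, 0, 2, 0, 2, 6],
   [12, 12, 0, 6],
   [12, 4, 12, 0],
   [12, 1, 12, 4, 12, 0],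
   [12, 4, 12, 2, 1],
   [12, 0, 12, 12, 7],
   [12, 1, 1, 6, 12, 12],
   [12, 1, 12, 12, 6, 12],
   [12, 12, 2, 2]]

/-- A piece: The words of one level of the chain. -/
def wordsA7 : List (List Nat) :=
  [[12, 0, 12, 0, 2, 11],
   [12, 1, 12, 12, 4, 0],
   [12, 1, 12, 12, 12, 12],
   [12, 0, 12, 12, 1, 2],
   [12, 1, 12, 12, 12],
   [12, 0, 3, 12, 0, 2],
   [12, 1, 1, 12, 1],
   [12, 0, 12, 4, 12, 1],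
   [12, 0, 12, 12, 8],
   [12, 0, 12, 12, 12, 3],
   [12, 0, 1, 12, 2, 3],
   [12, 12, 1, 12, 6],
   [12, 0, 12, 0, 0, 8],
   [12, 1, 12, 0, 3, 12],
   [12, 0, 12, 0, 12, 8],
   [12, 0, 1, 12, 12, 1],
   [12, 0, 3, 12, 0],
   [12, 0, 12, 12, 2],
   [12, 12, 0, 10, 12],
   [12, 1, 12, 12, 12, 7],
   [12, 1, 1, 12, 0, 1],
   [12, 0, 12, 0, 0, 5],
   [12, 0, 12, 0, 9, 12],
   [12, 1, 12, 12, 1, 11],
   [12, 2, 12, 12, 1, 2],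
   [12, 0, 12, 0, 8],
   [12, 1, 12, 12, 9, 11],
   [12, 0, 2, 12, 12, 0],
   [12, 1, 12, 12, 0, 9],
   [12, 12, 1, 2, 2, 4],
   [12, 0, 12, 4, 12],
   [12, 1, 12, 12, 12, 3],
   [12, 2, 0, 12, 10, 0]]

/-- A piece: The words of one level of the chain. -/
def wordsA8 : List (List Nat) :=
  [[12, 12, 0, 1, 8],
   [12, 0, 12, 9, 12, 5],
   [12, 0, 12, 5, 12, 12],
   [12, 0, 12, 6, 12, 9],
   [12, 12, 1, 1, 9],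
   [12, 0, 12, 11, 12, 6],
   [12, 1, 12, 4, 12, 2],
   [12, 12, 0, 1, 5],
   [12, 1, 12, 1, 12, 5],
   [12, 0, 1, 12, 2, 12],
   [12, 1, 12, 11, 12, 9],
   [12, 4, 12, 4, 1, 1],
   [12, 0, 2, 0, 2, 12, 0],
   [12, 1, 5, 12, 12],
   [12, 12, 0, 12, 0, 4],
   [12, 0, 3, 12, 12, 4],
   [12, 0, 1, 12, 1, 10],
   [12, 0, 12, 4, 12, 7],
   [12, 4, 12, 2, 12],
   [12, 0, 12, 12, 0, 0],
   [12, 1, 1, 12, 2],
   [12, 1, 12, 0, 2, 11],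
   [12, 12, 0, 12, 0, 6],
   [12, 0, 12, 11, 12, 0],
   [12, 1, 5, 12, 12, 2],
   [12, 1, 12, 9, 12, 0],
   [12, 1, 5, 12, 0, 2],
   [12, 12, 2, 1, 11],
   [12, 0, 2, 12, 12, 6],
   [12, 0, 12, 4, 12, 8],
   [12, 2, 12, 12, 3, 12],
   [12, 12, 0, 1, 1],
   [12, 12, 2, 7, 12]]

/-- A piece: The words of one level of the chain. -/
def wordsA9 : List (List Nat) :=
  [[12, 0, 1, 12, 2, 1],
   [12, 0, 12, 6, 0, 12],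
   [12, 2, 2, 12, 12, 12],
   [12, 0, 2, 12, 12, 8],
   [12, 0, 12, 0, 6],
   [12, 1, 12, 12, 0, 5],
   [12, 4, 12, 0, 12],
   [12, 1, 12, 12, 5, 11],
   [12, 12, 1, 1, 1, 0],
   [12, 0, 12, 0, 0, 10],
   [12, 1, 12, 1, 0, 12],
   [12, 12, 5, 2, 12, 10],
   [12, 12, 0, 8, 12, 8],
   [12, 2, 12, 0],
   [12, 12, 0, 12, 3],
   [12, 12, 0, 12],
   [12, 1, 12, 12, 3, 12],
   [12, 2, 1, 12, 0, 1],
   [12, 2, 12, 9, 12],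
   [12, 0, 1, 12, 12, 7, 1],
   [12, 1, 1, 1, 12, 0],
   [12, 4, 12, 0, 1],
   [12, 1, 12, 11, 12, 5],
   [12, 2, 12, 12, 12],
   [12, 1, 12, 1, 12, 9],
   [12, 12, 1, 6, 1],
   [12, 12, 2, 2, 12],
   [12, 0, 12, 5, 12, 1],
   [12, 0, 2, 12, 1],
   [12, 2, 12, 12, 0],
   [12, 2, 12, 12, 6],
   [12, 0, 12, 9, 12, 9],
   [12, 12, 1, 1, 3]]

/-- A piece: The words of one level of the chain. -/
def wordsA10 : List (List Nat) :=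
  [[12, 12, 1, 12, 12],
   [12, 1, 12, 12],
   [12, 1, 12, 12, 2, 11],
   [12, 0, 12, 12, 4],
   [12, 12, 2, 1],
   [12, 2, 12, 9, 12, 7],
   [12, 12, 2, 4, 12],
   [12, 0, 12, 0, 12, 11],
   [12, 4, 12, 2, 2],
   [12, 0, 12, 0, 2, 3],
   [12, 1, 1, 12, 1, 12],
   [12, 4, 12, 0, 12, 10],
   [12, 12, 0, 12, 12, 9],
   [12, 0, 2, 12, 12, 10],
   [12, 0, 12, 0, 8, 2],
   [12, 0, 1, 12, 1, 6],
   [12, 1, 12, 1, 12, 7],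
   [12, 1, 12, 9, 12, 4],
   [12, 1, 12, 12, 3, 10],
   [12, 12, 2, 2, 9],
   [12, 12, 5, 2, 12],
   [12, 2, 1],
   [12, 1, 1, 1, 12],
   [12, 2, 0, 12, 9],
   [12, 0, 1, 12, 2, 0],
   [12, 2, 2],
   [12, 2, 0, 12, 6],
   [12, 2, 0, 12, 5],
   [12, 2, 0, 12, 8],
   [12, 2, 0, 1],
   [12, 2, 1, 3],
   [12, 2, 0, 12, 3],
   [12, 1, 1, 1, 12, 8]]

/-- A piece: The words of one level of the chain. -/
def wordsA11 : List (List Nat) :=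
  [[12, 2, 0, 12, 10],
   [12, 2, 2, 3],
   [12, 12, 2, 2, 0],
   [12, 0, 2, 0, 2, 12],
   [12, 2, 0, 12, 4],
   [12, 2, 0, 1, 4],
   [12, 1, 1],
   [12, 0, 12, 5],
   [12, 0, 12, 11],
   [12, 1, 1, 6],
   [12, 2, 12],
   [12, 1, 12, 9],
   [12, 1, 12, 11],
   [12, 0, 2, 11],
   [12, 1, 5, 12],
   [12, 0, 12, 9],
   [12, 0, 2],
   [12, 1, 12],
   [12, 1, 12, 1],
   [12, 1, 12, 4],
   [12, 1],
   [12, 0, 12, 6],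
   [12, 0, 12, 5, 11],
   [12, 1, 5],
   [12, 0, 1, 12, 9, 0],
   [12, 1, 12, 12, 0, 3],
   [12, 12, 0, 12, 12],
   [12, 12, 2, 0, 7],
   [12, 12, 0, 6, 12, 5],
   [12, 0, 12, 12, 10],
   [12, 0, 12, 12, 0, 1],
   [12, 1, 12, 0, 1],
   [12, 12, 1, 5, 12]]

/-- A piece: The words of one level of the chain. -/
def wordsA12 : List (List Nat) :=
  [[12, 1, 1, 12, 12, 8],
   [12, 2, 2, 12, 2],
   [12, 0, 12, 0, 12, 2],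
   [12, 1, 12, 11, 12, 1],
   [12, 0, 12, 9, 12, 1],
   [12, 4, 12, 1],
   [12, 0, 12, 12, 4, 9],
   [12, 1, 12, 12, 11, 1],
   [12, 12, 1, 6],
   [12, 2, 1, 12, 0],
   [12, 12, 0, 12, 5],
   [12, 0, 12, 5, 12, 10],
   [12, 12, 2, 0, 5],
   [12, 12, 0, 2, 12],
   [12, 1, 12, 11, 12, 10],
   [12, 12, 2, 12, 8],
   [12, 12, 0, 6, 2],
   [12, 12, 10, 1, 12],
   [12, 1, 12, 0, 12, 10],
   [12, 12, 0, 2, 3],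
   [12, 2, 12, 12, 3],
   [12, 0, 12, 12, 1],
   [12, 0, 3, 12, 12, 1],
   [12, 12, 1],
   [12, 2, 0, 12, 4, 12],
   [12, 0, 12, 12, 7, 2],
   [12, 4, 12, 1, 6],
   [12, 1, 1, 12, 0],
   [12, 12, 0, 6, 2, 12],
   [12, 0, 12, 4, 12, 10],
   [12, 12, 2, 0, 6],
   [12, 1, 12, 12, 4, 1],
   [12, 0, 3, 12, 12, 10]]

/-- A piece: The words of one level of the chain. -/
def wordsA13 : List (List Nat) :=
  [[12, 4, 12, 0, 12, 9],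
   [12, 0, 2, 11, 12, 2],
   [12, 0, 12, 12, 3],
   [12, 0, 12, 12, 2, 1],
   [12, 12, 0, 10, 2],
   [12, 12, 1, 7, 12],
   [12, 12, 1, 12, 1],
   [12, 1, 12, 12, 7, 10],
   [12, 12, 1, 3],
   [12, 12, 1, 12, 7],
   [12, 0, 12, 12, 12, 7],
   [12, 12, 4, 1],
   [12, 1, 2, 2, 7],
   [12, 12, 2, 3],
   [12, 12, 2, 9],
   [12, 1, 2, 2],
   [12, 0, 1, 12],
   [12, 2, 1, 12, 9],
   [12, 0, 1, 12, 9],
   [12, 2],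
   [12, 12, 5, 2],
   [12, 12, 12, 2],
   [12, 2, 3],
   [12, 12, 2, 7],
   [12, 2, 1, 12],
   [12, 12, 3, 2],
   [12, 0, 2, 0],
   [12, 12, 2],
   [12, 0, 1, 12, 4],
   [12, 0, 2, 0, 3],
   [12, 4, 12, 2, 0],
   [12, 2, 2, 12, 12, 5],
   [12, 1, 5, 12, 12, 10]]

/-- A piece: The words of one level of the chain. -/
def wordsA14 : List (List Nat) :=
  [[12, 12, 2, 0],
   [12, 0, 2, 12, 2, 12],
   [12, 0, 3, 12, 12, 12],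
   [12, 12, 2, 12, 4],
   [12, 0, 2, 12, 2],
   [12, 4, 12, 4, 1, 12],
   [12, 0, 12, 0, 12, 10],
   [12, 4, 12, 0, 2],
   [12, 1, 12, 12, 3],
   [12, 12, 0, 12, 1, 0],
   [12, 2, 12, 12, 12, 3],
   [12, 4, 12, 1, 7],
   [12, 0, 12, 6, 12, 2],
   [12, 0, 12, 12, 7, 10],
   [12, 12, 1, 4],
   [12, 0, 1, 12, 0],
   [12, 12, 0, 9, 2, 12],
   [12, 0, 1, 12, 12, 12],
   [12, 12, 2, 0, 3],
   [12, 0, 12, 0, 1, 12],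
   [12, 2, 12, 12, 10],
   [12, 12, 0, 12, 9],
   [12, 2, 12, 0, 1],
   [12, 12, 1, 4, 12],
   [12, 12, 1, 12, 11],
   [12, 0, 12, 0, 8, 1],
   [12, 0, 12, 5, 12, 3],
   [12, 1, 12, 12, 8, 9],
   [12, 2, 12, 12, 3, 2],
   [12, 4, 12, 4, 1],
   [12, 2, 0, 12, 8, 12],
   [12, 1, 12, 12, 12, 6],
   [12, 12, 3, 1]]

/-- A piece: The words of one level of the chain. -/
def wordsA15 : List (List Nat) :=
  [[12, 12, 2, 0, 4],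
   [12, 12, 10, 0, 2, 12],
   [12, 1, 12, 12, 10],
   [12, 0, 1, 12, 0, 5],
   [12, 1, 12, 12, 11, 2],
   [12, 0, 12, 12, 12],
   [12, 12, 0, 8, 12, 9],
   [12, 12, 10, 0, 2],
   [12, 1, 5, 12, 12, 3],
   [12, 2, 1, 12, 12, 4],
   [12, 12, 0, 2, 8],
   [12, 12, 1, 12],
   [12, 0, 12, 12, 2, 6],
   [12, 0, 12, 0, 1, 12, 11],
   [12, 12, 1, 5, 6],
   [12, 0, 12, 12, 3, 7],
   [12, 2, 12, 12, 1, 12],
   [12, 12, 10, 1],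
   [12, 0],
   [12, 0, 2, 11, 12],
   [12, 12, 0, 4],
   [12, 0, 3],
   [12, 0, 2, 12],
   [12, 12, 0, 8],
   [12, 4, 12, 0, 7],
   [12, 0, 1],
   [12, 4, 12, 0, 10],
   [12, 12, 0, 9],
   [12, 0, 1, 8],
   [12, 12, 0],
   [12, 12, 10, 0],
   [12, 0, 2, 12, 9],
   [12, 1, 0, 0, 3]]

/-- A piece: The words of one level of the chain. -/
def wordsA16 : List (List Nat) :=
  [[12, 2, 2, 12],
   [12, 2, 2, 12, 8],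
   [12, 1, 0, 0],
   [12, 0, 12, 2, 1],
   [12, 12, 1, 12, 2, 3],
   [12, 2, 12, 0, 12, 12],
   [12, 2, 12, 9, 12, 11],
   [12, 0, 12, 2, 2],
   [12, 12, 1, 1, 12, 7],
   [12, 2, 12, 0, 12, 2],
   [12, 12, 1, 12, 4],
   [12, 0, 12, 2],
   [12, 0, 12, 2, 10, 1],
   [12, 12, 0, 12, 2],
   [12, 12, 1, 12, 9],
   [12, 0, 12, 4, 12, 11],
   [12, 1, 12, 2, 10, 2],
   [12, 1, 12, 12, 2, 3],
   [12, 12, 1, 12, 5],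
   [12, 12, 1, 12, 9, 0],
   [12, 1, 12, 2, 3],
   [12, 0, 12, 2, 4],
   [12, 1, 12, 12, 2, 7],
   [12, 4, 12, 2, 12, 11],
   [12, 2, 12, 2],
   [12, 12, 1, 1, 12, 3],
   [12, 0, 12, 0, 12, 12],
   [12, 12, 1, 7, 12, 0],
   [12, 0, 12, 2, 1, 3],
   [12, 12, 2, 12, 2],
   [12, 0, 12, 12, 0, 11],
   [12, 2, 12, 2, 1],
   [12, 12, 0, 12, 0]]

/-- A piece: The words of one level of the chain. -/
def wordsA17 : List (List Nat) :=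
  [[12, 12, 0, 4, 1, 12],
   [12, 1, 12, 4, 12, 11],
   [12, 12, 1, 1, 0],
   [12, 4, 12, 1, 12, 0],
   [12, 0, 1, 12, 0, 12, 10],
   [12, 0, 12, 9, 2, 2],
   [12, 12, 0, 4, 12],
   [12, 0, 12, 12, 5, 11],
   [12, 12, 1, 5, 2, 0],
   [12, 12, 2, 12, 10],
   [12, 0, 12, 0, 0],
   [12, 0, 12, 0, 12],
   [12, 0, 12, 0, 0, 3],
   [12, 0, 3, 12, 0, 12],
   [12, 1, 12, 1, 12, 12],
   [12, 12, 2, 3, 12, 7],
   [12, 0, 12, 0, 12, 0],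
   [12, 0, 12, 0],
   [12, 0, 12, 12, 2, 12],
   [12, 0, 2, 11, 12, 12],
   [12, 12, 2, 12, 3, 10],
   [12, 12, 2, 12, 9],
   [12, 0, 12, 0, 3],
   [12, 2, 0, 12, 12, 2],
   [12, 12, 0, 1, 12, 11],
   [12, 1, 12, 0, 3, 2],
   [12, 0, 12, 12, 1, 5],
   [12, 2, 1, 12, 9, 12],
   [12, 2, 12, 0, 12, 11],
   [12, 0, 1, 12, 2],
   [12, 1, 12, 12, 7],
   [12, 0, 12, 9, 12, 8],
   [12, 12, 2, 1, 6]]

/-- A piece: The words of one level of the chain. -/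
def wordsA18 : List (List Nat) :=
  [[12, 2, 12, 0, 2],
   [12, 0, 1, 12, 1, 12],
   [12, 1, 12, 0, 12, 9],
   [12, 1, 12, 12, 8],
   [12, 0, 1, 12, 1],
   [12, 0, 12, 9, 12, 7],
   [12, 12, 2, 2, 3],
   [12, 0, 1, 12, 12],
   [12, 0, 12, 4, 12, 0],
   [12, 2, 1, 12, 12, 10],
   [12, 0, 12, 0, 5, 0],
   [12, 12, 2, 12, 5],
   [12, 12, 0, 8, 12],
   [12, 12, 2, 0, 12, 8],
   [12, 12, 2, 0, 1],
   [12, 12, 2, 2, 1],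
   [12, 0, 12, 0, 6, 12],
   [12, 0, 12, 6, 12, 12],
   [12, 0, 1, 12, 12, 7],
   [12, 4, 12, 0, 12, 8],
   [12, 1, 12, 11, 0],
   [12, 12, 1, 2, 2, 7],
   [12, 0, 2, 12, 12],
   [12, 0, 12, 12, 6, 10],
   [12, 12, 0, 12, 8],
   [12, 0, 12, 0, 7],
   [12, 12, 0, 8, 12, 3],
   [12, 0, 12, 2, 1, 8],
   [12, 1, 12, 12, 0],
   [12, 1, 12, 12, 12, 0],
   [12, 12, 0, 0, 1],
   [12, 0, 12, 12, 2, 5],
   [12, 1, 12, 12, 5, 12]]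

/-- A piece: The words of one level of the chain. -/
def wordsA19 : List (List Nat) :=
  [[12, 0, 12, 11, 12, 11],
   [12, 1, 5, 12, 2, 2],
   [12, 12, 2, 2, 2, 12],
   [12, 1, 12, 0, 12, 12],
   [12, 0, 12, 2, 2, 3],
   [12, 12, 0, 1, 12],
   [12, 0, 12, 0, 2, 12],
   [12, 12, 1, 12, 8],
   [12, 1, 12, 1, 2],
   [12, 12, 1, 4, 12, 5],
   [12, 12, 10, 1, 12, 4],
   [12, 0, 2, 12, 0],
   [12, 1, 12, 9, 12],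
   [12, 0, 12, 12, 2, 10],
   [12, 2, 0, 12, 4, 0],
   [12, 12, 0, 12, 8, 2],
   [12, 0, 12, 2, 1, 0],
   [12, 0, 3, 12, 12, 5],
   [12, 1, 12, 12, 6],
   [12, 0, 3, 12, 12, 7, 1],
   [12, 4, 12, 1, 1, 9],
   [12, 12, 0, 9, 1],
   [12, 1, 12, 4, 12, 5],
   [12, 12, 2, 12, 9, 2],
   [12, 0, 12, 12, 9],
   [12, 12, 4, 1, 1],
   [12, 2, 12, 9, 12, 6],
   [12, 2, 0, 12, 0],
   [12, 2, 12, 12],
   [12, 1, 12, 12, 8, 2],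
   [12, 0, 12, 12, 12, 12],
   [12, 0, 12, 0, 2],
   [12, 12, 2, 1, 11, 12]]

/-- A piece: The words of one level of the chain. -/
def wordsA20 : List (List Nat) :=
  [[12, 12, 2, 9, 12],
   [12, 0, 12, 0, 8, 12, 11],
   [12, 12, 12, 2, 2],
   [12, 0, 12, 0, 5, 2],
   [12, 1, 12, 12, 2],
   [12, 0, 2, 12, 12, 12],
   [12, 2, 12, 12, 1],
   [12, 1, 12, 4, 12, 4],
   [12, 0, 1, 12, 1, 11],
   [12, 0, 12, 5, 12, 4],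
   [12, 12, 2, 1, 10],
   [12, 1, 12, 11, 12, 7],
   [12, 12, 2, 2, 6],
   [12, 12, 2, 3, 12],
   [12, 1, 12, 12, 1, 4],
   [12, 0, 12, 11, 12],
   [12, 1, 12, 12, 5, 0],
   [12, 2, 0, 12, 6, 0],
   [12, 1, 12, 12, 0, 11],
   [12, 12, 0, 10, 1],
   [12, 0, 12, 12, 5],
   [12, 0, 12, 12, 8, 11],
   [12, 0, 12, 11, 12, 2],
   [12, 1, 1, 12, 1, 0],
   [12, 12, 0, 1, 3],
   [12, 1, 12, 1, 12, 1],
   [12, 2, 12, 9, 12, 1],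
   [12, 0, 12, 0, 5, 0, 1],
   [12, 0, 12, 5, 12],
   [12, 0, 12, 12, 6, 12],
   [12, 0, 3, 12, 12, 9],
   [12, 12, 1, 4, 1],
   [12, 0, 12, 4, 12, 6]]

/-- A piece: The words of one level of the chain. -/
def wordsA21 : List (List Nat) :=
  [[12, 0, 12, 2, 2, 7],
   [12, 0, 2, 12, 1, 12],
   [12, 0, 12, 9, 12, 11],
   [12, 0, 12, 2, 3, 2],
   [12, 12, 0, 1, 5, 12],
   [12, 1, 12, 11, 12, 11],
   [12, 2, 12, 12, 0, 12],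
   [12, 1, 12, 2],
   [12, 12, 1, 3, 12, 5],
   [12, 12, 1, 3, 12, 4],
   [12, 0, 12, 2, 3],
   [12, 1, 12, 12, 1],
   [12, 1, 12, 12, 0, 1],
   [12, 0, 12, 12, 3, 2],
   [12, 0, 2, 12, 0, 1],
   [12, 2, 12, 12, 2],
   [12, 4, 12, 0, 12, 11],
   [12, 0, 1, 12, 1, 2],
   [12, 0, 3, 12, 2, 1],
   [12, 1, 5, 12, 12, 0],
   [12, 0, 12, 12, 4, 7],
   [12, 0, 12, 12, 11],
   [12, 0, 3, 12, 2, 2],
   [12, 12, 0, 9, 1, 12],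
   [12, 1, 12, 12, 3, 5],
   [12, 0, 12, 12, 8, 12],
   [12, 0, 12, 2, 10],
   [12, 0, 12, 2, 1, 10],
   [12, 1, 12, 0, 12, 7],
   [12, 12, 0, 12, 11],
   [12, 0, 3, 12, 12, 11],
   [12, 0, 2, 12, 0, 2],
   [12, 0, 12, 12, 5, 7]]

/-- A piece: The words of one level of the chain. -/
def wordsA22 : List (List Nat) :=
  [[12, 0, 12, 11, 12, 1],
   [12, 0, 1, 12, 12, 11],
   [12, 0, 12, 5, 2],
   [12, 0, 12, 2, 10, 2],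
   [12, 0, 12, 12, 7, 0],
   [12, 0, 2, 12, 12, 1],
   [12, 1, 12, 2, 2],
   [12, 2, 2, 12, 1, 12],
   [12, 0, 12, 6, 12, 11],
   [12, 12, 2, 12, 11],
   [12, 1, 5, 12, 2],
   [12, 2, 12, 0, 2, 12],
   [12, 2, 1, 12, 12, 11],
   [12, 1, 12, 9, 2],
   [12, 0, 12, 12, 10, 2],
   [12, 0, 12, 0, 12, 7],
   [12, 2, 2, 12, 12, 11],
   [12, 1, 12, 1, 2, 1],
   [12, 0, 12, 5, 12, 2],
   [12, 0, 12, 12, 7, 8],
   [12, 1, 12, 2, 1, 3],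
   [12, 0, 12, 12, 3, 1],
   [12, 12, 0, 4, 12, 2],
   [12, 12, 0, 1],
   [12, 1, 12, 12, 9],
   [12, 12, 1, 5, 1],
   [12, 12, 0, 8, 12, 7],
   [12, 0, 12, 9, 12],
   [12, 0, 12, 9, 12, 2],
   [12, 0, 3, 12, 0, 0, 1],
   [12, 12, 1, 3, 1],
   [12, 0, 12, 12, 6],
   [12, 2, 12, 9, 12, 9]]

/-- A piece: The words of one level of the chain. -/
def wordsA23 : List (List Nat) :=
  [[12, 12, 0, 8, 1],
   [12, 12, 1, 1, 12],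
   [12, 0, 12, 12, 1, 12],
   [12, 1, 12, 11, 12, 2],
   [12, 2, 0, 12, 3, 0],
   [12, 1, 12, 1, 12],
   [12, 0, 2, 12, 12, 4],
   [12, 0, 12, 6, 0],
   [12, 4, 12, 0, 12, 1],
   [12, 2, 12, 0, 12],
   [12, 0, 12, 0, 5, 12, 8],
   [12, 0, 12, 0, 0, 11],
   [12, 0, 12, 11, 0],
   [12, 12, 0, 12, 1],
   [12, 12, 0, 8, 12, 4],
   [12, 1, 12, 12, 12, 10],
   [12, 2, 12, 12, 5, 11],
   [12, 12, 1, 2, 0, 5],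
   [12, 12, 0, 12, 2, 9],
   [12, 4, 12, 2, 0, 1],
   [12, 2, 2, 12, 12],
   [12, 2, 12, 0, 0],
   [12, 0, 12, 0, 7, 12],
   [12, 2, 0, 12, 12, 12],
   [12, 1, 12, 12, 5],
   [12, 0, 12, 12, 1, 10],
   [12, 12, 2, 2, 2],
   [12, 0, 12, 12, 1, 1],
   [12, 12, 1, 1],
   [12, 1, 12, 4, 12, 6],
   [12, 12, 2, 1, 0],
   [12, 12, 2, 12, 3],
   [12, 0, 12, 4, 12, 9]]

/-- A piece: The words of one level of the chain. -/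
def wordsA24 : List (List Nat) :=
  [[12, 1, 12, 11, 12],
   [12, 1, 12, 12, 9, 2],
   [12, 2, 0, 12, 5, 0],
   [12, 2, 2, 12, 1],
   [12, 1, 12, 12, 1, 2],
   [12, 12, 0, 12, 9, 2],
   [12, 2, 12, 12, 7, 12],
   [12, 1, 12, 0, 0, 1],
   [12, 0, 12, 6, 12],
   [12, 12, 0, 0],
   [12, 0, 12, 12, 5, 2],
   [12, 1, 12, 12, 1, 10],
   [12, 1, 12, 2, 10],
   [12, 2, 12, 12, 0, 3],
   [12, 0, 12, 12, 3, 8],
   [12, 1, 12, 12, 7, 8],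
   [12, 1, 12, 2, 1],
   [12, 12, 1, 12, 2, 1],
   [12, 2, 12, 12, 1, 8],
   [12, 1, 12, 2, 10, 1],
   [12, 12, 0, 12, 1, 5],
   [12, 2, 12, 12, 5, 7],
   [12, 0, 12, 5, 12, 11],
   [12, 1, 12, 9, 2, 2],
   [12, 4, 12, 0, 1, 12],
   [12, 2, 12, 12, 11],
   [12, 2, 12, 2, 2],
   [12, 0, 12, 5, 12, 8],
   [12, 12, 2, 1, 9],
   [12, 0, 12, 12, 11, 2],
   [12, 12, 0, 12, 4, 0],
   [12, 12, 0, 12, 10],
   [12, 1, 12, 0, 2, 6]]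

/-- A piece: The words of one level of the chain. -/
def wordsA25 : List (List Nat) :=
  [[12, 0, 1, 12, 9, 12],
   [12, 12, 1, 3, 12, 10],
   [12, 12, 2, 9, 2],
   [12, 2, 1, 12, 1],
   [12, 0, 12, 5, 12, 7],
   [12, 1, 12, 4, 12, 8],
   [12, 1, 12, 12, 1, 8],
   [12, 12, 2, 0, 0],
   [12, 2, 1, 12, 12],
   [12, 0, 12, 0, 3, 2],
   [12, 0, 1, 12, 12, 2],
   [12, 12, 0, 8, 12, 10],
   [12, 1, 1, 12, 12, 9],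
   [12, 1, 12, 0, 3],
   [12, 0, 12, 12, 0, 3],
   [12, 0, 12, 0, 8, 12],
   [12, 12, 2, 12, 1],
   [12, 1, 12, 0, 0],
   [12, 1, 12, 0],
   [12, 2, 12, 12, 9, 11],
   [12, 12, 0, 4, 12, 4],
   [12, 0, 12, 12, 0],
   [12, 12, 1, 12, 0, 0],
   [12, 12, 1, 5, 2, 2],
   [12, 0, 12, 0, 0, 4],
   [12, 0, 12, 0, 3, 12],
   [12, 0, 12, 0, 12, 4],
   [12, 2, 12, 12, 6, 10],
   [12, 12, 1, 2, 0],
   [12, 12, 10, 0, 12],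
   [12, 0, 12, 12, 12, 9],
   [12, 12, 0, 2, 12, 4],
   [12, 0, 12, 0, 6, 2]]

/-- A piece: The words of one level of the chain. -/
def wordsA26 : List (List Nat) :=
  [[12, 1, 12, 12, 4],
   [12, 12, 2, 7, 1],
   [12, 1, 12, 12, 3, 1],
   [12, 12, 12, 2, 12],
   [12, 12, 1, 6, 12, 10],
   [12, 2, 1, 12, 2],
   [12, 12, 2, 1, 5],
   [12, 2, 12, 12, 7],
   [12, 0, 12, 9, 12, 4],
   [12, 0, 12, 12, 3, 10],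
   [12, 12, 2, 2, 7],
   [12, 12, 2, 12],
   [12, 1, 12, 0, 2],
   [12, 12, 2, 1, 12],
   [12, 0, 12, 0, 12, 9],
   [12, 0, 12, 5, 2, 1],
   [12, 0, 12, 12, 8, 1],
   [12, 1, 12, 12, 4, 12],
   [12, 1, 12, 2, 1, 8],
   [12, 12, 1, 12, 6, 1],
   [12, 0, 2, 12, 12, 11],
   [12, 1, 12, 12, 11],
   [12, 1, 12, 2, 3, 2],
   [12, 1, 12, 12, 12, 11],
   [12, 0, 12, 12, 6, 8],
   [12, 12, 0, 0, 2],
   [12, 1, 12, 12, 5, 7],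
   [12, 12, 1, 5, 12, 5],
   [12, 0, 12, 12, 3, 4],
   [12, 0, 12, 9, 2],
   [12, 0, 12, 0, 12, 6],
   [12, 1, 1, 12, 12, 11],
   [12, 0, 3, 12, 2]]

/-- The words of one level of the chain. -/
def wordsA : List (List (List Nat)) :=
  [wordsA0, wordsA1, wordsA2, wordsA3, wordsA4, wordsA5, wordsA6, wordsA7, wordsA8, wordsA9, wordsA10, wordsA11, wordsA12, wordsA13, wordsA14, wordsA15, wordsA16, wordsA17, wordsA18, wordsA19, wordsA20, wordsA21, wordsA22, wordsA23, wordsA24, wordsA25, wordsA26]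

/-- A piece: The words of one level of the chain. -/
def wordsB0 : List (List Nat) :=
  [[],
   [3, 4, 5, 6, 7, 8, 11],
   [3, 5, 6, 7, 8, 9, 10, 11],
   [4, 9, 10],
   [3, 5, 9, 10],
   [4, 8, 11],
   [3, 4, 5],
   [6, 7, 9, 10],
   [8, 9, 10, 11],
   [4, 6, 7],
   [6, 7, 8, 11],
   [3, 4, 5, 6, 7, 9, 10],
   [4, 6, 7, 8, 9, 10, 11],
   [3, 5, 8, 11],
   [3, 5, 6, 7],
   [3, 4, 5, 8, 9, 10, 11],
   [3, 4, 6, 7, 8, 9, 11],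
   [5, 9],
   [4, 5, 10],
   [3, 6, 7, 8, 10, 11],
   [4, 5, 6, 7, 8, 10, 11],
   [3, 6, 7, 9],
   [5, 6, 7, 8, 9, 11],
   [3, 4, 8, 10, 11],
   [3, 4, 6, 7, 10],
   [3, 8, 9, 11],
   [3, 4, 9],
   [5, 8, 10, 11],
   [3, 10],
   [4, 5, 6, 7, 9],
   [4, 5, 8, 9, 11],
   [5, 6, 7, 10],
   [4, 8]]

/-- A piece: The words of one level of the chain. -/
def wordsB1 : List (List Nat) :=
  [[3, 5, 6, 7, 11],
   [3, 5, 7, 9, 10],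
   [4, 6, 8, 9, 10, 11],
   [5, 7, 9, 10],
   [3, 4, 6, 8, 11],
   [5, 6, 7, 11],
   [4, 8, 9, 10],
   [3, 4, 8, 9, 10],
   [4, 6, 8, 11],
   [3, 4, 8],
   [5, 6, 7, 9, 10, 11],
   [3, 4, 6, 8, 9, 10, 11],
   [3, 5, 7],
   [5, 7],
   [3, 5, 6, 7, 9, 10, 11],
   [5, 8, 10],
   [3, 4, 6, 7, 10, 11],
   [4, 6, 11],
   [3, 5, 7, 8],
   [10, 11],
   [3, 4, 6, 7, 8, 11],
   [4, 5, 6, 10],
   [3, 7, 11],
   [3, 4, 5, 6, 7],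
   [4, 6, 8, 10, 11],
   [3, 4, 5, 6, 7, 8, 10],
   [8, 11],
   [5],
   [3, 7, 8, 10, 11],
   [4, 5, 6, 8],
   [3, 5, 7, 10],
   [3, 4, 7, 9],
   [5, 6, 8, 9, 11]]

/-- A piece: The words of one level of the chain. -/
def wordsB2 : List (List Nat) :=
  [[5, 6, 10, 11],
   [3, 4, 7, 8, 10],
   [3, 4, 5, 6, 7, 8, 9],
   [7, 10, 11],
   [3, 4, 10],
   [7, 8, 9, 11],
   [3, 4, 5, 6, 7, 10],
   [3, 4, 8, 9],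
   [9, 11],
   [5, 6, 7, 8, 10, 11],
   [3, 4, 5, 6, 9],
   [8, 10, 11],
   [3, 4, 5, 6, 8, 10],
   [5, 6, 7, 9, 11],
   [3, 6, 7, 9, 11],
   [4, 5, 8, 9],
   [4, 5, 6, 8, 10, 11],
   [3, 7, 10],
   [3, 4, 5, 6, 8, 10, 11],
   [7, 9],
   [3, 4, 5, 8, 9],
   [3, 6, 7, 10, 11],
   [6, 7, 10, 11],
   [3, 7, 9],
   [6, 7, 9, 11],
   [3, 4, 5, 8, 10],
   [7, 10],
   [4, 5, 6, 8, 9, 11],
   [3, 4, 5, 6, 8, 9, 11],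
   [4, 5, 8, 10],
   [3, 4, 5, 6, 7, 9, 10, 11],
   [8, 9, 10],
   [3, 7, 8, 9]]

/-- A piece: The words of one level of the chain. -/
def wordsB3 : List (List Nat) :=
  [[4, 5, 6, 9, 11],
   [3, 4, 6, 7, 8, 9, 10],
   [9],
   [3, 5, 7, 8, 9, 10, 11],
   [4, 6, 8, 9],
   [5, 8, 9, 11],
   [3, 7, 9, 10],
   [5, 9, 10, 11],
   [3, 4, 6, 7, 9],
   [3, 4, 5, 6, 7, 8, 9, 11],
   [4, 6, 9, 10],
   [3, 5, 7, 9, 11],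
   [4, 5, 6, 8, 9, 10, 11],
   [6, 8, 11],
   [3, 4, 5, 7],
   [3, 4, 5, 7, 8, 9, 10],
   [6, 9, 10, 11],
   [5, 11],
   [3, 4, 6, 8, 9, 10],
   [6, 7, 8, 9, 10, 11],
   [3, 4, 6],
   [5, 8, 9, 10, 11],
   [6, 7, 11],
   [3, 4, 6, 7, 8],
   [3, 4, 5, 9, 10],
   [5, 7, 8, 11],
   [3, 4, 6, 7, 9, 10],
   [5, 7, 9, 10, 11],
   [3, 4, 5, 8],
   [3, 6, 8, 11],
   [4, 5, 7, 9, 10],
   [3, 8, 9, 10],
   [3, 4, 5, 6, 7, 11]]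

/-- A piece: The words of one level of the chain. -/
def wordsB4 : List (List Nat) :=
  [[4, 5, 6, 7, 11],
   [3, 4, 5, 7, 9, 10],
   [4, 5, 6, 7, 9, 10, 11],
   [3, 8],
   [4, 5, 7],
   [6, 8, 9, 10, 11],
   [3, 6, 8, 9, 10, 11],
   [8],
   [3, 5, 6, 7, 8, 9],
   [4, 5, 9, 10],
   [3, 4, 7, 8, 9, 11],
   [5, 6, 8, 9, 10],
   [4, 8, 9, 10, 11],
   [3, 4, 5, 7, 9],
   [4, 9, 11],
   [3, 5, 6, 7, 9, 10],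
   [3, 6, 7, 8, 9, 10, 11],
   [5, 6, 9],
   [3, 4, 7, 9, 10, 11],
   [6, 8, 9, 11],
   [4, 10, 11],
   [3, 5, 6, 8, 9],
   [4, 5, 6, 7, 8, 9, 11],
   [3, 5, 6, 10],
   [4, 8, 9, 11],
   [4, 5, 6, 7, 10, 11],
   [3, 5, 6, 7, 8, 10],
   [3, 9],
   [4, 7, 8, 10, 11],
   [3, 5, 6, 7, 9],
   [4, 7, 9, 11],
   [3, 8, 10],
   [4, 7, 9]]

/-- A piece: The words of one level of the chain. -/
def wordsB5 : List (List Nat) :=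
  [[3, 5, 6, 8, 10, 11],
   [4, 6, 7, 10, 11],
   [5, 8, 9],
   [3, 5, 8, 9],
   [5, 6, 8, 10, 11],
   [3, 5, 8, 10],
   [4, 6, 7, 9, 11],
   [3, 5, 6, 8, 9, 11],
   [3, 4, 7, 10],
   [4, 7, 10],
   [3, 4, 6, 7, 9, 11],
   [4, 5, 11],
   [3, 5, 6, 7, 8, 10, 11],
   [6],
   [3, 4, 5, 7, 10, 11],
   [3, 6, 7, 10],
   [5, 6, 8, 11],
   [3, 6, 7, 8],
   [4, 5, 8, 10, 11],
   [4, 10],
   [3, 4, 5, 7, 8, 11],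
   [6, 8, 10],
   [3, 4, 7],
   [3, 6, 7, 8, 9, 10],
   [4, 5, 7, 11],
   [3, 5],
   [4, 5, 7, 8, 9, 10, 11],
   [3, 6, 7],
   [3, 5, 8, 9, 10],
   [4, 5, 9, 10, 11],
   [4, 6, 7, 8, 11],
   [3, 6, 9, 10],
   [4, 5, 8, 11]]

/-- A piece: The words of one level of the chain. -/
def wordsB6 : List (List Nat) :=
  [[3, 6, 8],
   [4, 6, 7, 9, 10, 11],
   [3, 8, 9],
   [4, 5, 10, 11],
   [5, 6, 7, 10, 11],
   [3, 4, 6, 7, 8, 9],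
   [4, 5, 6, 7, 9, 11],
   [3, 10, 11],
   [3, 4, 8, 10],
   [5, 6, 7, 8, 9],
   [5, 9, 11],
   [4, 5, 6, 7, 8, 10],
   [3, 6, 7, 8, 10],
   [3, 4, 9, 11],
   [4, 5, 7, 10],
   [3, 7, 8, 9, 11],
   [3, 4, 6, 8, 9, 11],
   [5, 6, 10],
   [3, 6, 8, 10, 11],
   [4, 5, 7, 8, 9, 11],
   [5, 7, 9],
   [3, 4, 6, 10],
   [3, 4, 7, 8, 10, 11],
   [3, 6, 9],
   [4, 5, 6, 9],
   [5, 7, 8, 10, 11],
   [4, 6, 7, 11],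
   [3, 5, 6, 7, 8, 9, 10],
   [3, 4, 5, 8, 9, 10],
   [11],
   [3, 5, 8],
   [4, 6, 7, 8, 9, 10],
   [6, 7, 9, 10, 11]]

/-- A piece: The words of one level of the chain. -/
def wordsB7 : List (List Nat) :=
  [[3, 4, 5, 11],
   [4, 9, 10, 11],
   [6, 7, 8],
   [3, 4, 5, 6, 7, 8],
   [3, 5, 9, 10, 11],
   [5, 7, 8, 10],
   [3, 4, 7, 9, 11],
   [3, 6, 9, 11],
   [4, 5, 6, 8, 10],
   [3, 4, 6, 10, 11],
   [5, 7, 9, 11],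
   [4, 5, 7, 8, 9],
   [3, 6, 8, 10],
   [5, 6, 8, 9],
   [4, 5, 7, 10, 11],
   [3, 7, 10, 11],
   [3, 4, 6, 8, 9],
   [7],
   [3, 4, 5, 7, 8, 9, 10, 11],
   [3, 5, 6, 8, 9, 10, 11],
   [4, 6],
   [4, 7, 9, 10],
   [3, 5, 6],
   [3, 4, 5, 6, 8, 11],
   [7, 8, 9, 10, 11],
   [6, 9, 10],
   [4, 7, 8, 11],
   [3, 5, 7, 8, 11],
   [3, 4, 5, 6, 9, 10],
   [3, 4, 5, 6, 9, 10, 11],
   [6, 8],
   [4, 7, 8],
   [3, 5, 7, 9, 10, 11]]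

/-- A piece: The words of one level of the chain. -/
def wordsB8 : List (List Nat) :=
  [[3, 5, 6, 11],
   [4, 7, 9, 10, 11],
   [7, 8, 9, 10],
   [3, 4, 5, 6, 8],
   [3, 4, 5, 7, 11],
   [3, 5, 6, 8, 9, 10],
   [4, 6, 8, 9, 10],
   [7, 11],
   [4, 9],
   [5, 7, 11],
   [4, 5],
   [3, 6, 8, 9],
   [7, 9, 11],
   [3, 5, 6, 8],
   [3, 6, 7, 8, 11],
   [3, 4, 5, 6, 8, 9],
   [3, 5, 6, 7, 8, 9, 11],
   [4, 7, 11],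
   [3, 4, 6, 8],
   [4, 5, 7, 9, 11],
   [3, 4, 11],
   [4, 5, 6, 7, 8, 9],
   [6, 7, 8, 9],
   [3, 5, 11],
   [3, 4, 5, 9, 11],
   [3, 7],
   [5, 6, 7, 8],
   [4, 6, 8, 9, 11],
   [3, 9, 11],
   [4, 5, 6, 8, 11],
   [4, 6, 7, 8],
   [3, 5, 7, 9],
   [4, 5, 7, 8]]

/-- A piece: The words of one level of the chain. -/
def wordsB9 : List (List Nat) :=
  [[3, 4, 5, 6, 7, 8, 9, 10, 11],
   [3, 6, 11],
   [4, 5, 7, 8, 9, 10],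
   [3],
   [4, 5, 6, 7, 8, 9, 10, 11],
   [9, 10],
   [4, 5, 6, 7, 8, 11],
   [3, 9, 10],
   [6, 11],
   [3, 6, 9, 10, 11],
   [3, 4, 5, 7, 8],
   [3, 4, 6, 9, 11],
   [3, 4, 5, 7, 8, 10, 11],
   [5, 7, 8, 9],
   [3, 4, 5, 10, 11],
   [6, 7, 8, 10],
   [3, 4, 5, 7, 9, 11],
   [6, 8, 9],
   [5, 7, 10],
   [6, 10],
   [3, 4, 5, 8, 9, 11],
   [3, 4, 6, 8, 10, 11],
   [6, 7, 9],
   [4, 7, 8, 9],
   [3, 5, 6, 10, 11],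
   [3, 5, 6, 9, 11],
   [5, 10],
   [4, 6, 7, 8, 9, 11],
   [3, 5, 10],
   [3, 4, 6, 7, 8, 10, 11],
   [3, 5, 9],
   [4, 6, 7, 8, 10, 11],
   [3, 4, 7, 8, 9]]

/-- A piece: The words of one level of the chain. -/
def wordsB10 : List (List Nat) :=
  [[4, 7, 8, 10],
   [5, 6, 9, 11],
   [8, 9],
   [4, 5, 7, 8, 11],
   [3, 4, 6, 7, 11],
   [3, 5, 6, 9],
   [3, 4, 5, 6, 7, 9, 11],
   [7, 8, 11],
   [5, 8],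
   [3, 4, 6, 9],
   [4, 7, 8, 9, 11],
   [3, 4, 5, 6],
   [3, 6],
   [5, 7, 8, 9, 11],
   [5, 8, 11],
   [3, 4, 5, 6, 7, 10, 11],
   [3, 4, 6, 7],
   [5, 10, 11],
   [8, 10],
   [3, 5, 7, 11],
   [4, 6, 8],
   [3, 5, 7, 8, 10, 11],
   [3, 4, 6, 7, 8, 10],
   [4, 5, 6, 11],
   [4, 6, 10],
   [3, 7, 8],
   [7, 8],
   [5, 6, 9, 10],
   [3, 4, 5, 6, 11],
   [5, 6, 7, 8, 9, 10],
   [3, 4, 7, 11],
   [3, 4, 5, 6, 8, 9, 10, 11],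
   [3, 4, 9, 10, 11]]

/-- A piece: The words of one level of the chain. -/
def wordsB11 : List (List Nat) :=
  [[5, 6, 8],
   [3, 4, 7, 8, 9, 10, 11],
   [5, 6, 7],
   [7, 9, 10],
   [3, 4, 8, 11],
   [3, 4, 5, 6, 7, 9],
   [5, 8, 9, 10],
   [8, 9, 11],
   [3, 4, 5, 6, 7, 8, 9, 10],
   [3, 4, 6, 7, 9, 10, 11],
   [4, 5, 6, 8, 9],
   [3, 7, 9, 11],
   [4, 5, 6, 9, 10],
   [3, 7, 8, 9, 10, 11],
   [4, 6, 9, 11],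
   [9, 10, 11],
   [3, 5, 7, 8, 9],
   [6, 7],
   [3, 4, 5, 7, 8, 9],
   [3, 4, 8, 9, 11],
   [5, 6, 11],
   [3, 4, 5, 8, 11],
   [4, 6, 7, 9],
   [5, 6, 7, 9],
   [3, 8, 11],
   [6, 9, 11],
   [4, 5, 6, 7],
   [3, 4, 7, 8],
   [3, 5, 8, 9, 11],
   [3, 4, 5, 6, 7, 8, 10, 11],
   [3, 6, 8, 9, 10],
   [3, 4, 6, 7, 8, 9, 10, 11],
   [5, 7, 10, 11]]

/-- A piece: The words of one level of the chain. -/
def wordsB12 : List (List Nat) :=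
  [[3, 5, 6, 8, 10],
   [7, 9, 10, 11],
   [5, 9, 10],
   [4, 7, 10, 11],
   [10],
   [3, 4, 5, 6, 8, 9, 10],
   [4, 5, 7, 9, 10, 11],
   [3, 4, 6, 8, 10],
   [4, 5, 7, 8, 10, 11],
   [3, 6, 7, 9, 10, 11],
   [3, 5, 6, 9, 10],
   [4, 8, 10],
   [3, 6, 10],
   [5, 7, 8, 9, 10, 11],
   [4, 7, 8, 9, 10, 11],
   [3, 4, 5, 6, 10],
   [4, 5, 8, 9, 10],
   [7, 8, 10, 11],
   [3, 5, 6, 7, 10, 11],
   [3, 4, 6, 9, 10],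
   [3, 4, 5, 7, 9, 10, 11],
   [6, 9],
   [6, 8, 9, 10],
   [3, 5, 6, 7, 9, 11],
   [3, 4, 5, 7, 8, 9, 11],
   [5, 6, 9, 10, 11],
   [3, 4, 7, 8, 9, 10],
   [4, 5, 9, 11],
   [3, 6, 7, 8, 9],
   [4, 5, 8, 9, 10, 11],
   [4, 8, 9],
   [3, 6, 7, 9, 10],
   [6, 7, 8, 10, 11]]

/-- A piece: The words of one level of the chain. -/
def wordsB13 : List (List Nat) :=
  [[4, 5, 9],
   [3, 4, 5, 10],
   [6, 7, 8, 9, 11],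
   [3, 7, 8, 10],
   [3, 4, 5, 6, 9, 11],
   [3, 4, 5, 9],
   [4, 5, 6, 10, 11],
   [3, 6, 7, 8, 9, 11],
   [7, 8, 10],
   [7, 8, 9],
   [3, 4, 5, 6, 10, 11],
   [5, 6, 8, 10],
   [3, 4, 7, 8, 11],
   [3, 4, 7, 10, 11],
   [4, 5, 8],
   [6, 10, 11],
   [3, 5, 6, 7, 8],
   [5, 6],
   [3, 4, 5, 7, 8, 10],
   [4, 11],
   [3, 5, 6, 7, 10],
   [3, 6, 7, 11],
   [4, 8, 10, 11],
   [5, 6, 7, 9, 10],
   [3, 8, 10, 11],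
   [3, 4, 5, 8, 10, 11],
   [4, 6, 7, 9, 10],
   [6, 7, 10],
   [4, 5, 6, 9, 10, 11],
   [3, 4, 8, 9, 10, 11],
   [3, 5, 7, 8, 10],
   [4, 5, 6, 7, 10],
   [3, 7, 8, 9, 10]]

/-- A piece: The words of one level of the chain. -/
def wordsB14 : List (List Nat) :=
  [[3, 5, 8, 9, 10, 11],
   [4, 6, 10, 11],
   [3, 7, 9, 10, 11],
   [4, 5, 6, 7, 8],
   [4, 5, 6, 8, 9, 10],
   [4, 7],
   [3, 5, 6, 8, 11],
   [4, 5, 6, 7, 9, 10],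
   [3, 8, 9, 10, 11],
   [4, 5, 6],
   [3, 11],
   [4, 7, 8, 9, 10],
   [3, 7, 8, 11],
   [3, 5, 6, 9, 10, 11],
   [3, 4, 9, 10],
   [3, 5, 6, 7, 8, 11],
   [5, 6, 7, 8, 9, 10, 11],
   [3, 4],
   [4, 6, 9, 10, 11],
   [5, 7, 8],
   [5, 6, 7, 8, 11],
   [3, 5, 7, 8, 9, 10],
   [3, 4, 6, 11],
   [5, 7, 8, 9, 10],
   [4],
   [3, 4, 6, 9, 10, 11],
   [3, 5, 7, 10, 11],
   [3, 6, 8, 9, 11],
   [4, 6, 8, 10],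
   [3, 5, 9, 11],
   [4, 5, 7, 9],
   [3, 5, 8, 10, 11],
   [4, 6, 7, 10]]

/-- A piece: The words of one level of the chain. -/
def wordsB15 : List (List Nat) :=
  [[3, 5, 7, 8, 9, 11],
   [4, 6, 7, 8, 9],
   [3, 6, 10, 11],
   [4, 6, 9],
   [4, 5, 7, 8, 10],
   [3, 4, 5, 7, 10],
   [3, 9, 10, 11],
   [5, 6, 8, 9, 10, 11],
   [4, 6, 7, 8, 10],
   [6, 8, 10, 11],
   [3, 4, 5, 9, 10, 11],
   [3, 4, 7, 9, 10],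
   [5, 6, 7, 8, 10],
   [3, 5, 10, 11],
   [6, 7, 8, 9, 10],
   [4, 5, 6, 7, 8, 9, 10],
   [3, 4, 10, 11]]

/-- The words of one level of the chain. -/
def wordsB : List (List (List Nat)) :=
  [wordsB0, wordsB1, wordsB2, wordsB3, wordsB4, wordsB5, wordsB6, wordsB7, wordsB8, wordsB9, wordsB10, wordsB11, wordsB12, wordsB13, wordsB14, wordsB15]

/-- A piece: The words of one level of the chain. -/
def wordsC0 : List (List Nat) :=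
  [[],
   [1, 0, 2, 2, 2],
   [1, 2, 2, 0, 2, 1],
   [1, 0, 1],
   [2, 1, 2, 2],
   [0, 2, 2, 2, 0],
   [0, 2, 1, 0, 2],
   [0, 1, 2],
   [0, 0, 0, 2, 2],
   [2, 2, 0, 1, 0, 2],
   [0, 2, 1],
   [2, 2, 0, 1, 1, 1],
   [0, 2, 0, 2],
   [2, 1, 1, 2, 2],
   [0, 2, 2, 0],
   [1, 0, 1, 1, 1],
   [1, 2, 0, 0, 0],
   [1, 2, 2, 0, 2],
   [0, 0, 1, 1, 0, 1],
   [1, 2, 0, 2],
   [2, 1],
   [2, 2, 1, 1],
   [1, 0, 1, 0],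
   [0, 2, 2],
   [2, 2, 0, 2, 2],
   [1, 2, 0, 0, 0, 2],
   [0, 0, 2, 0, 1, 2],
   [0, 2, 1, 1, 0, 0],
   [0, 0, 1, 0, 0],
   [0, 1, 1, 1, 2, 1],
   [2, 1, 0, 1, 2],
   [0, 0, 2, 2, 2, 0, 2],
   [0, 2, 2, 0, 2]]

/-- A piece: The words of one level of the chain. -/
def wordsC1 : List (List Nat) :=
  [[1, 0, 2, 1],
   [0, 0, 0, 2, 1, 2, 1],
   [0, 2, 0, 2, 1, 1],
   [0, 0, 2, 0, 0, 1],
   [2],
   [1, 0],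
   [0, 1, 2, 2],
   [2, 1, 2, 2, 2],
   [1, 0, 1, 2],
   [0, 0, 0, 2, 2, 2],
   [0, 2, 1, 0, 2, 2],
   [1, 0, 0, 2, 0],
   [1, 0, 2, 2, 0],
   [0, 0, 0, 2],
   [2, 1, 1, 0, 0],
   [0, 1, 0],
   [1, 2, 2, 1],
   [0, 1, 0, 0, 2],
   [0, 2, 0, 2, 1],
   [1, 2, 1, 0, 1],
   [0, 0, 2, 0, 2],
   [0, 0, 2, 2],
   [0, 0, 0, 1],
   [1, 2, 0, 0, 2],
   [0, 1, 0, 1, 2],
   [0, 2, 0],
   [1, 2, 0, 1],
   [0, 1, 1, 1, 2],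
   [0, 2, 2, 1, 2],
   [0, 0, 1, 0],
   [1, 2, 0, 2, 2, 2],
   [2, 2, 0],
   [0, 1, 0, 2]]

/-- A piece: The words of one level of the chain. -/
def wordsC2 : List (List Nat) :=
  [[0, 0, 2],
   [2, 2, 2, 1, 1],
   [0, 2, 2, 2, 1, 1],
   [0, 2, 1, 0, 1, 2],
   [0, 2, 1, 1, 1],
   [2, 1, 2, 1],
   [1, 0, 2, 1, 1],
   [0, 0, 1, 0, 2],
   [0, 0, 0],
   [1, 0, 1, 1, 0, 0],
   [1, 2, 1, 0, 1, 2],
   [1, 2, 0],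
   [0, 0, 2, 0, 2, 2],
   [1, 2, 2, 0, 2, 2],
   [2, 1, 1, 2, 0],
   [1, 0, 2, 1, 2],
   [2, 2, 1, 0, 2],
   [0, 1, 0, 0, 2, 2],
   [0, 0, 2, 0, 1],
   [1, 2, 0, 0, 0, 1],
   [2, 2, 0, 2, 0],
   [1, 0, 0, 1, 0, 0],
   [1, 2, 2, 0, 1],
   [0, 0, 0, 2, 2, 1],
   [0, 2, 0, 2, 2],
   [1, 2, 2, 1, 2],
   [2, 2, 2],
   [0, 2, 0, 0, 2, 0],
   [2, 2, 1, 1, 1],
   [0, 2, 2, 0, 2, 1],
   [0, 0, 0, 1, 2, 1],
   [2, 2, 1],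
   [1, 2, 1, 1, 0]]

/-- A piece: The words of one level of the chain. -/
def wordsC3 : List (List Nat) :=
  [[0, 1, 2, 1, 2, 0],
   [1, 0, 1, 1, 1, 0],
   [0, 1, 2, 1, 0],
   [0, 0, 1, 0, 1],
   [1, 2, 0, 0, 1],
   [0, 0, 0, 0],
   [0, 2, 1, 0, 0, 1],
   [0, 0, 2, 0, 0, 0],
   [2, 2, 0, 1, 1],
   [2, 2, 1, 0],
   [0, 2, 1, 0, 0],
   [1],
   [0, 1, 0, 2, 2],
   [2, 2, 0, 2],
   [0, 1, 1, 1, 0, 1],
   [2, 2, 0, 1, 2],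
   [0, 2, 1, 1, 2, 2],
   [0, 1, 1, 1, 2, 2],
   [1, 2, 0, 2, 0],
   [0, 1, 0, 0, 1, 2],
   [0, 0, 1, 1, 2],
   [2, 2, 1, 1, 2],
   [0, 2, 0, 0, 0],
   [0, 0, 1],
   [0, 0, 0, 1, 2],
   [1, 2, 2, 1, 0],
   [2, 2, 2, 1],
   [0, 0, 2, 1, 1, 1],
   [1, 0, 0, 0],
   [0, 2, 0, 0, 2, 2],
   [0, 0, 2, 1],
   [0, 1, 1],
   [1, 0, 0, 2]]

/-- A piece: The words of one level of the chain. -/
def wordsC4 : List (List Nat) :=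
  [[2, 2, 0, 1, 1, 0],
   [0, 0, 0, 2, 1],
   [0, 2, 2, 0, 1],
   [0, 2, 1, 2, 0, 2],
   [0, 1, 1, 2, 0, 2],
   [2, 1, 1],
   [0, 0, 2, 2, 2],
   [2, 2, 1, 0, 0, 2],
   [2, 1, 2],
   [0, 1, 2, 1, 0, 1],
   [1, 0, 0, 1, 2],
   [1, 0, 1, 1],
   [2, 1, 2, 2, 1],
   [0, 2, 1, 0, 1, 1],
   [0, 2, 1, 2, 0],
   [0, 1, 2, 0, 1],
   [0, 0, 2, 2, 2, 0],
   [0, 0, 0, 2, 1, 1],
   [0, 1],
   [0, 1, 1, 2],
   [0, 0, 2, 2, 1, 0],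
   [0, 2, 0, 1, 0, 2],
   [1, 2, 1, 0, 2],
   [0, 1, 1, 2, 0, 1],
   [0, 0, 2, 1, 0],
   [2, 2, 2, 1, 0],
   [2, 1, 0, 1],
   [2, 2, 0, 2, 2, 1],
   [1, 2, 0, 2, 2],
   [1, 2, 0, 0],
   [0, 0, 2, 0],
   [1, 2, 0, 0, 1, 0],
   [1, 2, 1, 2]]

/-- A piece: The words of one level of the chain. -/
def wordsC5 : List (List Nat) :=
  [[0, 1, 2, 1, 0, 2],
   [1, 2, 1, 1],
   [2, 2, 2, 0],
   [0, 2, 2, 2, 1],
   [0, 1, 2, 2, 2],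
   [0, 2, 2, 0, 1, 1],
   [2, 1, 0],
   [1, 2, 2, 0, 1, 2],
   [2, 2],
   [2, 2, 0, 1, 0],
   [1, 0, 1, 0, 1],
   [0, 1, 1, 2, 0, 0],
   [0, 0, 1, 0, 0, 2],
   [1, 0, 0, 1, 1],
   [1, 2, 1, 0, 2, 2],
   [0, 2, 0, 1, 2],
   [0, 0],
   [0, 2, 1, 0],
   [0, 0, 2, 1, 1, 1, 0],
   [1, 0, 0, 1, 0],
   [2, 1, 1, 0, 1],
   [0, 0, 2, 0, 0, 2],
   [2, 1, 1, 2],
   [1, 2, 2, 2, 0],
   [1, 0, 0, 1],
   [0, 2, 0, 0, 2, 0, 2],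
   [0, 0, 2, 2, 0],
   [2, 1, 2, 1, 0],
   [0, 0, 0, 1, 1, 2],
   [2, 2, 0, 1],
   [0, 1, 0, 0, 1, 2, 1],
   [1, 2, 1, 0, 1, 1],
   [0, 2, 1, 1]]

/-- A piece: The words of one level of the chain. -/
def wordsC6 : List (List Nat) :=
  [[1, 0, 2, 0],
   [1, 0, 2, 1, 2, 0],
   [0, 2, 1, 2],
   [0, 1, 2, 0, 0],
   [0, 0, 2, 2, 1],
   [0],
   [1, 0, 2, 2],
   [2, 2, 1, 0, 0],
   [0, 0, 0, 1, 1],
   [0, 1, 2, 0],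
   [0, 0, 0, 1, 0],
   [0, 0, 2, 2, 1, 2],
   [1, 2, 1],
   [0, 2, 0, 1],
   [0, 0, 1, 1, 0],
   [1, 2],
   [0, 2, 1, 0, 1],
   [0, 0, 0, 1, 2, 1, 0],
   [0, 2, 1, 1, 2],
   [1, 0, 0, 0, 1],
   [0, 1, 0, 1, 1],
   [0, 0, 0, 0, 2],
   [0, 1, 1, 1, 0],
   [0, 2, 1, 1, 0],
   [0, 0, 1, 1, 1, 0],
   [0, 1, 1, 1, 0, 1, 2],
   [2, 1, 0, 2],
   [1, 0, 0],
   [2, 1, 0, 2, 0, 1],
   [0, 2, 2, 2],
   [0, 1, 0, 1],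
   [0, 1, 0, 0, 0, 2],
   [1, 0, 2, 2, 1]]

/-- A piece: The words of one level of the chain. -/
def wordsC7 : List (List Nat) :=
  [[1, 0, 2],
   [2, 1, 0, 2, 0],
   [0, 1, 0, 1, 0],
   [0, 2, 0, 1, 0],
   [0, 1, 0, 1, 0, 1],
   [0, 0, 0, 0, 2, 0],
   [0, 1, 0, 1, 0, 2],
   [0, 0, 0, 1, 1, 2, 1],
   [2, 1, 0, 1, 0, 0],
   [0, 0, 1, 1, 2, 1],
   [0, 1, 2, 1],
   [0, 1, 1, 1],
   [0, 2, 2, 1],
   [1, 0, 0, 2, 1],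
   [1, 2, 2],
   [2, 1, 2, 2, 0],
   [0, 2],
   [0, 1, 2, 0, 0, 2],
   [0, 0, 1, 1],
   [0, 0, 0, 2, 1, 2],
   [0, 0, 2, 0, 0],
   [0, 0, 1, 1, 1],
   [0, 0, 1, 0, 0, 1],
   [0, 1, 0, 0, 1],
   [0, 1, 1, 2, 0],
   [0, 1, 1, 2, 0, 1, 0],
   [0, 0, 1, 1, 0, 0],
   [1, 0, 0, 0, 0],
   [0, 2, 0, 0],
   [1, 0, 2, 2, 0, 0],
   [0, 1, 0, 0],
   [2, 1, 0, 2, 0, 0],
   [1, 2, 1, 0]]

/-- A piece: The words of one level of the chain. -/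
def wordsC8 : List (List Nat) :=
  [[1, 0, 1, 1, 0],
   [2, 1, 1, 0],
   [0, 0, 2, 1, 1],
   [2, 2, 0, 2, 0, 2],
   [0, 1, 2, 1, 2],
   [0, 1, 0, 0, 0],
   [0, 2, 0, 0, 2],
   [0, 2, 1, 0, 2, 0],
   [0, 2, 2, 2, 0, 0],
   [1, 2, 1, 0, 0],
   [1, 0, 1, 2, 1],
   [0, 1, 2, 2, 1],
   [1, 2, 2, 2],
   [0, 0, 0, 1, 1, 1],
   [1, 2, 2, 0],
   [2, 1, 0, 1, 0]]

/-- The words of one level of the chain. -/
def wordsC : List (List (List Nat)) :=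
  [wordsC0, wordsC1, wordsC2, wordsC3, wordsC4, wordsC5, wordsC6, wordsC7, wordsC8]

/-- A piece: The words of one level of the chain. -/
def wordsD0 : List (List Nat) :=
  [[],
   [2, 0, 1, 2, 2, 1, 2, 0],
   [1, 1, 1, 0, 2, 2, 0],
   [0, 0, 0, 0, 1, 1, 1, 0, 0, 1],
   [1, 2, 0, 2, 2, 0, 1, 0],
   [2, 1, 2, 0, 2, 1, 0],
   [2, 1, 0, 0, 2, 2, 0, 0, 0],
   [0, 2, 2, 1, 1, 2, 2, 2, 0],
   [1, 2, 2, 1, 1, 0, 0, 1],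
   [0, 1, 0, 1, 1, 1, 2, 2, 0],
   [1, 1, 2, 0, 0, 2, 0, 2, 0],
   [2, 2, 0, 1, 1, 2, 2, 1, 0],
   [0, 1, 2, 2, 0, 2, 0],
   [2, 1, 1, 1],
   [0, 1, 0, 0, 2, 1, 2, 1, 1],
   [0, 0, 2, 0, 1, 1, 0, 1, 2, 2],
   [1, 2, 0, 2, 0, 1, 2, 0, 0],
   [0, 2, 2, 0, 0, 0, 1, 0, 0],
   [0, 1, 0, 0, 1, 0, 1, 2, 1, 2],
   [1, 1, 1, 2, 0, 2, 1, 0],
   [0, 2, 0, 2, 0, 2, 1, 0, 2],
   [2, 0, 2, 0, 1, 1, 0, 2],
   [1, 0, 2, 0, 2, 1, 0, 0, 0],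
   [1, 1, 0, 1, 2, 1, 0],
   [1, 0, 0, 1, 0, 1, 1, 1, 0, 2],
   [1, 2, 2, 1, 1, 1, 1, 0],
   [1, 2, 2, 1, 1, 1, 2, 1, 2, 0],
   [1, 2, 2, 2, 1, 1, 0],
   [1, 0, 1, 2, 0, 0, 2, 1, 2],
   [0, 1, 2, 1, 1, 0, 2, 0],
   [0, 1, 2, 0, 1, 1, 0, 2],
   [0, 1, 1, 2, 2, 0, 0, 1, 1],
   [0, 0, 0, 2, 0, 0, 0, 1, 2, 1]]

/-- A piece: The words of one level of the chain. -/
def wordsD1 : List (List Nat) :=
  [[1, 1, 0, 2, 0, 0, 0, 2, 2],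
   [0, 0, 2, 2, 0, 0, 0, 1, 1],
   [1, 0, 1, 2, 2, 2, 1, 0, 2],
   [0, 2, 1, 1, 0, 0, 0, 2, 1],
   [1, 0, 0, 1, 0, 2, 0, 1],
   [0, 1, 2, 0, 0, 0, 2, 2],
   [1, 0, 2, 0, 1, 0, 0, 0],
   [0, 0, 0, 0, 2, 1, 0, 1, 0, 2, 2],
   [2, 0, 1, 2, 1, 0],
   [0, 0, 2, 0, 1, 2, 1, 0, 1],
   [2, 0, 2, 0, 0, 0, 2, 2],
   [0, 0, 2, 2, 0, 1, 2, 0],
   [1, 0, 2, 1, 1, 2, 2, 0, 2, 2],
   [0, 0, 0, 1, 1, 2, 0, 2],
   [2, 0, 1, 2, 2, 0, 0, 1, 1],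
   [2, 0, 2, 2, 0, 2, 0],
   [0, 0, 2, 1, 0, 1, 0, 0],
   [1, 1, 2, 2, 2],
   [1, 0, 0, 0, 1, 0, 1, 1],
   [0, 0, 1, 2, 1, 1, 1, 2, 2, 0],
   [0, 1, 1, 2, 2, 1, 2, 0],
   [1, 0, 2, 2, 2, 1, 0, 2, 1],
   [0, 2, 0, 0, 0, 0, 2, 0, 0],
   [2, 2, 1, 2, 1, 0, 0, 1],
   [0, 0, 0, 0, 1, 2, 0, 0, 1],
   [1, 1, 0, 2, 1, 1, 0, 2, 0],
   [2, 1, 2, 0, 2, 2, 0, 0, 1, 1],
   [2, 1, 2, 2, 0, 0, 0, 2],
   [0, 0, 2, 1, 2, 1, 1, 0, 0, 0],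
   [2, 1, 0, 0, 0, 1, 2, 0],
   [2, 0, 2, 1, 1, 0, 2, 0],
   [0, 2, 2, 2, 1, 1, 0, 0, 1, 0],
   [0, 0, 0, 1, 1, 2, 1, 1, 2, 0, 1]]

/-- A piece: The words of one level of the chain. -/
def wordsD2 : List (List Nat) :=
  [[0, 0, 2, 0, 2, 2, 0, 1, 1, 2],
   [2, 0, 1, 0, 2, 2, 2, 0, 0],
   [2, 2, 0, 0, 2, 0, 2, 0],
   [0, 0, 1, 2, 0, 0, 0, 1, 1, 1],
   [0, 1, 1, 2, 1, 0],
   [0, 1, 0, 0, 0, 0, 1, 1, 1]]

/-- The words of one level of the chain. -/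
def wordsD : List (List (List Nat)) :=
  [wordsD0, wordsD1, wordsD2]

end Cfsg.Agent.Lib.Leech.Stab4600Data
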