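import Cfsg.Agent.Lib.Leech.PairCode
import Cfsg.Agent.Lib.Leech.Pairs
import Cfsg.Agent.Lib.Leech.Stab4600Code
import Cfsg.Agent.Lib.Semisimple.SUBasics
import Cfsg.Agent.Lib.PSUThreeTwo.Transport
import Cfsg.Agent.S0280

/-!
The joint stabiliser of two minimal vectors with dot product `-16` is `PSU(6, 2)`.

It acts on 891 minimal vectors as `PSU(6, 2)` on its 891 totally isotropic planes. The subgroup of
the product generated by matching pairs of generators has injective projections and at least
`891 · 512 · 280 · 72 = 9196830720` elements, so it is the graph of an isomorphism.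

The checks are evaluated piece by piece, one declaration each, to bound the memory.
-/

set_option autoImplicit false
set_option maxRecDepth 20000
set_option Elab.async false

namespace Cfsg.Agent.Lib.Leech.U62

open Cfsg
open Cfsg.Agent.Lib
open Cfsg.Agent.Lib.Golay (Quad card_quad)
open Matrix

/-- Matrices. -/
abbrev M4 := Matrix (Fin 6) (Fin 6) Quad
/-- The special unitary group. -/
abbrev SU4 : Type := ↥(Cfsg.SU 6 Quad 2)
/-- The projective special unitary group. -/
abbrev PSU4 : Type := Cfsg.PSU 6 Quad 2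

theorem hq : Fintype.card Quad = 2 ^ 2 := card_quad

theorem card_PSU4 : Nat.card PSU4 = 9196830720 := by
  have h := Cfsg.Agent.S0280.result hq 6 (by norm_num)
  norm_num [Finset.prod_range_succ, Nat.even_iff] at h
  show Nat.card (Cfsg.PSU 6 Quad 2) = 9196830720
  omega

theorem mk_eq_iff4 (x y : SU4) :
    (QuotientGroup.mk x : PSU4) = QuotientGroup.mk y ↔ ∃ l : Quad, y.1.1 = l • x.1.1 := by
  rw [QuotientGroup.eq]
  have hmul : ∀ a b : SU4, (a * b).1.1 = a.1.1 * b.1.1 := fun _ _ => rfl
  constructor
  · intro h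
    refine ⟨((x⁻¹ * y : SU4).1.1) 0 0, ?_⟩
    have e := Classical.center_SU_scalar hq _ h 0
    have hy : y.1.1 = x.1.1 * (x⁻¹ * y : SU4).1.1 := by rw [← hmul, mul_inv_cancel_left]
    conv_lhs => rw [hy, e]
    ext i j
    simp [Matrix.mul_diagonal, mul_comm]
  · rintro ⟨l, hl⟩
    rw [Subgroup.mem_center_iff]
    have hc : (x⁻¹ * y : SU4).1.1 = l • 1 := by
      rw [hmul, hl, Matrix.mul_smul, ← hmul, inv_mul_cancel]
      rfl
    intro z
    refine Subtype.ext (Subtype.ext ?_)
    show z.1.1 * (x⁻¹ * y : SU4).1.1 = (x⁻¹ * y : SU4).1.1 * z.1.1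
    rw [hc, Matrix.mul_smul, Matrix.smul_mul, mul_one, one_mul]

/-- The list of the second vector. -/
def listW : List ℤ :=
  [-4, -4, 0, 0, 0, 0, 0, 0, 0, 0, 0, 0, 0, 0, 0, 0, 0, 0, 0, 0, 0, 0, 0, 0]

theorem listW_check : leechChk (ofList listW) = true ∧ sqNorm (ofList listW) = 32 ∧
    dotInt repA (ofList listW) = -16 := by decide +kernel

/-- The second vector. -/
def baseW62 : leechLattice := ⟨ofList listW, leechChk_sound listW_check.1⟩

/-- The group. -/
abbrev H62 : Subgroup Co0 := pairStab baseU baseW62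

theorem card_H62 : Nat.card ↥H62 = 9196830720 := by
  have h := card_mul_orbit (baseU, baseW62)
  have hp : (baseU, baseW62) ∈ pairSet 32 (-4) :=
    ⟨sqNorm_repA, listW_check.2.1, listW_check.2.2.trans (by norm_num)⟩
  have hc := ncard_pairSet (n := 8) (by norm_num) (by norm_num) (-4)
  rw [lineCount_eval.1] at hc
  rw [orbit_pair connU_neg16 hp, show (32 : ℤ) = ((4 * 8 : ℕ) : ℤ) from rfl, hc, card_Co0,
    stab_pair] at h
  show Nat.card ↥(MulAction.stabilizer Co0 baseU ⊓ MulAction.stabilizer Co0 baseW62) = _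
  generalize Nat.card ↥(MulAction.stabilizer Co0 baseU ⊓ MulAction.stabilizer Co0 baseW62) = n at h ⊢
  omega

/-- The code of one of the 891. -/
def repCode (i : Fin 891) : List ℤ := lookup Stab4600Data.reps i.val []

/-- One of the 891. -/
noncomputable def rep (i : Fin 891) : leechLattice := denL (repCode i)

/-- A ninth of the indices. -/
def part (k : Fin 9) : List (Fin 891) :=
  (List.finRange 99).map fun t => Fin.ofNat 891 (99 * k.val + t.val)

theorem all_of_parts {p : Fin 891 → Bool} (h : ∀ k, (part k).all p = true) (i : Fin 891) :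
    p i = true := by
  refine List.all_eq_true.1 (h ⟨i.val / 99, by omega⟩) i
    (List.mem_map.2 ⟨⟨i.val % 99, Nat.mod_lt _ (by norm_num)⟩, List.mem_finRange _, Fin.ext ?_⟩)
  show (99 * (i.val / 99) + i.val % 99) % 891 = i.val
  omega

theorem reps_code_parts : ∀ k, (part k).all (fun i => codeOk (repCode i)) = true := by
  intro k
  fin_cases k <;> decide +kernel

theorem reps_code : ∀ i, codeOk (repCode i) = true := all_of_parts reps_code_parts

/-- A key, distinct on the 891. -/
def key4600 (c : List ℤ) : ℕ :=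
  (c.foldl (fun acc x => acc * 16 + (x + 8).toNat) 0) % 31741

theorem reps_keys :
    Orbit.Coding.keysOk key4600 ((List.finRange 891).map repCode) = true := by
  decide +kernel

theorem rep_coe (i : Fin 891) : (rep i : GolayPt → ℤ) = ofList (repCode i) :=
  denL_coe (reps_code i)

theorem rep_inj {i j : Fin 891} (h : rep i = rep j) : i = j :=
  List.inj_on_of_nodup_map (List.Nodup.of_map _ (Orbit.Coding.keysOk_nodup _ _ reps_keys))
    (List.mem_finRange i) (List.mem_finRange j) (denL_inj (reps_code i) (reps_code j) h)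

/-- How an element of the lattice group moves the 891. -/
def ActsH (g : Co0) (σ : Fin 891 → Fin 891) : Prop := ∀ i, g • rep i = rep (σ i)

/-- How an element of `PSU(6, 2)` moves the planes. -/
def ActsU (u : PSU4) (σ : Fin 891 → Fin 891) : Prop :=
  ∃ s : SU4, QuotientGroup.mk s = u ∧ ∀ i t, inPlane (s.1.1 *ᵥ row i t) (σ i)

theorem actsH_mul {g h : ↥H62} {σ τ : Fin 891 → Fin 891} (hg : ActsH g.1 σ) (hh : ActsH h.1 τ) :
    ActsH (g * h).1 (σ ∘ τ) := fun i => by
  show (g.1 * h.1) • rep i = _
  rw [mul_smul, hh i, hg (τ i)]; rfl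

theorem actsH_unique {g : Co0} {σ τ : Fin 891 → Fin 891} (h : ActsH g σ) (h' : ActsH g τ) :
    σ = τ := funext fun i => rep_inj ((h i).symm.trans (h' i))

theorem actsH_injective {g : Co0} {σ : Fin 891 → Fin 891} (h : ActsH g σ) :
    Function.Injective σ := fun x y hxy =>
  rep_inj (MulAction.injective g ((h x).trans ((congrArg rep hxy).trans (h y).symm)))

theorem inPlane_image {S : M4} {i j : Fin 891} (hS : ∀ t, inPlane (S *ᵥ row i t) j)
    {v : Fin 6 → Quad} (hv : inPlane v i) : inPlane (S *ᵥ v) j := by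
  rw [inPlane_eq hv, mulVec_add, mulVec_add, mulVec_smul, mulVec_smul, mulVec_smul]
  exact inPlane_comb (hS 0) (hS 1) (hS 2) _ _ _

theorem actsU_mul {u u' : PSU4} {σ τ : Fin 891 → Fin 891} (hu : ActsU u σ) (hu' : ActsU u' τ) :
    ActsU (u * u') (σ ∘ τ) := by
  obtain ⟨s, rfl, hs⟩ := hu
  obtain ⟨s', rfl, hs'⟩ := hu'
  refine ⟨s * s', rfl, fun i t => ?_⟩
  show inPlane ((s.1.1 * s'.1.1) *ᵥ row i t) (σ (τ i))
  rw [← mulVec_mulVec]
  exact inPlane_image (hs (τ i)) (hs' i t)

theorem actsU_one {σ : Fin 891 → Fin 891} (h : ActsU 1 σ) : σ = id := by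
  obtain ⟨s, hs, hp⟩ := h
  obtain ⟨l, hl⟩ := (mk_eq_iff4 1 s).1 hs.symm
  have h1 : (1 : SU4).1.1 = (1 : M4) := rfl
  have hl0 : l ≠ 0 := fun h0 => by
    have := s.1.2
    rw [hl, h0, zero_smul, Matrix.det_zero] at this
    exact zero_ne_one this
  funext i
  refine (plane_sep (i := i) (j := σ i) fun t => ?_).symm
  have hv := hp i t
  rw [hl, h1, smul_mulVec, one_mulVec] at hv
  have := inPlane_smul hv l⁻¹
  rwa [inv_smul_smul₀ hl0] at this

/-- One of seven points in general position, as a code. -/
def sevenC (m : Fin 7) : Code := Stab4600Data.seven.getD m.val (0, 0)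

/-- One of seven points in general position. -/
def seven (m : Fin 7) : Fin 6 → Quad := dec (sevenC m)

/-- The first plane through one of the seven. -/
def sevenA (m : Fin 7) : Fin 891 := Fin.ofNat 891 (Stab4600Data.sevenPlanes.getD m.val (0, 0)).1

/-- The second plane through one of the seven. -/
def sevenB (m : Fin 7) : Fin 891 := Fin.ofNat 891 (Stab4600Data.sevenPlanes.getD m.val (0, 0)).2

/-- A combination of the basis of a plane, as a code. -/
def combC (i : Fin 891) (a b c : Quad) : Code :=
  cAdd (cAdd (cScale a (rowC i 0)) (cScale b (rowC i 1))) (cScale c (rowC i 2))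

theorem seven_mem : ∀ m, inPlane (seven m) (sevenA m) ∧ inPlane (seven m) (sevenB m) := by
  have h : ∀ m, inPlaneC (sevenC m) (sevenA m) = true ∧ inPlaneC (sevenC m) (sevenB m) = true := by
    decide +kernel
  exact fun m => ⟨inPlaneC_sound (h m).1, inPlaneC_sound (h m).2⟩

theorem seven_meet_check : ∀ m, ∀ a b c : Quad,
    (∃ k, dec (combC (sevenA m) a b c) k ≠
      dec (combC (sevenA m) a b c) (piv (sevenB m) 0) * row (sevenB m) 0 k
      + dec (combC (sevenA m) a b c) (piv (sevenB m) 1) * row (sevenB m) 1 k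
      + dec (combC (sevenA m) a b c) (piv (sevenB m) 2) * row (sevenB m) 2 k) ∨
    ∃ l : Quad, combC (sevenA m) a b c = cScale l (sevenC m) := by
  decide +kernel

theorem seven_meet {m : Fin 7} {v : Fin 6 → Quad} (hA : inPlane v (sevenA m))
    (hB : inPlane v (sevenB m)) : ∃ l : Quad, v = l • seven m := by
  have e : v = dec (combC (sevenA m) (v (piv (sevenA m) 0)) (v (piv (sevenA m) 1))
      (v (piv (sevenA m) 2))) := by
    conv_lhs => rw [inPlane_eq hA]
    rw [combC, dec_add, dec_add, dec_scale, dec_scale, dec_scale]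
    rfl
  rcases seven_meet_check m (v (piv (sevenA m) 0)) (v (piv (sevenA m) 1))
    (v (piv (sevenA m) 2)) with ⟨k, hk⟩ | ⟨l, hl⟩
  · exact absurd (by rw [← e]; exact hB k) hk
  · exact ⟨l, by rw [e, hl, dec_scale]; rfl⟩

/-- The first six points as columns. -/
def sixPts : M4 := Matrix.of fun r k => seven k.castSucc r

/-- A matrix from the codes of its columns. -/
def colMat (l : List Code) : M4 := Matrix.of fun r k => dec (l.getD k.val (0, 0)) r

/-- The inverse of the first six points. -/
def sixInv : M4 := colMat Stab4600Data.inverse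

theorem six_check : sixPts * sixInv = 1 ∧ sixInv * sixPts = 1 ∧
    ∀ k, (sixInv *ᵥ seven 6) k ≠ 0 := by
  decide +kernel

theorem actsU_id {u : PSU4} (h : ActsU u id) : u = 1 := by
  obtain ⟨s, rfl, hs⟩ := h
  obtain ⟨hPQ, hQP, hne⟩ := six_check
  set S : M4 := s.1.1 with hS
  have hfix : ∀ m, ∃ l : Quad, S *ᵥ seven m = l • seven m := fun m =>
    seven_meet (inPlane_image (hs _) (seven_mem m).1) (inPlane_image (hs _) (seven_mem m).2)
  choose L hL using hfix
  have hSP : S * sixPts = sixPts * Matrix.diagonal (fun k => L k.castSucc) := by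
    ext r k
    rw [Matrix.mul_apply, Matrix.mul_diagonal]
    have := congrFun (hL k.castSucc) r
    simp only [mulVec, dotProduct, Pi.smul_apply, smul_eq_mul] at this
    show ∑ j, S r j * seven k.castSucc j = seven k.castSucc r * _
    rw [this, mul_comm]
  have h7 : sixPts *ᵥ (sixInv *ᵥ seven 6) = seven 6 := by rw [mulVec_mulVec, hPQ, one_mulVec]
  have hd : Matrix.diagonal (fun k => L k.castSucc) *ᵥ (sixInv *ᵥ seven 6)
      = L 6 • (sixInv *ᵥ seven 6) := by
    rw [← mulVec_smul, ← hL 6]
    calc Matrix.diagonal (fun k => L k.castSucc) *ᵥ (sixInv *ᵥ seven 6)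
        = (sixInv * (S * sixPts)) *ᵥ (sixInv *ᵥ seven 6) := by
          rw [hSP, ← Matrix.mul_assoc, hQP, Matrix.one_mul]
      _ = sixInv *ᵥ (S *ᵥ (sixPts *ᵥ (sixInv *ᵥ seven 6))) := by
          simp only [mulVec_mulVec, Matrix.mul_assoc]
      _ = _ := by rw [h7]
  have hl : ∀ k : Fin 6, L k.castSucc = L 6 := fun k => by
    have := congrFun hd k
    rw [mulVec_diagonal, Pi.smul_apply, smul_eq_mul] at this
    exact mul_right_cancel₀ (hne k) this
  rw [show Matrix.diagonal (fun k : Fin 6 => L k.castSucc) = L 6 • (1 : M4) by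
    ext a b
    rw [Matrix.diagonal_apply, Matrix.smul_apply, Matrix.one_apply, hl]
    split <;> simp] at hSP
  refine ((mk_eq_iff4 1 s).2 ⟨L 6, ?_⟩).symm
  show S = L 6 • (1 : M4)
  calc S = S * sixPts * sixInv := by rw [Matrix.mul_assoc, hPQ, Matrix.mul_one]
    _ = L 6 • (1 : M4) := by rw [hSP, Matrix.mul_smul, Matrix.mul_one, Matrix.smul_mul, hPQ]

/-- The spanning vectors. -/
def spanVec (k : Fin 24) : GolayPt → ℤ :=
  let n := Stab4600Data.sel.getD k.val 0
  if n = 0 then repA else if n = 1 then ofList listW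
  else ofList (repCode (Fin.ofNat 891 (n - 2)))

/-- The coefficients. -/
def coeff (p : GolayPt) (k : Fin 24) : ℤ :=
  ((Stab4600Data.coeffs.getD (Golay.idx p).val []).getD k.val 0)

theorem coeff_check : ∀ p q : GolayPt,
    ∑ k, coeff p k * spanVec k q = if p = q then 8 else 0 := by
  intro p
  fin_cases p <;> decide +kernel

theorem coord_eq (f : GolayPt → ℤ) (p : GolayPt) :
    8 * f p = ∑ k, coeff p k * dotInt (spanVec k) f := by
  simp only [dotInt, Finset.mul_sum]
  rw [Finset.sum_comm]
  simp only [← mul_assoc, ← Finset.sum_mul, coeff_check]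
  simp

theorem actsH_id {g : ↥H62} (h : ActsH g.1 id) : g = 1 := by
  refine Subtype.ext ?_
  refine FaithfulSMul.eq_of_smul_eq_smul fun y : leechLattice => Subtype.ext (funext fun p => ?_)
  rw [show ((1 : ↥H62) : ↥Co0) = 1 from rfl, one_smul]
  have hfix : ∀ a : leechLattice, g.1 • a = a →
      dotInt (a : GolayPt → ℤ) ((g.1 • y : leechLattice) : GolayPt → ℤ)
        = dotInt (a : GolayPt → ℤ) (y : GolayPt → ℤ) := fun a ha => by
    have := dotInt_smul g.1 a y
    rwa [ha] at this
  have hsum : (8 : ℤ) * (g.1 • y : leechLattice).1 p = 8 * y.1 p := by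
    rw [coord_eq, coord_eq]
    refine Finset.sum_congr rfl fun k _ => congrArg (coeff p k * ·) ?_
    unfold spanVec
    simp only
    generalize Stab4600Data.sel.getD k.val 0 = n
    split_ifs
    · exact hfix baseU g.2.1
    · exact hfix baseW62 g.2.2
    · have := hfix (rep (Fin.ofNat 891 (n - 2))) (h _)
      rwa [rep_coe] at this
  omega

/-- A generator word. -/
def wordsG (b : Fin 13) : List Step := Stab4600Data.gens.getD b.val []

/-- A permutation. -/
def permG (b : Fin 13) (i : Fin 891) : Fin 891 :=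
  Fin.ofNat 891 (lookup (Stab4600Data.perms.getD b.val []) i.val 0)

/-- The columns of a matrix. -/
def colsG (b : Fin 13) : List Code := Stab4600Data.cols.getD b.val []

/-- A matrix. -/
def matU (b : Fin 13) : M4 := colMat (colsG b)

theorem matU_cond : ∀ b, ((matU b).map fun x => x ^ 2).transpose * matU b = 1 ∧ (matU b).det = 1 := by
  decide +kernel

/-- The image of a code under a matrix given by columns. -/
def runMat (l : List Code) (c : Code) : Code :=
  let f := fun k : Fin 6 => cScale (dec c k) (l.getD k.val (0, 0))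
  cAdd (cAdd (cAdd (cAdd (cAdd (f 0) (f 1)) (f 2)) (f 3)) (f 4)) (f 5)

theorem colMat_mulVec (l : List Code) (c : Code) : colMat l *ᵥ dec c = dec (runMat l c) := by
  funext r
  simp only [runMat, dec_add, dec_scale, mulVec, dotProduct, Fin.sum_univ_six, colMat, Matrix.of_apply,
    Pi.add_apply, Pi.smul_apply, smul_eq_mul, mul_comm]

/-- The check of one matrix on a ninth of the planes. -/
def chkU (b : Fin 13) (k : Fin 9) : Bool :=
  (part k).all fun i => (List.finRange 3).all fun t =>
    inPlaneC (runMat (colsG b) (rowC i t)) (permG b i)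

set_option maxHeartbeats 4000000 in
theorem genU_parts : ∀ b k, chkU b k = true := by
  intro b k
  fin_cases b <;> fin_cases k <;> decide +kernel

theorem genU_check (b : Fin 13) (i : Fin 891) (t : Fin 3) :
    inPlaneC (runMat (colsG b) (rowC i t)) (permG b i) = true :=
  List.all_eq_true.1 (all_of_parts (genU_parts b) i) t (List.mem_finRange t)

/-- A unitary generator. -/
def genU (b : Fin 13) : PSU4 :=
  QuotientGroup.mk
    ⟨⟨matU b, (matU_cond b).2⟩, (Semisimple.mem_SU_iff hq _).2 (matU_cond b).1⟩

theorem genH_fix : ∀ b, (wordsG b).all stepOk = true ∧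
    pairValid baseU baseW62 (wordsG b) = true := by
  decide +kernel

/-- The check of one generator on a ninth of the vectors. -/
def chkH (b : Fin 13) (k : Fin 9) : Bool :=
  (part k).all fun i => runList (wordsG b) (repCode i) == repCode (permG b i)

set_option maxHeartbeats 4000000 in
theorem genH_parts : ∀ b k, chkH b k = true := by
  intro b k
  fin_cases b <;> fin_cases k <;> decide +kernel

theorem genH_moves (b : Fin 13) : (List.finRange 891).all (fun i =>
    runList (wordsG b) (repCode i) == repCode (permG b i)) = true :=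
  List.all_eq_true.2 fun i _ => all_of_parts
    (p := fun i => runList (wordsG b) (repCode i) == repCode (permG b i)) (genH_parts b) i

/-- A generator of the stabiliser. -/
noncomputable def genH (b : Fin 13) : ↥H62 := ⟨wordEl (wordsG b), pairValid_mem (genH_fix b).2⟩

theorem genH_acts (b : Fin 13) : ActsH (genH b).1 (permG b) := by
  intro i
  have e := wordEl_smul _ (genH_fix b).1 (rep i) _ (rep_coe i).symm
  have h := beq_iff_eq.1 (List.all_eq_true.1 (genH_moves b) i (List.mem_finRange i))
  exact Subtype.ext (by rw [rep_coe, ← h]; exact e)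

/-- A matching pair with its permutation. -/
def Good (z : ↥H62 × PSU4) (σ : Fin 891 → Fin 891) : Prop := ActsH z.1.1 σ ∧ ActsU z.2 σ

theorem good_one : Good 1 id :=
  ⟨fun i => one_smul _ _, 1, rfl, fun i t => by
    rw [show ((1 : SU4).1.1 : M4) = 1 from rfl, one_mulVec]
    have h := planes_echelon i
    intro k
    simp only [id]
    fin_cases t
    · simp only [Fin.zero_eta]
      rw [(h 0).1, (h 0).2.1 1 (by decide), (h 0).2.1 2 (by decide)]; ring
    · simp only [Fin.mk_one]
      rw [(h 1).1, (h 1).2.1 0 (by decide), (h 1).2.1 2 (by decide)]; ring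
    · simp only [Fin.reduceFinMk]
      rw [(h 2).1, (h 2).2.1 0 (by decide), (h 2).2.1 1 (by decide)]; ring⟩

theorem good_gen (b : Fin 13) : Good (genH b, genU b) (permG b) :=
  ⟨genH_acts b, _, rfl, fun i t => by
    show inPlane (colMat (colsG b) *ᵥ dec (rowC i t)) _
    rw [colMat_mulVec]
    exact inPlaneC_sound (genU_check b i t)⟩

/-- The matching pairs. -/
def graph : Submonoid (↥H62 × PSU4) where
  carrier := {z | ∃ σ, Good z σ}
  one_mem' := ⟨id, good_one⟩
  mul_mem' := fun ⟨σ, a, b⟩ ⟨τ, c, d⟩ => ⟨σ ∘ τ, actsH_mul a c, actsU_mul b d⟩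

/-- The graph of the isomorphism. -/
noncomputable def K62 : Subgroup (↥H62 × PSU4) :=
  Subgroup.closure (Set.range fun b => (genH b, genU b))

instance finite_H62 : Finite ↥H62 := Nat.finite_of_card_ne_zero (by rw [card_H62]; norm_num)

theorem K62_good {z : ↥H62 × PSU4} (hz : z ∈ K62) : ∃ σ, Good z σ := by
  have h : z ∈ Submonoid.closure (Set.range fun b => (genH b, genU b)) := by
    rw [← Subgroup.closure_toSubmonoid_of_finite]; exact hz
  exact (Submonoid.closure_le.2 (by rintro _ ⟨b, rfl⟩; exact ⟨_, good_gen b⟩) :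
    Submonoid.closure (Set.range fun b => (genH b, genU b)) ≤ graph) h

/-- The permutation of a word. -/
def runW (w : List Nat) (i : Fin 891) : Fin 891 :=
  w.foldl (fun j b => permG (Fin.ofNat 13 b) j) i

/-- The element of a word. -/
noncomputable def eltW (w : List Nat) : ↥H62 × PSU4 :=
  w.foldl (fun z b => (genH (Fin.ofNat 13 b), genU (Fin.ofNat 13 b)) * z) 1

theorem eltW_spec (w : List Nat) : eltW w ∈ K62 ∧ Good (eltW w) (runW w) := by
  have main : ∀ (w : List Nat) (z : ↥H62 × PSU4) (σ : Fin 891 → Fin 891),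
      z ∈ K62 → Good z σ →
      w.foldl (fun z b => (genH (Fin.ofNat 13 b), genU (Fin.ofNat 13 b)) * z) z ∈ K62 ∧
        Good (w.foldl (fun z b => (genH (Fin.ofNat 13 b), genU (Fin.ofNat 13 b)) * z) z)
          (fun i => runW w (σ i)) := by
    intro w
    induction w with
    | nil => intro z σ h h'; exact ⟨h, h'⟩
    | cons b w ih =>
      intro z σ h h'
      exact ih _ (permG (Fin.ofNat 13 b) ∘ σ) (mul_mem (Subgroup.subset_closure ⟨_, rfl⟩) h)
        ⟨actsH_mul (good_gen _).1 h'.1, actsU_mul (good_gen _).2 h'.2⟩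
  exact main w 1 id (one_mem _) good_one

theorem runW_append (a b : List Nat) (i : Fin 891) : runW (a ++ b) i = runW b (runW a i) :=
  List.foldl_append

/-- A word of the first level. -/
def levA (t : Fin 891) : List Nat := lookup Stab4600Data.wordsA t.val []
/-- A word of the second level. -/
def levB (t : Fin 512) : List Nat := lookup Stab4600Data.wordsB t.val []
/-- A word of the third level. -/
def levC (t : Fin 280) : List Nat := lookup Stab4600Data.wordsC t.val []
/-- A word of the fourth level. -/
def levD (t : Fin 72) : List Nat := lookup Stab4600Data.wordsD t.val []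

theorem chainA : Orbit.Coding.keysOk id ((List.finRange 891).map fun t => (runW (levA t) 0).val)
    = true := by
  decide +kernel

theorem chainB : (∀ t, runW (levB t) 0 = 0) ∧
    Orbit.Coding.keysOk id ((List.finRange 512).map fun t => (runW (levB t) 31).val) = true := by
  decide +kernel

theorem chainC : (∀ t, runW (levC t) 0 = 0 ∧ runW (levC t) 31 = 31) ∧
    Orbit.Coding.keysOk id ((List.finRange 280).map fun t => (runW (levC t) 62).val) = true := by
  decide +kernel

theorem chainD : (∀ t, runW (levD t) 0 = 0 ∧ runW (levD t) 31 = 31 ∧ runW (levD t) 62 = 62) ∧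
    Orbit.Coding.keysOk id ((List.finRange 72).map fun t => (runW (levD t) 10).val) = true := by
  decide +kernel

theorem inj_of_keys {n : ℕ} {f : Fin n → Fin 891}
    (h : Orbit.Coding.keysOk id ((List.finRange n).map fun t => (f t).val) = true) :
    Function.Injective f := fun a b e => by
  have hn := Orbit.Coding.keysOk_nodup _ _ h
  rw [List.map_id] at hn
  exact List.inj_on_of_nodup_map hn (List.mem_finRange a) (List.mem_finRange b) (congrArg Fin.val e)

theorem card_K62 : 9196830720 ≤ Nat.card ↥K62 := by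
  let f : Fin 891 × Fin 512 × Fin 280 × Fin 72 → ↥K62 := fun t =>
    ⟨eltW (levD t.2.2.2 ++ levC t.2.2.1 ++ levB t.2.1 ++ levA t.1), (eltW_spec _).1⟩
  have hf : Function.Injective f := by
    rintro ⟨a, b, c, d⟩ ⟨a', b', c', d'⟩ h
    have h2 : eltW (levD d ++ levC c ++ levB b ++ levA a)
        = eltW (levD d' ++ levC c' ++ levB b' ++ levA a') := congrArg Subtype.val h
    have h3 := (eltW_spec (levD d' ++ levC c' ++ levB b' ++ levA a')).2.1
    rw [← h2] at h3
    have hσ := actsH_unique (eltW_spec (levD d ++ levC c ++ levB b ++ levA a)).2.1 h3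
    have e : ∀ x, runW (levA a) (runW (levB b) (runW (levC c) (runW (levD d) x)))
        = runW (levA a') (runW (levB b') (runW (levC c') (runW (levD d') x))) := fun x => by
      have := congrFun hσ x
      simpa only [runW_append] using this
    have ha : a = a' := by
      have := e 0
      rw [(chainD.1 d).1, (chainD.1 d').1, (chainC.1 c).1, (chainC.1 c').1, chainB.1, chainB.1]
        at this
      exact inj_of_keys chainA this
    subst ha
    have e1 := fun x => actsH_injective (eltW_spec (levA a)).2.1 (e x)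
    have hb : b = b' := by
      have := e1 31
      rw [(chainD.1 d).2.1, (chainD.1 d').2.1, (chainC.1 c).2, (chainC.1 c').2] at this
      exact inj_of_keys chainB.2 this
    subst hb
    have e2 := fun x => actsH_injective (eltW_spec (levB b)).2.1 (e1 x)
    have hc : c = c' := by
      have := e2 62
      rw [(chainD.1 d).2.2, (chainD.1 d').2.2] at this
      exact inj_of_keys chainC.2 this
    subst hc
    have hd : d = d' :=
      inj_of_keys chainD.2 (actsH_injective (eltW_spec (levC c)).2.1 (e2 10))
    subst hd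
    rfl
  have := Nat.card_le_card_of_injective f hf
  simp only [Nat.card_prod, Nat.card_fin] at this
  omega

theorem psu62_iso : Nonempty (↥H62 ≃* PSU4) := by
  let p1 : ↥K62 →* ↥H62 := (MonoidHom.fst _ _).comp K62.subtype
  let p2 : ↥K62 →* PSU4 := (MonoidHom.snd _ _).comp K62.subtype
  have h1 : Function.Injective p1 := by
    rw [← MonoidHom.ker_eq_bot_iff, Subgroup.eq_bot_iff_forall]
    rintro ⟨⟨g, u⟩, hz⟩ hg
    obtain ⟨σ, hA, hU⟩ := K62_good hz
    obtain rfl : g = 1 := hg
    obtain rfl : σ = id := actsH_unique hA (fun i => one_smul _ _)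
    exact Subtype.ext (Prod.ext rfl (actsU_id hU))
  have h2 : Function.Injective p2 := by
    rw [← MonoidHom.ker_eq_bot_iff, Subgroup.eq_bot_iff_forall]
    rintro ⟨⟨g, u⟩, hz⟩ hu
    obtain ⟨σ, hA, hU⟩ := K62_good hz
    obtain rfl : u = 1 := hu
    obtain rfl : σ = id := actsU_one hU
    exact Subtype.ext (Prod.ext (actsH_id hA) rfl)
  have hfin : Finite PSU4 := Nat.finite_of_card_ne_zero (by rw [card_PSU4]; norm_num)
  have hb1 : Function.Bijective p1 := (Nat.bijective_iff_injective_and_card _).2
    ⟨h1, le_antisymm (Nat.card_le_card_of_injective p1 h1) (card_H62.le.trans card_K62)⟩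
  have hb2 : Function.Bijective p2 := (Nat.bijective_iff_injective_and_card _).2
    ⟨h2, le_antisymm (Nat.card_le_card_of_injective p2 h2) (card_PSU4.le.trans card_K62)⟩
  exact ⟨(MulEquiv.ofBijective p1 hb1).symm.trans (MulEquiv.ofBijective p2 hb2)⟩

/-- Conjugate joint stabilisers are isomorphic. -/
def pairStabEquiv (g : Co0) (a b : leechLattice) :
    ↥(pairStab a b) ≃* ↥(pairStab (g • a) (g • b)) where
  toFun h := ⟨g * h.1 * g⁻¹, by
    have e : ∀ t : leechLattice, h.1 • t = t → (g * h.1 * g⁻¹) • g • t = g • t := fun t ht => by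
      rw [mul_smul, mul_smul, inv_smul_smul, ht]
    exact ⟨e a h.2.1, e b h.2.2⟩⟩
  invFun h := ⟨g⁻¹ * h.1 * g, by
    have e : ∀ t : leechLattice, h.1 • g • t = g • t → (g⁻¹ * h.1 * g) • t = t := fun t ht => by
      rw [mul_smul, mul_smul, ht, inv_smul_smul]
    exact ⟨e a h.2.1, e b h.2.2⟩⟩
  left_inv h := Subtype.ext (by simp [mul_assoc])
  right_inv h := Subtype.ext (by simp [mul_assoc])
  map_mul' h h' := Subtype.ext (by simp [mul_assoc])

theorem stab4600_psu {v w : leechLattice} (hv : sqNorm (v : GolayPt → ℤ) = 32)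
    (hw' : sqNorm (w : GolayPt → ℤ) = 32)
    (hd : dotInt (v : GolayPt → ℤ) (w : GolayPt → ℤ) = -16)
    (F : Type) [Field F] [Fintype F] (hF : Fintype.card F = 4) :
    Nonempty (↥(pairStab v w) ≃* Cfsg.PSU 6 F 2) := by
  obtain ⟨φ⟩ := psu62_iso
  obtain ⟨g, hg1, hg2⟩ := exists_smul_two (fun h h' => connU_neg16 h h')
    (show (baseU, baseW62) ∈ pairSet 32 (-4) from
      ⟨sqNorm_repA, listW_check.2.1, listW_check.2.2.trans (by norm_num)⟩)
    (show (v, w) ∈ pairSet 32 (-4) from ⟨hv, hw', hd.trans (by norm_num)⟩)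
  have ψ := pairStabEquiv g baseU baseW62
  rw [hg1, hg2] at ψ
  exact ⟨(ψ.symm.trans φ).trans (PSUThreeTwo.psuMap
    (FiniteField.ringEquivOfCardEq (card_quad.trans hF.symm)))⟩

end Cfsg.Agent.Lib.Leech.U62
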