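/-
Certificate data for the stabiliser of (4, 4, 0²²): generators, coverings, representatives, links.
-/
import Mathlib.Init

set_option autoImplicit false
set_option maxRecDepth 20000

namespace Cfsg.Agent.Lib.Leech.StabData

/-- Certificate data. -/
def gensSwapMap : List (List Nat) :=
  [[15, 23, 0, 14, 18, 2, 11, 8, 9, 16, 20, 6, 3, 13, 4, 7, 17, 12, 5, 21, 22, 10, 1, 19]]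

/-- Certificate data. -/
def gensOctBoth : List (List Nat) :=
  [[0, 11, 3, 21, 5, 6, 15, 2, 10, 20, 19, 9, 12, 8, 18, 4, 22, 17, 14, 13, 1, 7, 16, 23],
   [0, 6, 7, 5, 3, 13, 11, 8, 10, 21, 2, 15, 18, 4, 16, 1, 14, 17, 12, 9, 19, 20, 22, 23],
   [0, 5, 7, 19, 13, 11, 15, 1, 9, 10, 3, 2, 22, 6, 18, 21, 16, 14, 12, 8, 20, 4, 17, 23],
   [0, 5, 3, 8, 13, 11, 7, 21, 1, 6, 15, 2, 17, 4, 22, 9, 12, 16, 14, 20, 19, 10, 18, 23],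
   [0, 9, 1, 4, 19, 6, 21, 5, 3, 20, 2, 7, 18, 8, 17, 15, 14, 12, 16, 13, 10, 11, 22, 23]]

/-- Certificate data. -/
def wordsPairRest : List (List Nat) :=
  [[],
   [3, 1, 0, 0, 0],
   [1, 1, 3, 1, 2],
   [1, 3, 3, 1, 1],
   [1, 0, 2, 0],
   [1, 1, 1, 3],
   [1, 1, 1, 2, 0],
   [0, 0, 1, 1, 0],
   [2],
   [1],
   [3, 2, 1, 0],
   [1, 0, 2, 0, 1],
   [2, 2, 2],
   [1, 0, 3],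
   [3, 0, 0, 0, 1],
   [1, 0, 3, 1],
   [3, 1, 1, 0],
   [2, 2],
   [1, 3, 1, 3],
   [3, 1, 1, 3],
   [1, 2, 1, 2],
   [0, 3, 1],
   [0, 2, 0],
   [1, 1, 3],
   [1, 3, 1],
   [1, 1, 2, 0],
   [3, 1, 0, 1, 0],
   [1, 3, 1, 2],
   [3, 2, 0, 0],
   [0, 0, 1, 0],
   [3, 3, 1, 1],
   [2, 3, 1, 0, 0],
   [2, 1, 2],
   [3, 1, 3],
   [2, 3, 0],
   [0, 2, 3],
   [0, 2, 0, 1],
   [3, 3, 1],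
   [3, 3, 1, 2],
   [3, 1, 3, 1],
   [0, 3],
   [2, 3],
   [1, 1, 0],
   [0, 3, 1, 2],
   [0, 1, 2, 0],
   [0, 3, 1, 1],
   [2, 2, 0],
   [2, 0, 2, 0],
   [0, 2, 0, 3],
   [0, 1, 0, 1, 0],
   [2, 2, 0, 1],
   [0, 2, 0, 0],
   [0, 1, 3, 1],
   [1, 1, 1, 0, 0],
   [2, 2, 3],
   [2, 3, 1],
   [3, 3, 2],
   [2, 1, 3, 3],
   [2, 3, 2],
   [1, 1, 3, 1, 0],
   [0, 2, 0, 0, 3],
   [3, 1],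
   [3, 2],
   [3, 2, 2],
   [2, 1, 1, 1],
   [0, 1, 0],
   [3, 1, 0, 3],
   [2, 0],
   [2, 0, 1],
   [2, 3, 0, 2, 0],
   [1, 2, 0, 0, 0],
   [0, 1, 0, 1],
   [1, 2, 2, 0],
   [1, 3, 3],
   [0, 0, 3, 3, 1],
   [2, 1, 1, 2],
   [3],
   [0, 1, 1, 1],
   [1, 2, 0],
   [1, 0, 0, 0],
   [0, 2, 0, 0, 0],
   [2, 1, 0],
   [3, 2, 3, 3],
   [3, 3, 1, 0],
   [0, 0, 0],
   [2, 1, 1, 0, 0],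
   [1, 1, 0, 1],
   [0, 0, 3],
   [1, 0, 1, 2],
   [2, 2, 1, 3, 3],
   [0, 0, 1, 1],
   [3, 0, 1, 0, 1],
   [0, 0, 0, 1],
   [3, 2, 3, 0],
   [0, 3, 0, 3],
   [2, 2, 1, 1, 0],
   [3, 1, 2],
   [3, 1, 1],
   [2, 0, 3],
   [0, 2, 2, 3, 0],
   [1, 3],
   [2, 0, 1, 1],
   [2, 0, 0],
   [2, 3, 0, 0],
   [1, 2, 0, 1],
   [1, 2, 3],
   [0, 0, 3, 0],
   [1, 0, 1, 0],
   [2, 0, 0, 1],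
   [3, 0, 0, 1, 0],
   [0, 3, 3, 3, 1],
   [0, 2, 1, 0],
   [3, 3, 2, 1, 2],
   [2, 0, 2, 3],
   [2, 2, 3, 3, 2],
   [1, 3, 2, 3, 0],
   [0, 3, 3, 1, 0],
   [0, 1, 1, 0, 1],
   [0, 1, 1, 3],
   [2, 3, 0, 1],
   [0, 1, 1, 0],
   [2, 1, 2, 3],
   [3, 0, 1, 0],
   [1, 0, 0, 3],
   [3, 3, 2, 0, 0],
   [0, 3, 2, 3, 0],
   [2, 1, 0, 1],
   [2, 2, 3, 0],
   [3, 3, 2, 0],
   [0, 3, 3],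
   [0, 3, 0],
   [2, 0, 3, 1, 0],
   [3, 0, 3, 2, 0],
   [3, 0, 1, 0, 0],
   [0, 2, 2, 0],
   [3, 3, 3, 2],
   [0, 1, 3, 0, 0],
   [0, 2, 1, 3],
   [3, 3, 3, 1],
   [3, 0, 0],
   [1, 0, 2, 2, 0],
   [3, 0],
   [0, 3, 2, 0, 1],
   [2, 0, 1, 2],
   [2, 0, 3, 2, 0],
   [1, 3, 0, 0],
   [1, 0, 3, 0],
   [3, 0, 1],
   [2, 1, 3],
   [3, 3],
   [2, 3, 2, 2, 0],
   [1, 3, 3, 2, 0],
   [2, 0, 0, 0],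
   [2, 2, 1, 2],
   [2, 3, 1, 3],
   [1, 1, 3, 3, 2],
   [2, 3, 3, 1],
   [1, 2, 1, 1, 0],
   [3, 1, 3, 1, 0],
   [2, 0, 3, 1],
   [2, 1, 3, 1],
   [2, 3, 2, 0, 0],
   [0, 1, 3, 2, 0],
   [3, 2, 1, 2],
   [2, 1, 1, 3],
   [3, 1, 3, 0, 0],
   [3, 1, 0, 0],
   [3, 0, 0, 3, 1],
   [0, 3, 2, 0, 0],
   [3, 3, 0, 3, 3],
   [2, 0, 2, 0, 0],
   [1, 2, 2],
   [1, 2],
   [1, 1, 0, 3],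
   [1, 1],
   [1, 2, 2, 2],
   [0, 1, 2],
   [2, 3, 2, 0],
   [0, 3, 3, 1],
   [1, 0, 1],
   [1, 2, 3, 2],
   [3, 2, 2, 0],
   [0, 3, 2, 0],
   [1, 0],
   [1, 1, 1],
   [2, 0, 0, 3],
   [1, 2, 3, 1, 1],
   [2, 0, 3, 0],
   [3, 1, 3, 2, 0],
   [1, 2, 3, 1],
   [3, 2, 3, 1],
   [3, 1, 3, 3],
   [1, 1, 0, 0],
   [0, 1],
   [0, 1, 1],
   [0, 2, 1, 2],
   [2, 3, 3],
   [2, 3, 3, 2],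
   [3, 2, 2, 3],
   [3, 1, 2, 2, 0],
   [1, 3, 1, 0],
   [0, 2, 2, 2],
   [1, 2, 3, 3],
   [3, 1, 0],
   [0, 0, 3, 1],
   [1, 0, 0],
   [3, 2, 0],
   [3, 0, 3, 3],
   [0],
   [0, 3, 1, 3, 1],
   [2, 2, 2, 0],
   [2, 3, 1, 1],
   [0, 3, 1, 0],
   [2, 2, 1, 3],
   [1, 3, 1, 0, 0],
   [2, 2, 1, 0],
   [1, 3, 3, 2],
   [3, 2, 0, 1],
   [3, 0, 3, 0],
   [2, 0, 1, 2, 0],
   [2, 1, 1, 0],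
   [3, 2, 3],
   [1, 3, 2, 0],
   [1, 1, 2],
   [0, 0, 1],
   [0, 1, 0, 0],
   [3, 0, 2, 0],
   [0, 0],
   [0, 3, 1, 1, 0],
   [3, 3, 0, 0],
   [3, 0, 3]]

/-- Certificate data. -/
def wordsOctNone : List (List Nat) :=
  [[],
   [2, 0, 2, 1],
   [3, 2, 2, 0, 2],
   [2, 2, 0, 0],
   [3, 3, 0, 3, 1],
   [1, 2, 1, 0],
   [3, 3, 3, 1],
   [3, 1, 0, 2],
   [3, 2, 2, 1, 0],
   [1, 3, 2, 0],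
   [0, 3, 3, 1, 0, 0],
   [0],
   [1, 3, 1, 2, 0],
   [3, 0, 0, 3, 1],
   [0, 2, 3],
   [2, 2, 0, 2, 0],
   [3, 2, 1],
   [0, 0, 2],
   [1, 0, 3, 2],
   [3, 3, 3, 0],
   [0, 0, 3, 0],
   [0, 3, 2, 3],
   [0, 1, 0, 1],
   [0, 2, 3, 1],
   [2, 2, 1, 0],
   [1, 3, 0, 0],
   [0, 0, 3, 1],
   [1, 1],
   [0, 0, 1, 1, 0],
   [0, 0],
   [1, 2, 2, 1],
   [3, 2, 1, 2],
   [2, 2, 0, 2],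
   [3, 2, 2, 2],
   [0, 1, 0],
   [2, 0, 2, 0, 0],
   [2, 3],
   [1, 2, 2, 1, 0],
   [3, 3, 1, 0, 0],
   [1, 1, 2],
   [2, 1, 2, 0],
   [1, 0],
   [0, 1, 1, 0],
   [0, 1, 0, 0],
   [3, 3, 1],
   [0, 2, 2],
   [1, 1, 3, 1],
   [1, 1, 1],
   [2, 3, 0, 1, 0],
   [2, 0, 3, 1],
   [1, 1, 3],
   [1, 2, 3],
   [2, 1, 3, 0],
   [2, 0, 2, 2],
   [0, 1, 2, 0, 1],
   [1, 3, 3, 1, 0, 0],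
   [2, 3, 1],
   [3, 0, 3],
   [2, 3, 0, 0],
   [0, 3, 1, 3],
   [0, 2],
   [0, 0, 0, 3, 0, 1],
   [3, 1, 3, 0],
   [1, 0, 0],
   [0, 3, 3, 1, 2],
   [1, 0, 3, 1],
   [2, 3, 0, 1],
   [1, 0, 1],
   [0, 0, 3],
   [1, 0, 3],
   [3, 2, 3, 1, 0],
   [1, 1, 0],
   [2, 1, 3, 1, 0],
   [1, 2, 3, 2],
   [0, 3, 1, 2],
   [2, 3, 1, 1],
   [3, 0, 1, 3],
   [0, 3, 3, 0, 0],
   [2, 2, 3, 2],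
   [2, 0, 0, 3],
   [1, 0, 2, 2],
   [2, 2, 3, 2, 1],
   [2, 0, 3, 0],
   [0, 2, 1, 2, 0],
   [0, 2, 2, 0, 0],
   [0, 3, 3, 1, 0],
   [0, 2, 0, 2, 1],
   [3, 1, 0, 3],
   [1, 0, 2],
   [3, 2, 1, 1],
   [1, 2, 2, 0, 3],
   [2, 2, 1, 1, 0],
   [2, 3, 1, 2],
   [1, 2, 0],
   [3, 0, 3, 0, 1, 0],
   [3, 1, 2],
   [3, 0, 3, 1],
   [0, 2, 3, 0, 0],
   [1, 2, 0, 1],
   [2, 2, 3, 1, 0],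
   [0, 2, 2, 0],
   [2, 0, 2, 3],
   [1, 2, 0, 0],
   [0, 2, 1, 1],
   [1, 3, 1, 3, 0],
   [1, 2, 1],
   [3, 2, 1, 2, 1],
   [0, 0, 3, 0, 0],
   [3, 2, 0, 0],
   [2, 2, 0, 2, 1],
   [1, 2, 0, 2, 2],
   [1, 1, 0, 1],
   [0, 0, 2, 2, 0],
   [3, 1, 2, 0, 0],
   [0, 0, 3, 0, 1],
   [1, 2, 1, 0, 2],
   [3, 3, 1, 2],
   [1, 0, 3, 0],
   [0, 1, 2, 0],
   [1, 3, 1, 3],
   [0, 1, 0, 2],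
   [3, 0, 3, 0],
   [3, 2, 0, 0, 1],
   [2, 3, 2, 0],
   [0, 0, 3, 1, 0],
   [1, 1, 1, 0],
   [2, 2, 1, 2, 0],
   [2, 0, 3, 0, 0],
   [3, 3, 0, 0, 0],
   [2, 1, 1, 1],
   [2, 0, 3],
   [0, 1, 2, 2, 1],
   [2, 0, 3, 2],
   [3, 1, 0],
   [1, 3, 1, 1],
   [2, 1, 2, 1],
   [1, 2, 2, 3, 2],
   [3, 0, 1, 0],
   [2, 3, 0, 3, 0],
   [0, 1, 1],
   [3, 0, 0],
   [0, 3, 3],
   [1, 2, 2, 3],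
   [0, 0, 0],
   [0, 0, 0, 3, 0],
   [3, 2, 0],
   [2, 2, 3, 1],
   [1, 2, 0, 2],
   [3, 2],
   [1, 3, 2],
   [0, 1, 1, 3, 1],
   [0, 0, 1, 0],
   [0, 2, 2, 1, 0],
   [1, 0, 3, 1, 0],
   [3, 3, 0, 1, 1],
   [0, 1],
   [2, 1, 2, 3],
   [2, 0, 1, 2, 0],
   [2, 3, 1, 0],
   [2, 3, 3, 1],
   [1, 0, 1, 1, 1],
   [1, 2, 1, 1],
   [0, 2, 1],
   [3, 2, 3, 0, 0],
   [2, 2, 2],
   [1, 0, 2, 2, 0],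
   [2, 1, 0, 3],
   [1, 0, 1, 3, 2],
   [0, 2, 1, 0],
   [2, 1, 1, 0],
   [0, 1, 1, 1, 0],
   [2, 2, 1, 2],
   [2, 1, 2],
   [0, 2, 0],
   [2, 3, 2, 1],
   [2, 2, 2, 0],
   [1, 2, 0, 0, 2],
   [1, 3, 2, 0, 3],
   [3, 0, 1, 1],
   [1, 0, 3, 0, 0],
   [3, 0, 1],
   [2, 2, 2, 0, 0],
   [3, 0, 2],
   [1, 2, 1, 0, 1],
   [2, 1, 0, 3, 0],
   [0, 1, 3, 0, 0],
   [2, 3, 2, 0, 0],
   [1, 1, 1, 1],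
   [2, 2, 3],
   [3, 3, 3, 1, 0],
   [3, 0, 0, 1, 1],
   [0, 3, 3, 0],
   [2, 2, 1],
   [0, 1, 1, 1],
   [3, 2, 2, 3],
   [1, 0, 2, 0],
   [2, 3, 0, 3],
   [2, 1, 2, 0, 0],
   [3, 2, 0, 3],
   [2, 3, 2],
   [1, 3],
   [2, 3, 1, 3],
   [3, 0, 1, 0, 0],
   [1, 1, 3, 0, 1],
   [2, 1, 2, 1, 0],
   [1, 1, 0, 3, 1],
   [3, 0],
   [3, 2, 0, 1],
   [1, 2, 1, 1, 1],
   [2, 1, 0, 2],
   [0, 3, 0, 1, 0],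
   [1, 2, 2, 3, 1],
   [1, 3, 2, 1],
   [3, 3, 3, 1, 2],
   [1, 2, 2],
   [2, 0, 2],
   [1],
   [0, 2, 0, 2, 0],
   [2, 0, 1, 0],
   [3, 0, 3, 1, 3],
   [3, 2, 0, 2],
   [2, 1, 0, 0],
   [1, 1, 2, 2],
   [1, 3, 1, 0, 0],
   [2, 2, 0, 1],
   [1, 0, 3, 3, 0],
   [2, 3, 3],
   [2, 2, 0],
   [2, 1, 1],
   [0, 2, 1, 1, 0],
   [1, 3, 1],
   [3, 2, 2, 1],
   [0, 0, 2, 1],
   [3, 3, 1, 0],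
   [2, 1, 3, 1, 1],
   [0, 1, 2, 1, 1],
   [0, 3, 0, 0],
   [2, 2, 3, 0, 1, 0],
   [0, 3, 1],
   [1, 3, 1, 2],
   [2, 1, 1, 0, 1],
   [3, 3],
   [2, 3, 3, 1, 0],
   [0, 0, 3, 2],
   [2, 1, 2, 2, 2],
   [3, 2, 3],
   [0, 0, 1, 3, 1, 0],
   [3, 0, 2, 3],
   [3, 1, 2, 2, 1],
   [2, 0, 1],
   [2, 1, 1, 1, 0],
   [3, 0, 2, 2, 0],
   [2, 1, 2, 2],
   [2, 1, 0, 1],
   [3, 0, 2, 2, 1],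
   [2, 1],
   [1, 0, 1, 1, 0],
   [3, 3, 0],
   [0, 2, 2, 1],
   [0, 3, 0],
   [0, 2, 0, 0],
   [3, 1, 3, 1, 0],
   [3, 1, 2, 0],
   [2, 2],
   [3, 2, 0, 2, 0, 0],
   [0, 2, 0, 3, 2],
   [2, 0, 3, 3],
   [3, 1, 2, 1],
   [0, 3, 1, 0],
   [3, 1, 2, 0, 1],
   [1, 2, 2, 2],
   [1, 2],
   [2, 1, 0],
   [0, 2, 2, 1, 2],
   [0, 2, 2, 2, 0],
   [1, 1, 0, 0],
   [1, 3, 0],
   [0, 0, 1, 1],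
   [0, 3, 0, 1],
   [0, 0, 2, 0],
   [0, 3],
   [2, 0, 0, 1],
   [2, 0],
   [0, 3, 1, 1],
   [1, 3, 0, 1, 1],
   [2],
   [2, 1, 1, 2, 2],
   [3, 1, 3],
   [1, 3, 3, 0, 0],
   [3, 3, 0, 0],
   [2, 1, 3, 2, 0],
   [1, 3, 1, 0],
   [1, 1, 3, 1, 0],
   [3, 1, 0, 0],
   [1, 2, 1, 0, 0],
   [0, 3, 2, 0],
   [3, 2, 2, 0, 1],
   [3, 0, 0, 2, 0],
   [0, 2, 2, 2],
   [2, 3, 3, 3, 1],
   [1, 2, 1, 2, 1],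
   [3, 1],
   [2, 0, 2, 0],
   [0, 0, 1],
   [0, 1, 3, 2],
   [0, 0, 3, 2, 0],
   [1, 0, 1, 0, 1],
   [3, 0, 0, 0],
   [2, 0, 0, 2],
   [3, 1, 3, 2, 0],
   [3, 1, 3, 0, 0],
   [0, 1, 3],
   [2, 1, 3, 1],
   [1, 2, 3, 1, 0],
   [3],
   [2, 2, 0, 3],
   [0, 2, 3, 2, 0, 0],
   [1, 3, 3, 1],
   [0, 1, 3, 1, 0],
   [0, 0, 0, 1, 0],
   [3, 1, 1],
   [0, 3, 2],
   [1, 3, 0, 3],
   [2, 2, 2, 0, 2, 0],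
   [2, 3, 1, 2, 0],
   [1, 1, 2, 3],
   [2, 3, 1, 0, 2],
   [0, 3, 0, 2],
   [2, 0, 0],
   [1, 3, 0, 1]]

/-- Certificate data. -/
def wordsOctBoth : List (List Nat) :=
  [[],
   [2, 0, 2],
   [0, 0, 0, 0],
   [2, 3, 3, 0],
   [2, 2, 0, 0],
   [3, 3, 2, 0],
   [2, 2],
   [0, 1, 0],
   [2, 3, 0, 0],
   [0, 2, 1],
   [3, 2],
   [2, 1, 0, 1],
   [3, 2, 0],
   [1, 1],
   [0, 0, 1],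
   [3, 0, 2],
   [2, 3, 1],
   [1, 0],
   [0, 2, 0],
   [0, 3, 3, 0, 0],
   [1, 1, 1],
   [0, 1, 1, 0, 0],
   [1, 1, 0],
   [3, 3, 3, 3, 0],
   [2, 1, 1],
   [1, 0, 1],
   [1, 3, 0, 0],
   [3, 3, 0],
   [3, 1, 2],
   [0, 2, 1, 0],
   [0],
   [2, 2, 1],
   [1, 1, 2],
   [0, 1, 1, 0],
   [1, 2, 0],
   [3, 3, 0, 0],
   [1, 2, 1, 1],
   [1, 1, 0, 1],
   [1, 0, 0],
   [1, 2],
   [1, 2, 1, 0],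
   [3, 1, 0],
   [3, 0, 1, 0],
   [2, 1, 2],
   [1],
   [3, 0],
   [2, 3, 1, 0],
   [3, 0, 0],
   [2, 1, 1, 0],
   [2, 2, 2],
   [0, 2],
   [0, 0],
   [1, 1, 1, 0],
   [3, 2, 0, 1],
   [1, 2, 3, 2],
   [2, 3, 2],
   [2, 0, 1],
   [3, 3, 3, 0],
   [0, 3, 1, 0],
   [2, 1],
   [0, 0, 0],
   [2, 1, 0],
   [1, 3, 2, 0],
   [0, 3, 0],
   [0, 1],
   [2, 0, 0, 0],
   [3, 2, 0, 2],
   [2, 0],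
   [1, 0, 2],
   [1, 1, 0, 0],
   [0, 3, 1],
   [2],
   [3, 1, 1, 1],
   [3, 0, 0, 0],
   [3, 1],
   [2, 0, 0],
   [3, 1, 2, 0]]

/-- Certificate data. -/
def wordsOctInf : List (List Nat) :=
  [[],
   [3, 3, 3, 0],
   [2, 0, 2],
   [1, 2, 2, 3],
   [3, 2, 1],
   [0, 0, 3, 0],
   [2, 1, 0],
   [2, 0],
   [1],
   [3, 1, 2, 3],
   [0, 2, 3, 0],
   [0, 3, 0],
   [3, 1, 1, 0, 0],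
   [0, 3, 0, 0],
   [3, 0, 0, 2],
   [0, 2, 3],
   [2, 1, 3, 2, 1],
   [3, 2, 3, 3],
   [3, 0, 0, 1],
   [3, 3, 1],
   [1, 3, 1, 1],
   [3, 2],
   [0, 3, 3, 1],
   [1, 2, 2],
   [1, 2, 0, 0],
   [1, 3, 3, 0, 0],
   [2, 2, 1, 1, 0],
   [2, 2, 0, 1, 0],
   [1, 2, 0],
   [1, 2],
   [0, 1, 0, 0],
   [1, 0],
   [1, 3, 0, 0, 1],
   [2, 1, 2, 1],
   [2, 3, 0],
   [1, 1, 0],
   [2, 3, 0, 0],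
   [3, 1, 2, 0, 0],
   [1, 0, 3, 1],
   [1, 1, 2, 1, 0],
   [2, 1],
   [1, 0, 0],
   [2, 1, 0, 0, 0],
   [2, 2, 2],
   [2, 3, 2, 0],
   [3, 3, 0],
   [2, 3, 1],
   [2, 0, 1],
   [0, 2, 2],
   [1, 1, 2],
   [3, 0, 0],
   [2, 3],
   [2, 3, 1, 2, 1],
   [1, 2, 2, 2],
   [2, 0, 0, 0],
   [1, 1, 3, 0],
   [0, 3, 2],
   [1, 3, 2, 0, 1],
   [2, 2],
   [2, 2, 3, 2, 0],
   [3, 0, 3, 1],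
   [3, 0, 3, 0],
   [0, 1, 1, 0],
   [3, 2, 1, 1],
   [0, 2, 3, 0, 0],
   [0, 3, 1],
   [3, 2, 3, 2],
   [2, 0, 1, 0],
   [3, 0, 0, 1, 0],
   [2, 2, 1],
   [0, 2, 1],
   [1, 3, 0, 0],
   [3, 1, 0, 0],
   [2, 0, 2, 2],
   [1, 0, 2],
   [1, 2, 0, 1],
   [1, 2, 3],
   [1, 1, 0, 2, 0],
   [1, 3, 0, 1],
   [3, 0, 1],
   [1, 3],
   [2, 3, 3, 1, 1],
   [0, 1, 0],
   [3, 1, 1, 2],
   [3, 2, 2, 2],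
   [0],
   [0, 2, 1, 3, 0],
   [3, 3, 3],
   [3, 3, 1, 2, 0],
   [2, 1, 3, 3],
   [0, 2, 3, 1],
   [3, 1, 1],
   [0, 1],
   [1, 2, 1, 0],
   [3, 0, 2, 0],
   [1, 3, 3],
   [3, 3, 1, 1],
   [0, 2, 0],
   [0, 0, 2, 2],
   [1, 0, 1],
   [3, 2, 0],
   [1, 1, 1],
   [3, 3, 3, 1],
   [1, 0, 1, 0, 0],
   [0, 0, 0, 1],
   [2, 2, 3, 3],
   [2, 1, 1, 0],
   [1, 0, 2, 0],
   [1, 1, 1, 1],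
   [0, 1, 1],
   [2, 2, 3],
   [1, 1, 0, 2],
   [2, 0, 0],
   [0, 0, 1, 0, 0],
   [2],
   [0, 2, 1, 0],
   [0, 3, 3, 0],
   [3, 2, 0, 1],
   [0, 1, 3, 0, 0],
   [2, 3, 2],
   [3],
   [0, 3, 0, 2, 0],
   [3, 3, 2, 3, 2],
   [3, 1, 2, 0],
   [0, 0, 0, 0],
   [3, 2, 2, 1],
   [1, 0, 3, 0],
   [2, 1, 3, 2],
   [3, 1],
   [3, 3, 2],
   [0, 0, 2],
   [0, 1, 0, 1],
   [1, 0, 0, 0],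
   [2, 1, 1, 2],
   [1, 1],
   [2, 2, 1, 0],
   [2, 3, 3],
   [3, 0, 0, 0],
   [3, 1, 2, 1],
   [2, 3, 1, 1],
   [2, 1, 2, 2],
   [2, 1, 3, 0],
   [2, 0, 1, 3],
   [0, 2, 3, 2],
   [2, 2, 2, 2],
   [0, 2, 0, 0],
   [3, 0],
   [2, 1, 1],
   [1, 3, 2, 0],
   [0, 0, 1],
   [3, 3, 0, 0],
   [2, 0, 2, 0, 0],
   [1, 3, 1, 0, 0],
   [3, 3],
   [1, 1, 0, 0],
   [2, 0, 2, 0],
   [0, 0, 2, 0],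
   [1, 3, 0],
   [1, 2, 3, 1],
   [2, 1, 3],
   [1, 0, 3, 0, 0],
   [1, 0, 0, 2],
   [0, 1, 3],
   [0, 0, 0],
   [3, 1, 2, 2, 2],
   [1, 0, 1, 0],
   [1, 3, 2, 1],
   [0, 0],
   [1, 3, 1],
   [1, 3, 2],
   [3, 1, 3, 2, 0],
   [0, 2],
   [0, 0, 1, 0],
   [3, 3, 3, 2],
   [1, 2, 1],
   [1, 1, 1, 2]]

/-- Certificate data. -/
def wordsOctZero : List (List Nat) :=
  [[],
   [1, 2, 2, 3],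
   [0, 0, 2],
   [1, 0],
   [1, 2, 2],
   [0, 0, 1, 3, 1],
   [0, 2, 3, 3],
   [0, 2, 2, 1],
   [0, 1, 1, 0],
   [3, 0, 1, 2],
   [2, 3, 1, 3],
   [2, 3, 3, 1],
   [1, 1, 0],
   [0, 1, 3, 1],
   [1, 2, 1, 3],
   [3, 0, 2],
   [1, 0, 0, 0],
   [0, 2, 3],
   [2, 2, 3, 1],
   [3, 0, 3, 1],
   [0, 3, 1, 2, 2],
   [2, 2, 1],
   [1, 2, 1, 0],
   [1, 1, 0, 0],
   [2, 0, 3, 2],
   [0, 0, 2, 3],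
   [2, 3, 2],
   [0, 1, 0, 0, 0],
   [3, 3, 1],
   [0, 0, 1, 3],
   [3, 1, 3, 2],
   [3, 2],
   [2, 1, 1, 1],
   [3, 3, 0, 2],
   [0, 2, 1, 3],
   [3, 2, 1, 1, 1],
   [2, 1, 2],
   [1, 1, 2, 1],
   [0, 0, 2, 1],
   [0, 2, 2],
   [0, 0, 3],
   [0, 1, 3, 2, 1],
   [1, 0, 2, 1],
   [2, 1, 1, 0],
   [2, 3, 1],
   [3, 2, 1],
   [2, 1, 3, 3, 1],
   [0, 0, 3, 1, 0],
   [0, 1, 0, 0],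
   [1, 3, 1],
   [0, 1, 2],
   [2, 2, 1, 0, 0],
   [2, 2],
   [1, 1, 0, 2],
   [3, 0, 2, 1],
   [2, 0, 2, 1],
   [3, 1, 2, 0, 0],
   [0, 2, 1, 1],
   [0, 1, 1],
   [2, 3, 1, 2],
   [1, 0, 0],
   [0, 1, 1, 0, 0],
   [1, 2, 1, 2],
   [2, 3, 1, 0, 0],
   [3, 1, 0, 2],
   [1, 3, 0, 0],
   [1, 2, 0, 0],
   [1, 0, 2, 2],
   [2, 3, 0, 3],
   [0, 2, 1],
   [2, 3, 2, 2],
   [1, 1, 3, 1],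
   [1, 3, 1, 3],
   [3, 1, 2],
   [1, 2, 3],
   [2, 3, 1, 2, 0, 0],
   [1, 1, 1, 2],
   [2, 1, 0, 0, 2],
   [1, 1, 2],
   [1, 2],
   [1, 1, 1],
   [1, 1, 1, 1],
   [1],
   [2, 1, 2, 1],
   [0, 1, 0],
   [2, 0, 0, 2],
   [3, 2, 1, 0],
   [2, 2, 3],
   [0, 0, 0],
   [3, 0, 1, 3],
   [3, 3, 3, 2],
   [3, 0, 3],
   [1, 3],
   [3, 0, 1, 0],
   [0, 2, 1, 0],
   [3, 3, 3],
   [3, 0, 0, 0],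
   [3, 1],
   [3, 3, 1, 1],
   [3, 1, 0],
   [3, 0, 1, 1],
   [3, 1, 3, 0, 0],
   [2, 1, 0, 2],
   [1, 2, 1, 1],
   [2, 2, 1, 2, 1],
   [3, 0, 0],
   [1, 3, 0, 0, 0],
   [0, 3, 1, 2],
   [0],
   [3, 1, 0, 0],
   [0, 3, 2],
   [3, 2, 3, 3, 1],
   [0, 2, 1, 0, 0],
   [1, 3, 2, 2],
   [3, 0, 3, 3],
   [0, 0, 1, 1, 0],
   [3, 3],
   [1, 1, 3, 3, 1],
   [3, 2, 1, 3],
   [3, 1, 3],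
   [2, 1, 3, 1],
   [2, 3, 3],
   [1, 1],
   [1, 0, 0, 2],
   [3, 0, 2, 3],
   [3, 3, 2],
   [3, 1, 1, 0],
   [1, 3, 2, 0, 0],
   [3, 1, 2, 2],
   [0, 1, 3],
   [2, 3, 1, 1],
   [2, 1, 0, 0],
   [2, 1, 0],
   [2, 0, 2, 1, 0],
   [3, 3, 1, 3],
   [0, 3, 1],
   [2, 1, 1],
   [0, 2],
   [1, 0, 1, 3],
   [0, 0],
   [0, 1, 2, 1],
   [0, 3, 1, 0, 0],
   [1, 0, 2],
   [2, 2, 1, 2],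
   [2, 1],
   [1, 3, 3, 1],
   [0, 3, 3],
   [2, 3],
   [0, 0, 2, 1, 0],
   [2, 1, 1, 2],
   [1, 1, 2, 3],
   [1, 3, 2, 1],
   [2, 1, 3],
   [0, 3, 1, 0],
   [0, 3],
   [0, 3, 0, 0, 0],
   [1, 3, 1, 2],
   [3, 2, 2],
   [2, 0, 0, 0],
   [2, 0, 0],
   [2, 2, 0, 0],
   [0, 0, 0, 1, 0],
   [1, 0, 3, 2],
   [3, 2, 2, 1],
   [3],
   [2, 3, 2, 1],
   [3, 2, 0, 0],
   [0, 0, 1, 0],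
   [0, 3, 0, 0],
   [1, 3, 2],
   [3, 1, 1],
   [2],
   [2, 0, 1, 0],
   [0, 1, 3, 2],
   [1, 2, 1],
   [3, 0, 2, 2, 1]]

/-- Certificate data. -/
def wordsDodBoth : List (List Nat) :=
  [[],
   [3, 3, 3, 1, 1],
   [1, 1, 1, 0, 2],
   [2, 1, 0, 2, 2],
   [3, 0, 3, 1, 0],
   [0, 1, 0, 3, 0],
   [3, 2, 0, 3, 0],
   [3, 1, 0, 2, 1],
   [1, 2, 2, 2, 0],
   [2, 1, 2, 1, 1],
   [0, 0, 2, 3, 0],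
   [1, 3, 0, 2, 1],
   [1, 1, 3],
   [2, 1, 0, 0],
   [2, 1, 0],
   [2, 2, 0, 0, 3],
   [2, 3, 1, 2, 0],
   [0, 0, 2, 0, 1, 1],
   [2, 1, 1, 0, 0],
   [1, 1, 1],
   [0, 2, 1, 3, 1],
   [1, 2, 0, 3],
   [3, 1, 1, 1, 0, 0],
   [0, 3, 3, 2, 0],
   [0, 0, 3, 0],
   [2, 2, 1, 2, 3],
   [1, 2, 0, 0],
   [2, 3, 3, 3, 2],
   [3, 1, 2, 2],
   [0, 2, 3, 3, 0],
   [1, 0, 3, 0],
   [3, 2],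
   [2, 0, 2, 3, 1],
   [1, 0, 1],
   [1, 0, 2, 1, 2, 0],
   [1, 3, 1, 2, 3],
   [0, 1, 2, 0],
   [2, 3, 3, 0],
   [1, 0, 1, 3],
   [2, 0, 3, 1, 2, 0],
   [0, 0, 2, 0, 0],
   [1, 2, 1, 2, 0, 0],
   [0, 2, 0, 0, 0],
   [3, 1, 0, 0],
   [1, 2, 3, 3],
   [2, 3, 1, 1],
   [2, 0, 1],
   [3, 2, 1],
   [1, 1, 0, 3, 0],
   [2, 3, 3, 0, 0],
   [3, 3, 1, 0, 0],
   [3, 0, 0, 1, 2],
   [1, 0, 0, 1, 0],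
   [3, 0, 1, 0, 3],
   [2, 1, 1, 3, 2],
   [0, 2, 3, 0],
   [1, 2, 3],
   [0, 2, 0, 1, 1],
   [2, 1, 0, 3],
   [1, 3, 1, 3, 1],
   [3, 0, 1, 3],
   [3, 3, 1, 0],
   [0, 1, 0, 0, 3],
   [2, 0, 3, 1, 1],
   [0, 2, 2, 0, 0],
   [2, 2, 3, 1, 2],
   [0, 0, 3, 1],
   [1, 0, 0, 3, 0],
   [3, 3, 0, 3, 3],
   [2, 0, 3, 2, 0],
   [0, 2, 0, 0, 1, 0],
   [2, 1, 0, 2],
   [2, 1, 1, 0],
   [0, 1, 0, 3],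
   [1, 2, 0],
   [2, 2, 3, 2, 2],
   [0, 2, 0, 0],
   [3, 2, 0, 2],
   [2, 0, 2, 1, 2, 1],
   [0, 1, 2, 1],
   [2, 3, 1, 0],
   [1, 1, 0, 3],
   [3, 1, 1, 1, 2],
   [0, 2, 1],
   [0, 3, 2, 3, 3, 0],
   [0, 2, 2, 0],
   [1, 2, 0, 0, 2],
   [1, 0, 2, 1, 1],
   [2, 2, 1],
   [0, 3, 2],
   [3, 3, 2, 2, 0],
   [2, 1, 0, 1, 0],
   [3, 0, 2, 1],
   [0, 1, 0, 1],
   [0],
   [0, 3, 1, 0],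
   [0, 2, 3, 3, 1],
   [2, 1, 2, 3, 0, 0],
   [0, 1, 3, 3, 1],
   [2, 0, 2, 1],
   [2, 3, 2, 0, 0],
   [3, 1, 0, 3, 3],
   [1, 2, 0, 3, 0],
   [1, 3, 1, 1, 1],
   [2, 0, 2, 3, 0, 0],
   [3, 3, 3, 2, 0],
   [0, 2, 0, 2, 0],
   [0, 1, 0, 0, 3, 0],
   [0, 1, 0, 2, 0],
   [2, 0, 0, 1, 0],
   [1, 2, 2, 0, 0],
   [1, 2, 1, 3],
   [1, 3, 3, 2],
   [3, 0, 2, 1, 0],
   [3, 0, 0, 2, 1],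
   [1, 2, 2, 0],
   [3, 3, 3, 3, 2],
   [2, 3, 0, 3, 1],
   [0, 3, 1],
   [2, 2],
   [3, 1, 0, 0, 2],
   [2, 2, 1, 0],
   [1, 0, 3],
   [0, 0, 1, 2, 0],
   [2, 1, 1, 1, 1],
   [0, 3, 2, 0, 2],
   [3, 2, 3, 1],
   [3, 3, 1, 2, 0],
   [1, 1, 3, 3],
   [2, 0, 2, 1, 0],
   [1, 3, 0, 3, 2],
   [2, 0, 2, 2],
   [0, 3, 3, 1, 0],
   [3, 3, 1, 1],
   [1, 3, 2, 1, 2],
   [3, 2, 2],
   [0, 1, 3, 1, 2, 0],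
   [3, 2, 1, 0],
   [3, 3, 2, 0, 3, 0],
   [2, 3, 0, 0],
   [3, 2, 0, 2, 1, 0],
   [3, 2, 3, 3, 0],
   [0, 1, 1, 2, 3],
   [1, 2, 0, 1, 1],
   [3, 1, 3, 3, 2],
   [0, 0, 1, 2],
   [0, 3, 2, 1, 0],
   [3, 2, 2, 0],
   [1, 3, 0, 0, 0],
   [0, 3, 2, 2],
   [2, 1, 3],
   [0, 2, 0, 1, 2],
   [1, 3, 1, 1, 2],
   [2, 3, 1, 0, 0],
   [3, 3, 3, 0, 0, 0],
   [1, 0, 2, 3, 0, 0],
   [2, 0, 1, 1, 0],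
   [0, 2, 2],
   [3, 2, 1, 2, 1, 0],
   [2, 1, 2, 2],
   [3, 2, 3, 2, 0],
   [1, 2, 0, 0, 1],
   [3, 1, 2],
   [1, 0, 2, 2, 0],
   [0, 3, 1, 0, 3],
   [1, 0, 0],
   [2, 0, 1, 2],
   [1, 0, 0, 3],
   [0, 3, 1, 0, 2],
   [0, 2, 3, 0, 0],
   [3, 0, 1, 0],
   [1, 1, 0, 0],
   [1, 0, 2, 0, 0],
   [2, 1],
   [3, 3, 2, 2, 2, 0],
   [3, 1, 0, 2],
   [2, 0, 3, 3, 0],
   [0, 2, 3],
   [1, 3],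
   [1, 1, 1, 1, 0],
   [2, 3, 0, 0, 0],
   [3, 0, 0, 3, 0],
   [1, 0, 1, 1, 0],
   [3, 0, 1, 0, 2, 0],
   [1, 3, 0, 0, 2],
   [3, 0, 0, 2, 0, 0],
   [1],
   [1, 3, 3, 2, 1],
   [0, 0, 1, 2, 1],
   [2, 2, 2, 0],
   [3, 0, 3, 3],
   [0, 0, 2, 1],
   [3, 2, 2, 0, 0],
   [3, 3, 1, 1, 0],
   [0, 2, 0, 3, 0],
   [0, 3, 1, 0, 0],
   [3, 1, 0, 3, 1],
   [2, 2, 3, 1, 1],
   [3, 0, 2, 1, 3],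
   [3, 2, 0, 1, 3],
   [3, 3, 3],
   [2, 0, 2],
   [2, 2, 2],
   [1, 3, 1, 0, 3, 0],
   [0, 1, 1, 3],
   [1, 0],
   [3, 3, 1, 1, 1],
   [0, 0, 0, 3, 0],
   [2, 0, 0, 2],
   [2, 0, 1, 0],
   [2, 3, 0, 3, 0],
   [1, 1, 0, 3, 2],
   [3, 3, 1, 3, 1, 0],
   [3, 0, 2, 3, 2],
   [2, 2, 0, 2, 0],
   [0, 2, 2, 2, 1],
   [1, 1, 1, 0, 0, 2],
   [2, 2, 3, 3, 2],
   [3, 2, 0],
   [1, 3, 2, 2, 1],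
   [3, 0, 2, 2, 2],
   [3, 0, 2, 0],
   [3, 2, 1, 3],
   [1, 3, 2],
   [2, 1, 2, 1],
   [3, 3, 1, 0, 2],
   [1, 1, 3, 3, 1, 0],
   [3, 2, 1, 0, 2],
   [3, 2, 0, 1],
   [2, 0, 1, 2, 1],
   [2, 3, 0, 2, 1],
   [1, 3, 3, 3],
   [1, 0, 1, 2],
   [2, 1, 2, 3, 0],
   [1, 3, 1, 0],
   [2, 3, 2, 0],
   [1, 2, 2, 2],
   [3, 2, 3, 3, 1],
   [3, 0, 2, 1, 2],
   [0, 2, 1, 3],
   [1, 1, 0, 1],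
   [0, 3, 2, 3, 2, 0],
   [1, 2],
   [1, 0, 2, 1, 0],
   [3, 1, 0, 2, 3],
   [0, 3, 2, 2, 0],
   [0, 2, 2, 3, 2],
   [0, 3, 3, 1, 1],
   [2, 1, 2],
   [1, 2, 2],
   [3, 1, 1, 2],
   [3, 2, 0, 1, 0],
   [1, 0, 3, 3, 1],
   [2, 2, 0, 2],
   [0, 2, 0, 3],
   [3, 3, 2, 2, 2],
   [1, 2, 3, 3, 3],
   [0, 2, 1, 2, 0, 0],
   [1, 3, 0, 2, 3],
   [1, 3, 1],
   [3, 3, 2, 1, 2],
   [3, 0, 0, 0],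
   [0, 1, 0, 0],
   [0, 0, 3],
   [1, 1, 3, 1, 0],
   [1, 1, 1, 0],
   [3, 3, 2, 2],
   [1, 3, 1, 0, 1],
   [1, 0, 1, 1, 1, 0],
   [1, 0, 0, 2],
   [1, 1, 1, 1, 1],
   [0, 1, 1, 1],
   [1, 0, 2, 0, 0, 0],
   [3, 3, 2, 0, 2],
   [3, 1, 2, 3],
   [3, 3, 0, 1, 0],
   [0, 1, 3, 2, 0],
   [0, 1, 1, 0],
   [1, 2, 0, 1],
   [0, 3, 2, 1],
   [0, 3, 2, 3, 0],
   [3, 2, 1, 1, 1],
   [0, 2, 0, 1],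
   [3, 0, 3, 0],
   [1, 3, 2, 3, 0],
   [1, 0, 0, 3, 2],
   [0, 0, 0, 1],
   [3, 0, 0, 2, 0],
   [1, 3, 3, 1, 0],
   [1, 1, 2],
   [1, 0, 3, 1, 2, 0],
   [1, 3, 1, 1, 0],
   [2, 2, 3, 0, 0],
   [0, 2, 1, 0],
   [3, 1, 1, 1, 0],
   [1, 2, 1, 1],
   [3, 2, 2, 2],
   [2, 3, 2, 1],
   [1, 1, 0, 2, 1],
   [2, 3, 2, 3, 0],
   [3, 3, 3, 2],
   [3, 2, 3, 2],
   [1, 1, 0, 1, 2],
   [2, 1, 3, 3, 1],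
   [0, 3, 3, 1, 0, 0],
   [3, 3, 0],
   [1, 1, 0, 2, 0],
   [0, 2, 3, 2, 2],
   [3, 1, 0, 1],
   [1, 2, 3, 1, 0],
   [0, 0, 3, 2],
   [0, 0, 3, 0, 2, 0],
   [3, 1, 1, 1],
   [1, 2, 1, 2, 1, 0],
   [1, 2, 3, 2],
   [1, 0, 0, 1],
   [1, 3, 3],
   [1, 2, 0, 1, 2],
   [0, 0, 0, 2],
   [3, 1, 3, 0, 0],
   [3, 2, 0, 1, 1],
   [1, 1, 1, 0, 0],
   [2, 0, 1, 3],
   [0, 0, 2, 2],
   [2, 1, 2, 1, 0],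
   [0, 0, 1, 1, 1, 1],
   [1, 3, 1, 3],
   [3, 2, 2, 0, 2],
   [0, 0],
   [1, 2, 1, 1, 0],
   [3, 3],
   [3, 3, 3, 2, 1, 0],
   [0, 2, 3, 1, 0, 0],
   [3, 3, 3, 1],
   [2, 0, 0, 1],
   [3, 2, 1, 1, 2],
   [0, 1, 3, 0, 3, 0],
   [3, 1, 1, 0, 0],
   [2, 0, 3, 3],
   [3, 3, 2, 1],
   [1, 2, 0, 0, 0],
   [1, 2, 2, 1],
   [1, 0, 2, 3],
   [2, 0, 0, 3],
   [2, 1, 1, 3, 3],
   [0, 1, 3],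
   [1, 2, 3, 2, 0, 0],
   [2, 2, 1, 0, 1],
   [2, 2, 0, 2, 0, 0],
   [2, 3, 3, 1],
   [1, 0, 2, 3, 2],
   [0, 0, 0, 0],
   [2, 3, 2, 1, 2],
   [3, 2, 0, 3],
   [3, 0, 1, 2],
   [3, 3, 3, 0, 0],
   [0, 3, 0],
   [2, 1, 3, 1],
   [1, 1, 0, 0, 2],
   [0, 2, 3, 1],
   [1, 3, 3, 1],
   [0, 0, 2, 0],
   [3, 3, 3, 0],
   [2, 2, 2, 0, 2],
   [3, 1, 0],
   [3, 2, 3, 2, 1],
   [2, 2, 3, 1, 0, 0],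
   [0, 3, 3, 1],
   [0, 3, 2, 0],
   [3, 1],
   [3, 0, 0, 0, 1],
   [3, 3, 2, 0],
   [0, 3, 3, 2],
   [2, 1, 2, 0, 1],
   [2, 2, 1, 2],
   [0, 3, 1, 1],
   [2, 3],
   [3, 3, 2, 0, 0],
   [1, 2, 1, 3, 1],
   [2, 1, 0, 3, 2],
   [2, 1, 1, 1],
   [3, 3, 0, 0],
   [2, 1, 1, 2, 2],
   [1, 0, 3, 1, 1],
   [2, 0, 2, 0],
   [2, 1, 0, 0, 1],
   [1, 2, 1, 1, 2],
   [2, 3, 0, 1, 0],
   [1, 1, 0, 1, 0],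
   [1, 3, 3, 3, 0],
   [0, 2, 2, 1, 1],
   [3, 2, 3, 2, 0, 0],
   [2, 2, 1, 1, 2],
   [2, 3, 1, 3, 2, 0],
   [3, 1, 1, 3, 1],
   [1, 1, 3, 0, 3, 0],
   [1, 1, 0],
   [3, 3, 1, 3],
   [3, 2, 3, 0],
   [2, 0, 3, 0],
   [3, 1, 1, 0],
   [2, 1, 0, 3, 1],
   [2, 3, 2, 0, 1],
   [2, 2, 2, 1],
   [0, 0, 1],
   [1, 3, 2, 0],
   [3, 3, 0, 0, 0],
   [2, 1, 3, 1, 0],
   [1, 0, 3, 1],
   [2, 3, 2, 0, 2],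
   [0, 0, 2, 2, 2],
   [3, 1, 3, 3],
   [3, 0, 2, 0, 3],
   [2, 3, 3, 2, 1],
   [1, 0, 2, 0],
   [1, 3, 3, 2, 0],
   [0, 1, 1, 2, 2],
   [1, 2, 0, 1, 0],
   [2, 1, 0, 2, 0],
   [1, 3, 3, 1, 1],
   [0, 1, 3, 3],
   [2, 1, 0, 2, 3],
   [2, 2, 1, 0, 0],
   [2, 2, 2, 2],
   [1, 1, 2, 3],
   [0, 1, 0, 2],
   [2, 0, 0, 0],
   [0, 0, 1, 1],
   [1, 3, 1, 2, 0],
   [2, 0, 0, 1, 2, 0],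
   [2, 0, 0],
   [2, 2, 1, 3],
   [3, 1, 0, 3],
   [2, 2, 2, 1, 2],
   [0, 2, 1, 2, 0],
   [1, 3, 2, 2, 0],
   [3, 0, 0, 2],
   [1, 3, 0, 1, 2, 0],
   [0, 1, 3, 1, 0],
   [1, 2, 3, 1, 1],
   [1, 2, 3, 0],
   [0, 0, 2, 1, 3],
   [2, 0, 3],
   [0, 2, 1, 2],
   [0, 1, 1, 1, 1],
   [2, 1, 2, 0, 0],
   [1, 3, 0, 1, 3],
   [0, 3, 0, 2, 3],
   [0, 3, 0, 2, 0],
   [1, 1, 0, 0, 1],
   [2, 3, 2, 2],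
   [2, 1, 0, 1],
   [3, 2, 1, 2, 1],
   [2, 3, 3, 2, 2],
   [1, 1, 1, 0, 3, 0],
   [2, 2, 3, 2],
   [2, 3, 3],
   [2, 0, 1, 2, 0],
   [0, 1, 2],
   [0, 2, 2, 0, 1],
   [1, 0, 3, 3],
   [2, 2, 1, 2, 0],
   [2, 3, 3, 1, 3],
   [1, 2, 2, 2, 1],
   [0, 2, 1, 1],
   [2, 0, 1, 1, 1],
   [0, 0, 2],
   [1, 1, 3, 1],
   [2, 0, 0, 1, 1],
   [3, 2, 3, 1, 1],
   [0, 1, 1, 2],
   [0, 0, 1, 1, 0],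
   [0, 3],
   [2, 3, 1, 3, 0, 0],
   [1, 3, 0, 0],
   [0, 0, 2, 1, 0],
   [0, 3, 1, 0, 1],
   [1, 2, 1, 0, 2],
   [2, 0, 2, 0, 0],
   [3, 2, 2, 3, 2],
   [2, 2, 0, 0],
   [2, 3, 0],
   [2, 2, 0],
   [1, 0, 2, 1],
   [1, 1, 3, 1, 2],
   [0, 3, 3],
   [2, 0, 1, 1],
   [2, 2, 0, 3, 2],
   [0, 3, 0, 0, 2, 0],
   [1, 0, 3, 3, 0],
   [0, 0, 2, 0, 1],
   [1, 3, 1, 2],
   [3, 1, 3],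
   [2, 0, 3, 2],
   [0, 3, 0, 3, 0],
   [1, 2, 1],
   [1, 2, 0, 3, 3, 0],
   [1, 3, 2, 1, 1, 0],
   [3, 2, 1, 1, 0],
   [2, 3, 3, 2],
   [2, 2, 0, 0, 0],
   [0, 3, 0, 3, 3],
   [0, 1, 0],
   [1, 1],
   [3, 1, 0, 2, 0, 0],
   [3, 3, 2, 1, 0],
   [2, 3, 1, 2],
   [1, 0, 3, 2],
   [1, 1, 0, 2],
   [1, 2, 3, 3, 1],
   [3, 0, 3, 3, 2],
   [0, 3, 0, 0, 0],
   [2, 1, 2, 0],
   [1, 0, 2],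
   [1, 1, 3, 1, 0, 1],
   [2, 1, 2, 2, 0, 0],
   [0, 2, 1, 2, 1],
   [0, 3, 2, 1, 2],
   [1, 1, 2, 0, 0, 0],
   [3, 3, 1],
   [0, 1, 1],
   [3, 3, 3, 3],
   [1, 0, 1, 0],
   [3, 1, 2, 0, 1],
   [1, 3, 0, 3, 0],
   [1, 1, 3, 2, 1],
   [3, 2, 2, 2, 0],
   [0, 2, 0, 1, 0],
   [1, 2, 1, 0],
   [3, 0, 2, 3],
   [1, 0, 1, 1, 1],
   [0, 2, 0],
   [1, 0, 2, 3, 1],
   [0, 0, 0, 3],
   [1, 0, 3, 3, 3],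
   [2],
   [2, 0],
   [2, 1, 3, 2],
   [3, 0],
   [1, 1, 1, 1],
   [1, 2, 0, 2],
   [0, 1, 0, 0, 2],
   [1, 3, 3, 3, 2],
   [3, 0, 1, 2, 0],
   [2, 1, 1],
   [3, 1, 1, 3],
   [3, 3, 2],
   [3, 0, 3, 2],
   [1, 1, 1, 2],
   [3, 0, 3, 1],
   [3, 0, 3, 1, 0, 1],
   [2, 0, 2, 2, 2],
   [2, 1, 2, 3],
   [3, 1, 3, 2, 0],
   [0, 3, 1, 2, 0],
   [2, 2, 2, 2, 0],
   [2, 3, 2],
   [3, 2, 1, 2],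
   [3, 0, 0],
   [2, 0, 0, 2, 0],
   [2, 3, 1, 1, 0],
   [2, 1, 1, 1, 0],
   [1, 3, 0, 2, 0],
   [2, 3, 1],
   [1, 2, 2, 1, 0],
   [0, 0, 0],
   [3, 1, 1],
   [2, 2, 0, 1],
   [3],
   [0, 2, 0, 2],
   [1, 1, 3, 2],
   [2, 2, 0, 1, 1],
   [3, 1, 2, 2, 0, 0],
   [0, 2],
   [1, 2, 3, 2, 0],
   [0, 2, 2, 2],
   [3, 1, 0, 3, 0],
   [3, 2, 2, 1],
   [0, 3, 3, 3],
   [0, 1],
   [2, 3, 0, 1, 2],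
   [0, 2, 1, 2, 3],
   [3, 0, 1, 1, 2],
   [0, 2, 3, 2],
   [0, 1, 3, 2],
   [1, 3, 2, 1],
   [0, 0, 1, 0],
   [2, 1, 1, 2],
   [3, 3, 1, 1, 2],
   [3, 1, 3, 1],
   [3, 1, 3, 1, 0],
   [1, 2, 3, 0, 0],
   [2, 2, 1, 1],
   [3, 0, 1, 3, 2],
   [1, 0, 0, 1, 2],
   [0, 0, 1, 0, 0],
   [2, 3, 3, 3],
   [3, 3, 3, 3, 3],
   [0, 1, 1, 1, 0],
   [2, 0, 2, 3],
   [3, 1, 2, 0],
   [2, 1, 1, 0, 2],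
   [3, 0, 3, 2, 1, 0],
   [1, 0, 2, 2],
   [2, 3, 3, 3, 0],
   [2, 2, 2, 0, 0],
   [3, 2, 0, 0, 0],
   [0, 3, 2, 0, 1, 1],
   [1, 1, 2, 2],
   [3, 2, 0, 0],
   [2, 0, 2, 0, 1],
   [1, 0, 1, 0, 3],
   [0, 1, 3, 2, 1],
   [0, 3, 3, 0, 1, 0],
   [0, 3, 3, 0],
   [0, 0, 1, 1, 1]]

/-- Certificate data. -/
def wordsOctBothPoint : List (List Nat) :=
  [[],
   [2, 0],
   [0, 2, 0],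
   [0, 1, 0],
   [2],
   [1],
   [4, 0],
   [1, 4, 0],
   [4],
   [2, 4],
   [0],
   [1, 2],
   [1, 0],
   [1, 0, 4],
   [0, 4],
   [4, 1]]

/-- Certificate data. -/
def witPairRest : List Nat :=
  List.flatten
  [[0, 2, 20, 22]]

/-- Certificate data. -/
def witOctNone : List Nat :=
  List.flatten
  [[0, 334, 482, 172, 186, 500, 344, 22, 294, 104, 196, 394, 412, 210],
   [126, 304, 406, 216, 116, 314, 300, 98, 206, 384, 176, 510, 338, 28],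
   [10, 324, 488, 166, 82, 284, 432, 254, 232, 422, 266, 68, 372, 58],
   [150, 472, 462, 128, 44, 354, 452, 138, 38, 360, 382, 48, 156, 466],
   [226, 428, 256, 78, 88, 278, 442, 244, 246, 440, 276, 90, 76, 258],
   [430, 224, 464, 158, 50, 380, 362, 36, 136, 454, 352, 46, 130, 460],
   [474, 148, 56, 374, 70, 264, 420, 234, 252, 434, 286, 80, 164, 490],
   [326, 8, 30, 336, 508, 178, 386, 204, 96, 302, 312, 118, 218, 404],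
   [306, 124, 208, 414, 392, 198, 106, 292, 20, 346, 502, 184, 174, 480],
   [332, 2]]

/-- Certificate data. -/
def witOctBoth : List Nat :=
  List.flatten
  [[0, 68, 28, 88, 58, 126, 38, 98, 104, 44, 116, 48, 82, 22],
   [78, 10, 90, 30, 70, 2, 96, 36, 124, 56, 50, 118, 46, 106],
   [8, 76, 20, 80]]

/-- Certificate data. -/
def witOctInf : List Nat :=
  List.flatten
  [[0, 334, 38, 360, 372, 58, 338, 28, 382, 48, 344, 22, 10, 324],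
   [44, 354, 300, 98, 266, 68, 88, 278, 126, 304, 82, 284, 116, 314],
   [294, 104, 256, 78, 30, 336, 56, 374, 362, 36, 332, 2, 352, 46],
   [326, 8, 20, 346, 50, 380, 306, 124, 276, 90, 70, 264, 96, 302],
   [76, 258, 106, 292, 312, 118, 286, 80]]

/-- Certificate data. -/
def witOctZero : List Nat :=
  List.flatten
  [[0, 254, 30, 224, 204, 50, 210, 44, 46, 208, 48, 206, 226, 28],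
   [252, 2, 246, 8, 232, 22, 58, 196, 36, 218, 216, 38, 198, 56],
   [20, 234, 10, 244, 164, 90, 186, 68, 104, 150, 118, 136, 138, 116],
   [148, 106, 70, 184, 88, 166, 82, 172, 76, 178, 158, 96, 128, 126],
   [124, 130, 98, 156, 176, 78, 174, 80]]

/-- Certificate data. -/
def witDodBoth : List Nat :=
  List.flatten
  [[0, 1134, 1972, 986, 1286, 360, 690, 1756, 422, 1480, 1554, 636, 1184, 206],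
   [788, 1914, 548, 1610, 1424, 510, 1826, 844, 150, 1272, 898, 2028, 1078, 88],
   [1668, 746, 304, 1374, 452, 1450, 1648, 542, 1218, 172, 886, 1816, 98, 1036],
   [2006, 952, 1380, 266, 720, 1726, 992, 1934, 1108, 58, 1766, 648, 338, 1340],
   [582, 1576, 1522, 412, 1856, 814, 244, 1178, 710, 1704, 1394, 284, 1984, 942],
   [116, 1050, 864, 1806, 1236, 186, 1638, 520, 466, 1468, 226, 1164, 1878, 824],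
   [1508, 394, 592, 1598, 324, 1322, 1776, 670, 1090, 44, 1014, 1944, 770, 1900],
   [1206, 216, 1540, 618, 432, 1502, 676, 1738, 1296, 382, 1954, 972, 22, 1144],
   [294, 1352, 1682, 764, 1056, 78, 916, 2042, 128, 1262, 1844, 858, 1414, 488],
   [562, 1628, 1252, 138, 848, 1854, 482, 1420, 1622, 568, 1346, 300, 758, 1688],
   [68, 1066, 2032, 926, 1728, 686, 372, 1306, 966, 1960, 1138, 28, 1894, 776],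
   [210, 1212, 608, 1550, 1492, 442, 1312, 334, 660, 1786, 38, 1096, 1938, 1020],
   [1158, 232, 818, 1884, 384, 1518, 1588, 602, 1796, 874, 176, 1246, 514, 1644],
   [1462, 472, 1698, 716, 278, 1400, 932, 1994, 1040, 126, 1570, 588, 406, 1528],
   [804, 1866, 1168, 254, 1924, 1002, 48, 1118, 642, 1772, 1334, 344, 1030, 104],
   [946, 2012, 256, 1390, 1716, 730, 1440, 462, 532, 1658, 166, 1224, 1810, 892],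
   [2022, 904, 82, 1084, 736, 1678, 1364, 314, 1600, 558, 500, 1434, 838, 1832],
   [1266, 156, 1474, 428, 630, 1560, 196, 1194, 1904, 798, 1124, 10, 976, 1982],
   [354, 1292, 1750, 696, 1670, 744, 306, 1372, 896, 2030, 1076, 90, 1824, 846],
   [148, 1274, 550, 1608, 1426, 508, 1186, 204, 790, 1912, 420, 1482, 1552, 638],
   [1284, 362, 688, 1758, 2, 1132, 1974, 984, 1858, 812, 246, 1176, 580, 1578],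
   [1520, 414, 1764, 650, 336, 1342, 994, 1932, 1110, 56, 1382, 264, 722, 1724],
   [96, 1038, 2004, 954, 1216, 174, 884, 1818, 454, 1448, 1650, 540, 1088, 46],
   [1012, 1946, 326, 1320, 1778, 668, 1510, 392, 594, 1596, 224, 1166, 1876, 826],
   [1636, 522, 464, 1470, 866, 1804, 1238, 184, 1986, 940, 118, 1048, 708, 1706],
   [1392, 286, 1412, 490, 560, 1630, 130, 1260, 1846, 856, 1058, 76, 918, 2040],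
   [292, 1354, 1680, 766, 1952, 974, 20, 1146, 678, 1736, 1298, 380, 1542, 616],
   [434, 1500, 768, 1902, 1204, 218, 610, 1548, 1494, 440, 1892, 778, 208, 1214],
   [964, 1962, 1136, 30, 1730, 684, 374, 1304, 70, 1064, 2034, 924, 1344, 302],
   [756, 1690, 480, 1422, 1620, 570, 1254, 136, 850, 1852, 934, 1992, 1042, 124],
   [1696, 718, 276, 1402, 512, 1646, 1460, 474, 1798, 872, 178, 1244, 386, 1516],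
   [1590, 600, 1156, 234, 816, 1886, 36, 1098, 1936, 1022, 1314, 332, 662, 1784],
   [164, 1226, 1808, 894, 1442, 460, 534, 1656, 258, 1388, 1718, 728, 1028, 106],
   [944, 2014, 640, 1774, 1332, 346, 1926, 1000, 50, 1116, 806, 1864, 1170, 252],
   [1568, 590, 404, 1530, 352, 1294, 1748, 698, 1126, 8, 978, 1980, 198, 1192],
   [1906, 796, 1472, 430, 628, 1562, 836, 1834, 1264, 158, 1602, 556, 502, 1432],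
   [738, 1676, 1366, 312, 2020, 906, 80, 1086]]

/-- Certificate data. -/
def witOctBothPoint : List Nat :=
  List.flatten
  [[0, 150, 68, 210, 28, 138, 88, 206, 172, 58, 232, 126, 176, 38],
   [244, 98, 104, 254, 44, 186, 116, 226, 48, 166, 196, 82, 128, 22],
   [216, 78, 156, 10, 204, 90, 136, 30, 208, 70, 148, 2, 96, 246],
   [36, 178, 124, 234, 56, 174, 164, 50, 224, 118, 184, 46, 252, 106],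
   [8, 158, 76, 218, 20, 130, 80, 198]]

/-- Certificate data. -/
def repsOrth : List (List Int) :=
  [[-4, 0, 0, 0, 0, 0, 0, 0, 0, 0, 0, 0, 0, 0, 0, 0, 0, 0, 0, 0, 0, 0, 0, 4],
   [4, 0, 0, 0, 0, 0, 0, 0, 0, 0, 0, 0, 0, 0, 0, 0, 0, 0, 0, 0, 0, 0, 0, -4],
   [0, 4, 4, 0, 0, 0, 0, 0, 0, 0, 0, 0, 0, 0, 0, 0, 0, 0, 0, 0, 0, 0, 0, 0],
   [-2, 0, 0, 0, 0, 0, 0, 0, 0, 0, 0, 0, -2, 0, 2, 0, 2, 2, 2, 0, 0, 0, 2, 2],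
   [2, 0, 0, 0, 0, 0, 0, 0, 0, 0, 0, 0, -2, 0, 2, 0, 2, 2, 2, 0, 0, 0, 2, -2],
   [0, 2, 0, 0, 0, 0, 0, 0, 0, 0, 0, 0, 2, 2, 2, 2, 2, 0, 0, 2, 0, 0, 2, 0],
   [-1, -3, -1, 1, 1, 1, 1, 1, 1, 1, 1, 1, 1, -1, -1, -1, -1, -1, 1, 1, -1, 1, 1, 1],
   [1, -3, -1, 1, 1, 1, 1, 1, 1, 1, 1, 1, -1, -1, 1, -1, 1, 1, -1, 1, -1, 1, -1, -1]]

/-- Certificate data. -/
def treeOrth : List (Nat × Nat × List Int) :=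
  [(0, 2, [-4, 0, 0, 0, 0, 0, 0, 0, 0, 0, 0, 0, 0, 0, 0, 0, 0, 0, 0, 0, 0, 0, 0, 4]),
   (1, 2, [4, 0, 0, 0, 0, 0, 0, 0, 0, 0, 0, 0, 0, 0, 0, 0, 0, 0, 0, 0, 0, 0, 0, -4]),
   (2, 3, [0, -4, 0, 4, 0, 0, 0, 0, 0, 0, 0, 0, 0, 0, 0, 0, 0, 0, 0, 0, 0, 0, 0, 0]),
   (2, 4, [0, 0, -4, 0, 0, 0, 0, 0, 0, 0, 0, 0, 0, 0, 0, 0, 4, 0, 0, 0, 0, 0, 0, 0]),
   (2, 5, [0, 0, 0, -4, 0, 0, 4, 0, 0, 0, 0, 0, 0, 0, 0, 0, 0, 0, 0, 0, 0, 0, 0, 0]),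
   (3, 6, [-2, -2, 0, 2, 0, 0, 0, 0, 0, 0, 0, 0, 2, 0, 0, 2, 0, 0, 0, 0, 0, -2, -2, 2]),
   (3, 7, [-2, 2, 0, 0, -2, 0, 0, 0, 0, 0, 2, 0, 0, 0, -2, 0, 0, 0, 2, 0, 0, -2, 0, 2])]

/-- Certificate data. -/
def repsNeg8 : List (List Int) :=
  [[0, 0, -2, 0, 0, 0, 0, 0, 0, 0, 0, 0, 2, 2, 0, 2, 0, 0, 2, 0, 2, 0, 2, -2],
   [-2, 0, -2, 0, 0, 0, 0, 0, 0, 0, 0, 0, 0, 2, 2, 2, 2, 2, 0, 0, 2, 0, 0, 0],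
   [1, 1, 1, 1, 1, 1, 1, 1, 1, 1, 1, 1, 1, 1, 1, 1, 1, 1, 1, 1, 1, 1, 1, -3],
   [-3, 1, 1, 1, 1, 1, 1, 1, 1, 1, 1, 1, 1, 1, 1, 1, 1, 1, 1, 1, 1, 1, 1, 1],
   [-1, -3, 1, 1, 1, 1, 1, 1, 1, 1, 1, 1, -1, 1, -1, 1, -1, -1, -1, 1, 1, 1, -1, -1]]

/-- Certificate data. -/
def treeNeg8 : List (Nat × Nat × List Int) :=
  [(0, 1, [0, -2, 0, -2, 0, 0, 0, 2, 0, 0, -2, 0, 0, 0, 2, 2, 0, 0, 0, 2, 0, 0, 0, -2]),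
   (0, 2, [0, 2, -2, 2, 0, 0, 0, -2, 2, 0, 0, 0, 0, 0, 0, 0, 0, 0, 0, 0, -2, 0, 2, -2]),
   (0, 3, [0, -2, 2, 2, 0, 0, 0, 0, 0, 0, 2, 2, 0, 0, 0, 0, 2, 0, 0, 0, 0, 2, 0, -2]),
   (0, 4, [0, 0, 0, 0, -2, 0, 0, 0, 0, 2, 0, 0, -2, 2, -2, 0, 0, 0, 0, 0, 0, -2, -2, -2])]

/-- Certificate data. -/
def repsLine48 : List (List Int) :=
  [[-2, 0, 2, 2, 2, 0, 0, 0, 0, 0, 0, 0, 0, 2, 2, 2, 0, 2, 2, 0, 0, 2, 2, -2],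
   [-2, 4, 0, 0, 0, 0, 0, 0, 0, 0, 0, 0, -2, 0, 2, 0, 2, 2, 2, 0, 0, 0, 2, -2],
   [0, -2, 0, 0, 0, 0, 0, 0, 0, 0, 0, 0, 2, 2, 2, 2, 2, 0, 0, 2, 0, 0, 2, -4],
   [-4, -2, 0, 0, 0, 0, 0, 0, 0, 0, 0, 0, 2, 2, 2, 2, 2, 0, 0, 2, 0, 0, 2, 0],
   [1, 1, -1, 1, 1, 1, 1, 1, 1, 1, 1, 1, -1, -1, 1, -1, 1, 1, -1, 1, -1, 1, -1, -5],
   [-5, 1, -1, 1, 1, 1, 1, 1, 1, 1, 1, 1, 1, -1, -1, -1, -1, -1, 1, 1, -1, 1, 1, 1],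
   [-1, -3, 3, 1, 1, 1, 1, 1, 1, 1, 1, 1, 1, -1, -1, -1, -1, -1, 1, 1, -1, 1, 1, -3],
   [-3, -3, 3, 1, 1, 1, 1, 1, 1, 1, 1, 1, -1, -1, 1, -1, 1, 1, -1, 1, -1, 1, -1, -1]]

/-- Certificate data. -/
def treeLine48 : List (Nat × Nat × List Int) :=
  [(0, 1, [-2, 0, 0, 0, -2, 0, 2, -2, 0, -2, 0, 0, 2, -2, 0, 0, 2, 0, -2, 0, 2, 0, -2, -2]),
   (0, 2, [-2, 2, -2, 0, 0, 0, 2, 0, 0, -2, 0, 0, 2, 0, 0, -2, -2, 0, 2, -2, 0, 0, -2, -2]),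
   (0, 3, [-2, -2, 2, -2, 0, 0, 0, 0, -2, 0, 2, 0, -2, 0, -2, 0, 0, 0, 0, -2, 2, 2, 0, -2]),
   (0, 6, [-2, 2, 0, -2, -2, 0, 0, 2, -2, -2, 0, 2, 2, 2, 0, 0, 0, 0, 0, 0, 0, 0, 2, -2]),
   (0, 7, [-2, -2, 0, 2, 2, -2, 0, 0, 0, 0, 0, 0, 0, 0, -2, -2, -2, 0, 2, 2, 0, 0, -2, -2]),
   (1, 4, [-2, 4, -2, 0, 0, 0, -2, 0, 2, 0, 0, 0, 0, 0, 0, 2, 0, 2, 0, 0, 0, 0, -2, -2]),
   (1, 5, [-2, -2, 4, 0, 0, 2, 0, 0, 0, 2, 0, -2, 0, 2, 0, 0, 0, 0, 0, 0, 0, -2, 0, -2])]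

end Cfsg.Agent.Lib.Leech.StabData
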